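import Mathlib
set_option autoImplicit false
universe u v w
namespace Groth.Agent.H12D

section
variable (A : Type u) [CommRing A] (I : Ideal A)
    (M : ℕ → Type v) [∀ n, AddCommGroup (M n)] [∀ n, Module A (M n)]
    (f : ∀ n, M (n + 1) →ₗ[A] M n)
    (L : Type v) [AddCommGroup L] [Module A L] (π : ∀ n, L →ₗ[A] M n)

theorem pi0_surj (hf : ∀ n, Function.Surjective (f n))
    (hlift : ∀ y : (∀ n, M n), (∀ n, f n (y (n + 1)) = y n) → ∃ x : L, ∀ n, π n x = y n) :
    Function.Surjective (π 0) := by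
  intro y0
  choose s hs using hf
  let y : ∀ n, M n := fun n => Nat.rec y0 (fun n yn => s n yn) n
  obtain ⟨x, hx⟩ := hlift y (fun n => hs n (y n))
  exact ⟨x, hx 0⟩

theorem mem_smul_top_pi {A : Type u} [CommRing A] (J : Ideal A) {r : ℕ} (b : Fin r → A) :
    b ∈ J • (⊤ : Submodule A (Fin r → A)) ↔ ∀ i, b i ∈ J := by
  constructor
  · intro hb i
    have : (LinearMap.proj i : (Fin r → A) →ₗ[A] A) b ∈ Submodule.map (LinearMap.proj i) (J • (⊤ : Submodule A (Fin r → A))) := ⟨b, hb, rfl⟩
    rw [Submodule.map_smul''] at this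
    have h2 : J • Submodule.map (LinearMap.proj i : (Fin r → A) →ₗ[A] A) ⊤ ≤ J := by
      exact Submodule.smul_le.mpr (fun a ha x _ => by rw [smul_eq_mul]; exact J.mul_mem_right x ha)
    exact h2 this
  · intro hb
    rw [pi_eq_sum_univ b]
    exact Submodule.sum_mem _ fun i _ => Submodule.smul_mem_smul (hb i) trivial

variable (hk : ∀ n, I ^ (n + 1) • (⊤ : Submodule A (M n)) = ⊥)
    (hker : ∀ n, LinearMap.ker (f n) = I ^ (n + 1) • (⊤ : Submodule A (M (n + 1))))
    (hπ : ∀ n, f n ∘ₗ π (n + 1) = π n)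

include hk hker hπ in
theorem gn_surj {r : ℕ} (φ : (Fin r → A) →ₗ[A] L) (h0 : Function.Surjective (π 0 ∘ₗ φ)) (n : ℕ) :
    Function.Surjective (π n ∘ₗ φ) := by
  induction n with
  | zero => exact h0
  | succ n ih =>
    rw [← LinearMap.range_eq_top, eq_top_iff]
    set G := LinearMap.range (π (n + 1) ∘ₗ φ) with hG
    have h1 : (⊤ : Submodule A (M (n + 1))) ≤ G ⊔ I ^ (n + 1) • ⊤ := by
      intro y _
      obtain ⟨a, ha⟩ := ih (f n y)
      have h2 : y - π (n + 1) (φ a) ∈ I ^ (n + 1) • (⊤ : Submodule A (M (n + 1))) := by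
        rw [← hker, LinearMap.mem_ker, map_sub, sub_eq_zero, ← ha, ← hπ n]; rfl
      rw [show y = π (n + 1) (φ a) + (y - π (n + 1) (φ a)) by abel]
      exact add_mem (Submodule.mem_sup_left ⟨a, rfl⟩) (Submodule.mem_sup_right h2)
    have h3 : I ^ (n + 1) • (⊤ : Submodule A (M (n + 1))) ≤ G := by
      calc I ^ (n + 1) • (⊤ : Submodule A (M (n + 1))) ≤ I ^ (n + 1) • (G ⊔ I ^ (n + 1) • ⊤) := Submodule.smul_mono le_rfl h1
        _ = I ^ (n + 1) • G ⊔ I ^ (n + 1) • (I ^ (n + 1) • (⊤ : Submodule A (M (n + 1)))) := Submodule.smul_sup _ _ _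
        _ ≤ G := by
          refine sup_le Submodule.smul_le_right ?_
          rw [← Submodule.mul_smul, ← pow_add]
          refine le_trans (Submodule.smul_mono_left (Ideal.pow_le_pow_right (show n + 1 + 1 ≤ n + 1 + (n + 1) by omega))) ?_
          rw [hk (n + 1)]; exact bot_le
    exact h1.trans (sup_le le_rfl h3)

variable [IsAdicComplete I A]

include hk hker hπ in
theorem approx {r : ℕ} (φ : (Fin r → A) →ₗ[A] L) (h0 : Function.Surjective (π 0 ∘ₗ φ))
    (hinj : ∀ x : L, (∀ n, π n x = 0) → x = 0) (x : L) (N : ℕ) (a0 : Fin r → A) (ha0 : π N (φ a0) = π N x) :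
    ∃ a : Fin r → A, φ a = x ∧ ∀ i, a i - a0 i ∈ I ^ (N + 1) := by
  have step : ∀ n (a : Fin r → A), π n (φ a) = π n x → ∃ b : Fin r → A, (∀ i, b i ∈ I ^ (n + 1)) ∧
      π (n + 1) (φ (a + b)) = π (n + 1) x := by
    intro n a ha
    have h1 : π (n + 1) x - π (n + 1) (φ a) ∈ I ^ (n + 1) • (⊤ : Submodule A (M (n + 1))) := by
      rw [← hker, LinearMap.mem_ker, map_sub, sub_eq_zero, ← LinearMap.comp_apply, ← LinearMap.comp_apply (f n), hπ n, ha]
    have h2 : (⊤ : Submodule A (M (n + 1))) = Submodule.map (π (n + 1) ∘ₗ φ) ⊤ := by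
      rw [Submodule.map_top, LinearMap.range_eq_top.mpr (gn_surj A I M f L π hk hker hπ φ h0 (n + 1))]
    rw [h2, ← Submodule.map_smul''] at h1
    obtain ⟨b, hb, hb'⟩ := h1
    refine ⟨b, (mem_smul_top_pi _ b).mp hb, ?_⟩
    rw [map_add, map_add]
    rw [LinearMap.comp_apply] at hb'
    rw [hb']; abel
  choose! b hb hb' using step
  -- sequence starting at N
  let a : ℕ → (Fin r → A) := fun n => Nat.rec a0 (fun n an => an + b (N + n) an) n
  have ha : ∀ n, π (N + n) (φ (a n)) = π (N + n) x := by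
    intro n
    induction n with
    | zero => exact ha0
    | succ n ih => exact hb' (N + n) (a n) ih
  have hadd : ∀ n i, a (n + 1) i - a n i ∈ I ^ (N + n + 1) := by
    intro n i
    have : a (n + 1) i = a n i + b (N + n) (a n) i := rfl
    rw [this, add_sub_cancel_left]
    exact hb _ _ (ha n) i
  have hle : ∀ i m n, m ≤ n → a n i - a m i ∈ I ^ (N + m + 1) := by
    intro i m n hmn
    induction n, hmn using Nat.le_induction with
    | base => simp
    | succ n hn ih =>
      rw [show a (n + 1) i - a m i = (a (n + 1) i - a n i) + (a n i - a m i) by ring]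
      exact add_mem (Ideal.pow_le_pow_right (by omega) (hadd n i)) ih
  have hlim : ∀ i, ∃ l : A, ∀ n, a n i - l ∈ I ^ n := by
    intro i
    obtain ⟨l, hl⟩ := IsPrecomplete.prec (I := I) (M := A) inferInstance (f := fun n => a n i) (by
      intro m n hmn
      rw [SModEq.sub_mem]
      simp only [smul_eq_mul, Ideal.mul_top]
      rw [← neg_sub]
      exact neg_mem (Ideal.pow_le_pow_right (by omega) (hle i m n hmn)))
    refine ⟨l, fun n => ?_⟩
    have := hl n
    rw [SModEq.sub_mem] at this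
    simpa using this
  choose l hl using hlim
  have hl' : ∀ n i, a n i - l i ∈ I ^ (N + n + 1) := by
    intro n i
    rw [show a n i - l i = (a (N + n + 1) i - l i) - (a (N + n + 1) i - a n i) by ring]
    exact sub_mem (hl i (N + n + 1)) (hle i n (N + n + 1) (by omega))
  refine ⟨l, ?_, ?_⟩
  · rw [← sub_eq_zero]
    have hmain : ∀ n, π (N + n) (φ l - x) = 0 := by
      intro n
      rw [map_sub, ← ha n, ← map_sub, ← map_sub]
      have h1 : l - a n ∈ I ^ (N + n + 1) • (⊤ : Submodule A (Fin r → A)) := by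
        rw [mem_smul_top_pi]
        intro i
        rw [Pi.sub_apply, ← neg_sub]
        exact neg_mem (hl' n i)
      have h2 : (π (N + n) ∘ₗ φ) (l - a n) ∈ Submodule.map (π (N + n) ∘ₗ φ) (I ^ (N + n + 1) • (⊤ : Submodule A (Fin r → A))) := ⟨_, h1, rfl⟩
      rw [Submodule.map_smul''] at h2
      have h3 := (Submodule.smul_mono le_rfl (le_top : Submodule.map (π (N + n) ∘ₗ φ) ⊤ ≤ ⊤)) h2
      rw [hk (N + n)] at h3
      simpa using h3
    apply hinj
    have hdown : ∀ n m, π (n + m) (φ l - x) = 0 → π n (φ l - x) = 0 := by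
      intro n m
      induction m with
      | zero => exact id
      | succ m ih =>
        intro h
        apply ih
        rw [← hπ (n + m), LinearMap.comp_apply]
        have h' : π (n + m + 1) (φ l - x) = 0 := h
        rw [h', map_zero]
    intro n
    apply hdown n N
    rw [add_comm]
    exact hmain n
  · intro i
    have := hl' 0 i
    rw [← neg_sub]
    exact neg_mem this

include hk hker hπ in
theorem main (hf : ∀ n, Function.Surjective (f n))
    (hinj : ∀ x : L, (∀ n, π n x = 0) → x = 0)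
    (hlift : ∀ y : (∀ n, M n), (∀ n, f n (y (n + 1)) = y n) → ∃ x : L, ∀ n, π n x = y n)
    (h0 : Module.Finite A (M 0)) :
    ∃ (r : ℕ) (φ : (Fin r → A) →ₗ[A] L), Function.Surjective φ ∧ Module.Finite A L ∧ IsAdicComplete I L ∧
      ∀ n, Function.Surjective (π n) ∧ LinearMap.ker (π n) = I ^ (n + 1) • (⊤ : Submodule A L) := by
  obtain ⟨r, ψ, hψ⟩ := Module.Finite.exists_fin' A (M 0)
  have hs0 := pi0_surj A M f L π hf hlift
  choose y hy using fun i : Fin r => hs0 (ψ (Pi.single i 1))
  let φ : (Fin r → A) →ₗ[A] L := (Pi.basisFun A (Fin r)).constr ℕ y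
  have hφ0 : π 0 ∘ₗ φ = ψ := by
    apply (Pi.basisFun A (Fin r)).ext
    intro i
    rw [LinearMap.comp_apply, Module.Basis.constr_basis, hy]
    simp
  have hsurj0 : Function.Surjective (π 0 ∘ₗ φ) := by rw [hφ0]; exact hψ
  have hφ : Function.Surjective φ := by
    intro x
    obtain ⟨a0, ha0⟩ := hsurj0 (π 0 x)
    obtain ⟨a, ha, _⟩ := approx A I M f L π hk hker hπ φ hsurj0 hinj x 0 a0 ha0
    exact ⟨a, ha⟩
  have hfin : Module.Finite A L := Module.Finite.of_surjective φ hφ
  have hn : ∀ n, Function.Surjective (π n) ∧ LinearMap.ker (π n) = I ^ (n + 1) • (⊤ : Submodule A L) := by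
    intro n
    constructor
    · intro z
      obtain ⟨a, ha⟩ := gn_surj A I M f L π hk hker hπ φ hsurj0 n z
      exact ⟨φ a, ha⟩
    · apply le_antisymm
      · intro x hx
        rw [LinearMap.mem_ker] at hx
        obtain ⟨a, ha, ha'⟩ := approx A I M f L π hk hker hπ φ hsurj0 hinj x n 0 (by rw [map_zero, map_zero, hx])
        rw [← ha]
        have h1 : a ∈ I ^ (n + 1) • (⊤ : Submodule A (Fin r → A)) := by
          rw [mem_smul_top_pi]; intro i; simpa using ha' i
        have h2 : φ a ∈ Submodule.map φ (I ^ (n + 1) • (⊤ : Submodule A (Fin r → A))) := ⟨a, h1, rfl⟩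
        rw [Submodule.map_smul''] at h2
        exact (Submodule.smul_mono le_rfl le_top) h2
      · intro x hx
        have h2 : π n x ∈ Submodule.map (π n) (I ^ (n + 1) • (⊤ : Submodule A L)) := ⟨x, hx, rfl⟩
        rw [Submodule.map_smul''] at h2
        have h3 := (Submodule.smul_mono le_rfl (le_top : Submodule.map (π n) ⊤ ≤ ⊤)) h2
        rw [hk n] at h3
        simpa using h3
  refine ⟨r, φ, hφ, hfin, ?_, hn⟩
  have hhaus : IsHausdorff I L := by
    refine ⟨fun x hx => hinj x fun n => ?_⟩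
    have := hx (n + 1)
    rw [SModEq.zero, ← (hn n).2] at this
    exact this
  have hprec : IsPrecomplete I L := by
    refine ⟨fun x hx => ?_⟩
    obtain ⟨z, hz⟩ := hlift (fun n => π n (x (n + 1))) (by
      intro n
      have h1 : f n (π (n + 1) (x (n + 1 + 1))) = π n (x (n + 1 + 1)) := LinearMap.congr_fun (hπ n) _
      rw [h1]
      have h2 := hx (show n + 1 ≤ n + 1 + 1 by omega)
      rw [SModEq.sub_mem, ← (hn n).2, LinearMap.mem_ker, map_sub, sub_eq_zero] at h2
      exact h2.symm)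
    refine ⟨z, fun n => ?_⟩
    rcases n with _ | n
    · rw [SModEq.sub_mem]; simp
    · rw [SModEq.sub_mem, ← (hn n).2, LinearMap.mem_ker, map_sub, sub_eq_zero]
      exact (hz n).symm
  exact { toIsHausdorff := hhaus, toIsPrecomplete := hprec }
end
end Groth.Agent.H12D
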