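import Groth.Agent.Lib.H12_Adic
set_option autoImplicit false
universe u v w
namespace Groth.Agent.H12D

section
variable {A : Type u} [CommRing A] {I : Ideal A}

theorem exists_lim [IsAdicComplete I A] (b : ℕ → A) (hb : ∀ n, b (n + 1) - b n ∈ I ^ (n + 1)) :
    ∃ l, ∀ n, b n - l ∈ I ^ (n + 1) := by
  have hle : ∀ m n, m ≤ n → b n - b m ∈ I ^ (m + 1) := by
    intro m n hmn
    induction n, hmn using Nat.le_induction with
    | base => simp
    | succ n hn ih =>
      rw [show b (n + 1) - b m = (b (n + 1) - b n) + (b n - b m) by ring]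
      exact add_mem (Ideal.pow_le_pow_right (by omega) (hb n)) ih
  obtain ⟨l, hl⟩ := IsPrecomplete.prec (I := I) (M := A) inferInstance (f := b) (by
      intro m n hmn
      rw [SModEq.sub_mem]
      simp only [smul_eq_mul, Ideal.mul_top]
      rw [← neg_sub]
      exact neg_mem (Ideal.pow_le_pow_right (by omega) (hle m n hmn)))
  refine ⟨l, fun n => ?_⟩
  have := hl (n + 1)
  rw [SModEq.sub_mem] at this
  simp only [smul_eq_mul, Ideal.mul_top] at this
  rw [show b n - l = (b (n + 1) - l) - (b (n + 1) - b n) by ring]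
  exact sub_mem this (hb n)

theorem eq_zero_of_mem [IsAdicComplete I A] (a : A) (h : ∀ n, a ∈ I ^ (n + 1)) : a = 0 := by
  apply IsHausdorff.haus (I := I) (M := A) inferInstance
  intro n
  rw [SModEq.zero]
  simp only [smul_eq_mul, Ideal.mul_top]
  exact Ideal.pow_le_pow_right (Nat.le_succ n) (h n)

theorem lift_lemma {J : Ideal A} {r m : ℕ} {L : Type v} [AddCommGroup L] [Module A L] {X : Type w}
    [AddCommGroup X] [Module A X] (π : L →ₗ[A] X) (hπs : Function.Surjective π)
    (i : X →ₗ[A] (Fin m → A ⧸ J)) (ρ : (Fin m → A ⧸ J) →ₗ[A] X) (hρ : ρ ∘ₗ i = LinearMap.id)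
    {Z : Type*} [AddCommGroup Z] [Module A Z] (H : L →ₗ[A] Z) (p : (Fin r → A ⧸ J) →ₗ[A] Z)
    (hHp : LinearMap.range H ≤ LinearMap.range p) (hker : LinearMap.ker π ≤ LinearMap.ker H) :
    ∃ t : L →ₗ[A] (Fin r → A ⧸ J), p ∘ₗ t = H := by
  classical
  choose x hx using fun j : Fin m => hπs (ρ (Pi.single j 1))
  choose v hv using fun j : Fin m => hHp ⟨x j, rfl⟩
  let t : L →ₗ[A] (Fin r → A ⧸ J) :=
    ∑ j, ((LinearMap.toSpanSingleton (A ⧸ J) (Fin r → A ⧸ J) (v j)).restrictScalars A) ∘ₗ
      (LinearMap.proj j) ∘ₗ i ∘ₗ π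
  refine ⟨t, LinearMap.ext fun y => ?_⟩
  choose c hc using fun j : Fin m => Ideal.Quotient.mk_surjective (i (π y) j)
  have h1 : t y = ∑ j, c j • v j := by
    simp only [t, LinearMap.sum_apply, LinearMap.comp_apply, LinearMap.restrictScalars_apply,
      LinearMap.toSpanSingleton_apply, LinearMap.proj_apply]
    refine Finset.sum_congr rfl fun j _ => ?_
    rw [← hc j]
    ext l
    simp [Algebra.smul_def]
  have h2 : i (π y) = ∑ j, c j • (Pi.single j (1 : A ⧸ J) : Fin m → A ⧸ J) := by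
    ext l
    rw [Finset.sum_apply, Finset.sum_eq_single l]
    · simp [Algebra.smul_def, ← hc l]
    · intro b _ hb
      simp [Pi.single_eq_of_ne (Ne.symm hb)]
    · intro h; exact absurd (Finset.mem_univ _) h
  have h3 : π y = π (∑ j, c j • x j) := by
    have : π y = ρ (i (π y)) := (LinearMap.congr_fun hρ (π y)).symm
    rw [this, h2, map_sum, map_sum]
    refine Finset.sum_congr rfl fun j _ => ?_
    rw [map_smul, map_smul, hx]
  have h4 : H y = H (∑ j, c j • x j) := by
    rw [← sub_eq_zero, ← map_sub]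
    apply hker
    rw [LinearMap.mem_ker, map_sub, h3, sub_self]
  rw [LinearMap.comp_apply, h1, h4, map_sum, map_sum]
  refine Finset.sum_congr rfl fun j _ => ?_
  rw [map_smul, map_smul, hv]

/-- coordinatewise quotient -/
noncomputable def q (A : Type u) [CommRing A] (J : Ideal A) (r : ℕ) : (Fin r → A) →ₗ[A] (Fin r → A ⧸ J) :=
  LinearMap.pi fun i => (Ideal.Quotient.mkₐ A J).toLinearMap ∘ₗ LinearMap.proj i

@[simp] theorem q_apply (J : Ideal A) (r : ℕ) (a : Fin r → A) (i : Fin r) :
    q A J r a i = Ideal.Quotient.mk J (a i) := rfl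

theorem q_surj (J : Ideal A) (r : ℕ) : Function.Surjective (q A J r) := by
  intro v
  choose a ha using fun i : Fin r => Ideal.Quotient.mk_surjective (v i)
  exact ⟨a, funext ha⟩

/-- reduction -/
noncomputable def red {J J' : Ideal A} (h : J ≤ J') (r : ℕ) : (Fin r → A ⧸ J) →ₗ[A] (Fin r → A ⧸ J') :=
  LinearMap.pi fun i => (Ideal.Quotient.factorₐ A h).toLinearMap ∘ₗ LinearMap.proj i

theorem red_q {J J' : Ideal A} (h : J ≤ J') (r : ℕ) (a : Fin r → A) : red h r (q A J r a) = q A J' r a := rfl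

theorem red_apply {J J' : Ideal A} (h : J ≤ J') (r : ℕ) (v : Fin r → A ⧸ J) (i : Fin r) :
    red h r v i = Ideal.Quotient.factor h (v i) := rfl

theorem exists_desc {J : Ideal A} {r : ℕ} {X : Type w} [AddCommGroup X] [Module A X] (g : (Fin r → A) →ₗ[A] X)
    (hJ : J • (⊤ : Submodule A X) = ⊥) : ∃ gb : (Fin r → A ⧸ J) →ₗ[A] X, gb ∘ₗ q A J r = g := by
  have hk : LinearMap.ker (q A J r) ≤ LinearMap.ker g := by
    intro a ha
    rw [LinearMap.mem_ker] at ha
    have h1 : a ∈ J • (⊤ : Submodule A (Fin r → A)) := by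
      rw [mem_smul_top_pi]
      intro i
      have := congrFun ha i
      rw [q_apply] at this
      exact Ideal.Quotient.eq_zero_iff_mem.mp this
    have h2 : g a ∈ Submodule.map g (J • (⊤ : Submodule A (Fin r → A))) := ⟨a, h1, rfl⟩
    rw [Submodule.map_smul''] at h2
    have h3 := (Submodule.smul_mono le_rfl (le_top : Submodule.map g ⊤ ≤ ⊤)) h2
    rw [hJ] at h3
    simpa using h3
  refine ⟨(LinearMap.ker (q A J r)).liftQ g hk ∘ₗ
    ((q A J r).quotKerEquivOfSurjective (q_surj J r)).symm.toLinearMap, ?_⟩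
  ext1 a
  apply LinearMap.ext
  intro x
  simp only [LinearMap.comp_apply, LinearEquiv.coe_coe]
  have : ((q A J r).quotKerEquivOfSurjective (q_surj J r)).symm (q A J r (LinearMap.single A (fun _ => A) a x)) =
      Submodule.Quotient.mk (LinearMap.single A (fun _ => A) a x) := by
    rw [LinearEquiv.symm_apply_eq]; rfl
  rw [this]; rfl

end

section
variable (A : Type u) [CommRing A] (I : Ideal A)
    (M : ℕ → Type v) [∀ n, AddCommGroup (M n)] [∀ n, Module A (M n)]
    (f : ∀ n, M (n + 1) →ₗ[A] M n)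
    (L : Type v) [AddCommGroup L] [Module A L] (π : ∀ n, L →ₗ[A] M n)

theorem proj_main [IsAdicComplete I A] (hk : ∀ n, I ^ (n + 1) • (⊤ : Submodule A (M n)) = ⊥)
    (hker : ∀ n, LinearMap.ker (f n) = I ^ (n + 1) • (⊤ : Submodule A (M (n + 1))))
    (hπ : ∀ n, f n ∘ₗ π (n + 1) = π n)
    (hf : ∀ n, Function.Surjective (f n))
    (hinj : ∀ x : L, (∀ n, π n x = 0) → x = 0)
    (hlift : ∀ y : (∀ n, M n), (∀ n, f n (y (n + 1)) = y n) → ∃ x : L, ∀ n, π n x = y n)
    (hproj : ∀ n, ∃ (m : ℕ) (i : M n →ₗ[A] (Fin m → A ⧸ I ^ (n + 1))) (r : (Fin m → A ⧸ I ^ (n + 1)) →ₗ[A] M n),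
      r ∘ₗ i = LinearMap.id) :
    Module.Finite A L ∧ Module.Projective A L ∧
      ∀ n, Function.Surjective (π n) ∧ LinearMap.ker (π n) = I ^ (n + 1) • (⊤ : Submodule A L) := by
  have h0 : Module.Finite A (M 0) := by
    obtain ⟨m, i, ρ, hρ⟩ := hproj 0
    have hs : Function.Surjective (ρ ∘ₗ q A (I ^ (0 + 1)) m) := by
      intro x
      obtain ⟨a, ha⟩ := q_surj (I ^ (0 + 1)) m (i x)
      exact ⟨a, by rw [LinearMap.comp_apply, ha]; exact LinearMap.congr_fun hρ x⟩
    exact Module.Finite.of_surjective _ hs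
  obtain ⟨r, φ, hφ, hfin, -, hn⟩ := main A I M f L π hk hker hπ hf hinj hlift h0
  refine ⟨hfin, ?_, hn⟩
  -- descended maps
  choose g hg using fun n => exists_desc (J := I ^ (n + 1)) (π n ∘ₗ φ) (hk n)
  have hg' : ∀ n a, g n (q A (I ^ (n + 1)) r a) = π n (φ a) := fun n a => LinearMap.congr_fun (hg n) a
  -- base
  have hbase : ∃ t : L →ₗ[A] (Fin r → A ⧸ I ^ (0 + 1)), g 0 ∘ₗ t = π 0 := by
    obtain ⟨m, i, ρ, hρ⟩ := hproj 0
    refine lift_lemma (π 0) (hn 0).1 i ρ hρ (π 0) (g 0) ?_ le_rfl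
    rintro _ ⟨x, rfl⟩
    obtain ⟨a, rfl⟩ := hφ x
    exact ⟨q A _ r a, hg' 0 a⟩
  have hstep : ∀ n (t : L →ₗ[A] (Fin r → A ⧸ I ^ (n + 1))), g n ∘ₗ t = π n →
      ∃ t' : L →ₗ[A] (Fin r → A ⧸ I ^ (n + 1 + 1)), g (n + 1) ∘ₗ t' = π (n + 1) ∧
        red (Ideal.pow_le_pow_right (Nat.le_succ (n + 1))) r ∘ₗ t' = t := by
    intro n t ht
    obtain ⟨m, i, ρ, hρ⟩ := hproj (n + 1)
    have hr := Ideal.pow_le_pow_right (I := I) (Nat.le_succ (n + 1))
    obtain ⟨t', ht'⟩ := lift_lemma (π (n + 1)) (hn (n + 1)).1 i ρ hρ ((π (n + 1)).prod t)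
      ((g (n + 1)).prod (red hr r)) (by
        rintro _ ⟨x, rfl⟩
        obtain ⟨a, ha⟩ := q_surj (I ^ (n + 1)) r (t x)
        have h1 : π n (φ a) = π n x := by rw [← hg', ha]; exact LinearMap.congr_fun ht x
        have h2 : φ a - x ∈ LinearMap.ker (π n) := by rw [LinearMap.mem_ker, map_sub, h1, sub_self]
        rw [(hn n).2] at h2
        have h3 : (⊤ : Submodule A L) = Submodule.map φ ⊤ := by
          rw [Submodule.map_top, LinearMap.range_eq_top.mpr hφ]
        rw [h3, ← Submodule.map_smul''] at h2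
        obtain ⟨b, hb, hb'⟩ := h2
        refine ⟨q A _ r (a - b), ?_⟩
        rw [LinearMap.prod_apply, LinearMap.prod_apply]
        refine Prod.ext ?_ ?_
        · change g (n + 1) _ = π (n + 1) x
          rw [hg', map_sub, hb']
          congr 1; abel
        · change red hr r _ = t x
          rw [red_q, ← ha]
          ext i
          have hb2 := (mem_smul_top_pi _ b).mp hb i
          rw [q_apply, q_apply, Pi.sub_apply, map_sub, Ideal.Quotient.eq_zero_iff_mem.mpr hb2, sub_zero]) (by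
        intro x hx
        rw [LinearMap.mem_ker] at hx ⊢
        rw [LinearMap.prod_apply]
        refine Prod.ext hx ?_
        change t x = 0
        have h2 : x ∈ LinearMap.ker (π (n + 1)) := hx
        rw [(hn (n + 1)).2] at h2
        have h4 : t x ∈ Submodule.map t (I ^ (n + 1 + 1) • (⊤ : Submodule A L)) := ⟨x, h2, rfl⟩
        rw [Submodule.map_smul''] at h4
        have h5 : (I ^ (n + 1 + 1)) • (Submodule.map t ⊤) ≤ (⊥ : Submodule A (Fin r → A ⧸ I ^ (n + 1))) := by
          rw [Submodule.smul_le]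
          intro c hc y _
          rw [Submodule.mem_bot]
          ext i
          rw [Pi.smul_apply, Algebra.smul_def]
          have : algebraMap A (A ⧸ I ^ (n + 1)) c = 0 := Ideal.Quotient.eq_zero_iff_mem.mpr (hr hc)
          rw [this, zero_mul]; rfl
        simpa using h5 h4)
    refine ⟨t', ?_, ?_⟩
    · ext x
      exact congrArg Prod.fst (LinearMap.congr_fun ht' x)
    · apply LinearMap.ext
      intro x
      exact congrArg Prod.snd (LinearMap.congr_fun ht' x)
  choose! st hst1 hst2 using hstep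
  obtain ⟨t0, ht0⟩ := hbase
  let T : ∀ n, L →ₗ[A] (Fin r → A ⧸ I ^ (n + 1)) := fun n => Nat.rec t0 (fun n t => st n t) n
  have hT : ∀ n, g n ∘ₗ T n = π n := by
    intro n
    induction n with
    | zero => exact ht0
    | succ n ih => exact hst1 n (T n) ih
  have hTr : ∀ n x, red (Ideal.pow_le_pow_right (Nat.le_succ (n + 1))) r (T (n + 1) x) = T n x :=
    fun n x => LinearMap.congr_fun (hst2 n (T n) (hT n)) x
  -- limit
  have hlim : ∀ x i, ∃ l : A, ∀ n, Ideal.Quotient.mk (I ^ (n + 1)) l = T n x i := by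
    intro x i
    choose b hb using fun n => Ideal.Quotient.mk_surjective (T n x i)
    obtain ⟨l, hl⟩ := exists_lim (I := I) b (by
      intro n
      rw [← Ideal.Quotient.eq_zero_iff_mem, map_sub, hb n, sub_eq_zero]
      have h1 := congrFun (hTr n x) i
      rw [red_apply, ← hb (n + 1), Ideal.Quotient.factor_mk] at h1
      exact h1)
    refine ⟨l, fun n => ?_⟩
    rw [← hb n, eq_comm, ← sub_eq_zero, ← map_sub, Ideal.Quotient.eq_zero_iff_mem]
    exact hl n
  choose l hl using hlim
  have huniq : ∀ (a b : A), (∀ n, Ideal.Quotient.mk (I ^ (n + 1)) a = Ideal.Quotient.mk (I ^ (n + 1)) b) → a = b := by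
    intro a b h
    rw [← sub_eq_zero]
    apply eq_zero_of_mem (I := I)
    intro n
    rw [← Ideal.Quotient.eq_zero_iff_mem, map_sub, h n, sub_self]
  let s : L →ₗ[A] (Fin r → A) :=
    { toFun := l
      map_add' := by
        intro x y
        ext i
        apply huniq
        intro n
        rw [hl, Pi.add_apply, map_add, Pi.add_apply, map_add, hl, hl]
      map_smul' := by
        intro c x
        ext i
        apply huniq
        intro n
        rw [hl, RingHom.id_apply, Pi.smul_apply, smul_eq_mul, map_mul, hl, map_smul, Pi.smul_apply, Algebra.smul_def]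
        rfl }
  have hs : φ ∘ₗ s = LinearMap.id := by
    ext x
    rw [LinearMap.comp_apply, LinearMap.id_apply, ← sub_eq_zero]
    apply hinj
    intro n
    rw [map_sub, ← hg', sub_eq_zero]
    have : q A (I ^ (n + 1)) r (s x) = T n x := funext fun i => hl x i n
    rw [this]
    exact LinearMap.congr_fun (hT n) x
  exact Module.Projective.of_split s φ hs
end
end Groth.Agent.H12D
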