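import Mathlib

open TensorProduct

namespace Groth.Agent.H12

theorem cond_iff_inj {R : Type*} [CommRing R] {M N : Type*} [AddCommGroup M] [Module R M] [AddCommGroup N]
    [Module R N] (d : M →ₗ[R] N) (κ : Type*) [CommRing κ] [Algebra R κ] :
    LinearMap.ker (d.baseChange κ) ≤ LinearMap.range ((LinearMap.ker d).subtype.baseChange κ) ↔
      Function.Injective ((LinearMap.range d).subtype.lTensor κ) := by
  have hex : Function.Exact ((LinearMap.ker d).subtype.lTensor κ) (d.rangeRestrict.lTensor κ) := by
    apply lTensor_exact
    · rw [LinearMap.exact_iff, LinearMap.ker_rangeRestrict, Submodule.range_subtype]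
    · exact d.surjective_rangeRestrict
  have hsurj : Function.Surjective (d.rangeRestrict.lTensor κ) :=
    LinearMap.lTensor_surjective _ d.surjective_rangeRestrict
  have hcomp : ∀ x, (LinearMap.range d).subtype.lTensor κ (d.rangeRestrict.lTensor κ x) =
      d.baseChange κ x := by
    intro x
    rw [← LinearMap.comp_apply, ← LinearMap.lTensor_comp]
    rfl
  constructor
  · intro h
    rw [← LinearMap.ker_eq_bot, Submodule.eq_bot_iff]
    intro y hy
    obtain ⟨x, rfl⟩ := hsurj y
    rw [LinearMap.mem_ker, hcomp] at hy
    obtain ⟨z, hz⟩ := h hy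
    exact (hex _).mpr ⟨z, hz⟩
  · intro h x hx
    rw [LinearMap.mem_ker, ← hcomp] at hx
    have := h (hx.trans (map_zero _).symm)
    obtain ⟨z, hz⟩ := (hex x).mp this
    exact ⟨z, hz⟩

theorem tower_inj {R : Type*} [CommRing R] {P N : Type*} [AddCommGroup P] [Module R P] [AddCommGroup N]
    [Module R N] (ι : P →ₗ[R] N) (S κ : Type*) [CommRing S] [CommRing κ] [Algebra R S] [Algebra S κ]
    [Algebra R κ] [IsScalarTower R S κ] :
    Function.Injective ((ι.baseChange S).lTensor κ) ↔ Function.Injective (ι.lTensor κ) := by
  have h : ∀ x, (AlgebraTensorModule.cancelBaseChange R S κ κ N) ((ι.baseChange S).lTensor κ x) =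
      ι.lTensor κ (AlgebraTensorModule.cancelBaseChange R S κ κ P x) := by
    intro x
    induction x with
    | zero => simp
    | add x y hx hy => simp only [map_add, hx, hy]
    | tmul a y =>
      induction y with
      | zero => simp
      | add x y hx hy => simp only [TensorProduct.tmul_add, map_add, hx, hy]
      | tmul s p => simp
  have hfun : (AlgebraTensorModule.cancelBaseChange R S κ κ N) ∘ ((ι.baseChange S).lTensor κ) =
      (ι.lTensor κ) ∘ (AlgebraTensorModule.cancelBaseChange R S κ κ P) := funext h
  rw [← (AlgebraTensorModule.cancelBaseChange R S κ κ N).injective.of_comp_iff, hfun]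
  exact Function.Injective.of_comp_iff' _ (AlgebraTensorModule.cancelBaseChange R S κ κ P).bijective

theorem cond_iff_mem_freeLocus {R : Type*} [CommRing R] {M N : Type*} [AddCommGroup M] [Module R M]
    [AddCommGroup N] [Module R N] [Module.Finite R M] [Module.Finite R N] [Module.Projective R N]
    (d : M →ₗ[R] N) (p : PrimeSpectrum R) :
    LinearMap.ker (d.baseChange p.asIdeal.ResidueField) ≤
        LinearMap.range ((LinearMap.ker d).subtype.baseChange p.asIdeal.ResidueField) ↔
      p ∈ Module.freeLocus R (N ⧸ LinearMap.range d) := by
  rw [cond_iff_inj, ← tower_inj (LinearMap.range d).subtype (Localization.AtPrime p.asIdeal)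
    p.asIdeal.ResidueField, Module.mem_freeLocus_iff_tensor p (Localization.AtPrime p.asIdeal)]
  have hexact : Function.Exact ((LinearMap.range d).subtype.baseChange (Localization.AtPrime p.asIdeal))
      ((LinearMap.range d).mkQ.baseChange (Localization.AtPrime p.asIdeal)) :=
    lTensor_exact _ (LinearMap.exact_subtype_mkQ _) (Submodule.mkQ_surjective _)
  have hg : Function.Surjective ((LinearMap.range d).mkQ.baseChange (Localization.AtPrime p.asIdeal)) :=
    LinearMap.lTensor_surjective _ (Submodule.mkQ_surjective _)
  haveI : Module.Finite R (LinearMap.range d) := inferInstance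
  haveI : Module.Free (Localization.AtPrime p.asIdeal) (Localization.AtPrime p.asIdeal ⊗[R] N) :=
    Module.free_of_flat_of_isLocalRing
  constructor
  · intro h
    exact Module.free_of_lTensor_residueField_injective _ _ hg hexact h
  · intro h
    have hf : Function.Injective ((LinearMap.range d).subtype.baseChange (Localization.AtPrime p.asIdeal)) :=
      Module.Flat.lTensor_preserves_injective_linearMap _ Subtype.val_injective
    obtain ⟨s, hs⟩ := Module.projective_lifting_property _ LinearMap.id hg
    obtain ⟨_, l, hl⟩ := ((Function.Exact.split_tfae' hexact).out 0 1 rfl rfl).mp ⟨hf, s, hs⟩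
    exact (IsLocalRing.split_injective_iff_lTensor_residueField_injective _).mp ⟨l, hl⟩

theorem finPres_coker {R : Type*} [CommRing R] {M N : Type*} [AddCommGroup M] [Module R M]
    [AddCommGroup N] [Module R N] [Module.Finite R M] [Module.Finite R N] [Module.Projective R N]
    (d : M →ₗ[R] N) : Module.FinitePresentation R (N ⧸ LinearMap.range d) := by
  haveI : Module.FinitePresentation R N := Module.finitePresentation_of_projective R N
  refine Module.finitePresentation_of_surjective (LinearMap.range d).mkQ (Submodule.mkQ_surjective _) ?_
  rw [Submodule.ker_mkQ]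
  exact Submodule.fg_range _

end Groth.Agent.H12
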