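import Groth.Prelude.Def_W4bk4goldsch23FF
import Mathlib.RingTheory.AlgebraicIndependent.TranscendenceBasis
import Mathlib.FieldTheory.IntermediateField.Adjoin.Algebra
import Mathlib.RingTheory.Valuation.LocalSubring
import Mathlib.RingTheory.DedekindDomain.AdicValuation
import Mathlib.RingTheory.EssentialFiniteness
import Mathlib.Tactic

set_option autoImplicit false
open FunFld

namespace Groth.Agent.H16

variable {k K : Type*} [Field k] [Field K] [Algebra k K]

theorem essFT_adjoin (x : K) :
    Algebra.EssFiniteType k (IntermediateField.adjoin k ({x} : Set K)) := by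
  rw [IntermediateField.essFiniteType_iff]
  exact ⟨{x}, by simp⟩

theorem essFT (hK : IsFunctionField k K) : Algebra.EssFiniteType k K := by
  obtain ⟨⟨x, hx, hfin⟩, _⟩ := hK
  have h1 := essFT_adjoin (k := k) x
  have h2 : Algebra.EssFiniteType (IntermediateField.adjoin k ({x} : Set K)) K := inferInstance
  exact Algebra.EssFiniteType.comp k (IntermediateField.adjoin k {x}) K

open scoped IntermediateField.algebraAdjoinAdjoin in
theorem trdeg_le_one (hK : IsFunctionField k K) : Algebra.trdeg k K ≤ 1 := by
  obtain ⟨⟨x, hx, hfin⟩, _⟩ := hK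
  have h0 : Algebra.IsAlgebraic (IntermediateField.adjoin k ({x} : Set K)) K := inferInstance
  have h1 : Algebra.IsAlgebraic (Algebra.adjoin k ({x} : Set K)) K := by
    exact (IsFractionRing.comap_isAlgebraic_iff (A := Algebra.adjoin k ({x} : Set K))
      (K := IntermediateField.adjoin k ({x} : Set K)) (C := K)).mpr h0
  exact (Algebra.IsAlgebraic.trdeg_le_cardinalMk (R := k) (s := ({x} : Set K))).trans (by simp)

theorem fd_adjoin (hK : IsFunctionField k K) {y : K} (hy : Transcendental k y) :
    FiniteDimensional (IntermediateField.adjoin k ({y} : Set K)) K := by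
  have hE : Algebra.EssFiniteType k K := essFT hK
  have htr := trdeg_le_one hK
  have hyi : AlgebraicIndependent k (fun _ : Unit => y) :=
    algebraicIndependent_unique_type_iff.mpr hy
  have hb : IsTranscendenceBasis k (fun _ : Unit => y) :=
    hyi.isTranscendenceBasis_of_lift_trdeg_le_of_finite (by simpa using htr)
  have h2 := hb.isAlgebraic_field
  rw [Set.range_const] at h2
  have h3 : Algebra.EssFiniteType (IntermediateField.adjoin k ({y} : Set K)) K :=
    Algebra.EssFiniteType.of_comp k _ K
  exact Algebra.finite_of_essFiniteType_of_isAlgebraic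

end Groth.Agent.H16
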