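import Groth.Agent.Lib.H16_FunFldA
import Mathlib.RingTheory.Valuation.Discrete.IsDiscreteValuationRing
import Mathlib.RingTheory.DiscreteValuationRing.TFAE

set_option autoImplicit false
open FunFld

namespace Groth.Agent.H16

variable {k K : Type*} [Field k] [Field K] [Algebra k K]

theorem val_const (P : Place k K) {c : k} (hc : c ≠ 0) : P.1 (algebraMap k K c) = 1 := by
  apply le_antisymm (P.2.1 c)
  have h := P.2.1 c⁻¹
  rw [map_inv₀, map_inv₀] at h
  have h0 : P.1 (algebraMap k K c) ≠ 0 := by simpa using hc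
  have := (inv_le_one₀ (zero_lt_iff.mpr h0)).mp h
  exact this

theorem trans_of_lt (hK : IsFunctionField k K) (P : Place k K) {y : K} (hy0 : y ≠ 0)
    (hy : P.1 y < 1) : Transcendental k y := by
  intro h
  obtain ⟨c, rfl⟩ := hK.2 y h
  have hc : c ≠ 0 := by rintro rfl; simp at hy0
  rw [val_const P hc] at hy
  exact lt_irrefl _ hy

theorem trans_iff (hK : IsFunctionField k K) {y : K} (hy : y ∉ Set.range (algebraMap k K)) :
    Transcendental k y := fun h => hy (hK.2 y h)

theorem aeval_smul_mem (y : K) (M : Submodule k K) (hM : ∀ m ∈ M, y * m ∈ M)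
    (f : Polynomial k) {m : K} (hm : m ∈ M) : Polynomial.aeval y f * m ∈ M := by
  induction f using Polynomial.induction_on' with
  | add p q hp hq => rw [map_add, add_mul]; exact M.add_mem hp hq
  | monomial n a =>
    rw [Polynomial.aeval_monomial, mul_assoc, ← Algebra.smul_def]
    apply M.smul_mem
    clear a
    induction n with
    | zero => simpa using hm
    | succ n ih => rw [pow_succ', mul_assoc]; exact hM _ ih

theorem poly_rel (y : K) (hy0 : y ≠ 0) (M : Submodule k K) (hM : ∀ m ∈ M, y * m ∈ M)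
    {ι : Type*} [Fintype ι] (u : ι → K) (hu : ∀ i, u i ∈ M)
    (hind : ∀ c : ι → k, (∃ m ∈ M, ∑ i, c i • u i = y * m) → c = 0) (N : ℕ) :
    ∀ f : ι → Polynomial k, (∀ i, ∀ m, N ≤ m → (f i).coeff m = 0) →
      ∑ i, Polynomial.aeval y (f i) * u i = 0 → ∀ i, f i = 0 := by
  induction N with
  | zero => intro f hf _ i; ext m; simpa using hf i m (Nat.zero_le _)
  | succ N ih =>
    intro f hf hrel
    have key : ∀ i, Polynomial.aeval y (f i) * u i =
        (f i).coeff 0 • u i + y * (Polynomial.aeval y (f i).divX * u i) := by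
      intro i
      conv_lhs => rw [← Polynomial.divX_mul_X_add (f i)]
      rw [map_add, map_mul, Polynomial.aeval_X, Polynomial.aeval_C, Algebra.smul_def]
      ring
    have h1 : ∑ i, (f i).coeff 0 • u i = y * (-∑ i, Polynomial.aeval y (f i).divX * u i) := by
      rw [Finset.sum_congr rfl (fun i _ => key i), Finset.sum_add_distrib, ← Finset.mul_sum] at hrel
      rw [mul_neg]; exact eq_neg_of_add_eq_zero_left hrel
    have h2 : (fun i => (f i).coeff 0) = 0 := by
      apply hind
      refine ⟨_, M.neg_mem (M.sum_mem fun i _ => aeval_smul_mem y M hM _ (hu i)), h1⟩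
    have h3 : ∑ i, Polynomial.aeval y (f i).divX * u i = 0 := by
      have h4 : ∑ i, (f i).coeff 0 • u i = 0 := by
        apply Finset.sum_eq_zero; intro i _
        rw [show (f i).coeff 0 = 0 from congrFun h2 i, zero_smul]
      rw [h4] at h1
      have := (mul_eq_zero.mp h1.symm).resolve_left hy0
      exact neg_eq_zero.mp this
    have h5 := ih (fun i => (f i).divX) (fun i m hm => by
      rw [Polynomial.coeff_divX]; exact hf i (m+1) (by omega)) h3
    intro i
    rw [← Polynomial.divX_mul_X_add (f i), h5 i, show (f i).coeff 0 = 0 from congrFun h2 i]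
    simp

open scoped IntermediateField.algebraAdjoinAdjoin in
theorem linInd_of_mod (y : K) (hy : Transcendental k y) (M : Submodule k K)
    (hM : ∀ m ∈ M, y * m ∈ M)
    {ι : Type*} [Fintype ι] (u : ι → K) (hu : ∀ i, u i ∈ M)
    (hind : ∀ c : ι → k, (∃ m ∈ M, ∑ i, c i • u i = y * m) → c = 0) :
    LinearIndependent (IntermediateField.adjoin k ({y} : Set K)) u := by
  have hy0 : y ≠ 0 := by rintro rfl; exact hy (isAlgebraic_zero)
  rw [← LinearIndependent.iff_fractionRing (R := Algebra.adjoin k ({y} : Set K))]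
  rw [Fintype.linearIndependent_iff]
  intro g hg
  have hex : ∀ i, ∃ f : Polynomial k, Polynomial.aeval y f = (g i : K) := by
    intro i
    have h' : (g i : K) ∈ (Polynomial.aeval (R := k) y).range := by
      rw [← Algebra.adjoin_singleton_eq_range_aeval]; exact (g i).2
    exact h'
  choose f hf using hex
  have hN : ∃ N, ∀ i, ∀ m, N ≤ m → (f i).coeff m = 0 := by
    refine ⟨Finset.univ.sup (fun i => (f i).natDegree + 1), fun i m hm => ?_⟩
    apply Polynomial.coeff_eq_zero_of_natDegree_lt
    have := Finset.le_sup (f := fun i => (f i).natDegree + 1) (Finset.mem_univ i)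
    omega
  obtain ⟨N, hN⟩ := hN
  have h0 := poly_rel y hy0 M hM u hu hind N f hN (by
    rw [← hg]; apply Finset.sum_congr rfl; intro i _; rw [hf i]; rfl)
  intro i
  apply Subtype.ext
  rw [← hf i, h0 i]; simp

theorem rank_bound (hK : IsFunctionField k K) (y : K) (hy : Transcendental k y) (M : Submodule k K)
    (hM : ∀ m ∈ M, y * m ∈ M) {V : Type*} [AddCommGroup V] [Module k V] (φ : M →ₗ[k] V)
    (hφ : Function.Surjective φ) (hφy : ∀ (m : K) (hm : m ∈ M), φ ⟨y * m, hM m hm⟩ = 0) :
    FiniteDimensional k V ∧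
      Module.finrank k V ≤ Module.finrank (IntermediateField.adjoin k ({y} : Set K)) K := by
  have hfd := fd_adjoin hK hy
  have key : Module.rank k V ≤ (Module.finrank (IntermediateField.adjoin k ({y} : Set K)) K : ℕ) := by
    apply rank_le
    intro s hs
    choose u hu using fun i : s => hφ (i : V)
    have := linInd_of_mod y hy M hM (fun i : s => (u i : K)) (fun i => (u i).2) (by
      rintro c ⟨m, hm, h⟩
      have h1 : ∑ i : s, c i • (i : V) = 0 := by
        rw [← hφy m hm]
        have : (⟨y * m, hM m hm⟩ : M) = ∑ i : s, c i • u i := by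
          apply Subtype.ext
          simp [← h]
        rw [this, map_sum]
        simp [hu]
      funext i
      exact (Fintype.linearIndependent_iff.mp hs) c h1 i)
    have h2 := this.fintype_card_le_finrank
    simpa using h2
  refine ⟨?_, Module.finrank_le_of_rank_le key⟩
  rw [FiniteDimensional, ← Module.rank_lt_aleph0_iff]
  exact key.trans_lt (Cardinal.natCast_lt_aleph0)

/-- the k-submodule of K of elements of a valuation subring -/
def subO (V : ValuationSubring K) (hV : ∀ c : k, algebraMap k K c ∈ V) : Submodule k K where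
  carrier := V
  add_mem' := fun ha hb => V.add_mem _ _ ha hb
  zero_mem' := V.zero_mem
  smul_mem' := fun c x hx => by rw [Algebra.smul_def]; exact V.mul_mem _ _ (hV c) hx

theorem isUnit_iff_val (P : Place k K) (a : P.O) : IsUnit a ↔ P.1 (a : K) = 1 := by
  constructor
  · rintro h
    obtain ⟨b, hb⟩ := h.exists_right_inv
    have h1 : P.1 (a : K) * P.1 (b : K) = 1 := by
      rw [← map_mul]
      have : (a : K) * b = 1 := congrArg Subtype.val hb
      rw [this, map_one]
    have ha : P.1 (a : K) ≤ 1 := a.2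
    have hb : P.1 (b : K) ≤ 1 := b.2
    apply le_antisymm ha
    exact h1.symm.trans_le (mul_le_of_le_one_right' hb)
  · intro h
    have ha0 : (a : K) ≠ 0 := by intro h0; rw [h0, map_zero] at h; exact zero_ne_one h
    have hinv : (a : K)⁻¹ ∈ P.O := by
      change P.1 _ ≤ 1
      rw [map_inv₀, h, inv_one]
    exact IsUnit.of_mul_eq_one ⟨(a : K)⁻¹, hinv⟩ (Subtype.ext (mul_inv_cancel₀ ha0))

theorem residue_eq_zero_iff_val (P : Place k K) (a : P.O) :
    IsLocalRing.residue P.O a = 0 ↔ P.1 (a : K) < 1 := by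
  rw [IsLocalRing.residue_eq_zero_iff, IsLocalRing.mem_maximalIdeal, mem_nonunits_iff,
    isUnit_iff_val]
  have ha : P.1 (a : K) ≤ 1 := a.2
  exact ⟨fun h => lt_of_le_of_ne ha h, fun h => ne_of_lt h⟩

/-- residue map as a `k`-linear map -/
noncomputable def resLin (P : Place k K) : subO (k := k) P.O (fun c => P.2.1 c) →ₗ[k] IsLocalRing.ResidueField P.O :=
    { toFun := fun m => IsLocalRing.residue P.O ⟨m.1, m.2⟩
      map_add' := fun a b => by rw [← map_add]; rfl
      map_smul' := fun c m => by
        change _ = IsLocalRing.residue P.O (algebraMap k P.O c) * IsLocalRing.residue P.O ⟨m.1, m.2⟩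
        rw [← map_mul]
        congr 1
        apply Subtype.ext
        change ((c • m : subO (k := k) P.O (fun c => P.2.1 c)) : K) = _
        rw [Submodule.coe_smul, Algebra.smul_def]
        rfl }

theorem resLin_surj (P : Place k K) : Function.Surjective (resLin P) := by
  intro z
  obtain ⟨w, rfl⟩ := IsLocalRing.residue_surjective z
  exact ⟨⟨w.1, w.2⟩, rfl⟩

theorem resLin_eq_zero (P : Place k K) (m : subO (k := k) P.O (fun c => P.2.1 c)) :
    resLin P m = 0 ↔ P.1 (m : K) < 1 := residue_eq_zero_iff_val P ⟨m.1, m.2⟩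

theorem exists_unif (P : Place k K) : ∃ y : K, y ≠ 0 ∧ P.1 y = WithZero.exp (-1) ∧ P.1 y < 1 := by
  obtain ⟨y, hy⟩ := P.2.2 (WithZero.exp (-1))
  have hylt : P.1 y < 1 := by rw [hy, ← WithZero.exp_zero, WithZero.exp_lt_exp]; norm_num
  have hy0 : y ≠ 0 := by
    rintro rfl
    rw [map_zero] at hy
    exact absurd hy.symm WithZero.exp_ne_zero
  exact ⟨y, hy0, hy, hylt⟩

theorem finite_residue (hK : IsFunctionField k K) (P : Place k K) :
    FiniteDimensional k (IsLocalRing.ResidueField P.O) := by
  obtain ⟨y, hy0, hy, hylt⟩ := exists_unif P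
  have htr := trans_of_lt hK P hy0 hylt
  have hM : ∀ m ∈ subO (k := k) P.O (fun c => P.2.1 c), y * m ∈ subO (k := k) P.O (fun c => P.2.1 c) :=
    fun m hm => P.O.mul_mem _ _ hylt.le hm
  refine (rank_bound hK y htr _ hM (resLin P) (resLin_surj P) ?_).1
  intro m hm
  rw [resLin_eq_zero]
  change P.1 (y * m) < 1
  rw [map_mul]
  exact mul_lt_one_of_lt_of_le hylt hm

/-- every valuation ring of `K/k` having a nonzero nonunit is noetherian -/
theorem noeth_of_fieldType (hK : IsFunctionField k K) (V : ValuationSubring K)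
    (hV : ∀ c : k, algebraMap k K c ∈ V) : IsNoetherianRing V := by
  let _ : Algebra k V := ((algebraMap k K).codRestrict V hV).toAlgebra
  rw [isNoetherianRing_iff_ideal_fg]
  intro I
  by_cases hI : I = ⊤
  · rw [hI]; exact ⟨{1}, by simp⟩
  by_cases hI0 : I = ⊥
  · rw [hI0]; exact Submodule.fg_bot
  obtain ⟨z, hzI, hz0⟩ := Submodule.exists_mem_ne_zero_of_ne_bot hI0
  have hzu : ¬ IsUnit z := fun h => hI (Ideal.eq_top_of_isUnit_mem I hzI h)
  have hz0' : (z : K) ≠ 0 := fun h => hz0 (Subtype.ext h)
  have htr : Transcendental k (z : K) := by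
    intro h
    obtain ⟨c, hc⟩ := hK.2 _ h
    have hc0 : c ≠ 0 := by rintro rfl; rw [map_zero] at hc; exact hz0' hc.symm
    apply hzu
    refine IsUnit.of_mul_eq_one ⟨algebraMap k K c⁻¹, hV _⟩ (Subtype.ext ?_)
    change (z : K) * algebraMap k K c⁻¹ = 1
    rw [← hc, ← map_mul, mul_inv_cancel₀ hc0, map_one]
  let M : Submodule k K := subO V hV
  have hM : ∀ m ∈ M, (z : K) * m ∈ M := fun m hm => V.mul_mem _ _ z.2 hm
  let Q := V ⧸ Ideal.span ({z} : Set V)
  let φ : M →ₗ[k] Q :=
    { toFun := fun m => Ideal.Quotient.mk _ ⟨m.1, m.2⟩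
      map_add' := fun a b => by rw [← map_add]; rfl
      map_smul' := fun c m => by
        change _ = Ideal.Quotient.mk (Ideal.span ({z} : Set V)) (algebraMap k V c) * Ideal.Quotient.mk _ ⟨m.1, m.2⟩
        rw [← map_mul]
        congr 1
        apply Subtype.ext
        change ((c • m : M) : K) = _
        rw [Submodule.coe_smul, Algebra.smul_def]
        rfl }
  have hfin := (rank_bound hK (z : K) htr M hM φ (by
    intro w
    obtain ⟨w, rfl⟩ := Ideal.Quotient.mk_surjective w
    exact ⟨⟨w.1, w.2⟩, rfl⟩) (by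
    intro m hm
    change Ideal.Quotient.mk (Ideal.span ({z} : Set V)) ⟨z * m, _⟩ = 0
    rw [Ideal.Quotient.eq_zero_iff_mem]
    exact Ideal.mem_span_singleton.mpr ⟨⟨m, hm⟩, rfl⟩)).1
  have hN : IsNoetherian k Q := IsNoetherian.iff_fg.mpr hfin
  have hN2 : IsNoetherian V Q := isNoetherian_of_tower k hN
  apply Submodule.fg_of_fg_map_of_fg_inf_ker (Submodule.mkQ (Ideal.span ({z} : Set V)))
  · exact hN2.noetherian _
  · rw [Submodule.ker_mkQ, inf_eq_right.mpr]
    · exact ⟨{z}, by simp⟩
    · rw [Ideal.span_le]; simpa using hzI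

theorem exists_place (hK : IsFunctionField k K) (V : ValuationSubring K)
    (hV : ∀ c : k, algebraMap k K c ∈ V) (hne : ∃ z : K, z ∉ V) :
    ∃ P : Place k K, P.O = V := by
  have hN := noeth_of_fieldType hK V hV
  have hnf : ¬ IsField V := by
    intro h
    obtain ⟨z, hz⟩ := hne
    have hz' : z⁻¹ ∈ V := (V.mem_or_inv_mem z).resolve_left hz
    have hz0 : z ≠ 0 := by rintro rfl; exact hz V.zero_mem
    obtain ⟨w, hw⟩ := h.mul_inv_cancel (a := (⟨z⁻¹, hz'⟩ : V)) (by
      intro h0; exact inv_ne_zero hz0 (congrArg Subtype.val h0))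
    have : z⁻¹ * (w : K) = 1 := congrArg Subtype.val hw
    have : z = w := by field_simp at this; exact this.symm
    exact hz (this ▸ w.2)
  have hvr : ValuationRing V := inferInstance
  have hdvr : IsDiscreteValuationRing V :=
    ((IsDiscreteValuationRing.TFAE V hnf).out 0 1 :
      IsDiscreteValuationRing V ↔ ValuationRing V).mpr hvr
  let v : Valuation K (WithZero (Multiplicative ℤ)) :=
    (IsDiscreteValuationRing.maximalIdeal V).valuation K
  have hvV : ∀ z : K, v z ≤ 1 ↔ z ∈ V := by
    intro z
    constructor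
    · intro h
      by_contra hz
      have hz' : z⁻¹ ∈ V := (V.mem_or_inv_mem z).resolve_left hz
      have hz0 : z ≠ 0 := by rintro rfl; exact hz V.zero_mem
      have h1 : v z⁻¹ < 1 := by
        change (IsDiscreteValuationRing.maximalIdeal V).valuation K (algebraMap V K ⟨z⁻¹, hz'⟩) < 1
        rw [IsDedekindDomain.HeightOneSpectrum.valuation_lt_one_iff_mem]
        change _ ∈ IsLocalRing.maximalIdeal V
        rw [IsLocalRing.mem_maximalIdeal, mem_nonunits_iff]
        intro hu
        obtain ⟨b, hb⟩ := hu.exists_right_inv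
        have : z⁻¹ * (b : K) = 1 := congrArg Subtype.val hb
        have : z = b := by field_simp at this; exact this.symm
        exact hz (this ▸ b.2)
      rw [map_inv₀] at h1
      have h2 : v z ≠ 0 := by simpa using hz0
      have := (inv_lt_one₀ (zero_lt_iff.mpr h2)).mp h1
      exact absurd h (not_le.mpr this)
    · intro h
      exact IsDedekindDomain.HeightOneSpectrum.valuation_le_one
        (IsDiscreteValuationRing.maximalIdeal V) (⟨z, h⟩ : V)
  refine ⟨⟨v, fun c => (hvV _).mpr (hV c), IsDedekindDomain.HeightOneSpectrum.valuation_surjective K _⟩, ?_⟩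
  ext z
  exact hvV z

end Groth.Agent.H16
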