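import Groth.Agent.Lib.H16_FunFldB

set_option autoImplicit false
open FunFld

namespace Groth.Agent.H16

variable {k K : Type*} [Field k] [Field K] [Algebra k K]

theorem exists_zero (hK : IsFunctionField k K) {x : K} (hx : Transcendental k x) :
    ∃ P : Place k K, P.1 x < 1 := by
  let A : Subring K := (Algebra.adjoin k ({x} : Set K)).toSubring
  have hxA : x ∈ A := Algebra.subset_adjoin rfl
  let I : Ideal A := Ideal.span {⟨x, hxA⟩}
  have hI : I ≠ ⊤ := by
    intro h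
    rw [Ideal.span_singleton_eq_top] at h
    obtain ⟨⟨b, hb⟩, h1⟩ := h.exists_right_inv
    have h1 : x * b = 1 := congrArg Subtype.val h1
    have h' : b ∈ (Polynomial.aeval (R := k) x).range := by
      rw [← Algebra.adjoin_singleton_eq_range_aeval]; exact hb
    obtain ⟨f, rfl⟩ := h'
    have h1' : x * Polynomial.aeval x f = 1 := h1
    apply hx
    refine ⟨Polynomial.X * f - 1, ?_, by simp [h1']⟩
    intro h0
    have := congrArg (Polynomial.eval 0) h0
    simp at this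
  obtain ⟨V, hV, hI⟩ := Ideal.image_subset_nonunits_valuationSubring I hI
  have hkV : ∀ c, algebraMap k K c ∈ V := fun c =>
    hV ((Algebra.adjoin k ({x} : Set K)).algebraMap_mem c)
  have hx0 : x ≠ 0 := by rintro rfl; exact hx isAlgebraic_zero
  have hxn : x ∈ V.nonunits := hI ⟨⟨x, hxA⟩, Ideal.subset_span rfl, rfl⟩
  have hxinv : x⁻¹ ∉ V := by
    have h2 := (V.inv_mem_nonunits_iff (x := x⁻¹)).mp (by rwa [inv_inv])
    exact h2.resolve_left (inv_ne_zero hx0)
  obtain ⟨P, hP⟩ := exists_place hK V hkV ⟨x⁻¹, hxinv⟩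
  refine ⟨P, ?_⟩
  by_contra h
  apply hxinv
  rw [← hP]
  change P.1 x⁻¹ ≤ 1
  rw [map_inv₀]
  exact inv_le_one_of_one_le₀ (not_lt.mp h)

theorem place_ext {P Q : Place k K} (h : ∀ z, P.1 z ≤ 1 → Q.1 z ≤ 1) : P = Q := by
  obtain ⟨π, hπ0, hπ, hπlt⟩ := exists_unif P
  have hunit : ∀ u, P.1 u = 1 → Q.1 u = 1 := by
    intro u hu
    have hu0 : u ≠ 0 := by
      intro h0; rw [h0, map_zero] at hu; exact zero_ne_one hu
    have h0 : Q.1 u ≠ 0 := by simpa using hu0
    apply le_antisymm (h u hu.le)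
    have h1 := h u⁻¹ (by rw [map_inv₀, hu, inv_one])
    rw [map_inv₀] at h1
    exact (inv_le_one₀ (zero_lt_iff.mpr h0)).mp h1
  have key : ∀ z, z ≠ 0 → Q.1 z = (Q.1 π) ^ (-(WithZero.log (P.1 z))) := by
    intro z hz
    have h1 : P.1 (z * π ^ (WithZero.log (P.1 z))) = 1 := by
      have h2 : P.1 z = WithZero.exp (WithZero.log (P.1 z)) :=
        (WithZero.exp_log (by simpa using hz)).symm
      rw [map_mul, map_zpow₀, hπ, ← WithZero.exp_zsmul]
      nth_rewrite 1 [h2]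
      rw [← WithZero.exp_add]; simp
    have h2 := hunit _ h1
    rw [map_mul, map_zpow₀] at h2
    rw [zpow_neg]; exact eq_inv_of_mul_eq_one_left h2
  have hQπ0 : Q.1 π ≠ 0 := by simpa using hπ0
  have hlog : WithZero.log (Q.1 π) = -1 := by
    obtain ⟨z, hz⟩ := Q.2.2 (WithZero.exp 1)
    have hz0 : z ≠ 0 := by
      rintro rfl; rw [map_zero] at hz; exact absurd hz.symm WithZero.exp_ne_zero
    have h1 := key z hz0
    rw [hz] at h1
    have h2 := congrArg WithZero.log h1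
    rw [WithZero.log_exp, WithZero.log_zpow] at h2
    have h3 : WithZero.log (Q.1 π) ≤ 0 := by
      rw [WithZero.log_le_iff_le_exp hQπ0]
      exact h π hπlt.le
    have h4 : IsUnit (WithZero.log (Q.1 π)) := by
      apply IsUnit.of_mul_eq_one (-(WithZero.log (P.1 z)))
      rw [mul_comm]; simpa using h2.symm
    rcases Int.isUnit_iff.mp h4 with h5 | h5 <;> omega
  apply Subtype.ext
  apply Valuation.ext
  intro z
  by_cases hz : z = 0
  · rw [hz, map_zero, map_zero]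
  rw [key z hz]
  have : Q.1 π = WithZero.exp (-1) := by rw [← hlog, WithZero.exp_log hQπ0]
  rw [this, ← WithZero.exp_zsmul]
  have h2 : P.1 z = WithZero.exp (WithZero.log (P.1 z)) :=
        (WithZero.exp_log (by simpa using hz)).symm
  rw [h2]; simp

theorem exists_sep1 {P Q : Place k K} (h : P ≠ Q) : ∃ z, P.1 z < 1 ∧ 1 < Q.1 z := by
  obtain ⟨a, ha1, ha2⟩ : ∃ a, P.1 a ≤ 1 ∧ 1 < Q.1 a := by
    by_contra hc; push Not at hc; exact h (place_ext hc)
  obtain ⟨b, hb1, hb2⟩ : ∃ b, Q.1 b ≤ 1 ∧ 1 < P.1 b := by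
    by_contra hc; push Not at hc; exact h (place_ext hc).symm
  refine ⟨a / b, ?_, ?_⟩
  · rw [map_div₀]
    exact (div_lt_one₀ (zero_lt_one.trans hb2)).mpr (ha1.trans_lt hb2)
  · rw [map_div₀]
    have hb0 : Q.1 b ≠ 0 := by
      intro h0
      rw [map_eq_zero] at h0; rw [h0, map_zero] at hb2; exact absurd hb2 (by simp)
    exact (one_lt_div₀ (zero_lt_iff.mpr hb0)).mpr (hb1.trans_lt ha2)

theorem exists_sep (P : Place k K) (S : Finset (Place k K)) (hP : P ∉ S) :
    ∃ z, P.1 z < 1 ∧ ∀ Q ∈ S, 1 < Q.1 z := by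
  classical
  induction S using Finset.induction_on with
  | empty => obtain ⟨y, _, _, h⟩ := exists_unif P; exact ⟨y, h, by simp⟩
  | insert Q S hQ ih =>
    obtain ⟨z, hz, hzS⟩ := ih (fun h => hP (Finset.mem_insert_of_mem h))
    obtain ⟨w, hw, hwQ⟩ := exists_sep1 (P := P) (Q := Q)
      (by rintro rfl; exact hP (Finset.mem_insert_self _ _))
    by_cases hQz : 1 < Q.1 z
    · refine ⟨z, hz, ?_⟩
      intro Q' hQ'
      rcases Finset.mem_insert.mp hQ' with rfl | h
      exacts [hQz, hzS _ h]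
    rw [not_lt] at hQz
    obtain ⟨r, hr1, hr⟩ : ∃ r : ℕ, 1 ≤ r ∧ ∀ Q' ∈ S, Q'.1 z ≠ Q'.1 (w^r) := by
      refine ⟨1 + ∑ Q' ∈ S, (WithZero.log (Q'.1 z)).toNat, by omega, ?_⟩
      intro Q' hQ' heq
      have hle : (WithZero.log (Q'.1 z)).toNat ≤ ∑ Q' ∈ S, (WithZero.log (Q'.1 z)).toNat :=
        Finset.single_le_sum (f := fun Q' : Place k K => (WithZero.log (Q'.1 z)).toNat) (fun _ _ => Nat.zero_le _) hQ'
      have h1 := hzS Q' hQ'
      have hz0 : Q'.1 z ≠ 0 := (zero_lt_one.trans h1).ne'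
      have h2 : 0 < WithZero.log (Q'.1 z) := by
        rw [← WithZero.log_one]; exact (WithZero.log_lt_log one_ne_zero hz0).mpr h1
      rw [map_pow] at heq
      have h3 := congrArg WithZero.log heq
      rw [WithZero.log_pow] at h3
      set r := 1 + ∑ Q' ∈ S, (WithZero.log (Q'.1 z)).toNat with hrdef
      rw [nsmul_eq_mul] at h3
      have h4 : WithZero.log (Q'.1 z) < r := by omega
      rw [h3] at h2 h4
      have h5 : 0 < WithZero.log (Q'.1 w) := by
        by_contra hc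
        have : (r : ℤ) * WithZero.log (Q'.1 w) ≤ 0 := mul_nonpos_of_nonneg_of_nonpos (by positivity) (not_lt.mp hc)
        omega
      nlinarith
    refine ⟨z + w ^ r, ?_, ?_⟩
    · apply Valuation.map_add_lt _ hz
      rw [map_pow]
      exact pow_lt_one₀ (zero_le') hw (by omega)
    · intro Q' hQ'
      rcases Finset.mem_insert.mp hQ' with rfl | h
      · have h1 : 1 < Q'.1 (w ^ r) := by
          rw [map_pow]; exact one_lt_pow₀ hwQ (by omega)
        rw [Valuation.map_add_eq_of_lt_right _ (hQz.trans_lt h1)]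
        exact h1
      · rw [Valuation.map_add_of_distinct_val _ (hr Q' h)]
        exact lt_max_of_lt_left (hzS Q' h)

theorem exists_approx1 (P : Place k K) (S : Finset (Place k K)) (hP : P ∉ S) (N : ℕ) :
    ∃ e, P.1 (e - 1) ≤ WithZero.exp (-(N : ℤ)) ∧ ∀ Q ∈ S, Q.1 e ≤ WithZero.exp (-(N : ℤ)) := by
  obtain ⟨z, hz, hzS⟩ := exists_sep P S hP
  have hPz : P.1 (z ^ (N+1)) ≤ WithZero.exp (-(N : ℤ)) := by
    rw [map_pow]
    have h1 : P.1 z ≤ WithZero.exp (-1) := by
      by_cases h0 : P.1 z = 0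
      · rw [h0]; exact zero_le'
      · rw [← WithZero.log_le_iff_le_exp h0]
        have : WithZero.log (P.1 z) < 0 := by
          rw [← WithZero.log_one]; exact (WithZero.log_lt_log h0 one_ne_zero).mpr hz
        omega
    calc P.1 z ^ (N+1) ≤ (WithZero.exp (-1)) ^ (N+1) := pow_le_pow_left₀ (zero_le') h1 _
      _ ≤ WithZero.exp (-(N : ℤ)) := by
        rw [← WithZero.exp_nsmul, WithZero.exp_le_exp]; simp
  have hPlt : P.1 (z ^ (N+1)) < 1 := by
    rw [map_pow]; exact pow_lt_one₀ (zero_le') hz (by omega)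
  have hP1 : P.1 (1 + z ^ (N+1)) = 1 := by
    rw [Valuation.map_add_eq_of_lt_left _ (by rwa [map_one]), map_one]
  refine ⟨(1 + z ^ (N+1))⁻¹, ?_, ?_⟩
  · have hne : (1 + z ^ (N+1)) ≠ 0 := by
      intro h0; rw [h0, map_zero] at hP1; exact zero_ne_one hP1
    have : (1 + z ^ (N+1))⁻¹ - 1 = -(z ^ (N+1) * (1 + z ^ (N+1))⁻¹) := by
      field_simp; ring
    rw [this, Valuation.map_neg, map_mul, map_inv₀, hP1, inv_one, mul_one]
    exact hPz
  · intro Q hQ
    have h1 := hzS Q hQ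
    have hz0 : Q.1 z ≠ 0 := (zero_lt_one.trans h1).ne'
    have h2 : 1 < Q.1 (z ^ (N+1)) := by rw [map_pow]; exact one_lt_pow₀ h1 (by omega)
    rw [map_inv₀, Valuation.map_add_eq_of_lt_right _ (by rwa [map_one]), map_pow]
    have h3 : WithZero.exp 1 ≤ Q.1 z := by
      rw [← WithZero.le_log_iff_exp_le hz0]
      have : 0 < WithZero.log (Q.1 z) := by
        rw [← WithZero.log_one]; exact (WithZero.log_lt_log one_ne_zero hz0).mpr h1
      omega
    have h4 : (WithZero.exp (N : ℤ)) ≤ Q.1 z ^ (N+1) := by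
      calc (WithZero.exp (N : ℤ)) ≤ (WithZero.exp (1:ℤ)) ^ (N+1) := by
            rw [← WithZero.exp_nsmul, WithZero.exp_le_exp]; simp
        _ ≤ _ := pow_le_pow_left₀ (zero_le') h3 _
    rw [WithZero.exp_neg]
    exact inv_anti₀ (zero_lt_iff.mpr WithZero.exp_ne_zero) h4

theorem weak_approx (S : Finset (Place k K)) (x : Place k K → K) (N : ℤ) :
    ∃ z, ∀ P ∈ S, P.1 (z - x P) ≤ WithZero.exp (-N) := by
  classical
  obtain ⟨M, hM⟩ : ∃ M : ℕ, ∀ P ∈ S, ∀ P' ∈ S, WithZero.exp (-(M:ℤ)) * P.1 (x P') ≤ WithZero.exp (-N) := by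
    refine ⟨(N.toNat + ∑ P ∈ S, ∑ P' ∈ S, (WithZero.log (P.1 (x P'))).toNat), ?_⟩
    intro P hP P' hP'
    have h1 : (WithZero.log (P.1 (x P'))).toNat ≤ ∑ P' ∈ S, (WithZero.log (P.1 (x P'))).toNat :=
      Finset.single_le_sum (f := fun P' : Place k K => (WithZero.log (P.1 (x P'))).toNat) (fun _ _ => Nat.zero_le _) hP'
    have h2 : ∑ P' ∈ S, (WithZero.log (P.1 (x P'))).toNat ≤ ∑ P ∈ S, ∑ P' ∈ S, (WithZero.log (P.1 (x P'))).toNat :=
      Finset.single_le_sum (f := fun P : Place k K => ∑ P' ∈ S, (WithZero.log (P.1 (x P'))).toNat) (fun _ _ => Nat.zero_le _) hP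
    have h3 : P.1 (x P') ≤ WithZero.exp (WithZero.log (P.1 (x P'))) := WithZero.le_exp_log
    calc _ ≤ WithZero.exp (-((N.toNat + ∑ P ∈ S, ∑ P' ∈ S, (WithZero.log (P.1 (x P'))).toNat : ℕ):ℤ)) * WithZero.exp (WithZero.log (P.1 (x P'))) :=
          mul_le_mul' le_rfl h3
      _ ≤ _ := by
        rw [← WithZero.exp_add, WithZero.exp_le_exp]
        omega
  choose e he1 he2 using fun P : Place k K => exists_approx1 P (S.erase P) (by simp) M
  refine ⟨∑ P ∈ S, e P * x P, ?_⟩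
  intro P hP
  have h1 : ∑ P ∈ S, e P * x P - x P = (e P - 1) * x P + ∑ P' ∈ S.erase P, e P' * x P' := by
    rw [← Finset.add_sum_erase _ _ hP]; ring
  rw [h1]
  apply Valuation.map_add_le
  · rw [map_mul]
    exact (mul_le_mul' (he1 P) le_rfl).trans (hM P hP P hP)
  · apply Valuation.map_sum_le
    intro P' hP'
    rw [Finset.mem_erase] at hP'
    rw [map_mul]
    refine (mul_le_mul' (he2 P' P (Finset.mem_erase.mpr ⟨fun h => hP'.1 h.symm, hP⟩)) le_rfl).trans (hM P hP P' hP'.2)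

end Groth.Agent.H16
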