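import Groth.Agent.Lib.H16_FunFldC

set_option autoImplicit false
open FunFld

namespace Groth.Agent.H16

section RD
variable {k X : Type*} [Field k] [AddCommGroup X] [Module k X]

/-- `B/A` -/
abbrev Qt (A B : Submodule k X) := ↥B ⧸ Submodule.comap B.subtype A

/-- `A ≤ B` with `dim B/A = n`. -/
def RD (A B : Submodule k X) (n : ℕ) : Prop :=
  A ≤ B ∧ FiniteDimensional k (Qt A B) ∧ Module.finrank k (Qt A B) = n

theorem RD_of_map {A B : Submodule k X} (hAB : A ≤ B) {V : Type*} [AddCommGroup V] [Module k V]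
    [FiniteDimensional k V] (f : B →ₗ[k] V) (hf : Function.Surjective f)
    (hk : ∀ b : B, f b = 0 ↔ (b : X) ∈ A) : RD A B (Module.finrank k V) := by
  have hker : LinearMap.ker f = Submodule.comap B.subtype A := by
    ext b; rw [LinearMap.mem_ker, hk]; rfl
  let e : Qt A B ≃ₗ[k] V := (Submodule.quotEquivOfEq _ _ hker.symm).trans
    (f.quotKerEquivOfSurjective hf)
  exact ⟨hAB, Module.Finite.equiv e.symm, e.finrank_eq⟩

theorem RD_refl (A : Submodule k X) : RD A A 0 := by
  have := RD_of_map (A := A) (B := A) le_rfl (V := PUnit.{1}) (0 : A →ₗ[k] PUnit.{1})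
    (fun x => ⟨0, rfl⟩) (fun b => ⟨fun _ => b.2, fun _ => rfl⟩)
  rwa [Module.finrank_zero_of_subsingleton] at this

theorem RD_ext {A B : Submodule k X} {m n : ℕ} (h1 : RD A B m) (h2 : RD A B n) : m = n :=
  h1.2.2.symm.trans h2.2.2

theorem RD_zero {A B : Submodule k X} (h : RD A B 0) : A = B := by
  obtain ⟨h1, h2, h3⟩ := h
  apply le_antisymm h1
  intro b hb
  have hs : Subsingleton (Qt A B) := Module.finrank_zero_iff.mp h3
  have : (Submodule.Quotient.mk ⟨b, hb⟩ : Qt A B) = 0 := Subsingleton.elim _ _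
  rw [Submodule.Quotient.mk_eq_zero] at this
  exact this

theorem exact_dims {U V W : Type*} [AddCommGroup U] [Module k U] [AddCommGroup V] [Module k V]
    [AddCommGroup W] [Module k W] (f : U →ₗ[k] V) (g : V →ₗ[k] W) (hf : Function.Injective f)
    (hg : Function.Surjective g) (h : LinearMap.range f = LinearMap.ker g) :
    (FiniteDimensional k V ↔ (FiniteDimensional k U ∧ FiniteDimensional k W)) ∧
    (FiniteDimensional k V → Module.finrank k V = Module.finrank k U + Module.finrank k W) := by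
  constructor
  · constructor
    · intro hV
      exact ⟨Module.Finite.of_injective f hf, Module.Finite.of_surjective g hg⟩
    · rintro ⟨hU, hW⟩
      have : IsNoetherian k U := IsNoetherian.iff_fg.mpr hU
      have : IsNoetherian k W := IsNoetherian.iff_fg.mpr hW
      exact IsNoetherian.iff_fg.mp (isNoetherian_of_range_eq_ker f g h)
  · intro hV
    have h1 := LinearMap.finrank_range_add_finrank_ker g
    rw [← h, LinearMap.finrank_range_of_inj hf, LinearMap.range_eq_top.mpr hg, finrank_top] at h1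
    omega

theorem RD_chain {A B C : Submodule k X} (hAB : A ≤ B) (hBC : B ≤ C) :
    (FiniteDimensional k (Qt A C) ↔ (FiniteDimensional k (Qt A B) ∧ FiniteDimensional k (Qt B C))) ∧
    (FiniteDimensional k (Qt A C) → Module.finrank k (Qt A C) =
      Module.finrank k (Qt A B) + Module.finrank k (Qt B C)) := by
  let f : Qt A B →ₗ[k] Qt A C := Submodule.mapQ _ _ (Submodule.inclusion hBC) (fun x hx => hx)
  let g : Qt A C →ₗ[k] Qt B C := Submodule.mapQ _ _ LinearMap.id (fun x hx => hAB hx)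
  apply exact_dims f g
  · rw [← LinearMap.ker_eq_bot, LinearMap.ker_eq_bot']
    intro m hm
    obtain ⟨m, rfl⟩ := Submodule.Quotient.mk_surjective _ m
    rw [Submodule.mapQ_apply, Submodule.Quotient.mk_eq_zero] at hm
    rw [Submodule.Quotient.mk_eq_zero]
    exact hm
  · intro z
    obtain ⟨z, rfl⟩ := Submodule.Quotient.mk_surjective _ z
    exact ⟨Submodule.Quotient.mk z, rfl⟩
  · ext z
    constructor
    · rintro ⟨w, rfl⟩
      obtain ⟨w, rfl⟩ := Submodule.Quotient.mk_surjective _ w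
      rw [LinearMap.mem_ker]
      change Submodule.Quotient.mk _ = 0
      rw [Submodule.Quotient.mk_eq_zero]
      exact w.2
    · intro hz
      obtain ⟨z, rfl⟩ := Submodule.Quotient.mk_surjective _ z
      rw [LinearMap.mem_ker] at hz
      change Submodule.Quotient.mk _ = 0 at hz
      rw [Submodule.Quotient.mk_eq_zero] at hz
      exact ⟨Submodule.Quotient.mk ⟨z.1, hz⟩, rfl⟩

theorem RD_trans {A B C : Submodule k X} {m n : ℕ} (h1 : RD A B m) (h2 : RD B C n) :
    RD A C (m + n) := by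
  have h := RD_chain h1.1 h2.1
  have hf := h.1.mpr ⟨h1.2.1, h2.2.1⟩
  exact ⟨h1.1.trans h2.1, hf, by rw [h.2 hf, h1.2.2, h2.2.2]⟩

theorem RD_split {A B C : Submodule k X} {n : ℕ} (hAB : A ≤ B) (hBC : B ≤ C) (h : RD A C n) :
    ∃ m l, RD A B m ∧ RD B C l ∧ m + l = n := by
  have h' := RD_chain hAB hBC
  obtain ⟨h1, h2⟩ := h'.1.mp h.2.1
  exact ⟨_, _, ⟨hAB, h1, rfl⟩, ⟨hBC, h2, rfl⟩, by rw [← h'.2 h.2.1, h.2.2]⟩

theorem RD_sup_inf {A B : Submodule k X} (C : Submodule k X) {n : ℕ} (h : RD A B n) :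
    ∃ m l, RD (A ⊓ C) (B ⊓ C) m ∧ RD (A ⊔ C) (B ⊔ C) l ∧ m + l = n := by
  obtain ⟨hAB, hfd, hn⟩ := h
  let f : Qt (A ⊓ C) (B ⊓ C) →ₗ[k] Qt A B :=
    Submodule.mapQ _ _ (Submodule.inclusion inf_le_left) (fun x hx => hx.1)
  let g : Qt A B →ₗ[k] Qt (A ⊔ C) (B ⊔ C) :=
    Submodule.mapQ _ _ (Submodule.inclusion le_sup_left) (fun x hx => Submodule.mem_sup_left hx)
  have hex := exact_dims f g (by
    rw [← LinearMap.ker_eq_bot, LinearMap.ker_eq_bot']
    intro m hm
    obtain ⟨m, rfl⟩ := Submodule.Quotient.mk_surjective _ m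
    rw [Submodule.mapQ_apply, Submodule.Quotient.mk_eq_zero] at hm
    rw [Submodule.Quotient.mk_eq_zero]
    exact ⟨hm, m.2.2⟩) (by
    intro z
    obtain ⟨⟨z, hz⟩, rfl⟩ := Submodule.Quotient.mk_surjective _ z
    obtain ⟨b, hb, c, hc, rfl⟩ := Submodule.mem_sup.mp hz
    refine ⟨Submodule.Quotient.mk ⟨b, hb⟩, ?_⟩
    rw [Submodule.mapQ_apply, Submodule.Quotient.eq]
    change b - (b + c) ∈ A ⊔ C
    rw [sub_add_cancel_left]
    exact Submodule.mem_sup_right (C.neg_mem hc)) (by
    ext z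
    constructor
    · rintro ⟨w, rfl⟩
      obtain ⟨w, rfl⟩ := Submodule.Quotient.mk_surjective _ w
      rw [LinearMap.mem_ker]
      change Submodule.Quotient.mk _ = 0
      rw [Submodule.Quotient.mk_eq_zero]
      exact Submodule.mem_sup_right w.2.2
    · intro hz
      obtain ⟨⟨z, hzB⟩, rfl⟩ := Submodule.Quotient.mk_surjective _ z
      rw [LinearMap.mem_ker] at hz
      change Submodule.Quotient.mk _ = 0 at hz
      rw [Submodule.Quotient.mk_eq_zero] at hz
      obtain ⟨a, ha, c, hc, hac⟩ := Submodule.mem_sup.mp hz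
      have hac : a + c = z := hac
      have hcB : c ∈ B := by
        have : c = z - a := by rw [← hac]; abel
        rw [this]; exact B.sub_mem hzB (hAB ha)
      refine ⟨Submodule.Quotient.mk ⟨c, hcB, hc⟩, ?_⟩
      rw [Submodule.mapQ_apply, Submodule.Quotient.eq]
      change c - z ∈ A
      have : c - z = -a := by rw [← hac]; abel
      rw [this]; exact A.neg_mem ha)
  obtain ⟨h1, h2⟩ := hex.1.mp hfd
  exact ⟨_, _, ⟨inf_le_inf_right _ hAB, h1, rfl⟩, ⟨sup_le_sup_right hAB _, h2, rfl⟩, by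
    rw [← hex.2 hfd, hn]⟩

/-- difference of dimensions for finite-dim'l subspaces. -/
theorem RD_finrank {A B : Submodule k X} {n : ℕ} (h : RD A B n) (hA : FiniteDimensional k A) :
    FiniteDimensional k B ∧ Module.finrank k B = Module.finrank k A + n := by
  have hA' : RD ⊥ A (Module.finrank k A) :=
    RD_of_map bot_le LinearMap.id (fun x => ⟨x, rfl⟩) (fun b => by simp)
  have h2 := RD_trans hA' h
  have e : Qt (⊥ : Submodule k X) B ≃ₗ[k] B :=
    Submodule.quotEquivOfEqBot _ (by ext b; simp)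
  have h3 := h2.2.1
  exact ⟨Module.Finite.equiv e, by rw [← e.finrank_eq, h2.2.2]⟩

end RD

end Groth.Agent.H16
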