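import Groth.Agent.Lib.H16_FunFldD

set_option autoImplicit false
open FunFld

namespace Groth.Agent.H16

variable {k K : Type*} [Field k] [Field K] [Algebra k K]

/-- elements with `ord_P + n ≥ 0` -/
def BP (P : Place k K) (n : ℤ) : Submodule k K where
  carrier := {x | P.1 x ≤ WithZero.exp n}
  add_mem' {x y} hx hy := (P.1.map_add x y).trans (max_le hx hy)
  zero_mem' := by simp
  smul_mem' c x hx := by
    change P.1 (c • x) ≤ _
    rw [Algebra.smul_def, map_mul]; exact (mul_le_mul' (P.2.1 c) hx).trans_eq (one_mul _)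

theorem mem_BP {P : Place k K} {n : ℤ} {x : K} : x ∈ BP P n ↔ P.1 x ≤ WithZero.exp n := Iff.rfl

theorem lt_exp_iff {v : WithZero (Multiplicative ℤ)} {n : ℤ} :
    v < WithZero.exp n ↔ v ≤ WithZero.exp (n - 1) := by
  by_cases h : v = 0
  · simp [h, zero_lt_iff]
  rw [← WithZero.log_lt_iff_lt_exp h, ← WithZero.log_le_iff_le_exp h]
  omega

theorem exists_val (P : Place k K) (n : ℤ) : ∃ t : K, t ≠ 0 ∧ P.1 t = WithZero.exp n := by
  obtain ⟨t, ht⟩ := P.2.2 (WithZero.exp n)
  refine ⟨t, ?_, ht⟩
  rintro rfl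
  rw [map_zero] at ht
  exact absurd ht.symm WithZero.exp_ne_zero

/-- local leading coefficient map -/
theorem exists_locMap (P : Place k K) (n : ℤ) :
    ∃ f : BP P n →ₗ[k] IsLocalRing.ResidueField P.O, Function.Surjective f ∧
      ∀ b : BP P n, f b = 0 ↔ (b : K) ∈ BP P (n - 1) := by
  obtain ⟨t, ht0, ht⟩ := exists_val P (-n)
  have key : ∀ z, P.1 z ≤ WithZero.exp n ↔ P.1 (t * z) ≤ 1 := by
    intro z
    rw [map_mul, ht, WithZero.exp_neg]
    constructor
    · intro h
      calc _ ≤ (WithZero.exp n)⁻¹ * WithZero.exp n := mul_le_mul' le_rfl h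
        _ = 1 := inv_mul_cancel₀ WithZero.exp_ne_zero
    · intro h
      calc P.1 z = WithZero.exp n * ((WithZero.exp n)⁻¹ * P.1 z) := by
            rw [mul_inv_cancel_left₀ WithZero.exp_ne_zero]
        _ ≤ WithZero.exp n * 1 := mul_le_mul' le_rfl h
        _ = _ := mul_one _
  have key2 : ∀ z, P.1 z < WithZero.exp n ↔ P.1 (t * z) < 1 := by
    intro z
    rw [← not_le, ← not_le, not_iff_not]
    rw [map_mul, ht, WithZero.exp_neg]
    constructor
    · intro h
      calc 1 = (WithZero.exp n)⁻¹ * WithZero.exp n := (inv_mul_cancel₀ WithZero.exp_ne_zero).symm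
        _ ≤ _ := mul_le_mul' le_rfl h
    · intro h
      calc WithZero.exp n = WithZero.exp n * 1 := (mul_one _).symm
        _ ≤ WithZero.exp n * ((WithZero.exp n)⁻¹ * P.1 z) := mul_le_mul' le_rfl h
        _ = P.1 z := mul_inv_cancel_left₀ WithZero.exp_ne_zero _
  let g : BP P n →ₗ[k] subO (k := k) P.O (fun c => P.2.1 c) :=
    { toFun := fun z => ⟨t * z, (key z).mp z.2⟩
      map_add' := fun a b => Subtype.ext (mul_add _ _ _)
      map_smul' := fun c a => Subtype.ext (mul_smul_comm c t (a : K)) }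
  refine ⟨(resLin P).comp g, ?_, ?_⟩
  · intro z
    obtain ⟨w, rfl⟩ := resLin_surj P z
    have h1 : P.1 (t⁻¹ * w) ≤ WithZero.exp n := by
      rw [key, mul_inv_cancel_left₀ ht0]; exact w.2
    refine ⟨⟨t⁻¹ * w, h1⟩, ?_⟩
    rw [LinearMap.comp_apply]
    congr 1
    exact Subtype.ext (mul_inv_cancel_left₀ ht0 _)
  · intro b
    rw [LinearMap.comp_apply, resLin_eq_zero]
    change P.1 (t * b) < 1 ↔ P.1 b ≤ _
    rw [← key2, lt_exp_iff]

theorem BP_mono (P : Place k K) {m n : ℤ} (h : m ≤ n) : BP P m ≤ BP P n :=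
  fun _ hx => le_trans hx (WithZero.exp_le_exp.mpr h)

theorem deg_pos (hK : IsFunctionField k K) (P : Place k K) : 0 < P.deg := by
  have := finite_residue hK P
  exact Module.finrank_pos

theorem RD_BP_step (hK : IsFunctionField k K) (P : Place k K) (n : ℤ) :
    RD (BP P (n - 1)) (BP P n) P.deg := by
  have := finite_residue hK P
  obtain ⟨f, hf, hk⟩ := exists_locMap P n
  exact RD_of_map (BP_mono P (by omega)) f hf hk

theorem RD_BP (hK : IsFunctionField k K) (P : Place k K) (n : ℤ) (m : ℕ) :
    RD (BP P (n - m)) (BP P n) (m * P.deg) := by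
  induction m with
  | zero => simpa using RD_refl (BP P n)
  | succ m ih =>
    have h1 := RD_BP_step hK P (n - m)
    have h2 := RD_trans h1 ih
    have e1 : n - (m : ℤ) - 1 = n - ((m + 1 : ℕ) : ℤ) := by push_cast; ring
    have e2 : P.deg + m * P.deg = (m + 1) * P.deg := by ring
    rw [e1, e2] at h2
    exact h2

theorem rank_bound_pi (hK : IsFunctionField k K) (y : K) (hy : Transcendental k y)
    (M : Submodule k K) (hM : ∀ m ∈ M, y * m ∈ M) {ι : Type*} [Fintype ι] (W : ι → Type*)
    [∀ i, AddCommGroup (W i)] [∀ i, Module k (W i)] [∀ i, FiniteDimensional k (W i)]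
    (φ : ∀ i, M →ₗ[k] W i) (hs : ∀ v : (∀ i, W i), ∃ m : M, ∀ i, φ i m = v i)
    (hφy : ∀ (m : K) (hm : m ∈ M) (i : ι), φ i ⟨y * m, hM m hm⟩ = 0) :
    ∑ i, Module.finrank k (W i) ≤ Module.finrank (IntermediateField.adjoin k ({y} : Set K)) K := by
  have h := (rank_bound (V := ∀ i, W i) hK y hy M hM (LinearMap.pi φ)
    (fun v => by obtain ⟨m, hm⟩ := hs v; exact ⟨m, funext hm⟩)
    (fun m hm => funext fun i => hφy m hm i)).2
  rwa [Module.finrank_pi_fintype] at h

theorem sum_le (hK : IsFunctionField k K) (y : K) (hy : Transcendental k y)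
    (S : Finset (Place k K)) (hS : ∀ P ∈ S, P.1 y < 1) :
    ∑ P ∈ S, (-(WithZero.log (P.1 y))).toNat * P.deg ≤
      Module.finrank (IntermediateField.adjoin k ({y} : Set K)) K := by
  classical
  have hy0 : y ≠ 0 := by rintro rfl; exact hy isAlgebraic_zero
  have hyP : ∀ P : Place k K, P.1 y ≠ 0 := fun P => by simpa using hy0
  set e : Place k K → ℕ := fun P => (-(WithZero.log (P.1 y))).toNat with he
  have hlog : ∀ P ∈ S, P.1 y = WithZero.exp (0 - (e P : ℤ)) := by
    intro P hP
    have h1 : WithZero.log (P.1 y) < 0 := by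
      rw [← WithZero.log_one]; exact (WithZero.log_lt_log (hyP P) one_ne_zero).mpr (hS P hP)
    have : (0 - (e P : ℤ)) = WithZero.log (P.1 y) := by rw [he]; simp only; omega
    rw [this, WithZero.exp_log (hyP P)]
  let M : Submodule k K := ⨅ P : S, BP (P : Place k K) 0
  have hMP : ∀ P : S, M ≤ BP (P : Place k K) 0 := fun P => iInf_le _ P
  have hM : ∀ m ∈ M, y * m ∈ M := by
    intro m hm
    rw [Submodule.mem_iInf]
    intro P
    change P.1.1 (y * m) ≤ _
    rw [map_mul]
    have := hMP P hm
    exact (mul_le_mul' (hS P P.2).le this).trans_eq (one_mul _)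
  have hfin : ∀ P : S, FiniteDimensional k (Qt (BP (P : Place k K) (0 - (e P : ℤ))) (BP (P : Place k K) 0)) :=
    fun P => (RD_BP hK P 0 (e P)).2.1
  have h := rank_bound_pi hK y hy M hM (fun P : S => Qt (BP (P : Place k K) (0 - (e P : ℤ))) (BP (P : Place k K) 0))
    (fun P => (Submodule.mkQ _).comp (Submodule.inclusion (hMP P))) (by
    intro v
    choose w hw using fun P : S => Submodule.Quotient.mk_surjective _ (v P)
    let x : Place k K → K := fun P => if h : P ∈ S then (w ⟨P, h⟩ : K) else 0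
    obtain ⟨z, hz⟩ := weak_approx S x (∑ P ∈ S, (e P : ℤ))
    have hz' : ∀ P : S, P.1.1 (z - w P) ≤ WithZero.exp (0 - (e P : ℤ)) := by
      intro P
      have h1 := hz P P.2
      have h2 : x P = w P := by simp only [x, P.2, dite_true]
      rw [h2] at h1
      refine h1.trans (WithZero.exp_le_exp.mpr ?_)
      have h3 : (e P : ℤ) ≤ ∑ P ∈ S, (e P : ℤ) :=
        Finset.single_le_sum (f := fun P : Place k K => (e P : ℤ)) (fun _ _ => by positivity) P.2
      omega
    have hzM : z ∈ M := by
      rw [Submodule.mem_iInf]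
      intro P
      have h1 : z = (z - w P) + w P := by ring
      rw [h1]
      exact (BP P.1 0).add_mem (BP_mono P.1 (by omega) (hz' P)) (w P).2
    refine ⟨⟨z, hzM⟩, ?_⟩
    intro P
    rw [← hw P]
    change Submodule.Quotient.mk _ = _
    rw [Submodule.Quotient.eq]
    exact hz' P) (by
    intro m hm P
    change Submodule.Quotient.mk _ = 0
    rw [Submodule.Quotient.mk_eq_zero]
    change P.1.1 (y * m) ≤ _
    rw [map_mul, hlog P P.2]
    have := hMP P hm
    exact (mul_le_mul' le_rfl this).trans_eq (mul_one _))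
  have h2 : ∑ P : S, Module.finrank k (Qt (BP (P : Place k K) (0 - (e P : ℤ))) (BP (P : Place k K) 0)) = ∑ P ∈ S, (-(WithZero.log (P.1 y))).toNat * P.deg := by
    rw [← Finset.sum_coe_sort S]
    apply Finset.sum_congr rfl
    intro P _
    exact (RD_BP hK P 0 (e P)).2.2
  rw [← h2]; exact h

theorem finite_zeros (hK : IsFunctionField k K) (y : K) (hy : Transcendental k y) :
    {P : Place k K | P.1 y < 1}.Finite := by
  by_contra hinf
  have hinf : {P : Place k K | P.1 y < 1}.Infinite := hinf
  obtain ⟨S, hS, hc⟩ := hinf.exists_subset_card_eq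
    (Module.finrank (IntermediateField.adjoin k ({y} : Set K)) K + 1)
  have h1 := sum_le hK y hy S (fun P hP => hS hP)
  have hy0 : y ≠ 0 := by rintro rfl; exact hy isAlgebraic_zero
  have h2 : ∑ P ∈ S, 1 ≤ ∑ P ∈ S, (-(WithZero.log (P.1 y))).toNat * P.deg := by
    apply Finset.sum_le_sum
    intro P hP
    have h3 := deg_pos hK P
    have h4 : WithZero.log (P.1 y) < 0 := by
      rw [← WithZero.log_one]; exact (WithZero.log_lt_log (by simpa using hy0) one_ne_zero).mpr (hS hP)
    exact Nat.mul_pos (by omega) h3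
  simp at h2
  omega

theorem log_val_alg (P : Place k K) (c : k) : P.ord (algebraMap k K c) = 0 := by
  by_cases hc : c = 0
  · simp [hc, Place.ord]
  · simp [Place.ord, val_const P hc]

theorem finite_support (hK : IsFunctionField k K) (x : K) :
    (Function.support fun P : Place k K => P.ord x).Finite := by
  by_cases hx : IsAlgebraic k x
  · obtain ⟨c, rfl⟩ := hK.2 x hx
    have : (Function.support fun P : Place k K => P.ord (algebraMap k K c)) = ∅ := by
      ext P; simp [log_val_alg]
    rw [this]; exact Set.finite_empty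
  · have hx0 : x ≠ 0 := by rintro rfl; exact hx isAlgebraic_zero
    have hxi : Transcendental k x⁻¹ := by
      intro h; apply hx; have := h.inv; rwa [inv_inv] at this
    refine ((finite_zeros hK x hx).union (finite_zeros hK x⁻¹ hxi)).subset ?_
    intro P hP
    have hP : P.ord x ≠ 0 := hP
    have h0 : P.1 x ≠ 0 := by simpa using hx0
    have h1 : P.1 x ≠ 1 := by intro h; apply hP; simp [Place.ord, h]
    rcases lt_or_gt_of_ne h1 with h | h
    · exact Or.inl h
    · right
      change P.1 x⁻¹ < 1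
      rw [map_inv₀]
      exact inv_lt_one_of_one_lt₀ h

theorem div_apply (hK : IsFunctionField k K) (x : K) (P : Place k K) : div k x P = P.ord x := by
  unfold FunFld.div
  rw [dif_pos (finite_support hK x)]
  rfl

end Groth.Agent.H16
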