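import Groth.Agent.Lib.H16_FunFldE

set_option autoImplicit false
open FunFld

namespace Groth.Agent.H16

variable {k K : Type*} [Field k] [Field K] [Algebra k K]

theorem deg_add (D E : Divisor k K) : (D + E).deg = D.deg + E.deg :=
  Finsupp.sum_add_index' (by simp) (by intros; ring)

theorem deg_zero : (0 : Divisor k K).deg = 0 := by simp [Divisor.deg]

theorem deg_single (P : Place k K) (n : ℤ) :
    Divisor.deg (Finsupp.single P n) = n * (P.deg : ℤ) :=
  Finsupp.sum_single_index (by simp)

theorem deg_neg (D : Divisor k K) : (-D).deg = - D.deg := by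
  have := deg_add D (-D)
  rw [add_neg_cancel, deg_zero] at this
  omega

theorem deg_sub (D E : Divisor k K) : (D - E).deg = D.deg - E.deg := by
  rw [sub_eq_add_neg, deg_add, deg_neg]; ring

theorem deg_nonneg {D : Divisor k K} (h : 0 ≤ D) : 0 ≤ D.deg := by
  apply Finset.sum_nonneg
  intro P _
  exact mul_nonneg (h P) (by positivity)

theorem deg_mono {D E : Divisor k K} (h : D ≤ E) : D.deg ≤ E.deg := by
  have : 0 ≤ E - D := sub_nonneg.mpr h
  have h1 := deg_nonneg this
  rw [deg_sub] at h1; omega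

theorem deg_nsmul (n : ℕ) (D : Divisor k K) : (n • D).deg = n * D.deg := by
  induction n with
  | zero => simp [deg_zero]
  | succ n ih => rw [succ_nsmul, deg_add, ih]; push_cast; ring

theorem mem_AD {D : Divisor k K} {a : Place k K → K} :
    a ∈ AD D ↔ ∀ P, P.1 (a P) ≤ WithZero.exp (D P) := Iff.rfl

theorem mem_L {D : Divisor k K} {a : K} :
    a ∈ L D ↔ ∀ P : Place k K, P.1 a ≤ WithZero.exp (D P) := Iff.rfl

theorem AD_mono {D E : Divisor k K} (h : D ≤ E) : AD D ≤ AD E :=
  fun _ ha P => (ha P).trans (WithZero.exp_le_exp.mpr (h P))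

theorem L_mono {D E : Divisor k K} (h : D ≤ E) : L D ≤ L E :=
  fun _ ha P => (ha P).trans (WithZero.exp_le_exp.mpr (h P))

theorem RD_AD_step (hK : IsFunctionField k K) (D : Divisor k K) (P : Place k K) :
    RD (AD D) (AD (D + Finsupp.single P 1)) P.deg := by
  classical
  have := finite_residue hK P
  obtain ⟨f, hf, hk⟩ := exists_locMap P (D P + 1)
  let g : AD (D + Finsupp.single P 1) →ₗ[k] BP P (D P + 1) :=
    { toFun := fun a => ⟨a.1 P, by
        have := a.2 P
        rw [Finsupp.add_apply, Finsupp.single_eq_same] at this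
        exact this⟩
      map_add' := fun _ _ => rfl
      map_smul' := fun _ _ => rfl }
  have hle : D ≤ D + Finsupp.single P 1 := by
    have : (0 : Divisor k K) ≤ Finsupp.single P 1 := Finsupp.single_nonneg.mpr zero_le_one
    exact le_add_of_nonneg_right this
  refine RD_of_map (AD_mono hle) (f.comp g) ?_ ?_
  · intro z
    obtain ⟨w, rfl⟩ := hf z
    refine ⟨⟨Function.update 0 P (w : K), ?_⟩, ?_⟩
    · intro Q
      by_cases hQ : Q = P
      · subst hQ
        rw [Function.update_self, Finsupp.add_apply, Finsupp.single_eq_same]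
        exact w.2
      · rw [Function.update_of_ne hQ]; simp
    · rw [LinearMap.comp_apply]
      congr 1
      refine Subtype.ext ?_
      change Function.update (0 : Place k K → K) P (w : K) P = w
      rw [Function.update_self]
  · intro b
    rw [LinearMap.comp_apply, hk, add_sub_cancel_right]
    constructor
    · intro h Q
      by_cases hQ : Q = P
      · subst hQ; exact h
      · have := b.2 Q
        rw [Finsupp.add_apply, Finsupp.single_eq_of_ne hQ, add_zero] at this
        exact this
    · intro h; exact h P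

theorem RD_AD_aux (hK : IsFunctionField k K) (n : ℕ) : ∀ E : Divisor k K, 0 ≤ E →
    (E.sum fun _ m => m) = (n : ℤ) → ∀ D, RD (AD D) (AD (D + E)) E.deg.toNat := by
  induction n with
  | zero =>
    intro E hE hs D
    have : E = 0 := by
      ext P
      by_contra hP
      have hP' : 0 < E P := lt_of_le_of_ne (hE P) (Ne.symm hP)
      have h1 : E P ≤ E.sum fun _ m => m :=
        Finset.single_le_sum (f := fun P => E P) (fun Q _ => hE Q) (Finsupp.mem_support_iff.mpr hP)
      simp at hs; omega
    rw [this, add_zero, deg_zero]; exact RD_refl _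
  | succ n ih =>
    intro E hE hs D
    obtain ⟨P, hP⟩ : ∃ P, E P ≠ 0 := by
      by_contra h; push Not at h
      have : E = 0 := by ext P; exact h P
      rw [this] at hs; simp at hs; omega
    have hP1 : 1 ≤ E P := by have := hE P; simp at this; omega
    have hE' : 0 ≤ E - Finsupp.single P 1 := by
      intro Q
      by_cases hQ : Q = P
      · subst hQ; simp; exact hP1
      · rw [Finsupp.sub_apply, Finsupp.single_eq_of_ne hQ, sub_zero]; exact hE Q
    have hs' : ((E - Finsupp.single P 1).sum fun _ m => m) = (n : ℤ) := by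
      have h1 : (((E - Finsupp.single P 1) + Finsupp.single P 1).sum fun _ m => m) =
        ((E - Finsupp.single P 1).sum fun _ m => m) + ((Finsupp.single P 1 : Divisor k K).sum fun _ m => m) :=
        Finsupp.sum_add_index' (by simp) (by intros; rfl)
      rw [sub_add_cancel, Finsupp.sum_single_index rfl] at h1
      push_cast at hs
      omega
    have h1 := ih _ hE' hs' D
    have h2 := RD_AD_step hK (D + (E - Finsupp.single P 1)) P
    rw [add_assoc, sub_add_cancel] at h2
    have h3 := RD_trans h1 h2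
    have h4 : (E - Finsupp.single P 1).deg.toNat + P.deg = E.deg.toNat := by
      have h5 := deg_nonneg hE'
      have h6 := deg_nonneg hE
      rw [deg_sub, deg_single] at h5 ⊢
      omega
    rwa [h4] at h3

theorem RD_AD (hK : IsFunctionField k K) {D₁ D₂ : Divisor k K} (h : D₁ ≤ D₂) :
    RD (AD D₁) (AD D₂) (D₂.deg - D₁.deg).toNat := by
  have hE : 0 ≤ D₂ - D₁ := sub_nonneg.mpr h
  have hs : 0 ≤ ((D₂ - D₁).sum fun _ m => m) := Finset.sum_nonneg fun P _ => hE P
  have := RD_AD_aux hK ((D₂ - D₁).sum fun _ m => m).toNat (D₂ - D₁) hE (by rw [Int.toNat_of_nonneg hs]) D₁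
  rwa [add_sub_cancel, deg_sub] at this

section
variable {X Y : Type*} [AddCommGroup X] [Module k X] [AddCommGroup Y] [Module k Y]

theorem RD_comap (i : Y →ₗ[k] X) (hi : Function.Injective i) {A B : Submodule k X} {m : ℕ}
    (h : RD (A ⊓ LinearMap.range i) (B ⊓ LinearMap.range i) m) : RD (A.comap i) (B.comap i) m := by
  have hfd := h.2.1
  have hAB : A.comap i ≤ B.comap i := by
    intro y hy
    exact (h.1 ⟨hy, ⟨y, rfl⟩⟩).1
  let g : B.comap i →ₗ[k] (B ⊓ LinearMap.range i : Submodule k X) :=
    { toFun := fun y => ⟨i y, y.2, ⟨y, rfl⟩⟩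
      map_add' := fun _ _ => Subtype.ext (map_add _ _ _)
      map_smul' := fun _ _ => Subtype.ext (map_smul _ _ _) }
  have := RD_of_map hAB (V := Qt (A ⊓ LinearMap.range i) (B ⊓ LinearMap.range i))
    ((Submodule.mkQ _).comp g) (by
      intro z
      obtain ⟨⟨z, hz, y, rfl⟩, rfl⟩ := Submodule.Quotient.mk_surjective _ z
      exact ⟨⟨y, hz⟩, rfl⟩) (by
      intro b
      rw [LinearMap.comp_apply, Submodule.mkQ_apply, Submodule.Quotient.mk_eq_zero]
      change (i b ∈ A ⊓ LinearMap.range i) ↔ i b ∈ A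
      exact ⟨fun h => h.1, fun h => ⟨h, ⟨b, rfl⟩⟩⟩)
  rwa [h.2.2] at this
end

theorem exists_trans (hK : IsFunctionField k K) : ∃ x : K, Transcendental k x := by
  obtain ⟨⟨x, hx, _⟩, _⟩ := hK; exact ⟨x, hx⟩

theorem nonempty_place (hK : IsFunctionField k K) : Nonempty (Place k K) := by
  obtain ⟨x, hx⟩ := exists_trans hK
  exact ⟨(exists_zero hK hx).choose⟩

theorem diag_inj (hK : IsFunctionField k K) : Function.Injective (diag k K) := by
  obtain ⟨P⟩ := nonempty_place hK
  intro x y h
  exact congrFun h P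

theorem L_eq_comap (D : Divisor k K) : L D = (AD D).comap (diag k K) := rfl

/-- main relation between `L` and `AD`. -/
theorem RD_L (hK : IsFunctionField k K) {D₁ D₂ : Divisor k K} (h : D₁ ≤ D₂) :
    ∃ m l : ℕ, RD (L D₁) (L D₂) m ∧
      RD (AD D₁ ⊔ LinearMap.range (diag k K)) (AD D₂ ⊔ LinearMap.range (diag k K)) l ∧
      (m : ℤ) + l = D₂.deg - D₁.deg := by
  obtain ⟨m, l, h1, h2, h3⟩ := RD_sup_inf (LinearMap.range (diag k K)) (RD_AD hK h)
  refine ⟨m, l, RD_comap _ (diag_inj hK) h1, h2, ?_⟩
  have := deg_mono h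
  omega

theorem L_zero_eq (hK : IsFunctionField k K) : L (0 : Divisor k K) = 1 := by
  ext x
  rw [Submodule.mem_one]
  constructor
  · intro hx
    by_contra hc
    have ht : Transcendental k x := trans_iff hK hc
    have hxi : Transcendental k x⁻¹ := by
      intro h; apply ht; have := h.inv; rwa [inv_inv] at this
    obtain ⟨P, hP⟩ := exists_zero hK hxi
    have h1 : P.1 x ≤ 1 := by simpa using hx P
    rw [map_inv₀] at hP
    have hx0 : x ≠ 0 := by rintro rfl; exact ht isAlgebraic_zero
    have h0 : P.1 x ≠ 0 := by simpa using hx0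
    exact absurd h1 (not_le.mpr ((inv_lt_one₀ (zero_lt_iff.mpr h0)).mp hP))
  · rintro ⟨c, rfl⟩ P
    simpa using P.2.1 c

theorem finite_L0 (hK : IsFunctionField k K) :
    FiniteDimensional k (L (0 : Divisor k K)) ∧ Module.finrank k (L (0 : Divisor k K)) = 1 := by
  rw [L_zero_eq hK, Submodule.one_eq_span]
  exact ⟨inferInstance, finrank_span_singleton one_ne_zero⟩

theorem finite_L (hK : IsFunctionField k K) (D : Divisor k K) : FiniteDimensional k (L D) := by
  have h1 : (0 : Divisor k K) ≤ D ⊔ 0 := le_sup_right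
  obtain ⟨m, l, h2, h3, h4⟩ := RD_L hK h1
  have h5 := (RD_finrank h2 (finite_L0 hK).1).1
  exact Submodule.finiteDimensional_of_le (L_mono (le_sup_left : D ≤ D ⊔ 0))

theorem ell_rel (hK : IsFunctionField k K) {D₁ D₂ : Divisor k K} (h : D₁ ≤ D₂) :
    ∃ m l : ℕ, ell D₂ = ell D₁ + m ∧ RD (L D₁) (L D₂) m ∧
      RD (AD D₁ ⊔ LinearMap.range (diag k K)) (AD D₂ ⊔ LinearMap.range (diag k K)) l ∧
      (m : ℤ) + l = D₂.deg - D₁.deg := by
  obtain ⟨m, l, h1, h2, h3⟩ := RD_L hK h
  exact ⟨m, l, (RD_finrank h1 (finite_L hK D₁)).2, h1, h2, h3⟩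

theorem ell_le (hK : IsFunctionField k K) {D₁ D₂ : Divisor k K} (h : D₁ ≤ D₂) :
    (ell D₂ : ℤ) - ell D₁ ≤ D₂.deg - D₁.deg := by
  obtain ⟨m, l, h1, _, _, h2⟩ := ell_rel hK h
  omega

theorem ell_zero (hK : IsFunctionField k K) : ell (0 : Divisor k K) = 1 := (finite_L0 hK).2

theorem ell_le_deg (hK : IsFunctionField k K) {D : Divisor k K} (h : 0 ≤ D) :
    (ell D : ℤ) ≤ D.deg + 1 := by
  have := ell_le hK h
  rw [ell_zero hK, deg_zero] at this
  push_cast at this; omega

end Groth.Agent.H16
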