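import Groth.Agent.Lib.H16_FunFldF

set_option autoImplicit false
open FunFld

namespace Groth.Agent.H16

variable {k K : Type*} [Field k] [Field K] [Algebra k K]

theorem adjoin_inv (x : K) : IntermediateField.adjoin k ({x⁻¹} : Set K) = IntermediateField.adjoin k ({x} : Set K) := by
  apply le_antisymm
  · rw [IntermediateField.adjoin_simple_le_iff]
    exact inv_mem (IntermediateField.mem_adjoin_simple_self k x)
  · rw [IntermediateField.adjoin_simple_le_iff]
    have := inv_mem (IntermediateField.mem_adjoin_simple_self k x⁻¹)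
    rwa [inv_inv] at this

theorem trans_inv {x : K} (hx : Transcendental k x) : Transcendental k x⁻¹ := by
  intro h; apply hx; have := h.inv; rwa [inv_inv] at this

theorem trans_ne_zero {x : K} (hx : Transcendental k x) : x ≠ 0 := by
  rintro rfl; exact hx isAlgebraic_zero

theorem finite_poles (hK : IsFunctionField k K) (x : K) :
    (Function.support fun P : Place k K => max (WithZero.log (P.1 x)) 0).Finite := by
  refine (finite_support hK x).subset ?_
  intro P hP h
  apply hP
  have h' : -(WithZero.log (P.1 x)) = 0 := h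
  have : WithZero.log (P.1 x) = 0 := by omega
  simp [this]

/-- pole divisor -/
noncomputable def poleDiv (hK : IsFunctionField k K) (x : K) : Divisor k K :=
  Finsupp.ofSupportFinite _ (finite_poles hK x)

theorem poleDiv_apply (hK : IsFunctionField k K) (x : K) (P : Place k K) :
    poleDiv hK x P = max (WithZero.log (P.1 x)) 0 := rfl

theorem poleDiv_nonneg (hK : IsFunctionField k K) (x : K) : 0 ≤ poleDiv hK x := by
  intro P; rw [poleDiv_apply]; exact le_max_right _ _

theorem mem_L_poleDiv (hK : IsFunctionField k K) (x : K) : x ∈ L (poleDiv hK x) := by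
  intro P
  rw [poleDiv_apply]
  exact WithZero.le_exp_log.trans (WithZero.exp_le_exp.mpr (le_max_left _ _))

theorem div_eq_sub (hK : IsFunctionField k K) (x : K) :
    div k x = poleDiv hK x⁻¹ - poleDiv hK x := by
  ext P
  rw [div_apply hK, Finsupp.sub_apply, poleDiv_apply, poleDiv_apply, map_inv₀, WithZero.log_inv,
    Place.ord]
  omega

theorem mul_mem_L {D E : Divisor k K} {x y : K} (hx : x ∈ L D) (hy : y ∈ L E) : x * y ∈ L (D + E) := by
  intro P
  rw [map_mul, Finsupp.add_apply, WithZero.exp_add]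
  exact mul_le_mul' (hx P) (hy P)

theorem one_mem_L0 : (1 : K) ∈ L (0 : Divisor k K) := by intro P; simp

theorem pow_mem_L {D : Divisor k K} {x : K} (hx : x ∈ L D) (n : ℕ) : x ^ n ∈ L (n • D) := by
  induction n with
  | zero => simpa using one_mem_L0
  | succ n ih => rw [pow_succ, succ_nsmul]; exact mul_mem_L ih hx

theorem nsmul_nonneg' {D : Divisor k K} (h : 0 ≤ D) (n : ℕ) : 0 ≤ n • D := nsmul_nonneg h n

/-- `n (r+1) ≤ ℓ(rB + C)` -/
theorem exists_C (hK : IsFunctionField k K) (x : K) (hx : Transcendental k x) :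
    ∃ C : Divisor k K, 0 ≤ C ∧ ∀ r : ℕ,
      Module.finrank (IntermediateField.adjoin k ({x} : Set K)) K * (r + 1) ≤ ell (r • poleDiv hK x + C) := by
  have hfd := fd_adjoin hK hx
  set F := IntermediateField.adjoin k ({x} : Set K) with hF
  set n := Module.finrank F K with hn
  let u := Module.finBasis F K
  let C : Divisor k K := ∑ i : Fin n, poleDiv hK (u i)
  have hC : 0 ≤ C := Finset.sum_nonneg fun i _ => poleDiv_nonneg hK _
  refine ⟨C, hC, fun r => ?_⟩
  have hui : ∀ i, u i ∈ L C := fun i =>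
    L_mono (Finset.single_le_sum (f := fun i : Fin n => poleDiv hK (u i)) (fun i _ => poleDiv_nonneg hK _) (Finset.mem_univ i))
      (mem_L_poleDiv hK (u i))
  let xF : F := ⟨x, IntermediateField.mem_adjoin_simple_self k x⟩
  have hxF : Transcendental k xF := by
    intro h
    apply hx
    have := h.algebraMap (A := K)
    exact this
  have hpow : LinearIndependent k (fun j : Fin (r+1) => xF ^ (j : ℕ)) := by
    rw [Fintype.linearIndependent_iff]
    intro g hg
    have h2 : Polynomial.aeval xF (∑ j : Fin (r+1), Polynomial.monomial (j : ℕ) (g j)) = 0 := by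
      rw [map_sum, ← hg]
      apply Finset.sum_congr rfl
      intro j _
      rw [Polynomial.aeval_monomial, Algebra.smul_def]
    have h3 : (∑ j : Fin (r+1), Polynomial.monomial (j : ℕ) (g j)) = 0 := by
      by_contra hne
      exact hxF ⟨_, hne, h2⟩
    intro i
    have h4 := congrArg (fun q => Polynomial.coeff q (i : ℕ)) h3
    simp only [Polynomial.finset_sum_coeff, Polynomial.coeff_monomial, Polynomial.coeff_zero] at h4
    rw [Finset.sum_eq_single i] at h4
    · simpa using h4
    · intro b _ hb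
      rw [if_neg]
      intro h; exact hb (Fin.val_injective h)
    · simp
  have hli : LinearIndependent k fun p : Fin (r+1) × Fin n => (xF ^ (p.1 : ℕ)) • u p.2 :=
    linearIndependent_smul hpow u.linearIndependent
  have hmem : ∀ p : Fin (r+1) × Fin n, (xF ^ (p.1 : ℕ)) • u p.2 ∈ L (r • poleDiv hK x + C) := by
    intro p
    have h1 : (xF ^ (p.1 : ℕ)) • u p.2 = x ^ (p.1 : ℕ) * u p.2 := rfl
    rw [h1]
    apply mul_mem_L _ (hui _)
    refine L_mono ?_ (pow_mem_L (mem_L_poleDiv hK x) _)
    exact nsmul_le_nsmul_left (poleDiv_nonneg hK x) (by omega)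
  have hli2 : LinearIndependent k fun p : Fin (r+1) × Fin n =>
      (⟨_, hmem p⟩ : L (r • poleDiv hK x + C)) := by
    apply LinearIndependent.of_comp (L (r • poleDiv hK x + C)).subtype
    exact hli
  have hfL := finite_L hK (r • poleDiv hK x + C)
  have := hli2.fintype_card_le_finrank
  simp only [Fintype.card_prod, Fintype.card_fin] at this
  rw [mul_comm]
  exact this

theorem deg_poleDiv_ge (hK : IsFunctionField k K) (x : K) (hx : Transcendental k x) :
    (Module.finrank (IntermediateField.adjoin k ({x} : Set K)) K : ℤ) ≤ (poleDiv hK x).deg := by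
  obtain ⟨C, hC, h⟩ := exists_C hK x hx
  by_contra hlt
  rw [not_le] at hlt
  have h1 := h (C.deg.toNat + 1)
  have hCd := deg_nonneg hC
  have h2 := ell_le_deg hK (D := (C.deg.toNat + 1) • poleDiv hK x + C)
    (add_nonneg (nsmul_nonneg' (poleDiv_nonneg hK x) _) hC)
  rw [deg_add, deg_nsmul] at h2
  set n := Module.finrank (IntermediateField.adjoin k ({x} : Set K)) K
  set d := (poleDiv hK x).deg
  have hd : 0 ≤ d := deg_nonneg (poleDiv_nonneg hK x)
  have h3 : (n : ℤ) * ((C.deg.toNat + 1 : ℕ) + 1) ≤ ((C.deg.toNat + 1 : ℕ) : ℤ) * d + C.deg + 1 := by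
    refine le_trans ?_ h2
    exact_mod_cast h1
  have h4 : ((C.deg.toNat + 1 : ℕ) : ℤ) = C.deg + 1 := by omega
  rw [h4] at h3
  nlinarith

theorem deg_poleDiv_inv_le (hK : IsFunctionField k K) (x : K) (hx : Transcendental k x) :
    (poleDiv hK x⁻¹).deg ≤ Module.finrank (IntermediateField.adjoin k ({x} : Set K)) K := by
  have h := sum_le hK x hx (poleDiv hK x⁻¹).support (by
    intro P hP
    rw [Finsupp.mem_support_iff, poleDiv_apply, map_inv₀, WithZero.log_inv] at hP
    have h0 : P.1 x ≠ 0 := by simpa using trans_ne_zero hx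
    have : WithZero.log (P.1 x) < 0 := by
      by_contra hc; apply hP; omega
    rw [← WithZero.log_one] at this
    exact (WithZero.log_lt_log h0 one_ne_zero).mp this)
  refine le_trans (le_of_eq ?_) (Int.ofNat_le.mpr h)
  change ∑ P ∈ (poleDiv hK x⁻¹).support, poleDiv hK x⁻¹ P * (P.deg : ℤ) = _
  push_cast
  apply Finset.sum_congr rfl
  intro P hP
  rw [poleDiv_apply, map_inv₀, WithZero.log_inv]
  congr 1
  omega

theorem deg_poleDiv (hK : IsFunctionField k K) (x : K) (hx : Transcendental k x) :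
    (poleDiv hK x).deg = Module.finrank (IntermediateField.adjoin k ({x} : Set K)) K := by
  apply le_antisymm _ (deg_poleDiv_ge hK x hx)
  have := deg_poleDiv_inv_le hK x⁻¹ (trans_inv hx)
  rwa [inv_inv, adjoin_inv] at this

theorem div_const (hK : IsFunctionField k K) (c : k) : div k (algebraMap k K c) = 0 := by
  ext P
  rw [div_apply hK, log_val_alg]; rfl

theorem deg_div (hK : IsFunctionField k K) (x : K) : (div k x).deg = 0 := by
  by_cases hx : IsAlgebraic k x
  · obtain ⟨c, rfl⟩ := hK.2 x hx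
    rw [div_const hK, deg_zero]
  · rw [div_eq_sub hK, deg_sub, deg_poleDiv hK x hx, deg_poleDiv hK _ (trans_inv hx), adjoin_inv]
    ring

theorem val_eq_exp_div (hK : IsFunctionField k K) {x : K} (hx : x ≠ 0) (P : Place k K) :
    P.1 x = WithZero.exp (-(div k x P)) := by
  rw [div_apply hK, Place.ord, neg_neg, WithZero.exp_log (by simpa using hx)]

theorem mul_mem_L_iff (hK : IsFunctionField k K) (D : Divisor k K) {x : K} (y : K) (hx : x ≠ 0) :
    x * y ∈ L D ↔ y ∈ L (D + div k x) := by
  rw [mem_L, mem_L]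
  apply forall_congr'
  intro P
  rw [map_mul, val_eq_exp_div hK hx P, Finsupp.add_apply, WithZero.exp_add, WithZero.exp_neg]
  have h0 : (WithZero.exp (div k x P)) ≠ (0 : WithZero (Multiplicative ℤ)) := WithZero.exp_ne_zero
  constructor
  · intro h
    calc P.1 y = ((WithZero.exp (div k x P))⁻¹ * P.1 y) * WithZero.exp (div k x P) := by
          rw [mul_comm _ (P.1 y), inv_mul_cancel_right₀ h0]
      _ ≤ _ := mul_le_mul' h le_rfl
  · intro h
    calc (WithZero.exp (div k x P))⁻¹ * P.1 y ≤ (WithZero.exp (div k x P))⁻¹ * (WithZero.exp (D P) * WithZero.exp (div k x P)) := mul_le_mul' le_rfl h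
      _ = _ := by rw [mul_comm, mul_inv_cancel_right₀ h0]

/-- multiplication by `x` as an equivalence of `K`. -/
noncomputable def mulEquiv {x : K} (hx : x ≠ 0) : K ≃ₗ[k] K :=
  LinearEquiv.ofLinear (LinearMap.mulLeft k x) (LinearMap.mulLeft k x⁻¹)
    (by ext y; simp [hx]) (by ext y; simp [hx])

theorem L_linEquiv (hK : IsFunctionField k K) (D : Divisor k K) {x : K} (hx : x ≠ 0) :
    ell (D + div k x) = ell D := by
  have h : (L D).comap (mulEquiv (k := k) hx : K →ₗ[k] K) = L (D + div k x) := by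
    ext y; exact mul_mem_L_iff hK D y hx
  unfold ell
  rw [← h]
  have e : ((L D).comap (mulEquiv (k := k) hx : K →ₗ[k] K)) ≃ₗ[k] L D :=
    (mulEquiv (k := k) hx).submoduleMap _ |>.trans (LinearEquiv.ofEq _ _ (by
      rw [Submodule.map_comap_eq]; simp))
  exact e.finrank_eq

theorem L_eq_bot_of_neg (hK : IsFunctionField k K) (D : Divisor k K) (h : D.deg < 0) : L D = ⊥ := by
  rw [Submodule.eq_bot_iff]
  intro x hx
  by_contra hx0
  have h1 : 0 ≤ D + div k x := by
    intro P
    have := hx P
    rw [val_eq_exp_div hK hx0 P, WithZero.exp_le_exp] at this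
    simp; omega
  have h2 := deg_nonneg h1
  rw [deg_add, deg_div hK] at h2
  omega

theorem exists_of_ell_pos (hK : IsFunctionField k K) (D : Divisor k K) (h : 0 < ell D) :
    ∃ x : K, x ≠ 0 ∧ x ∈ L D ∧ 0 ≤ D + div k x := by
  have hne : L D ≠ ⊥ := by
    intro h0
    unfold ell at h
    rw [h0, finrank_bot] at h
    omega
  obtain ⟨x, hxL, hx0⟩ := Submodule.exists_mem_ne_zero_of_ne_bot hne
  refine ⟨x, hx0, hxL, ?_⟩
  intro P
  have := hxL P
  rw [val_eq_exp_div hK hx0 P, WithZero.exp_le_exp] at this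
  simp; omega

/-- the defect is bounded -/
theorem exists_gamma (hK : IsFunctionField k K) : ∃ γ : ℤ, ∀ A : Divisor k K, A.deg - (ell A : ℤ) ≤ γ := by
  obtain ⟨x, hx⟩ := exists_trans hK
  obtain ⟨C, hC, h⟩ := exists_C hK x hx
  set B := poleDiv hK x with hB
  have hBd := deg_poleDiv hK x hx
  set n := Module.finrank (IntermediateField.adjoin k ({x} : Set K)) K with hn
  have hB0 : 0 ≤ B := poleDiv_nonneg hK x
  have hfd := fd_adjoin hK hx
  have hn0 : 0 < n := Module.finrank_pos
  have hr : ∀ r : ℕ, (r • B).deg - (ell (r • B) : ℤ) ≤ C.deg - n := by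
    intro r
    have h1 := ell_le hK (D₁ := r • B) (D₂ := r • B + C) (le_add_of_nonneg_right hC)
    have h2 := h r
    have h2' : (n : ℤ) * (r + 1) ≤ ell (r • B + C) := by exact_mod_cast h2
    rw [deg_add] at h1
    rw [deg_nsmul, hBd] at h1 ⊢
    nlinarith
  refine ⟨C.deg - n, fun A => ?_⟩
  set A1 := A ⊔ 0 with hA1
  have hA1n : 0 ≤ A1 := le_sup_right
  have hAA1 : A ≤ A1 := le_sup_left
  have hA1d := deg_nonneg hA1n
  obtain ⟨r, hr2⟩ : ∃ r : ℕ, C.deg - n + A1.deg < r := ⟨(C.deg - n + A1.deg).toNat + 1, by omega⟩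
  have h3 := ell_le hK (D₁ := r • B - A1) (D₂ := r • B) (by simpa using hA1n)
  rw [deg_sub] at h3
  have h4 := hr r
  have h5 : 0 < ell (r • B - A1) := by
    have : (r : ℤ) ≤ (r • B).deg := by
      rw [deg_nsmul, hBd]; nlinarith
    omega
  obtain ⟨z, hz0, _, hz⟩ := exists_of_ell_pos hK _ h5
  have h6 : A ≤ r • B + div k z := by
    intro P
    have h7 := hz P
    have h8 := hAA1 P
    simp at h7 h8 ⊢
    omega
  have h7 := ell_le hK h6
  rw [L_linEquiv hK _ hz0, deg_add, deg_div hK] at h7
  omega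

theorem genus_spec (hK : IsFunctionField k K) :
    (∀ D : Divisor k K, D.deg + 1 - (ell D : ℤ) ≤ genus k K) ∧
    ∃ D : Divisor k K, D.deg + 1 - (ell D : ℤ) = genus k K := by
  obtain ⟨γ, hγ⟩ := exists_gamma hK
  have hbdd : BddAbove (Set.range fun D : Divisor k K => (D.deg + 1 - (ell D : ℤ)).toNat) := by
    refine ⟨(γ + 1).toNat, ?_⟩
    rintro _ ⟨D, rfl⟩
    have := hγ D
    simp only
    omega
  have hne : (Set.range fun D : Divisor k K => (D.deg + 1 - (ell D : ℤ)).toNat).Nonempty :=
    Set.range_nonempty _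
  constructor
  · intro D
    have := le_csSup hbdd ⟨D, rfl⟩
    change _ ≤ genus k K at this
    simp only at this
    omega
  · obtain ⟨D, hD⟩ := Nat.sSup_mem hne hbdd
    change (D.deg + 1 - (ell D : ℤ)).toNat = genus k K at hD
    by_cases h0 : genus k K = 0
    · refine ⟨0, ?_⟩
      rw [h0, ell_zero hK, deg_zero]; simp
    · exact ⟨D, by omega⟩

theorem riemann (hK : IsFunctionField k K) :
    (∀ D : Divisor k K, D.deg + 1 - (ell D : ℤ) ≤ genus k K) ∧
    ∃ N : ℤ, ∀ D : Divisor k K, N ≤ D.deg → D.deg + 1 - (ell D : ℤ) = genus k K := by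
  obtain ⟨h1, D0, hD0⟩ := genus_spec hK
  refine ⟨h1, D0.deg + genus k K, fun D hD => ?_⟩
  apply le_antisymm (h1 D)
  have h2 := h1 (D - D0)
  rw [deg_sub] at h2
  have h3 : 0 < ell (D - D0) := by omega
  obtain ⟨z, hz0, _, hz⟩ := exists_of_ell_pos hK _ h3
  have h6 : D0 ≤ D + div k z := by
    intro P
    have h7 := hz P
    simp at h7 ⊢
    omega
  have h7 := ell_le hK h6
  rw [L_linEquiv hK _ hz0, deg_add, deg_div hK] at h7
  omega

end Groth.Agent.H16
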