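import Groth.Agent.Lib.H16_FunFldG

set_option autoImplicit false
open FunFld

namespace Groth.Agent.H16

variable {k K : Type*} [Field k] [Field K] [Algebra k K]

theorem mem_adele {a : Place k K → K} :
    a ∈ adele k K ↔ {P : Place k K | ¬ P.1 (a P) ≤ 1}.Finite := by
  change (∀ᶠ P : Place k K in Filter.cofinite, P.1 (a P) ≤ 1) ↔ _
  rw [Filter.eventually_cofinite]

theorem AD_le_adele (D : Divisor k K) : AD D ≤ adele k K := by
  intro a ha
  rw [mem_adele]
  refine (D.support.finite_toSet).subset ?_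
  intro P hP
  rw [Finset.mem_coe, Finsupp.mem_support_iff]
  intro h0
  apply hP
  have := ha P
  rw [h0, WithZero.exp_zero] at this
  exact this

theorem diag_mem_adele (hK : IsFunctionField k K) (x : K) : diag k K x ∈ adele k K := by
  rw [mem_adele]
  refine (finite_support hK x).subset ?_
  intro P hP h0
  apply hP
  have h0 : -(WithZero.log (P.1 x)) = 0 := h0
  change P.1 x ≤ 1
  by_cases hx : P.1 x = 0
  · rw [hx]; exact zero_le
  · rw [← WithZero.exp_log hx, show WithZero.log (P.1 x) = 0 by omega, WithZero.exp_zero]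

theorem range_diag_le (hK : IsFunctionField k K) : LinearMap.range (diag k K) ≤ adele k K := by
  rintro _ ⟨x, rfl⟩; exact diag_mem_adele hK x

theorem smul_mem_adele (hK : IsFunctionField k K) (x : K) :
    ∀ a ∈ adele k K, x • a ∈ adele k K := by
  intro a ha
  rw [mem_adele] at ha ⊢
  refine (ha.union (mem_adele.mp (diag_mem_adele hK x))).subset ?_
  intro P hP
  by_contra hc
  simp only [Set.mem_union, Set.mem_ofPred_eq, not_or, not_not] at hc
  apply hP
  change P.1 (x * a P) ≤ 1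
  rw [map_mul]
  exact mul_le_one' hc.2 hc.1

/-- there is a divisor above `D` whose `A(D)` contains a given adele -/
theorem exists_AD (D : Divisor k K) {a : Place k K → K} (ha : a ∈ adele k K) :
    ∃ E, D ≤ E ∧ a ∈ AD E := by
  classical
  rw [mem_adele] at ha
  have hfin : (Function.support fun P : Place k K => max (D P) (if P.1 (a P) ≤ 1 then D P else WithZero.log (P.1 (a P)))).Finite := by
    refine (ha.union D.support.finite_toSet).subset ?_
    intro P hP
    by_contra hc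
    simp only [Set.mem_union, Set.mem_ofPred_eq, not_or, not_not, Finset.mem_coe, Finsupp.mem_support_iff] at hc
    apply hP
    simp [hc.1, hc.2]
  refine ⟨Finsupp.ofSupportFinite _ hfin ⊔ 0, ?_, ?_⟩
  · intro P
    rw [Finsupp.sup_apply]
    exact (le_max_left _ _).trans le_sup_left
  · intro P
    rw [Finsupp.sup_apply]
    by_cases h : P.1 (a P) ≤ 1
    · refine h.trans ((WithZero.exp_zero (M := ℤ)).symm.le.trans ?_)
      rw [WithZero.exp_le_exp]
      exact le_sup_right
    · refine WithZero.le_exp_log.trans ?_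
      rw [WithZero.exp_le_exp]
      refine le_trans ?_ le_sup_left
      change _ ≤ max (D P) (if P.1 (a P) ≤ 1 then D P else WithZero.log (P.1 (a P)))
      rw [if_neg h]
      exact le_max_right _ _

/-- abbreviation `A(D)+K`. -/
abbrev AK (D : Divisor k K) : Submodule k (Place k K → K) := AD D ⊔ LinearMap.range (diag k K)

theorem AK_le_adele (hK : IsFunctionField k K) (D : Divisor k K) : AK D ≤ adele k K :=
  sup_le (AD_le_adele D) (range_diag_le hK)

theorem RD_AK (hK : IsFunctionField k K) {D₁ D₂ : Divisor k K} (h : D₁ ≤ D₂) :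
    RD (AK D₁) (AK D₂) ((D₂.deg + 1 - ell D₂) - (D₁.deg + 1 - ell D₁)).toNat := by
  obtain ⟨m, l, h1, h2, h3, h4⟩ := ell_rel hK h
  have : ((D₂.deg + 1 - ell D₂) - (D₁.deg + 1 - ell D₁)).toNat = l := by omega
  rw [this]; exact h3

theorem AK_eq_adele (hK : IsFunctionField k K) {D : Divisor k K}
    (hD : D.deg + 1 - (ell D : ℤ) = genus k K) : AK D = adele k K := by
  apply le_antisymm (AK_le_adele hK D)
  intro a ha
  obtain ⟨E, hDE, haE⟩ := exists_AD D ha
  have h1 := RD_AK hK hDE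
  have h2 := (genus_spec hK).1 E
  have h0 : ((E.deg + 1 - ell E) - (D.deg + 1 - ell D)).toNat = 0 := by omega
  rw [h0] at h1
  rw [RD_zero h1]
  exact Submodule.mem_sup_left haE

theorem exists_large (hK : IsFunctionField k K) (D : Divisor k K) (N : ℤ) :
    ∃ E : Divisor k K, D ≤ E ∧ N ≤ E.deg := by
  obtain ⟨P⟩ := nonempty_place hK
  have hP := deg_pos hK P
  refine ⟨D + Finsupp.single P ((N - D.deg).toNat : ℤ), ?_, ?_⟩
  · apply le_add_of_nonneg_right
    exact Finsupp.single_nonneg.mpr (by positivity)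
  · rw [deg_add, deg_single]
    have : ((N - D.deg).toNat : ℤ) ≤ ((N - D.deg).toNat : ℤ) * (P.deg : ℤ) :=
      le_mul_of_one_le_right (by positivity) (by omega)
    omega

theorem RD_AK_adele (hK : IsFunctionField k K) (D : Divisor k K) :
    RD (AK D) (adele k K) ((genus k K : ℤ) - (D.deg + 1 - ell D)).toNat := by
  obtain ⟨_, N, hN⟩ := riemann hK
  obtain ⟨E, hDE, hE⟩ := exists_large hK D N
  have h1 := RD_AK hK hDE
  rw [AK_eq_adele hK (hN E hE), hN E hE] at h1
  exact h1

theorem finrank_adele_ADK (hK : IsFunctionField k K) (D : Divisor k K) :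
    FiniteDimensional k (↥(adele k K) ⧸ ADK D) ∧
    (Module.finrank k (↥(adele k K) ⧸ ADK D) : ℤ) =
      (genus k K : ℤ) - (D.deg + 1 - ell D) := by
  have h := RD_AK_adele hK D
  refine ⟨h.2.1, ?_⟩
  have h2 : Module.finrank k (↥(adele k K) ⧸ ADK D) = _ := h.2.2
  rw [h2]
  have := (genus_spec hK).1 D
  omega

theorem finrank_WD' (hK : IsFunctionField k K) (D : Divisor k K) :
    FiniteDimensional k (WD D) ∧
    (Module.finrank k (WD D) : ℤ) = (genus k K : ℤ) - (D.deg + 1 - ell D) := by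
  obtain ⟨h1, h2⟩ := finrank_adele_ADK hK D
  let e : Module.Dual k (↥(adele k K) ⧸ ADK D) ≃ₗ[k] WD D :=
    Submodule.dualQuotEquivDualAnnihilator (ADK D)
  refine ⟨Module.Finite.equiv e, ?_⟩
  rw [← e.finrank_eq, Subspace.dual_finrank_eq, h2]

theorem mem_WD {D : Divisor k K} {ω : Module.Dual k (adele k K)} :
    ω ∈ WD D ↔ ∀ a : adele k K, (a : Place k K → K) ∈ AK D → ω a = 0 := by
  unfold WD
  rw [Submodule.mem_dualAnnihilator]
  rfl

theorem WD_anti {D E : Divisor k K} (h : D ≤ E) : WD E ≤ WD D := by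
  intro ω hω
  rw [mem_WD] at hω ⊢
  intro a ha
  exact hω a ((sup_le_sup_right (AD_mono h) _) ha)

theorem AD_sup' (D₁ D₂ : Divisor k K) : AD (D₁ ⊔ D₂) = AD D₁ ⊔ AD D₂ := by
  classical
  apply le_antisymm
  · intro a ha
    rw [Submodule.mem_sup]
    refine ⟨fun P => if D₂ P ≤ D₁ P then a P else 0, ?_, fun P => if D₂ P ≤ D₁ P then 0 else a P, ?_, ?_⟩
    · intro P
      by_cases hP : D₂ P ≤ D₁ P
      · simp only [hP, if_true]
        have := ha P
        rw [Finsupp.sup_apply, sup_eq_left.mpr hP] at this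
        exact this
      · simp [hP]
    · intro P
      by_cases hP : D₂ P ≤ D₁ P
      · simp [hP]
      · simp only [hP, if_false]
        have := ha P
        rw [Finsupp.sup_apply, sup_eq_right.mpr (not_le.mp hP).le] at this
        exact this
    · funext P
      by_cases hP : D₂ P ≤ D₁ P <;> simp [hP]
  · exact sup_le (AD_mono le_sup_left) (AD_mono le_sup_right)

theorem WD_sup {D E : Divisor k K} {ω : Module.Dual k (adele k K)} (h1 : ω ∈ WD D) (h2 : ω ∈ WD E) :
    ω ∈ WD (D ⊔ E) := by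
  rw [mem_WD] at h1 h2 ⊢
  rintro ⟨a, ha0⟩ ha
  have ha : a ∈ AD (D ⊔ E) ⊔ LinearMap.range (diag k K) := ha
  rw [AD_sup', sup_assoc] at ha
  obtain ⟨b, hb, c, hc, hbc⟩ := Submodule.mem_sup.mp ha
  have hb0 : b ∈ adele k K := AD_le_adele D hb
  have hc0 : c ∈ adele k K := by
    have : c = a - b := by rw [← hbc]; abel
    rw [this]; exact (adele k K).sub_mem ha0 hb0
  have : (⟨a, ha0⟩ : adele k K) = ⟨b, hb0⟩ + ⟨c, hc0⟩ := Subtype.ext hbc.symm
  rw [this, map_add, h1 _ (Submodule.mem_sup_left hb), h2 _ hc, add_zero]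

theorem eff_deg_zero (hK : IsFunctionField k K) {E : Divisor k K} (hE : 0 ≤ E) (h : E.deg = 0) :
    E = 0 := by
  ext P
  by_contra hP
  have hP' : 0 < E P := lt_of_le_of_ne (hE P) (Ne.symm hP)
  have h1 : E P * (P.deg : ℤ) ≤ E.deg :=
    Finset.single_le_sum (f := fun P => E P * (P.deg : ℤ)) (fun Q _ => mul_nonneg (hE Q) (by positivity))
      (Finsupp.mem_support_iff.mpr hP)
  have h2 : (0 : ℤ) < P.deg := by exact_mod_cast deg_pos hK P
  have := mul_pos hP' h2
  omega

theorem eq_of_le_of_deg (hK : IsFunctionField k K) {D E : Divisor k K} (h : D ≤ E)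
    (h2 : E.deg = D.deg) : D = E := by
  have := eff_deg_zero hK (E := E - D) (sub_nonneg.mpr h) (by rw [deg_sub]; omega)
  exact (sub_eq_zero.mp this).symm

theorem WD_eq_bot (hK : IsFunctionField k K) {D : Divisor k K}
    (h : D.deg + 1 - (ell D : ℤ) = genus k K) : WD D = ⊥ := by
  obtain ⟨h1, h2⟩ := finrank_WD' hK D
  rw [h, sub_self] at h2
  have h3 : Module.finrank k (WD D) = 0 := by exact_mod_cast h2
  exact Submodule.finrank_eq_zero.mp h3

theorem exists_divOf (hK : IsFunctionField k K) (ω : Module.Dual k (adele k K)) (hω : IsWeil ω)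
    (h0 : ω ≠ 0) : ∃ C : Divisor k K, IsDivOf ω C := by
  classical
  obtain ⟨D, hD⟩ := hω
  obtain ⟨_, N, hN⟩ := riemann hK
  have hb : ∀ E : Divisor k K, ω ∈ WD E → E.deg < N := by
    intro E hE
    by_contra hc
    rw [not_lt] at hc
    rw [WD_eq_bot hK (hN E hc)] at hE
    exact h0 ((Submodule.mem_bot k).mp hE)
  -- choose maximal degree
  obtain ⟨m, ⟨C, hC, hCm⟩, hmax⟩ : ∃ m : ℤ, (∃ E : Divisor k K, ω ∈ WD E ∧ E.deg = m) ∧
      ∀ z : ℤ, (∃ E : Divisor k K, ω ∈ WD E ∧ E.deg = z) → z ≤ m :=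
    Int.exists_greatest_of_bdd ⟨N, by rintro z ⟨E, hE, rfl⟩; exact (hb E hE).le⟩ ⟨_, D, hD, rfl⟩
  refine ⟨C, fun E => ⟨fun hE => ?_, fun hE => WD_anti hE hC⟩⟩
  have h1 := WD_sup hE hC
  have h2 := hmax _ ⟨_, h1, rfl⟩
  have h3 : C ≤ E ⊔ C := le_sup_right
  have h4 := deg_mono h3
  have h5 := eq_of_le_of_deg hK h3 (by omega)
  rw [h5]; exact le_sup_left

theorem smul_AK {C D : Divisor k K} {x : K} (hx : x ∈ L D) {a : Place k K → K}
    (ha : a ∈ AK (C - D)) : x • a ∈ AK C := by
  obtain ⟨b, hb, c, ⟨y, rfl⟩, hbc⟩ := Submodule.mem_sup.mp ha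
  rw [← hbc, smul_add]
  apply (AK C).add_mem
  · apply Submodule.mem_sup_left
    intro P
    change P.1 (x * b P) ≤ _
    rw [map_mul]
    refine (mul_le_mul' (hx P) (hb P)).trans ?_
    rw [← WithZero.exp_add, WithZero.exp_le_exp, Finsupp.sub_apply]; omega
  · exact Submodule.mem_sup_right ⟨x * y, rfl⟩

theorem mulW_apply (x : K) (hx : ∀ a ∈ adele k K, x • a ∈ adele k K)
    (ω : Module.Dual k (adele k K)) (a : adele k K) :
    mulW x hx ω a = ω ⟨x • (a : Place k K → K), hx a a.2⟩ := rfl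

theorem mulW_mem {C D : Divisor k K} {x : K} (hxD : x ∈ L D)
    (hx : ∀ a ∈ adele k K, x • a ∈ adele k K)
    (ω : Module.Dual k (adele k K)) (hω : ω ∈ WD C) : mulW x hx ω ∈ WD (C - D) := by
  rw [mem_WD] at hω ⊢
  intro a ha
  rw [mulW_apply]
  exact hω _ (smul_AK hxD ha)

theorem mem_L_neg_div (hK : IsFunctionField k K) {x : K} (hx : x ≠ 0) : x ∈ L (-div k x) := by
  intro P
  rw [val_eq_exp_div hK hx, Finsupp.neg_apply]

theorem div_inv (hK : IsFunctionField k K) (x : K) : div k x⁻¹ = - div k x := by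
  ext P
  rw [div_apply hK, Finsupp.neg_apply, div_apply hK]
  simp [Place.ord, WithZero.log_inv]

theorem mulW_mulW (x y : K) (hx : ∀ a ∈ adele k K, x • a ∈ adele k K)
    (hy : ∀ a ∈ adele k K, y • a ∈ adele k K) (hxy : ∀ a ∈ adele k K, (x * y) • a ∈ adele k K)
    (ω : Module.Dual k (adele k K)) : mulW x hx (mulW y hy ω) = mulW (x * y) hxy ω := by
  ext a
  rw [mulW_apply, mulW_apply, mulW_apply]
  congr 1
  apply Subtype.ext
  change y • x • (a : Place k K → K) = (x * y) • (a : Place k K → K)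
  rw [smul_smul, mul_comm]

theorem mulW_one (hx : ∀ a ∈ adele k K, (1 : K) • a ∈ adele k K)
    (ω : Module.Dual k (adele k K)) : mulW 1 hx ω = ω := by
  ext a
  rw [mulW_apply]
  congr 1
  exact Subtype.ext (one_smul _ _)

theorem mulW_congr {x y : K} (h : x = y) (hx : ∀ a ∈ adele k K, x • a ∈ adele k K)
    (hy : ∀ a ∈ adele k K, y • a ∈ adele k K)
    (ω : Module.Dual k (adele k K)) : mulW x hx ω = mulW y hy ω := by
  subst h; rfl

theorem mulW_inv_mulW (hK : IsFunctionField k K) {x : K} (h0 : x ≠ 0)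
    (ω : Module.Dual k (adele k K)) :
    mulW x⁻¹ (smul_mem_adele hK _) (mulW x (smul_mem_adele hK _) ω) = ω := by
  rw [mulW_mulW _ _ _ _ (smul_mem_adele hK _)]
  rw [mulW_congr (inv_mul_cancel₀ h0) _ (smul_mem_adele hK _)]
  exact mulW_one _ ω

theorem divOf_mulW (hK : IsFunctionField k K) (x : K) (h0 : x ≠ 0)
    (ω : Module.Dual k (adele k K)) (C : Divisor k K) (hω : IsDivOf ω C) :
    IsDivOf (mulW x (smul_mem_adele hK x) ω) (C + div k x) := by
  intro E
  constructor
  · intro h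
    have h1 := mulW_mem (mem_L_neg_div hK (inv_ne_zero h0)) (smul_mem_adele hK _) _ h
    rw [mulW_inv_mulW hK h0, div_inv hK, neg_neg] at h1
    have h2 := (hω _).mp h1
    exact sub_le_iff_le_add.mp h2
  · intro h
    have h1 : ω ∈ WD (E - div k x) := (hω _).mpr (sub_le_iff_le_add.mpr h)
    have h2 := mulW_mem (mem_L_neg_div hK h0) (smul_mem_adele hK _) _ h1
    rwa [sub_neg_eq_add, sub_add_cancel] at h2

/-- `x ↦ x ω`. -/
noncomputable def mulWL (hK : IsFunctionField k K) (ω : Module.Dual k (adele k K)) :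
    K →ₗ[k] Module.Dual k (adele k K) where
  toFun x := mulW x (smul_mem_adele hK x) ω
  map_add' x y := by
    ext a
    rw [LinearMap.add_apply, mulW_apply, mulW_apply, mulW_apply, ← map_add]
    congr 1
    exact Subtype.ext (add_smul _ _ _)
  map_smul' c x := by
    ext a
    rw [RingHom.id_apply, LinearMap.smul_apply, mulW_apply, mulW_apply, ← map_smul]
    congr 1
    exact Subtype.ext (smul_assoc _ _ _)

theorem mulWL_apply (hK : IsFunctionField k K) (ω : Module.Dual k (adele k K)) (x : K) :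
    mulWL hK ω x = mulW x (smul_mem_adele hK x) ω := rfl

theorem mulWL_inj (hK : IsFunctionField k K) {ω : Module.Dual k (adele k K)} (h0 : ω ≠ 0) :
    Function.Injective (mulWL hK ω) := by
  rw [← LinearMap.ker_eq_bot, LinearMap.ker_eq_bot']
  intro x hx
  by_contra hx0
  apply h0
  rw [← mulW_inv_mulW hK hx0 ω]
  rw [mulWL_apply] at hx
  rw [hx]
  ext a; rfl

theorem exists_mulW (hK : IsFunctionField k K) (ω₁ ω₂ : Module.Dual k (adele k K))
    (h₁ : IsWeil ω₁) (h0 : ω₁ ≠ 0) (h₂ : IsWeil ω₂) :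
    ∃ x : K, mulWL hK ω₁ x = ω₂ := by
  by_cases hω2 : ω₂ = 0
  · exact ⟨0, by rw [hω2, map_zero]⟩
  obtain ⟨C1, hC1⟩ := h₁
  obtain ⟨C2, hC2⟩ := h₂
  set g : ℤ := ((genus k K : ℕ) : ℤ) with hg
  obtain ⟨D, hD0, hD⟩ := exists_large hK 0 ((3 * g - 1 - C1.deg - C2.deg) ⊔ 1)
  have hg1 := (genus_spec hK).1
  let V1 : Submodule k (Module.Dual k (adele k K)) := (L (C1 + D)).map (mulWL hK ω₁)
  let V2 : Submodule k (Module.Dual k (adele k K)) := (L (C2 + D)).map (mulWL hK ω₂)
  have hV1 : V1 ≤ WD (-D) := by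
    rintro _ ⟨x, hx, rfl⟩
    have := mulW_mem hx (smul_mem_adele hK x) _ hC1
    rwa [show C1 - (C1 + D) = -D by abel] at this
  have hV2 : V2 ≤ WD (-D) := by
    rintro _ ⟨x, hx, rfl⟩
    have := mulW_mem hx (smul_mem_adele hK x) _ hC2
    rwa [show C2 - (C2 + D) = -D by abel] at this
  have hnd : ¬ Disjoint V1 V2 := by
    intro hdis
    have hfW := (finrank_WD' hK (-D)).1
    have hW := (finrank_WD' hK (-D)).2
    have hfL1 := finite_L hK (C1 + D)
    have hfL2 := finite_L hK (C2 + D)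
    have hf1 : Module.finrank k V1 = ell (C1 + D) :=
      (Submodule.equivMapOfInjective _ (mulWL_inj hK h0) _).finrank_eq.symm
    have hf2 : Module.finrank k V2 = ell (C2 + D) :=
      (Submodule.equivMapOfInjective _ (mulWL_inj hK hω2) _).finrank_eq.symm
    have hfd1 : FiniteDimensional k V1 := Submodule.finiteDimensional_of_le hV1
    have hfd2 : FiniteDimensional k V2 := Submodule.finiteDimensional_of_le hV2
    have h3 := Submodule.finrank_sup_add_finrank_inf_eq V1 V2
    rw [hdis.eq_bot, finrank_bot, add_zero, hf1, hf2] at h3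
    have h4 : Module.finrank k (V1 ⊔ V2 : Submodule k (Module.Dual k (adele k K))) ≤ Module.finrank k (WD (-D)) :=
      Submodule.finrank_mono (sup_le hV1 hV2)
    have h5 := hg1 (C1 + D)
    have h6 := hg1 (C2 + D)
    have h7 : ell (-D) = 0 := by
      have : (-D).deg < 0 := by rw [deg_neg]; have := le_sup_right.trans hD; omega
      unfold ell
      rw [L_eq_bot_of_neg hK _ this, finrank_bot]
    rw [h7, deg_neg] at hW
    rw [deg_add] at h5 h6
    have h8 : 3 * g - 1 - C1.deg - C2.deg ≤ D.deg := le_sup_left.trans hD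
    push_cast at hW
    omega
  rw [Submodule.disjoint_def] at hnd
  push Not at hnd
  obtain ⟨ω, ⟨x1, hx1, e1⟩, ⟨x2, hx2, e2⟩, hne⟩ := hnd
  have hx20 : x2 ≠ 0 := by rintro rfl; rw [map_zero] at e2; exact hne e2.symm
  refine ⟨x2⁻¹ * x1, ?_⟩
  rw [mulWL_apply, ← mulW_mulW _ _ (smul_mem_adele hK _) (smul_mem_adele hK _)]
  rw [mulWL_apply] at e1 e2
  rw [e1, ← e2]
  exact mulW_inv_mulW hK hx20 ω₂

theorem divOf_ne_zero (hK : IsFunctionField k K) {ω : Module.Dual k (adele k K)} {C : Divisor k K}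
    (hω : IsDivOf ω C) : ω ≠ 0 := by
  rintro rfl
  obtain ⟨P⟩ := nonempty_place hK
  have h1 : (0 : Module.Dual k (adele k K)) ∈ WD (C + Finsupp.single P 1) := Submodule.zero_mem _
  have h2 := (hω _).mp h1 P
  simp at h2

theorem divOf_weil {ω : Module.Dual k (adele k K)} {C : Divisor k K}
    (hω : IsDivOf ω C) : ω ∈ WD C := (hω C).mpr le_rfl

theorem divOf_unique {ω : Module.Dual k (adele k K)} {C C' : Divisor k K}
    (hω : IsDivOf ω C) (hω' : IsDivOf ω C') : C = C' :=
  le_antisymm ((hω' C).mp (divOf_weil hω)) ((hω C').mp (divOf_weil hω'))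

theorem mem_L_of_mulW (hK : IsFunctionField k K) {ω : Module.Dual k (adele k K)} {C : Divisor k K}
    (hω : IsDivOf ω C) {D : Divisor k K} {x : K} (h : mulWL hK ω x ∈ WD D) : x ∈ L (C - D) := by
  by_cases hx : x = 0
  · rw [hx]; exact Submodule.zero_mem _
  have h1 := (divOf_mulW hK x hx ω C hω D).mp h
  intro P
  rw [val_eq_exp_div hK hx, WithZero.exp_le_exp]
  have := h1 P
  simp at this ⊢
  omega

theorem RR (hK : IsFunctionField k K) {C : Divisor k K} (hC : IsCanonical k K C) (D : Divisor k K) :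
    (ell D : ℤ) = D.deg + 1 - genus k K + ell (C - D) := by
  obtain ⟨ω, hω0, hω⟩ := hC
  have hmap : (L (C - D)).map (mulWL hK ω) = WD D := by
    apply le_antisymm
    · rintro _ ⟨x, hx, rfl⟩
      have := mulW_mem hx (smul_mem_adele hK x) _ (divOf_weil hω)
      rwa [sub_sub_cancel] at this
    · intro ω' hω'
      obtain ⟨x, hx⟩ := exists_mulW hK ω ω' ⟨C, divOf_weil hω⟩ hω0 ⟨D, hω'⟩
      exact ⟨x, mem_L_of_mulW hK hω (by rw [hx]; exact hω'), hx⟩
  have h1 : Module.finrank k (WD D) = ell (C - D) := by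
    rw [← hmap]
    exact (Submodule.equivMapOfInjective _ (mulWL_inj hK hω0) _).finrank_eq.symm
  have h2 := (finrank_WD' hK D).2
  rw [h1] at h2
  omega

theorem canonical_ell_deg (hK : IsFunctionField k K) {C : Divisor k K} (hC : IsCanonical k K C) :
    ell C = genus k K ∧ C.deg = 2 * genus k K - 2 := by
  have h1 := RR hK hC 0
  rw [sub_zero, ell_zero hK, deg_zero] at h1
  have h2 := RR hK hC C
  rw [sub_self, ell_zero hK] at h2
  push_cast at h1 h2
  constructor <;> omega

theorem exists_canonical_of_WD (hK : IsFunctionField k K) {D : Divisor k K} (h : WD D ≠ ⊥) :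
    ∃ C, IsCanonical k K C ∧ D ≤ C := by
  obtain ⟨ω, hω, hω0⟩ := Submodule.exists_mem_ne_zero_of_ne_bot h
  obtain ⟨C, hC⟩ := exists_divOf hK ω ⟨D, hω⟩ hω0
  exact ⟨C, ⟨ω, hω0, hC⟩, (hC D).mp hω⟩

theorem WD_ne_bot_iff (hK : IsFunctionField k K) {D : Divisor k K} :
    WD D ≠ ⊥ ↔ D.deg + 1 - (ell D : ℤ) < (genus k K : ℤ) := by
  obtain ⟨h1, h2⟩ := finrank_WD' hK D
  have h3 := (genus_spec hK).1 D
  constructor
  · intro h
    rcases lt_or_eq_of_le h3 with h4 | h4
    · exact h4
    · exact absurd (WD_eq_bot hK h4) h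
  · intro h h4
    rw [h4, finrank_bot] at h2
    push_cast at h2; omega

theorem L_eq_bot_ell (hK : IsFunctionField k K) {D : Divisor k K} (h : D.deg < 0) : ell D = 0 := by
  unfold ell
  rw [L_eq_bot_of_neg hK _ h, finrank_bot]

theorem exists_canonical (hK : IsFunctionField k K) : ∃ C, IsCanonical k K C := by
  obtain ⟨D, _, hD⟩ := exists_large hK 0 (2 : ℤ)
  have h1 : WD (-D) ≠ ⊥ := by
    rw [WD_ne_bot_iff hK, L_eq_bot_ell hK (by rw [deg_neg]; omega), deg_neg]
    push_cast; omega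
  obtain ⟨C, hC, _⟩ := exists_canonical_of_WD hK h1
  exact ⟨C, hC⟩

theorem ell_of_deg_ge (hK : IsFunctionField k K) (D : Divisor k K)
    (h : 2 * (genus k K : ℤ) - 1 ≤ D.deg) : (ell D : ℤ) = D.deg + 1 - genus k K := by
  by_contra hc
  have h1 := (genus_spec hK).1 D
  have h2 : WD D ≠ ⊥ := (WD_ne_bot_iff hK).mpr (by omega)
  obtain ⟨C, hC, hDC⟩ := exists_canonical_of_WD hK h2
  have h3 := (canonical_ell_deg hK hC).2
  have h4 := deg_mono hDC
  omega

theorem canonical_iff (hK : IsFunctionField k K) (C : Divisor k K) :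
    IsCanonical k K C ↔ (ell C = genus k K ∧ C.deg = 2 * genus k K - 2) := by
  refine ⟨canonical_ell_deg hK, ?_⟩
  rintro ⟨h1, h2⟩
  have h3 : WD C ≠ ⊥ := (WD_ne_bot_iff hK).mpr (by omega)
  obtain ⟨C', hC', hle⟩ := exists_canonical_of_WD hK h3
  have h4 := (canonical_ell_deg hK hC').2
  rw [eq_of_le_of_deg hK hle (by omega)]
  exact hC'

end Groth.Agent.H16
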