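import Groth.Agent.Lib.H16_FunFldH
import Mathlib.FieldTheory.IsAlgClosed.Basic

set_option autoImplicit false
open FunFld

namespace Groth.Agent.H16

variable {k K : Type*} [Field k] [Field K] [Algebra k K]

theorem adjoin_top_of_deg_one (hK : IsFunctionField k K) {x : K} (hx : Transcendental k x)
    (h : (poleDiv hK x).deg = 1) : IntermediateField.adjoin k ({x} : Set K) = ⊤ := by
  rw [deg_poleDiv hK x hx] at h
  have h1 : Module.finrank (IntermediateField.adjoin k ({x} : Set K)) K = 1 := by exact_mod_cast h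
  exact IntermediateField.finrank_eq_one_iff_eq_top.mp h1

theorem trans_of_adjoin_top (hK : IsFunctionField k K) {x : K}
    (h : IntermediateField.adjoin k ({x} : Set K) = ⊤) : Transcendental k x := by
  intro hx
  obtain ⟨y, hy⟩ := exists_trans hK
  apply hy
  have hy' : y ∈ IntermediateField.adjoin k ({x} : Set K) := by rw [h]; trivial
  obtain ⟨c, rfl⟩ := hK.2 x hx
  have : IntermediateField.adjoin k ({algebraMap k K c} : Set K) = ⊥ :=
    IntermediateField.adjoin_simple_eq_bot_iff.mpr (IntermediateField.algebraMap_mem _ c)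
  rw [this, IntermediateField.mem_bot] at hy'
  obtain ⟨d, rfl⟩ := hy'
  exact isAlgebraic_algebraMap d

/-- effective divisor of degree one is a single place of degree one -/
theorem eff_deg_one (hK : IsFunctionField k K) {E : Divisor k K} (hE : 0 ≤ E) (h : E.deg = 1) :
    ∃ P : Place k K, P.deg = 1 ∧ E = Finsupp.single P 1 := by
  have hne : E ≠ 0 := by rintro rfl; rw [deg_zero] at h; omega
  obtain ⟨P, hP⟩ : ∃ P, E P ≠ 0 := by
    by_contra hc; push Not at hc; exact hne (Finsupp.ext hc)
  have hP1 : 1 ≤ E P := by have := hE P; simp at this; omega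
  have hle : Finsupp.single P 1 ≤ E := by
    intro Q
    by_cases hQ : Q = P
    · subst hQ; simpa using hP1
    · rw [Finsupp.single_eq_of_ne hQ]; exact hE Q
  have h1 := deg_mono hle
  rw [deg_single, h] at h1
  have h2 := deg_pos hK P
  have h3 : P.deg = 1 := by omega
  exact ⟨P, h3, (eq_of_le_of_deg hK hle (by rw [deg_single, h, h3]; simp)).symm⟩

theorem poleDiv_ne_zero_of_trans (hK : IsFunctionField k K) {x : K} (hx : Transcendental k x) :
    0 < (poleDiv hK x).deg := by
  have := fd_adjoin hK hx
  rw [deg_poleDiv hK x hx]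
  have h := Module.finrank_pos (R := IntermediateField.adjoin k ({x} : Set K)) (M := K)
  exact_mod_cast h

theorem poleDiv_le_of_mem (hK : IsFunctionField k K) {x : K} {D : Divisor k K} (hD : 0 ≤ D)
    (hx : x ∈ L D) : poleDiv hK x ≤ D := by
  intro P
  rw [poleDiv_apply]
  apply max_le _ (hD P)
  by_cases h0 : P.1 x = 0
  · rw [h0, WithZero.log_zero]; exact hD P
  · rw [WithZero.log_le_iff_le_exp h0]; exact hx P

theorem exists_nonconst (hK : IsFunctionField k K) {D : Divisor k K} (h : 2 ≤ ell D) :
    ∃ x ∈ L D, Transcendental k x := by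
  by_contra hc
  push Not at hc
  have h1 : L D ≤ (1 : Submodule k K) := by
    intro x hx
    have := hc x hx
    rw [Submodule.mem_one]
    by_contra h2
    exact this (trans_iff hK h2)
  have hf : FiniteDimensional k (1 : Submodule k K) := by rw [Submodule.one_eq_span]; infer_instance
  have h2 := Submodule.finrank_mono h1
  have h3 : Module.finrank k (1 : Submodule k K) = 1 := by
    rw [Submodule.one_eq_span]; exact finrank_span_singleton one_ne_zero
  rw [h3] at h2
  change ell D ≤ 1 at h2
  omega

/-- `ℓ(P) ≥ 2` for a degree-one place implies rational -/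
theorem rational_of_ell (hK : IsFunctionField k K) {P : Place k K} (hP : P.deg = 1)
    (h : 2 ≤ ell (Finsupp.single P 1 : Divisor k K)) :
    ∃ x : K, IntermediateField.adjoin k ({x} : Set K) = ⊤ := by
  obtain ⟨x, hx, ht⟩ := exists_nonconst hK h
  refine ⟨x, adjoin_top_of_deg_one hK ht ?_⟩
  have h0 : (0 : Divisor k K) ≤ Finsupp.single P 1 := Finsupp.single_nonneg.mpr zero_le_one
  have h1 := deg_mono (poleDiv_le_of_mem hK h0 hx)
  rw [deg_single, hP] at h1
  have h2 := poleDiv_ne_zero_of_trans hK ht
  omega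

theorem genus_zero_of_rational (hK : IsFunctionField k K) {x : K}
    (h : IntermediateField.adjoin k ({x} : Set K) = ⊤) :
    genus k K = 0 ∧ ∃ P : Place k K, P.deg = 1 ∧ poleDiv hK x = Finsupp.single P 1 := by
  have ht := trans_of_adjoin_top hK h
  have h1 : Module.finrank (IntermediateField.adjoin k ({x} : Set K)) K = 1 :=
    IntermediateField.finrank_eq_one_iff_eq_top.mpr h
  have hd : (poleDiv hK x).deg = 1 := by rw [deg_poleDiv hK x ht, h1]; rfl
  obtain ⟨P, hP, hP2⟩ := eff_deg_one hK (poleDiv_nonneg hK x) hd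
  refine ⟨?_, P, hP, hP2⟩
  -- ℓ(rP) ≥ r + 1
  obtain ⟨_, N, hN⟩ := riemann hK
  set r := N.toNat with hr
  have hdr : (r • poleDiv hK x).deg = r := by rw [deg_nsmul, hd, mul_one]
  have h2 := hN (r • poleDiv hK x) (by rw [hdr]; omega)
  have h3 : r + 1 ≤ ell (r • poleDiv hK x) := by
    have hli : LinearIndependent k (fun j : Fin (r+1) => x ^ (j : ℕ)) := by
      rw [Fintype.linearIndependent_iff]
      intro g hg
      have h2 : Polynomial.aeval x (∑ j : Fin (r+1), Polynomial.monomial (j : ℕ) (g j)) = 0 := by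
        rw [map_sum, ← hg]
        apply Finset.sum_congr rfl
        intro j _
        rw [Polynomial.aeval_monomial, Algebra.smul_def]
      have h3 : (∑ j : Fin (r+1), Polynomial.monomial (j : ℕ) (g j)) = 0 := by
        by_contra hne
        exact ht ⟨_, hne, h2⟩
      intro i
      have h4 := congrArg (fun q => Polynomial.coeff q (i : ℕ)) h3
      simp only [Polynomial.finsetSum_coeff, Polynomial.coeff_monomial, Polynomial.coeff_zero] at h4
      rw [Finset.sum_eq_single i] at h4
      · simpa using h4
      · intro b _ hb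
        rw [if_neg]
        intro h; exact hb (Fin.val_injective h)
      · simp
    have hmem : ∀ j : Fin (r+1), x ^ (j : ℕ) ∈ L (r • poleDiv hK x) := fun j =>
      L_mono (nsmul_le_nsmul_left (poleDiv_nonneg hK x) (by omega)) (pow_mem_L (mem_L_poleDiv hK x) _)
    have hli2 : LinearIndependent k fun j : Fin (r+1) =>
        (⟨_, hmem j⟩ : L (r • poleDiv hK x)) := by
      apply LinearIndependent.of_comp (L (r • poleDiv hK x)).subtype
      exact hli
    have hfL := finite_L hK (r • poleDiv hK x)
    have := hli2.fintype_card_le_finrank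
    rw [Fintype.card_fin] at this
    exact this
  rw [hdr] at h2
  omega

theorem rational_iff (hK : IsFunctionField k K) :
    (genus k K = 0 ∧ ∃ P : Place k K, P.deg = 1) ↔
      ∃ x : K, IntermediateField.adjoin k ({x} : Set K) = ⊤ := by
  constructor
  · rintro ⟨hg, P, hP⟩
    apply rational_of_ell hK hP
    have := ell_of_deg_ge hK (Finsupp.single P 1) (by rw [deg_single, hP, hg]; simp)
    rw [deg_single, hP, hg] at this
    omega
  · rintro ⟨x, hx⟩
    obtain ⟨h1, P, hP, _⟩ := genus_zero_of_rational hK hx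
    exact ⟨h1, P, hP⟩

theorem ell_single_one (hK : IsFunctionField k K) (hg : 0 < genus k K) {P : Place k K} (hP : P.deg = 1) :
    ell (Finsupp.single P 1 : Divisor k K) = 1 := by
  have h0 : (0 : Divisor k K) ≤ Finsupp.single P 1 := Finsupp.single_nonneg.mpr zero_le_one
  obtain ⟨m, l, h1, _, _, h2⟩ := ell_rel hK h0
  rw [ell_zero hK] at h1
  by_contra hc
  have h3 := rational_of_ell hK hP (by omega)
  obtain ⟨x, hx⟩ := h3
  have := (genus_zero_of_rational hK hx).1
  omega

theorem eq_of_sub_eq_div (hK : IsFunctionField k K) (hg : 0 < genus k K)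
    (P P' : Place k K) (hP : P.deg = 1) (hP' : P'.deg = 1) (x : K)
    (h : (Finsupp.single P 1 - Finsupp.single P' 1 : Divisor k K) = div k x) : P = P' := by
  classical
  by_contra hne
  have hval : ∀ Q : Place k K, WithZero.log (Q.1 x) = Finsupp.single P' (1 : ℤ) Q - Finsupp.single P (1 : ℤ) Q := by
    intro Q
    have h1 : div k x Q = Q.ord x := div_apply hK x Q
    rw [← h, Finsupp.sub_apply] at h1
    unfold Place.ord at h1
    omega
  have hpole : poleDiv hK x = Finsupp.single P' 1 := by
    ext Q
    rw [poleDiv_apply, hval Q]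
    by_cases h1 : Q = P'
    · subst h1
      rw [Finsupp.single_eq_same, Finsupp.single_eq_of_ne (fun h => hne h.symm)]
      simp
    · rw [Finsupp.single_eq_of_ne h1]
      have : 0 ≤ Finsupp.single P (1 : ℤ) Q := Finsupp.single_nonneg.mpr zero_le_one Q
      omega
  have ht : Transcendental k x := by
    intro ha
    obtain ⟨c, rfl⟩ := hK.2 x ha
    have h2 := hval P'
    have h3 := log_val_alg P' c
    unfold Place.ord at h3
    rw [Finsupp.single_eq_same, Finsupp.single_eq_of_ne (fun h => hne h.symm)] at h2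
    omega
  have h4 := adjoin_top_of_deg_one hK ht (by rw [hpole, deg_single, hP']; simp)
  have := (genus_zero_of_rational hK h4).1
  omega

theorem genus_one_class (hK : IsFunctionField k K) (hg : genus k K = 1)
    (P₀ : Place k K) (hP : P₀.deg = 1) (D : Divisor k K) (hD : D.deg = 0) :
    ∃! P : Place k K, P.deg = 1 ∧
      ∃ x : K, x ≠ 0 ∧ D = Finsupp.single P 1 - Finsupp.single P₀ 1 + div k x := by
  have h1 := ell_of_deg_ge hK (D + Finsupp.single P₀ 1) (by rw [deg_add, hD, deg_single, hP, hg]; simp)
  rw [deg_add, hD, deg_single, hP, hg] at h1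
  obtain ⟨z, hz0, _, hz⟩ := exists_of_ell_pos hK (D + Finsupp.single P₀ 1) (by omega)
  obtain ⟨P, hP1, hPe⟩ := eff_deg_one hK hz (by rw [deg_add, deg_add, hD, deg_single, hP, deg_div hK]; simp)
  refine ⟨P, ⟨hP1, z⁻¹, inv_ne_zero hz0, ?_⟩, ?_⟩
  · rw [← hPe, div_inv hK]; abel
  · rintro Q ⟨hQ1, y, hy0, hy⟩
    have h3 : (Finsupp.single Q 1 - Finsupp.single P 1 : Divisor k K) = div k (z⁻¹ * y⁻¹) := by
      have hmul : div k (z⁻¹ * y⁻¹) = div k z⁻¹ + div k y⁻¹ := by
        ext R
        rw [Finsupp.add_apply, div_apply hK, div_apply hK, div_apply hK]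
        unfold Place.ord
        rw [map_mul, WithZero.log_mul (by simpa using hz0) (by simpa using hy0)]
        ring
      rw [hmul, div_inv hK, div_inv hK, ← hPe]
      rw [hy]; abel
    exact eq_of_sub_eq_div hK (by omega) Q P hQ1 hP1 _ h3

theorem strong_approx (hK : IsFunctionField k K) (Pinf : Place k K) (S : Finset (Place k K))
    (hinf : Pinf ∉ S) (x : Place k K → K) (N : ℕ) :
    ∃ y : K, (∀ P ∈ S, P.1 (y - x P) ≤ WithZero.exp (-(N : ℤ))) ∧
      ∀ Q : Place k K, Q ≠ Pinf → Q ∉ S → Q.1 y ≤ 1 := by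
  classical
  obtain ⟨_, M, hM⟩ := riemann hK
  let E : Divisor k K := ∑ P ∈ S, Finsupp.single P (-(N : ℤ))
  obtain ⟨m, hm⟩ : ∃ m : ℕ, M ≤ (E + Finsupp.single Pinf (m : ℤ)).deg := by
    refine ⟨(M - E.deg).toNat, ?_⟩
    rw [deg_add, deg_single]
    have h1 := deg_pos hK Pinf
    have : ((M - E.deg).toNat : ℤ) ≤ ((M - E.deg).toNat : ℤ) * (Pinf.deg : ℤ) :=
      le_mul_of_one_le_right (by positivity) (by omega)
    omega
  set D := E + Finsupp.single Pinf (m : ℤ) with hD
  have hAK := AK_eq_adele hK (hM D hm)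
  let a : Place k K → K := fun P => if P ∈ S then x P else 0
  have ha : a ∈ adele k K := by
    rw [mem_adele]
    refine S.finite_toSet.subset ?_
    intro P hP
    by_contra hc
    apply hP
    have : a P = 0 := if_neg hc
    rw [this]; simp
  rw [← hAK] at ha
  obtain ⟨b, hb, _, ⟨y, rfl⟩, hby⟩ := Submodule.mem_sup.mp ha
  have hE : ∀ P, E P = if P ∈ S then -(N : ℤ) else 0 := by
    intro P
    change (∑ Q ∈ S, Finsupp.single Q (-(N : ℤ))) P = _
    rw [Finsupp.finsetSum_apply]
    split_ifs with h
    · rw [Finset.sum_eq_single P]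
      · simp
      · intro Q _ hQ; exact Finsupp.single_eq_of_ne hQ.symm
      · intro h2; exact absurd h h2
    · apply Finset.sum_eq_zero
      intro Q hQ
      exact Finsupp.single_eq_of_ne (by rintro rfl; exact h hQ)
  have hbP : ∀ P, a P = b P + y := fun P => (congrFun hby P).symm
  refine ⟨y, ?_, ?_⟩
  · intro P hP
    have h1 : y - x P = - b P := by
      have := hbP P
      rw [show a P = x P from if_pos hP] at this
      rw [this]; ring
    rw [h1, Valuation.map_neg]
    have h2 := hb P
    rw [hD, Finsupp.add_apply, hE, if_pos hP, Finsupp.single_eq_of_ne (by rintro rfl; exact hinf hP), add_zero] at h2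
    exact h2
  · intro Q hQ hQS
    have h1 : y = - b Q := by
      have := hbP Q
      rw [show a Q = 0 from if_neg hQS] at this
      exact eq_neg_of_add_eq_zero_right this.symm
    rw [h1, Valuation.map_neg]
    have h2 := hb Q
    rw [hD, Finsupp.add_apply, hE, if_neg hQS, Finsupp.single_eq_of_ne hQ, add_zero] at h2
    exact h2

/-! gaps -/

theorem finrank_one_of_algClosed (k F : Type*) [Field k] [IsAlgClosed k] [Field F] [Algebra k F]
    [FiniteDimensional k F] : Module.finrank k F = 1 := by
  have : Algebra.IsIntegral k F := Algebra.IsIntegral.of_finite k _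
  have h := IsAlgClosed.algebraMap_bijective_of_isIntegral (k := k) (K := F)
  have h2 := (LinearEquiv.ofBijective (Algebra.linearMap k F) h).finrank_eq
  rw [Module.finrank_self] at h2
  exact h2.symm

theorem deg_eq_one_of_algClosed [IsAlgClosed k] (hK : IsFunctionField k K) (P : Place k K) : P.deg = 1 :=
  @finrank_one_of_algClosed k (IsLocalRing.ResidueField P.O) _ _ _ (Place.algRes P) (finite_residue hK P)

/-- `m` is a gap. -/
def Gap (P : Place k K) (m : ℤ) : Prop :=
  L (Finsupp.single P m : Divisor k K) = L (Finsupp.single P (m - 1))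

theorem gap_step (hK : IsFunctionField k K) {P : Place k K} (hP : P.deg = 1) (m : ℤ) :
    (Gap P m → ell (Finsupp.single P m : Divisor k K) = ell (Finsupp.single P (m-1) : Divisor k K)) ∧
    (¬ Gap P m → ell (Finsupp.single P m : Divisor k K) = ell (Finsupp.single P (m-1) : Divisor k K) + 1) := by
  have hle : (Finsupp.single P (m-1) : Divisor k K) ≤ Finsupp.single P m := by
    rw [Finsupp.single_le_single]; omega
  obtain ⟨j, l, h1, h2, _, h3⟩ := ell_rel hK hle
  rw [deg_single, deg_single, hP] at h3
  constructor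
  · intro h; unfold ell; rw [h]
  · intro h
    have : j ≠ 0 := by
      rintro rfl
      exact h (RD_zero h2).symm
    push_cast at h3
    omega

theorem nongap_iff (hK : IsFunctionField k K) {P : Place k K} (m : ℤ) :
    ¬ Gap P m ↔ ∃ f ∈ L (Finsupp.single P m : Divisor k K), P.1 f = WithZero.exp m := by
  have hle : (Finsupp.single P (m-1) : Divisor k K) ≤ Finsupp.single P m := by
    rw [Finsupp.single_le_single]; omega
  constructor
  · intro h
    have h1 : ¬ (L (Finsupp.single P m : Divisor k K) ≤ L (Finsupp.single P (m-1))) :=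
      fun h2 => h (le_antisymm h2 (L_mono hle))
    obtain ⟨f, hf, hf2⟩ := SetLike.not_le_iff_exists.mp h1
    refine ⟨f, hf, ?_⟩
    have h3 := hf P
    rw [Finsupp.single_eq_same] at h3
    apply le_antisymm h3
    by_contra hc
    rw [not_le, lt_exp_iff] at hc
    apply hf2
    intro Q
    by_cases hQ : Q = P
    · subst hQ; rw [Finsupp.single_eq_same]; exact hc
    · have := hf Q
      rw [Finsupp.single_eq_of_ne hQ] at this ⊢
      exact this
  · rintro ⟨f, hf, hfP⟩ h
    unfold Gap at h
    rw [h] at hf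
    have := hf P
    rw [hfP, Finsupp.single_eq_same, WithZero.exp_le_exp] at this
    omega

theorem nongap_add (hK : IsFunctionField k K) {P : Place k K} {m n : ℤ} (h1 : ¬ Gap P m)
    (h2 : ¬ Gap P n) : ¬ Gap P (m + n) := by
  rw [nongap_iff hK] at h1 h2 ⊢
  obtain ⟨f, hf, hf2⟩ := h1
  obtain ⟨g, hg, hg2⟩ := h2
  refine ⟨f * g, ?_, ?_⟩
  · rw [Finsupp.single_add]; exact mul_mem_L hf hg
  · rw [map_mul, hf2, hg2, WithZero.exp_add]

open Classical in
theorem ell_count (hK : IsFunctionField k K) {P : Place k K} (hP : P.deg = 1) (n : ℕ) :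
    ell (Finsupp.single P (n : ℤ) : Divisor k K) + ((Finset.Icc 1 n).filter (fun m : ℕ => Gap P (m : ℤ))).card
      = n + 1 := by
  induction n with
  | zero => simp [ell_zero hK]
  | succ n ih =>
    have h := gap_step hK hP ((n : ℤ) + 1)
    rw [add_sub_cancel_right] at h
    have hI : Finset.Icc 1 (n+1) = insert (n+1) (Finset.Icc 1 n) := by
      ext j; simp only [Finset.mem_Icc, Finset.mem_insert]; omega
    rw [hI, Finset.filter_insert]
    by_cases hg : Gap P ((n : ℤ) + 1)
    · have h1 := h.1 hg
      rw [if_pos (by push_cast; exact hg), Finset.card_insert_of_notMem (by simp)]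
      push_cast
      rw [h1]; omega
    · have h1 := h.2 hg
      rw [if_neg (by push_cast; exact hg)]
      push_cast
      rw [h1]; omega

open Classical in
theorem gap_half (hK : IsFunctionField k K) {P : Place k K} (n : ℕ) (hn : 1 ≤ n) (hgap : Gap P (n : ℤ)) :
    n - 1 ≤ 2 * ((Finset.Icc 1 (n-1)).filter (fun m : ℕ => Gap P (m : ℤ))).card := by
  have h1 : ((Finset.Icc 1 (n-1)).filter (fun m : ℕ => ¬ Gap P (m : ℤ))).card ≤
      ((Finset.Icc 1 (n-1)).filter (fun m : ℕ => Gap P (m : ℤ))).card := by
    apply Finset.card_le_card_of_injOn (fun m => n - m)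
    · intro m hm
      simp only [Finset.coe_filter, Finset.mem_Icc, Set.mem_ofPred_eq] at hm ⊢
      refine ⟨by omega, ?_⟩
      by_contra hc
      have := nongap_add hK hm.2 hc
      apply this
      have e : ((m : ℤ) + ((n - m : ℕ) : ℤ)) = n := by omega
      rw [e]; exact hgap
    · intro a ha b hb hab
      simp only [Finset.coe_filter, Finset.mem_Icc, Set.mem_ofPred_eq] at ha hb hab
      omega
  have h2 := Finset.card_filter_add_card_filter_not (s := Finset.Icc 1 (n-1)) (fun m : ℕ => Gap P (m : ℤ))
  rw [Nat.card_Icc] at h2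
  omega

open Classical in
theorem gap_count_total (hK : IsFunctionField k K) {P : Place k K} (hP : P.deg = 1) :
    ((Finset.Icc 1 (2 * genus k K)).filter (fun m : ℕ => Gap P (m : ℤ))).card = genus k K := by
  have h1 := ell_count hK hP (2 * genus k K)
  have h2 := ell_of_deg_ge hK (Finsupp.single P ((2 * genus k K : ℕ) : ℤ)) (by
    rw [deg_single, hP]; push_cast; omega)
  rw [deg_single, hP] at h2
  push_cast at h1 h2
  omega

open Classical in
theorem gap_l (hK : IsFunctionField k K) {P : Place k K} (hP : P.deg = 1) (l : ℕ) (hl : 1 ≤ l)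
    (hlg : l ≤ genus k K) :
    l ≤ ((Finset.Icc 1 (2 * l - 1)).filter (fun m : ℕ => Gap P (m : ℤ))).card := by
  by_contra hc
  rw [not_le] at hc
  have htot := gap_count_total hK hP
  -- there is a gap > 2l-1
  have hex : ∃ n : ℕ, 2 * l - 1 < n ∧ Gap P (n : ℤ) := by
    by_contra hno
    push Not at hno
    have hsub : (Finset.Icc 1 (2 * genus k K)).filter (fun m : ℕ => Gap P (m : ℤ)) ⊆
        (Finset.Icc 1 (2 * l - 1)).filter (fun m : ℕ => Gap P (m : ℤ)) := by
      intro m hm
      simp only [Finset.mem_filter, Finset.mem_Icc] at hm ⊢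
      refine ⟨⟨hm.1.1, ?_⟩, hm.2⟩
      by_contra h
      exact hno m (by omega) hm.2
    have := Finset.card_le_card hsub
    omega
  let n := Nat.find hex
  have hn := Nat.find_spec hex
  have hmin : ∀ m, 2 * l - 1 < m → m < n → ¬ Gap P (m : ℤ) := by
    intro m hm1 hm2 hg
    exact Nat.find_min hex hm2 ⟨hm1, hg⟩
  have h1 := gap_half hK n (by have := hn.1; omega) hn.2
  have h2 : (Finset.Icc 1 (n-1)).filter (fun m : ℕ => Gap P (m : ℤ)) ⊆
      (Finset.Icc 1 (2 * l - 1)).filter (fun m : ℕ => Gap P (m : ℤ)) := by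
    intro m hm
    simp only [Finset.mem_filter, Finset.mem_Icc] at hm ⊢
    refine ⟨⟨hm.1.1, ?_⟩, hm.2⟩
    by_contra h
    exact hmin m (by omega) (by omega) hm.2
  have h3 := Finset.card_le_card h2
  have h4 : 2 * l - 1 < n := hn.1
  omega

end Groth.Agent.H16
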