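import Groth.Agent.Lib.H16_FunFldI
import Groth.Prelude.Def_W4bk4goldsch45
import Mathlib.FieldTheory.PrimitiveElement
import Mathlib.FieldTheory.IntermediateField.Algebraic
import Mathlib.Data.Fin.VecNotation

set_option autoImplicit false
open FunFld

namespace Groth.Agent.H16

variable {k K : Type*} [Field k] [Field K] [Algebra k K]

theorem exists_scalar_of_finrank_one {k F : Type*} [Field k] [Field F] [Algebra k F]
    (h : Module.finrank k F = 1) (w : F) : ∃ c : k, c • (1 : F) = w :=
  (finrank_eq_one_iff_of_nonzero' (1 : F) one_ne_zero).mp h w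

/-- values at a degree one place. -/
theorem exists_const {P : Place k K} (hP : P.deg = 1) {w : K} (hw : P.1 w ≤ 1) :
    ∃ c : k, P.1 (w - algebraMap k K c) < 1 := by
  obtain ⟨c, hc⟩ := @exists_scalar_of_finrank_one k (IsLocalRing.ResidueField P.O) _ _ (Place.algRes P) hP
    (resLin P ⟨w, hw⟩)
  refine ⟨c, ?_⟩
  have h1 : P.1 (1 : K) ≤ 1 := by rw [map_one]
  have h2 : resLin P ⟨1, h1⟩ = 1 := by
    change IsLocalRing.residue P.O ⟨1, _⟩ = 1
    rw [← map_one (IsLocalRing.residue P.O)]; rfl
  have h3 : resLin P (⟨w, hw⟩ - c • ⟨1, h1⟩) = 0 := by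
    rw [map_sub, map_smul, h2, ← hc]
    exact sub_self _
  rw [resLin_eq_zero] at h3
  have h4 : (((⟨w, hw⟩ : subO (k := k) P.O (fun c => P.2.1 c)) - c • ⟨1, h1⟩ : subO (k := k) P.O (fun c => P.2.1 c)) : K) =
      w - algebraMap k K c := by
    change w - c • (1 : K) = _
    rw [Algebra.smul_def, mul_one]
  rwa [h4] at h3

/-- leading coefficient cancellation -/
theorem exists_const' {P : Place k K} (hP : P.deg = 1) {z u : K} {n : ℤ} (hu : P.1 u = WithZero.exp n)
    (hz : P.1 z ≤ WithZero.exp n) : ∃ c : k, P.1 (z - algebraMap k K c * u) ≤ WithZero.exp (n - 1) := by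
  have hu0 : u ≠ 0 := by
    rintro rfl; rw [map_zero] at hu; exact absurd hu.symm WithZero.exp_ne_zero
  obtain ⟨c, hc⟩ := exists_const hP (w := z / u) (by
    rw [map_div₀, hu]
    exact div_le_one_of_le₀ hz zero_le)
  refine ⟨c, ?_⟩
  rw [← lt_exp_iff]
  have h1 : z - algebraMap k K c * u = (z / u - algebraMap k K c) * u := by field_simp
  rw [h1, map_mul, hu]
  calc _ < 1 * WithZero.exp n := by
        apply mul_lt_mul_of_pos_right hc (zero_lt_iff.mpr WithZero.exp_ne_zero)
    _ = _ := one_mul _

theorem exists_const_L {P : Place k K} (hP : P.deg = 1) {z u : K} {n : ℤ}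
    (huL : u ∈ L (Finsupp.single P n : Divisor k K)) (hu : P.1 u = WithZero.exp n)
    (hz : z ∈ L (Finsupp.single P n : Divisor k K)) :
    ∃ c : k, z - algebraMap k K c * u ∈ L (Finsupp.single P (n - 1) : Divisor k K) := by
  have hzP := hz P
  rw [Finsupp.single_eq_same] at hzP
  obtain ⟨c, hc⟩ := exists_const' hP hu hzP
  refine ⟨c, ?_⟩
  have hmem : z - algebraMap k K c * u ∈ L (Finsupp.single P n : Divisor k K) := by
    rw [← Algebra.smul_def]
    exact Submodule.sub_mem _ hz (Submodule.smul_mem _ _ huL)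
  intro Q
  by_cases hQ : Q = P
  · subst hQ; rw [Finsupp.single_eq_same]; exact hc
  · have := hmem Q
    rw [Finsupp.single_eq_of_ne hQ] at this ⊢
    exact this

theorem nongap_of_ge (hK : IsFunctionField k K) {P : Place k K} (hP : P.deg = 1) {m : ℤ}
    (hm : 2 * (genus k K : ℤ) ≤ m) : ¬ Gap P m := by
  intro h
  have h1 := (gap_step hK hP m).1 h
  have h2 := ell_of_deg_ge hK (Finsupp.single P m) (by rw [deg_single, hP]; push_cast; omega)
  have h3 := ell_of_deg_ge hK (Finsupp.single P (m-1)) (by rw [deg_single, hP]; push_cast; omega)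
  rw [deg_single, hP] at h2 h3
  push_cast at h2 h3
  omega

theorem poleDiv_of_nongap (hK : IsFunctionField k K) {P : Place k K} {m : ℤ} (hm : 0 ≤ m) {f : K}
    (hf : f ∈ L (Finsupp.single P m : Divisor k K)) (hfP : P.1 f = WithZero.exp m) :
    poleDiv hK f = Finsupp.single P m := by
  ext Q
  rw [poleDiv_apply]
  by_cases hQ : Q = P
  · subst hQ; rw [hfP, WithZero.log_exp, Finsupp.single_eq_same]; omega
  · have := hf Q
    rw [Finsupp.single_eq_of_ne hQ] at this ⊢
    by_cases h0 : Q.1 f = 0
    · rw [h0]; simp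
    · rw [← WithZero.log_le_iff_le_exp h0] at this; omega

theorem trans_of_val_gt {P : Place k K} (hK : IsFunctionField k K) {m : ℤ} (hm : m ≠ 0) {f : K}
    (hfP : P.1 f = WithZero.exp m) : Transcendental k f := by
  intro ha
  obtain ⟨c, rfl⟩ := hK.2 f ha
  have := log_val_alg P c
  unfold Place.ord at this
  rw [hfP, WithZero.log_exp] at this
  omega

theorem finrank_of_nongap (hK : IsFunctionField k K) {P : Place k K} (hP : P.deg = 1) {m : ℤ} (hm : 0 < m) {f : K}
    (hf : f ∈ L (Finsupp.single P m : Divisor k K)) (hfP : P.1 f = WithZero.exp m) :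
    (Module.finrank (IntermediateField.adjoin k ({f} : Set K)) K : ℤ) = m := by
  rw [← deg_poleDiv hK f (trans_of_val_gt hK hm.ne' hfP), poleDiv_of_nongap hK hm.le hf hfP,
    deg_single, hP]; simp

theorem adjoin_pair_top (hK : IsFunctionField k K) {P : Place k K} (hP : P.deg = 1) {m n : ℤ} (hm : 0 < m)
    (hn : 0 < n) (hmn : IsCoprime m n) {f h : K}
    (hf : f ∈ L (Finsupp.single P m : Divisor k K)) (hfP : P.1 f = WithZero.exp m)
    (hh : h ∈ L (Finsupp.single P n : Divisor k K)) (hhP : P.1 h = WithZero.exp n) :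
    IntermediateField.adjoin k ({f, h} : Set K) = ⊤ := by
  have h1 := finrank_of_nongap hK hP hm hf hfP
  have h2 := finrank_of_nongap hK hP hn hh hhP
  have hfd := fd_adjoin hK (trans_of_val_gt hK hm.ne' hfP)
  have hfd2 := fd_adjoin hK (trans_of_val_gt hK hn.ne' hhP)
  have h3 : IntermediateField.adjoin k ({f} : Set K) ≤ IntermediateField.adjoin k ({f, h} : Set K) :=
    IntermediateField.adjoin.mono _ _ _ (by simp)
  have h4 : IntermediateField.adjoin k ({h} : Set K) ≤ IntermediateField.adjoin k ({f, h} : Set K) :=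
    IntermediateField.adjoin.mono _ _ _ (by simp)
  have d1 := IntermediateField.finrank_dvd_of_le_left h3
  have d2 := IntermediateField.finrank_dvd_of_le_left h4
  have hc : Nat.Coprime (Module.finrank (IntermediateField.adjoin k ({f} : Set K)) K)
      (Module.finrank (IntermediateField.adjoin k ({h} : Set K)) K) := by
    rw [← Nat.isCoprime_iff_coprime, h1, h2]; exact hmn
  have := Nat.eq_one_of_dvd_coprimes hc d1 d2
  exact IntermediateField.finrank_eq_one_iff_eq_top.mp this

/-- `P ∘ σ` -/
def comapPlace (σ : K ≃ₐ[k] K) (P : Place k K) : Place k K :=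
  ⟨P.1.comap (σ : K →+* K), fun c => by
      change P.1 (σ (algebraMap k K c)) ≤ 1
      rw [σ.commutes]; exact P.2.1 c,
    P.2.2.comp σ.surjective⟩

theorem comapPlace_apply (σ : K ≃ₐ[k] K) (P : Place k K) (x : K) : (comapPlace σ P).1 x = P.1 (σ x) := rfl

theorem comapPlace_eq_of_fixed (σ : K ≃ₐ[k] K) (P : Place k K) (h : ∀ x, P.1 x < 1 → P.1 (σ x) < 1) :
    comapPlace σ P = P := by
  apply place_ext
  intro z hz
  rw [comapPlace_apply] at hz
  by_contra hc
  rw [not_le] at hc
  have hz0 : P.1 z ≠ 0 := (zero_lt_one.trans hc).ne'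
  have h1 : P.1 z⁻¹ < 1 := by rw [map_inv₀]; exact inv_lt_one_of_one_lt₀ hc
  have h2 := h _ h1
  rw [map_inv₀ σ, map_inv₀] at h2
  have h0 : P.1 (σ z) ≠ 0 := by
    rw [map_ne_zero]
    intro h3
    rw [map_eq_zero] at h3
    rw [h3, map_zero] at hz0; exact hz0 rfl
  exact absurd hz (not_le.mpr ((inv_lt_one₀ (zero_lt_iff.mpr h0)).mp h2))

theorem aut_fix [IsAlgClosed k] (hK : IsFunctionField k K) (σ : K ≃ₐ[k] K)
    (h : ((2 * genus k K + 2 : ℕ) : ℕ∞) <
      Set.encard {P : Place k K | ∀ x : K, P.1 x < 1 → P.1 (σ x) < 1}) : σ = 1 := by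
  classical
  set F := {P : Place k K | ∀ x : K, P.1 x < 1 → P.1 (σ x) < 1} with hF
  have hne : F.Nonempty := by
    rw [← Set.encard_ne_zero]; intro h0; rw [h0] at h; exact not_lt_zero h
  obtain ⟨P₀, hP₀⟩ := hne
  have hfix : ∀ P ∈ F, comapPlace σ P = P := fun P hP => comapPlace_eq_of_fixed σ P hP
  have hcard : ((2 * genus k K + 2 : ℕ) : ℕ∞) ≤ (F \ {P₀}).encard := by
    have h1 := Set.encard_sdiff_singleton_add_one hP₀
    rw [← h1] at h
    exact (ENat.lt_add_one_iff' (ENat.coe_ne_top _)).mp h
  obtain ⟨T, hT, hTc⟩ := Set.exists_subset_encard_eq hcard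
  have hTfin : T.Finite := Set.finite_of_encard_eq_coe hTc
  have hTn : hTfin.toFinset.card = 2 * genus k K + 2 := by
    rw [hTfin.encard_eq_coe_toFinset_card] at hTc
    exact_mod_cast hTc
  have key : ∀ x ∈ L (Finsupp.single P₀ ((2 * genus k K + 1 : ℕ) : ℤ) : Divisor k K), σ x = x := by
    intro x hx
    by_contra hne
    have hz0 : x - σ x ≠ 0 := sub_ne_zero.mpr (Ne.symm hne)
    have hxσ : ∀ Q : Place k K, Q.1 (σ x) ≤ WithZero.exp ((Finsupp.single P₀ ((2 * genus k K + 1 : ℕ) : ℤ) : Divisor k K) Q) := by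
      intro Q
      rw [← comapPlace_apply]
      by_cases hQ : Q = P₀
      · subst hQ; rw [hfix _ hP₀]; exact hx _
      · have h1 : comapPlace σ Q ≠ P₀ := by
          intro h2
          apply hQ
          rw [← hfix _ hP₀] at h2
          apply Subtype.ext
          apply Valuation.ext
          intro y
          have h3 := congrArg (fun R : Place k K => R.1 (σ.symm y)) h2
          simp only [comapPlace_apply, AlgEquiv.apply_symm_apply] at h3
          exact h3
        have h2 := hx (comapPlace σ Q)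
        rw [Finsupp.single_eq_of_ne h1] at h2
        rw [Finsupp.single_eq_of_ne hQ]
        exact h2
    have hzL : x - σ x ∈ L ((Finsupp.single P₀ ((2 * genus k K + 1 : ℕ) : ℤ) : Divisor k K) - ∑ P ∈ hTfin.toFinset, Finsupp.single P 1) := by
      intro Q
      have hs : (∑ P ∈ hTfin.toFinset, (Finsupp.single P 1 : Divisor k K)) Q = if Q ∈ T then 1 else 0 := by
        rw [Finsupp.finsetSum_apply]
        split_ifs with h1
        · rw [Finset.sum_eq_single Q]
          · simp
          · intro R _ hR; exact Finsupp.single_eq_of_ne hR.symm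
          · intro h2; exact absurd (hTfin.mem_toFinset.mpr h1) h2
        · apply Finset.sum_eq_zero
          intro R hR
          exact Finsupp.single_eq_of_ne (by rintro rfl; exact h1 (hTfin.mem_toFinset.mp hR))
      rw [Finsupp.sub_apply, hs]
      by_cases hQT : Q ∈ T
      · rw [if_pos hQT]
        have hQF := hT hQT
        have hQP : Q ≠ P₀ := fun h => hQF.2 h
        rw [Finsupp.single_eq_of_ne hQP, ← lt_exp_iff, WithZero.exp_zero]
        have hxQ : Q.1 x ≤ 1 := by
          have := hx Q; rw [Finsupp.single_eq_of_ne hQP] at this; exact this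
        obtain ⟨c, hc⟩ := exists_const (deg_eq_one_of_algClosed hK Q) hxQ
        have h2 : Q.1 (σ x - algebraMap k K c) < 1 := by
          have h3 := hQF.1 _ hc
          rwa [map_sub, σ.commutes] at h3
        have h3 : x - σ x = (x - algebraMap k K c) - (σ x - algebraMap k K c) := by ring
        rw [h3]
        exact Valuation.map_sub_lt _ hc h2
      · rw [if_neg hQT, sub_zero]
        exact (Valuation.map_sub_le Q.1 (hx Q) (hxσ Q))
    rw [L_eq_bot_of_neg hK _ (by
      have hd : Divisor.deg (∑ P ∈ hTfin.toFinset, (Finsupp.single P 1 : Divisor k K)) = 2 * genus k K + 2 := by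
        have : ∀ S : Finset (Place k K), Divisor.deg (∑ P ∈ S, (Finsupp.single P 1 : Divisor k K)) = S.card := by
          intro S
          induction S using Finset.induction_on with
          | empty => simp [deg_zero]
          | insert a S ha ih =>
            rw [Finset.sum_insert ha, deg_add, ih, deg_single, deg_eq_one_of_algClosed hK,
              Finset.card_insert_of_notMem ha]
            push_cast; ring
        rw [this, hTn]; push_cast; ring
      rw [deg_sub, hd, deg_single, deg_eq_one_of_algClosed hK]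
      push_cast; omega)] at hzL
    exact hz0 ((Submodule.mem_bot k).mp hzL)
  have hP1 := deg_eq_one_of_algClosed hK P₀
  -- generators
  obtain ⟨f, hf, hfP⟩ := (nongap_iff hK _).mp (nongap_of_ge hK hP1 (m := 2 * genus k K + 1) (by omega))
  obtain ⟨h', hh, hhP⟩ : ∃ h' ∈ L (Finsupp.single P₀ ((2 * genus k K + 1 : ℕ) : ℤ) : Divisor k K),
      IntermediateField.adjoin k ({h', f} : Set K) = ⊤ := by
    by_cases hg : genus k K = 0
    · refine ⟨0, Submodule.zero_mem _, ?_⟩
      have h1 := finrank_of_nongap hK hP1 (by omega) hf hfP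
      rw [hg] at h1
      have h2 : Module.finrank (IntermediateField.adjoin k ({f} : Set K)) K = 1 := by
        have : ((2 * ((0:ℕ):ℤ) + 1)) = 1 := by norm_num
        rw [this] at h1; exact_mod_cast h1
      have h3 := IntermediateField.finrank_eq_one_iff_eq_top.mp h2
      rw [eq_top_iff, ← h3]
      exact IntermediateField.adjoin.mono _ _ _ (by simp)
    · obtain ⟨h', hh, hhP⟩ := (nongap_iff hK _).mp (nongap_of_ge hK hP1 (m := 2 * genus k K) le_rfl)
      refine ⟨h', L_mono ?_ hh, ?_⟩
      · rw [Finsupp.single_le_single]; push_cast; omega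
      · refine adjoin_pair_top hK hP1 (by omega) (by omega) ?_ hh hhP hf hfP
        exact ⟨-1, 1, by ring⟩
  let E : IntermediateField k K :=
    { AlgHom.equalizer (σ : K →ₐ[k] K) (AlgHom.id k K) with
      inv_mem' := by
        intro x hx
        have hx : σ x = x := hx
        change σ x⁻¹ = x⁻¹
        rw [map_inv₀, hx] }
  have hE : ∀ x, x ∈ E ↔ σ x = x := fun x => Iff.rfl
  have hle : IntermediateField.adjoin k ({h', f} : Set K) ≤ E := by
    rw [IntermediateField.adjoin_le_iff]
    rintro z (rfl | rfl)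
    · exact (hE _).mpr (key _ hh)
    · refine (hE _).mpr (key _ ?_)
      push_cast; exact hf
  rw [hhP] at hle
  ext x
  exact (hE x).mp (hle trivial)

end Groth.Agent.H16
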