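import Groth.Agent.Lib.H16_FunFldJ

set_option autoImplicit false
open FunFld

namespace Groth.Agent.H16

variable {k K : Type*} [Field k] [Field K] [Algebra k K]

theorem mapDiv_apply (hK : IsFunctionField k K) {ι : Type*} [Fintype ι] [Nonempty ι] (φ : ι → K)
    (P : Place k K) :
    mapDiv k φ P = -Finset.univ.inf' Finset.univ_nonempty (fun i => P.ord (φ i)) := by
  have hfin : (Function.support fun P : Place k K =>
      -Finset.univ.inf' Finset.univ_nonempty (fun i => P.ord (φ i))).Finite := by
    refine (Set.finite_iUnion fun i => finite_support hK (φ i)).subset ?_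
    intro P hP
    by_contra hc
    rw [Set.mem_iUnion, not_exists] at hc
    apply hP
    have : ∀ i, P.ord (φ i) = 0 := fun i => by
      have := hc i
      rwa [Function.mem_support, not_not] at this
    have h2 : (fun i => P.ord (φ i)) = fun _ => 0 := funext this
    change -Finset.univ.inf' Finset.univ_nonempty (fun i => P.ord (φ i)) = 0
    rw [h2, Finset.inf'_const, neg_zero]
  unfold mapDiv
  rw [dif_pos hfin]
  rfl

theorem mapDiv_spec (hK : IsFunctionField k K) {ι : Type*} [Fintype ι] [Nonempty ι] (φ : ι → K)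
    (P : Place k K) :
    (∀ i, WithZero.log (P.1 (φ i)) ≤ mapDiv k φ P) ∧ ∃ i, mapDiv k φ P = WithZero.log (P.1 (φ i)) := by
  rw [mapDiv_apply hK]
  constructor
  · intro i
    have := Finset.inf'_le (fun i => P.ord (φ i)) (Finset.mem_univ i)
    change _ ≤ -(WithZero.log (P.1 (φ i))) at this
    omega
  · obtain ⟨i, _, hi⟩ := Finset.exists_mem_eq_inf' (Finset.univ_nonempty (α := ι)) (fun i => P.ord (φ i))
    refine ⟨i, ?_⟩
    rw [hi]
    change -(-(WithZero.log (P.1 (φ i)))) = _
    rw [neg_neg]

theorem val_const_mul_lt {P : Place k K} {c : k} (hc : c ≠ 0) (x : K) :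
    P.1 (algebraMap k K c * x) = P.1 x := by rw [map_mul, val_const P hc, one_mul]

theorem sum_formula (r : ℕ) : ∀ d : ℕ, d ≤ r + 1 →
    2 * ((∑ i ∈ Finset.range d, (r + 1 - i) : ℕ) : ℤ) = d * (2 * (r + 1) - (d - 1)) := by
  intro d
  induction d with
  | zero => simp
  | succ d ih =>
    intro h
    rw [Finset.sum_range_succ]
    push_cast
    have h1 := ih (by omega)
    rw [mul_add]
    push_cast at h1
    rw [h1, Nat.cast_sub (by omega)]
    push_cast; ring

theorem linInd_pow_k {F : Type*} [Field F] [Algebra k F] {x : F} (ht : Transcendental k x) (r : ℕ) :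
    LinearIndependent k (fun j : Fin (r+1) => x ^ (j : ℕ)) := by
  rw [Fintype.linearIndependent_iff]
  intro g hg
  have h2 : Polynomial.aeval x (∑ j : Fin (r+1), Polynomial.monomial (j : ℕ) (g j)) = 0 := by
    rw [map_sum, ← hg]
    apply Finset.sum_congr rfl
    intro j _
    rw [Polynomial.aeval_monomial, Algebra.smul_def]
  have h3 : (∑ j : Fin (r+1), Polynomial.monomial (j : ℕ) (g j)) = 0 := by
    by_contra hne
    exact ht ⟨_, hne, h2⟩
  intro i
  have h4 := congrArg (fun q => Polynomial.coeff q (i : ℕ)) h3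
  simp only [Polynomial.finsetSum_coeff, Polynomial.coeff_monomial, Polynomial.coeff_zero] at h4
  rw [Finset.sum_eq_single i] at h4
  · simpa using h4
  · intro b _ hb
    rw [if_neg]
    intro h; exact hb (Fin.val_injective h)
  · simp

/-- if `K = k(w)(x)` and `x, w ∈ L(D)`, where `D` is the polar divisor of `w` -/
theorem genus_bound (hK : IsFunctionField k K) (x w : K) (hw : Transcendental k w)
    (htop : IntermediateField.adjoin (IntermediateField.adjoin k ({w} : Set K)) ({x} : Set K) = ⊤)
    (hx : x ∈ L (poleDiv hK w)) :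
    2 * (genus k K : ℤ) ≤ ((poleDiv hK w).deg - 1) * ((poleDiv hK w).deg - 2) := by
  classical
  have hfd := fd_adjoin hK hw
  set D := poleDiv hK w with hD
  have hDn : 0 ≤ D := poleDiv_nonneg hK w
  have hdeg := deg_poleDiv hK w hw
  set F := IntermediateField.adjoin k ({w} : Set K) with hF
  set d := Module.finrank F K with hd
  have hmin : (minpoly F x).natDegree = d := (Field.primitive_element_iff_minpoly_natDegree_eq F x).mp htop
  have hli : LinearIndependent F fun i : Fin d => x ^ (i : ℕ) := by
    have h1 := linearIndependent_pow (K := F) x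
    rw [hmin] at h1
    exact h1
  obtain ⟨_, N, hN⟩ := riemann hK
  have hdpos : 0 < d := Module.finrank_pos
  set r : ℕ := N.toNat + d with hr
  have hDr : (r • D).deg = r * d := by rw [deg_nsmul, hdeg]
  have h2 := hN (r • D) (by
    rw [hDr]
    have : (r : ℤ) ≤ r * d := le_mul_of_one_le_right (by positivity) (by exact_mod_cast hdpos)
    omega)
  let wF : F := ⟨w, IntermediateField.mem_adjoin_simple_self k w⟩
  have hwF : Transcendental k wF := by
    intro h; exact hw (h.algebraMap (A := K))
  have hprod : LinearIndependent k fun p : Fin (r+1) × Fin d => (wF ^ (p.1 : ℕ)) • (x ^ (p.2 : ℕ)) :=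
    linearIndependent_smul (linInd_pow_k hwF r) hli
  let e : (Σ i : Fin d, Fin (r + 1 - i)) → Fin (r+1) × Fin d := fun p => (⟨p.2, by have := p.2.2; omega⟩, p.1)
  have he : Function.Injective e := by
    rintro ⟨i, j⟩ ⟨i', j'⟩ h
    simp only [e, Prod.mk.injEq, Fin.mk.injEq] at h
    obtain ⟨h1, rfl⟩ := h
    congr
    exact Fin.ext h1
  have hli2 := hprod.comp e he
  have hmem : ∀ p : (Σ i : Fin d, Fin (r + 1 - i)), (wF ^ ((e p).1 : ℕ)) • (x ^ ((e p).2 : ℕ)) ∈ L (r • D) := by
    rintro ⟨i, j⟩
    have h1 : (wF ^ (j : ℕ)) • (x ^ (i : ℕ)) = w ^ (j : ℕ) * x ^ (i : ℕ) := rfl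
    change (wF ^ (j : ℕ)) • (x ^ (i : ℕ)) ∈ _
    rw [h1]
    have h3 := mul_mem_L (pow_mem_L (mem_L_poleDiv hK w) (j : ℕ)) (pow_mem_L hx (i : ℕ))
    rw [← add_nsmul] at h3
    refine L_mono ?_ h3
    exact nsmul_le_nsmul_left hDn (by have := j.2; omega)
  have hli3 : LinearIndependent k fun p : (Σ i : Fin d, Fin (r + 1 - i)) => (⟨_, hmem p⟩ : L (r • D)) := by
    apply LinearIndependent.of_comp (L (r • D)).subtype
    exact hli2
  have hfL := finite_L hK (r • D)
  have hcard := hli3.fintype_card_le_finrank
  rw [Fintype.card_sigma] at hcard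
  simp only [Fintype.card_fin] at hcard
  change _ ≤ ell (r • D) at hcard
  rw [Fin.sum_univ_eq_sum_range (fun i => r + 1 - i) d] at hcard
  have hsum := sum_formula r d (by omega)
  have hc2 : ((∑ i ∈ Finset.range d, (r + 1 - i) : ℕ) : ℤ) ≤ (ell (r • D) : ℤ) := by exact_mod_cast hcard
  rw [hDr] at h2
  rw [hdeg]
  nlinarith

theorem plane_genus [IsAlgClosed k] (hK : IsFunctionField k K) (x y : K)
    (hxy : IntermediateField.adjoin k ({x, y} : Set K) = ⊤) :
    2 * (genus k K : ℤ) ≤
      ((mapDiv k ![(1 : K), x, y]).deg - 1) * ((mapDiv k ![(1 : K), x, y]).deg - 2) := by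
  classical
  set D := mapDiv k ![(1 : K), x, y] with hD
  have h0 : ∀ P : Place k K, 0 ≤ D P := fun P => by
    have := (mapDiv_spec hK ![(1 : K), x, y] P).1 0
    simpa using this
  have hxD : ∀ P : Place k K, WithZero.log (P.1 x) ≤ D P := fun P =>
    (mapDiv_spec hK ![(1 : K), x, y] P).1 1
  have hyD : ∀ P : Place k K, WithZero.log (P.1 y) ≤ D P := fun P =>
    (mapDiv_spec hK ![(1 : K), x, y] P).1 2
  have hcase : ∀ P : Place k K, D P = 0 ∨ D P = WithZero.log (P.1 x) ∨ D P = WithZero.log (P.1 y) := by
    intro P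
    obtain ⟨i, hi⟩ := (mapDiv_spec hK ![(1 : K), x, y] P).2
    fin_cases i
    · left; rw [hD, hi]; simp
    · right; left; exact hi
    · right; right; exact hi
  have hxL : ∀ P : Place k K, P.1 x ≤ WithZero.exp (D P) := fun P =>
    WithZero.le_exp_log.trans (WithZero.exp_le_exp.mpr (hxD P))
  have hyL : ∀ P : Place k K, P.1 y ≤ WithZero.exp (D P) := fun P =>
    WithZero.le_exp_log.trans (WithZero.exp_le_exp.mpr (hyD P))
  -- the bad constants
  let B : Place k K → Set k := fun P => {c | 0 < D P ∧ P.1 (y + algebraMap k K c * x) < WithZero.exp (D P)}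
  have hB : ∀ P, (B P).Subsingleton := by
    rintro P c ⟨hp, hc⟩ c' ⟨_, hc'⟩
    by_contra hne
    have hcc : c - c' ≠ 0 := sub_ne_zero.mpr hne
    have h1 : P.1 (algebraMap k K (c - c') * x) < WithZero.exp (D P) := by
      have : algebraMap k K (c - c') * x = (y + algebraMap k K c * x) - (y + algebraMap k K c' * x) := by
        rw [map_sub]; ring
      rw [this]; exact Valuation.map_sub_lt _ hc hc'
    rw [val_const_mul_lt hcc] at h1
    have h2 : P.1 (algebraMap k K c * x) < WithZero.exp (D P) := by
      rw [map_mul]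
      exact lt_of_le_of_lt (mul_le_of_le_one_left' (P.2.1 c)) h1
    have h3 : P.1 y < WithZero.exp (D P) := by
      have : y = (y + algebraMap k K c * x) - algebraMap k K c * x := by ring
      rw [this]; exact Valuation.map_sub_lt _ hc h2
    rcases hcase P with h | h | h
    · omega
    · by_cases hz : P.1 x = 0
      · rw [hz, WithZero.log_zero] at h; omega
      · rw [h, WithZero.exp_log hz] at h1; exact lt_irrefl _ h1
    · by_cases hz : P.1 y = 0
      · rw [hz, WithZero.log_zero] at h; omega
      · rw [h, WithZero.exp_log hz] at h3; exact lt_irrefl _ h3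
  have hBfin : (⋃ P ∈ D.support, B P).Finite := by
    apply Set.Finite.biUnion D.support.finite_toSet
    intro P _
    exact (hB P).finite
  obtain ⟨c, hc⟩ := hBfin.exists_notMem
  set w := y + algebraMap k K c * x with hw
  have hwP : ∀ P : Place k K, 0 < D P → P.1 w = WithZero.exp (D P) := by
    intro P hP
    apply le_antisymm
    · apply Valuation.map_add_le _ (hyL P)
      rw [map_mul]
      exact (mul_le_of_le_one_left' (P.2.1 c)).trans (hxL P)
    · by_contra hlt
      rw [not_le] at hlt
      apply hc
      rw [Set.mem_iUnion₂]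
      exact ⟨P, Finsupp.mem_support_iff.mpr hP.ne', hP, hlt⟩
  have hpole : poleDiv hK w = D := by
    ext P
    rw [poleDiv_apply]
    rcases lt_or_eq_of_le (h0 P) with hP | hP
    · rw [hwP P hP, WithZero.log_exp]; omega
    · rw [← hP]
      apply max_eq_right
      have h1 : P.1 w ≤ WithZero.exp 0 := by
        rw [hP]
        apply Valuation.map_add_le _ (hyL P)
        rw [map_mul]
        exact (mul_le_of_le_one_left' (P.2.1 c)).trans (hxL P)
      by_cases hz : P.1 w = 0
      · rw [hz, WithZero.log_zero]
      · rwa [← WithZero.log_le_iff_le_exp hz] at h1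
  have hwt : Transcendental k w := by
    by_contra hwa
    have hwa : IsAlgebraic k w := by unfold Transcendental at hwa; exact not_not.mp hwa
    have hD0 : D = 0 := by
      rw [← hpole]
      obtain ⟨b, hb⟩ := hK.2 w hwa
      rw [← hb]
      ext P
      rw [poleDiv_apply]
      have := log_val_alg P b
      unfold Place.ord at this
      rw [Finsupp.zero_apply]; omega
    have hconst : ∀ z : K, (∀ P : Place k K, P.1 z ≤ WithZero.exp (D P)) → z ∈ Set.range (algebraMap k K) := by
      intro z hz
      have : z ∈ L (0 : Divisor k K) := by rw [← hD0]; exact hz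
      rw [L_zero_eq hK, Submodule.mem_one] at this
      exact this
    obtain ⟨z, hz⟩ := exists_trans hK
    apply hz
    have hz' : z ∈ IntermediateField.adjoin k ({x, y} : Set K) := by rw [hxy]; trivial
    have hle : IntermediateField.adjoin k ({x, y} : Set K) ≤ ⊥ := by
      rw [IntermediateField.adjoin_le_iff]
      rintro t (rfl | rfl)
      · exact IntermediateField.mem_bot.mpr (hconst _ hxL)
      · exact IntermediateField.mem_bot.mpr (hconst _ hyL)
    obtain ⟨b, rfl⟩ := IntermediateField.mem_bot.mp (hle hz')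
    exact isAlgebraic_algebraMap b
  have htop : IntermediateField.adjoin (IntermediateField.adjoin k ({w} : Set K)) ({x} : Set K) = ⊤ := by
    apply IntermediateField.restrictScalars_injective k
    rw [IntermediateField.adjoin_adjoin_left, IntermediateField.restrictScalars_top, eq_top_iff, ← hxy,
      IntermediateField.adjoin_le_iff]
    have hxm : x ∈ IntermediateField.adjoin k ({w} ∪ {x} : Set K) :=
      IntermediateField.subset_adjoin _ _ (by simp)
    have hwm : w ∈ IntermediateField.adjoin k ({w} ∪ {x} : Set K) :=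
      IntermediateField.subset_adjoin _ _ (by simp)
    rintro t (rfl | rfl)
    · exact hxm
    · have : t = w - algebraMap k K c * x := by rw [hw]; ring
      rw [SetLike.mem_coe, this]
      exact sub_mem hwm (mul_mem (IntermediateField.algebraMap_mem _ c) hxm)
  have := genus_bound hK x w hwt htop (by rw [hpole]; exact hxL)
  rwa [hpole] at this

end Groth.Agent.H16
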