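import Groth.Agent.Lib.H16_FunFldJ
import Groth.Prelude.Def_W4bk4goldsch23Ext

set_option autoImplicit false
open FunFld Groth.Agent.H16

namespace Groth.Agent.H16g

variable {k K : Type*} [Field k] [Field K] [Algebra k K]

/-- finite over `k(x)` for a transcendental `x`. -/
def FF (k K : Type*) [Field k] [Field K] [Algebra k K] : Prop :=
  ∃ x : K, Transcendental k x ∧ FiniteDimensional (IntermediateField.adjoin k ({x} : Set K)) K

theorem mem_of_alg (V : ValuationSubring K) (hV : ∀ c : k, algebraMap k K c ∈ V) {y : K}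
    (hy : IsAlgebraic k y) : y ∈ V := by
  let _ : Algebra k V := ((algebraMap k K).codRestrict V hV).toAlgebra
  have : IsScalarTower k V K := IsScalarTower.of_algebraMap_eq (fun c => rfl)
  have h1 : IsIntegral k y := hy.isIntegral
  have h2 : IsIntegral V y := h1.tower_top
  obtain ⟨z, hz⟩ := IsIntegrallyClosed.isIntegral_iff.mp h2
  rw [← hz]; exact z.2

theorem val_alg (P : Place k K) {y : K} (hy : IsAlgebraic k y) (hy0 : y ≠ 0) : P.1 y = 1 := by
  have h1 : P.1 y ≤ 1 := mem_of_alg P.O (fun c => P.2.1 c) hy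
  have h2 : P.1 y⁻¹ ≤ 1 := mem_of_alg P.O (fun c => P.2.1 c) hy.inv
  apply le_antisymm h1
  rw [map_inv₀] at h2
  exact (inv_le_one₀ (zero_lt_iff.mpr (by simpa using hy0))).mp h2

theorem essFT (hK : FF k K) : Algebra.EssFiniteType k K := by
  obtain ⟨x, hx, hfin⟩ := hK
  have h1 := essFT_adjoin (k := k) x
  have h2 : Algebra.EssFiniteType (IntermediateField.adjoin k ({x} : Set K)) K := inferInstance
  exact Algebra.EssFiniteType.comp k (IntermediateField.adjoin k {x}) K

open scoped IntermediateField.algebraAdjoinAdjoin in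
theorem trdeg_le_one (hK : FF k K) : Algebra.trdeg k K ≤ 1 := by
  obtain ⟨x, hx, hfin⟩ := hK
  have h0 : Algebra.IsAlgebraic (IntermediateField.adjoin k ({x} : Set K)) K := inferInstance
  have h1 : Algebra.IsAlgebraic (Algebra.adjoin k ({x} : Set K)) K := by
    exact (IsFractionRing.comap_isAlgebraic_iff (A := Algebra.adjoin k ({x} : Set K))
      (K := IntermediateField.adjoin k ({x} : Set K)) (C := K)).mpr h0
  exact (Algebra.IsAlgebraic.trdeg_le_cardinalMk (R := k) (s := ({x} : Set K))).trans (by simp)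

theorem fd_adjoin (hK : FF k K) {y : K} (hy : Transcendental k y) :
    FiniteDimensional (IntermediateField.adjoin k ({y} : Set K)) K := by
  have hE : Algebra.EssFiniteType k K := essFT hK
  have htr := trdeg_le_one hK
  have hyi : AlgebraicIndependent k (fun _ : Unit => y) :=
    algebraicIndependent_unique_type_iff.mpr hy
  have hb : IsTranscendenceBasis k (fun _ : Unit => y) :=
    hyi.isTranscendenceBasis_of_lift_trdeg_le_of_finite (by simpa using htr)
  have h2 := hb.isAlgebraic_field
  rw [Set.range_const] at h2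
  have h3 : Algebra.EssFiniteType (IntermediateField.adjoin k ({y} : Set K)) K :=
    Algebra.EssFiniteType.of_comp k _ K
  exact Algebra.finite_of_essFiniteType_of_isAlgebraic

theorem trans_of_lt (hK : FF k K) (P : Place k K) {y : K} (hy0 : y ≠ 0)
    (hy : P.1 y < 1) : Transcendental k y := by
  intro h
  rw [val_alg P h hy0] at hy
  exact lt_irrefl _ hy

theorem rank_bound (hK : FF k K) (y : K) (hy : Transcendental k y) (M : Submodule k K)
    (hM : ∀ m ∈ M, y * m ∈ M) {V : Type*} [AddCommGroup V] [Module k V] (φ : M →ₗ[k] V)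
    (hφ : Function.Surjective φ) (hφy : ∀ (m : K) (hm : m ∈ M), φ ⟨y * m, hM m hm⟩ = 0) :
    FiniteDimensional k V ∧
      Module.finrank k V ≤ Module.finrank (IntermediateField.adjoin k ({y} : Set K)) K := by
  have hfd := fd_adjoin hK hy
  have key : Module.rank k V ≤ (Module.finrank (IntermediateField.adjoin k ({y} : Set K)) K : ℕ) := by
    apply rank_le
    intro s hs
    choose u hu using fun i : s => hφ (i : V)
    have := linInd_of_mod y hy M hM (fun i : s => (u i : K)) (fun i => (u i).2) (by
      rintro c ⟨m, hm, h⟩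
      have h1 : ∑ i : s, c i • (i : V) = 0 := by
        rw [← hφy m hm]
        have : (⟨y * m, hM m hm⟩ : M) = ∑ i : s, c i • u i := by
          apply Subtype.ext
          simp [← h]
        rw [this, map_sum]
        simp [hu]
      funext i
      exact (Fintype.linearIndependent_iff.mp hs) c h1 i)
    have h2 := this.fintype_card_le_finrank
    simpa using h2
  refine ⟨?_, Module.finrank_le_of_rank_le key⟩
  rw [FiniteDimensional, ← Module.rank_lt_aleph0_iff]
  exact key.trans_lt (Cardinal.natCast_lt_aleph0)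

theorem finite_residue (hK : FF k K) (P : Place k K) :
    FiniteDimensional k (IsLocalRing.ResidueField P.O) := by
  obtain ⟨y, hy0, hy, hylt⟩ := exists_unif P
  have htr := trans_of_lt hK P hy0 hylt
  have hM : ∀ m ∈ subO (k := k) P.O (fun c => P.2.1 c), y * m ∈ subO (k := k) P.O (fun c => P.2.1 c) :=
    fun m hm => P.O.mul_mem _ _ hylt.le hm
  refine (rank_bound hK y htr _ hM (resLin P) (resLin_surj P) ?_).1
  intro m hm
  rw [resLin_eq_zero]
  change P.1 (y * m) < 1
  rw [map_mul]
  exact mul_lt_one_of_lt_of_le hylt hm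

theorem noeth_of_fieldType (hK : FF k K) (V : ValuationSubring K)
    (hV : ∀ c : k, algebraMap k K c ∈ V) : IsNoetherianRing V := by
  let _ : Algebra k V := ((algebraMap k K).codRestrict V hV).toAlgebra
  rw [isNoetherianRing_iff_ideal_fg]
  intro I
  by_cases hI : I = ⊤
  · rw [hI]; exact ⟨{1}, by simp⟩
  by_cases hI0 : I = ⊥
  · rw [hI0]; exact Submodule.fg_bot
  obtain ⟨z, hzI, hz0⟩ := Submodule.exists_mem_ne_zero_of_ne_bot hI0
  have hzu : ¬ IsUnit z := fun h => hI (Ideal.eq_top_of_isUnit_mem I hzI h)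
  have hz0' : (z : K) ≠ 0 := fun h => hz0 (Subtype.ext h)
  have htr : Transcendental k (z : K) := by
    intro h
    apply hzu
    exact IsUnit.of_mul_eq_one ⟨(z : K)⁻¹, mem_of_alg V hV h.inv⟩ (Subtype.ext (mul_inv_cancel₀ hz0'))
  let M : Submodule k K := subO V hV
  have hM : ∀ m ∈ M, (z : K) * m ∈ M := fun m hm => V.mul_mem _ _ z.2 hm
  let Q := V ⧸ Ideal.span ({z} : Set V)
  let φ : M →ₗ[k] Q :=
    { toFun := fun m => Ideal.Quotient.mk _ ⟨m.1, m.2⟩
      map_add' := fun a b => by rw [← map_add]; rfl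
      map_smul' := fun c m => by
        change _ = Ideal.Quotient.mk (Ideal.span ({z} : Set V)) (algebraMap k V c) * Ideal.Quotient.mk _ ⟨m.1, m.2⟩
        rw [← map_mul]
        congr 1
        apply Subtype.ext
        change ((c • m : M) : K) = _
        rw [Submodule.coe_smul, Algebra.smul_def]
        rfl }
  have hfin := (rank_bound hK (z : K) htr M hM φ (by
    intro w
    obtain ⟨w, rfl⟩ := Ideal.Quotient.mk_surjective w
    exact ⟨⟨w.1, w.2⟩, rfl⟩) (by
    intro m hm
    change Ideal.Quotient.mk (Ideal.span ({z} : Set V)) ⟨z * m, _⟩ = 0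
    rw [Ideal.Quotient.eq_zero_iff_mem]
    exact Ideal.mem_span_singleton.mpr ⟨⟨m, hm⟩, rfl⟩)).1
  have hN : IsNoetherian k Q := IsNoetherian.iff_fg.mpr hfin
  have hN2 : IsNoetherian V Q := isNoetherian_of_tower k hN
  apply Submodule.fg_of_fg_map_of_fg_inf_ker (Submodule.mkQ (Ideal.span ({z} : Set V)))
  · exact hN2.noetherian _
  · rw [Submodule.ker_mkQ, inf_eq_right.mpr]
    · exact ⟨{z}, by simp⟩
    · rw [Ideal.span_le]; simpa using hzI

theorem exists_place (hK : FF k K) (V : ValuationSubring K)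
    (hV : ∀ c : k, algebraMap k K c ∈ V) (hne : ∃ z : K, z ∉ V) :
    ∃ P : Place k K, P.O = V := by
  have hN := noeth_of_fieldType hK V hV
  have hnf : ¬ IsField V := by
    intro h
    obtain ⟨z, hz⟩ := hne
    have hz' : z⁻¹ ∈ V := (V.mem_or_inv_mem z).resolve_left hz
    have hz0 : z ≠ 0 := by rintro rfl; exact hz V.zero_mem
    obtain ⟨w, hw⟩ := h.mul_inv_cancel (a := (⟨z⁻¹, hz'⟩ : V)) (by
      intro h0; exact inv_ne_zero hz0 (congrArg Subtype.val h0))
    have : z⁻¹ * (w : K) = 1 := congrArg Subtype.val hw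
    have : z = w := by field_simp at this; exact this.symm
    exact hz (this ▸ w.2)
  have hvr : ValuationRing V := inferInstance
  have hdvr : IsDiscreteValuationRing V :=
    ((IsDiscreteValuationRing.TFAE V hnf).out 0 1 :
      IsDiscreteValuationRing V ↔ ValuationRing V).mpr hvr
  let v : Valuation K (WithZero (Multiplicative ℤ)) :=
    (IsDiscreteValuationRing.maximalIdeal V).valuation K
  have hvV : ∀ z : K, v z ≤ 1 ↔ z ∈ V := by
    intro z
    constructor
    · intro h
      by_contra hz
      have hz' : z⁻¹ ∈ V := (V.mem_or_inv_mem z).resolve_left hz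
      have hz0 : z ≠ 0 := by rintro rfl; exact hz V.zero_mem
      have h1 : v z⁻¹ < 1 := by
        change (IsDiscreteValuationRing.maximalIdeal V).valuation K (algebraMap V K ⟨z⁻¹, hz'⟩) < 1
        rw [IsDedekindDomain.HeightOneSpectrum.valuation_lt_one_iff_mem]
        change _ ∈ IsLocalRing.maximalIdeal V
        rw [IsLocalRing.mem_maximalIdeal, mem_nonunits_iff]
        intro hu
        obtain ⟨b, hb⟩ := hu.exists_right_inv
        have : z⁻¹ * (b : K) = 1 := congrArg Subtype.val hb
        have : z = b := by field_simp at this; exact this.symm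
        exact hz (this ▸ b.2)
      rw [map_inv₀] at h1
      have h2 : v z ≠ 0 := by simpa using hz0
      have := (inv_lt_one₀ (zero_lt_iff.mpr h2)).mp h1
      exact absurd h (not_le.mpr this)
    · intro h
      exact IsDedekindDomain.HeightOneSpectrum.valuation_le_one
        (IsDiscreteValuationRing.maximalIdeal V) (⟨z, h⟩ : V)
  refine ⟨⟨v, fun c => (hvV _).mpr (hV c), IsDedekindDomain.HeightOneSpectrum.valuation_surjective K _⟩, ?_⟩
  ext z
  exact hvV z

theorem exists_zero (hK : FF k K) {x : K} (hx : Transcendental k x) :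
    ∃ P : Place k K, P.1 x < 1 := by
  let A : Subring K := (Algebra.adjoin k ({x} : Set K)).toSubring
  have hxA : x ∈ A := Algebra.subset_adjoin rfl
  let I : Ideal A := Ideal.span {⟨x, hxA⟩}
  have hI : I ≠ ⊤ := by
    intro h
    rw [Ideal.span_singleton_eq_top] at h
    obtain ⟨⟨b, hb⟩, h1⟩ := h.exists_right_inv
    have h1 : x * b = 1 := congrArg Subtype.val h1
    have h' : b ∈ (Polynomial.aeval (R := k) x).range := by
      rw [← Algebra.adjoin_singleton_eq_range_aeval]; exact hb
    obtain ⟨f, rfl⟩ := h'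
    have h1' : x * Polynomial.aeval x f = 1 := h1
    apply hx
    refine ⟨Polynomial.X * f - 1, ?_, by simp [h1']⟩
    intro h0
    have := congrArg (Polynomial.eval 0) h0
    simp at this
  obtain ⟨V, hV, hI⟩ := Ideal.image_subset_nonunits_valuationSubring I hI
  have hkV : ∀ c, algebraMap k K c ∈ V := fun c =>
    hV ((Algebra.adjoin k ({x} : Set K)).algebraMap_mem c)
  have hx0 : x ≠ 0 := by rintro rfl; exact hx isAlgebraic_zero
  have hxn : x ∈ V.nonunits := hI ⟨⟨x, hxA⟩, Ideal.subset_span rfl, rfl⟩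
  have hxinv : x⁻¹ ∉ V := by
    have h2 := (V.inv_mem_nonunits_iff (x := x⁻¹)).mp (by rwa [inv_inv])
    exact h2.resolve_left (inv_ne_zero hx0)
  obtain ⟨P, hP⟩ := exists_place hK V hkV ⟨x⁻¹, hxinv⟩
  refine ⟨P, ?_⟩
  by_contra h
  apply hxinv
  rw [← hP]
  change P.1 x⁻¹ ≤ 1
  rw [map_inv₀]
  exact inv_le_one_of_one_le₀ (not_lt.mp h)

theorem deg_pos (hK : FF k K) (P : Place k K) : 0 < P.deg := by
  have := finite_residue hK P
  exact Module.finrank_pos

theorem RD_BP_step (hK : FF k K) (P : Place k K) (n : ℤ) :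
    RD (BP P (n - 1)) (BP P n) P.deg := by
  have := finite_residue hK P
  obtain ⟨f, hf, hk⟩ := exists_locMap P n
  exact RD_of_map (BP_mono P (by omega)) f hf hk

theorem RD_BP (hK : FF k K) (P : Place k K) (n : ℤ) (m : ℕ) :
    RD (BP P (n - m)) (BP P n) (m * P.deg) := by
  induction m with
  | zero => simpa using RD_refl (BP P n)
  | succ m ih =>
    have h1 := RD_BP_step hK P (n - m)
    have h2 := RD_trans h1 ih
    have e1 : n - (m : ℤ) - 1 = n - ((m + 1 : ℕ) : ℤ) := by push_cast; ring
    have e2 : P.deg + m * P.deg = (m + 1) * P.deg := by ring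
    rw [e1, e2] at h2
    exact h2

theorem rank_bound_pi (hK : FF k K) (y : K) (hy : Transcendental k y)
    (M : Submodule k K) (hM : ∀ m ∈ M, y * m ∈ M) {ι : Type*} [Fintype ι] (W : ι → Type*)
    [∀ i, AddCommGroup (W i)] [∀ i, Module k (W i)] [∀ i, FiniteDimensional k (W i)]
    (φ : ∀ i, M →ₗ[k] W i) (hs : ∀ v : (∀ i, W i), ∃ m : M, ∀ i, φ i m = v i)
    (hφy : ∀ (m : K) (hm : m ∈ M) (i : ι), φ i ⟨y * m, hM m hm⟩ = 0) :
    ∑ i, Module.finrank k (W i) ≤ Module.finrank (IntermediateField.adjoin k ({y} : Set K)) K := by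
  have h := (rank_bound (V := ∀ i, W i) hK y hy M hM (LinearMap.pi φ)
    (fun v => by obtain ⟨m, hm⟩ := hs v; exact ⟨m, funext hm⟩)
    (fun m hm => funext fun i => hφy m hm i)).2
  rwa [Module.finrank_pi_fintype] at h

theorem sum_le (hK : FF k K) (y : K) (hy : Transcendental k y)
    (S : Finset (Place k K)) (hS : ∀ P ∈ S, P.1 y < 1) :
    ∑ P ∈ S, (-(WithZero.log (P.1 y))).toNat * P.deg ≤
      Module.finrank (IntermediateField.adjoin k ({y} : Set K)) K := by
  classical
  have hy0 : y ≠ 0 := by rintro rfl; exact hy isAlgebraic_zero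
  have hyP : ∀ P : Place k K, P.1 y ≠ 0 := fun P => by simpa using hy0
  set e : Place k K → ℕ := fun P => (-(WithZero.log (P.1 y))).toNat with he
  have hlog : ∀ P ∈ S, P.1 y = WithZero.exp (0 - (e P : ℤ)) := by
    intro P hP
    have h1 : WithZero.log (P.1 y) < 0 := by
      rw [← WithZero.log_one]; exact (WithZero.log_lt_log (hyP P) one_ne_zero).mpr (hS P hP)
    have : (0 - (e P : ℤ)) = WithZero.log (P.1 y) := by rw [he]; simp only; omega
    rw [this, WithZero.exp_log (hyP P)]
  let M : Submodule k K := ⨅ P : S, BP (P : Place k K) 0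
  have hMP : ∀ P : S, M ≤ BP (P : Place k K) 0 := fun P => iInf_le _ P
  have hM : ∀ m ∈ M, y * m ∈ M := by
    intro m hm
    rw [Submodule.mem_iInf]
    intro P
    change P.1.1 (y * m) ≤ _
    rw [map_mul]
    have := hMP P hm
    exact (mul_le_mul' (hS P P.2).le this).trans_eq (one_mul _)
  have hfin : ∀ P : S, FiniteDimensional k (Qt (BP (P : Place k K) (0 - (e P : ℤ))) (BP (P : Place k K) 0)) :=
    fun P => (RD_BP hK P 0 (e P)).2.1
  have h := rank_bound_pi hK y hy M hM (fun P : S => Qt (BP (P : Place k K) (0 - (e P : ℤ))) (BP (P : Place k K) 0))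
    (fun P => (Submodule.mkQ _).comp (Submodule.inclusion (hMP P))) (by
    intro v
    choose w hw using fun P : S => Submodule.Quotient.mk_surjective _ (v P)
    let x : Place k K → K := fun P => if h : P ∈ S then (w ⟨P, h⟩ : K) else 0
    obtain ⟨z, hz⟩ := weak_approx S x (∑ P ∈ S, (e P : ℤ))
    have hz' : ∀ P : S, P.1.1 (z - w P) ≤ WithZero.exp (0 - (e P : ℤ)) := by
      intro P
      have h1 := hz P P.2
      have h2 : x P = w P := by simp only [x, P.2, dite_true]
      rw [h2] at h1
      refine h1.trans (WithZero.exp_le_exp.mpr ?_)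
      have h3 : (e P : ℤ) ≤ ∑ P ∈ S, (e P : ℤ) :=
        Finset.single_le_sum (f := fun P : Place k K => (e P : ℤ)) (fun _ _ => by positivity) P.2
      omega
    have hzM : z ∈ M := by
      rw [Submodule.mem_iInf]
      intro P
      have h1 : z = (z - w P) + w P := by ring
      rw [h1]
      exact (BP P.1 0).add_mem (BP_mono P.1 (by omega) (hz' P)) (w P).2
    refine ⟨⟨z, hzM⟩, ?_⟩
    intro P
    rw [← hw P]
    change Submodule.Quotient.mk _ = _
    rw [Submodule.Quotient.eq]
    exact hz' P) (by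
    intro m hm P
    change Submodule.Quotient.mk _ = 0
    rw [Submodule.Quotient.mk_eq_zero]
    change P.1.1 (y * m) ≤ _
    rw [map_mul, hlog P P.2]
    have := hMP P hm
    exact (mul_le_mul' le_rfl this).trans_eq (mul_one _))
  have h2 : ∑ P : S, Module.finrank k (Qt (BP (P : Place k K) (0 - (e P : ℤ))) (BP (P : Place k K) 0)) = ∑ P ∈ S, (-(WithZero.log (P.1 y))).toNat * P.deg := by
    rw [← Finset.sum_coe_sort S]
    apply Finset.sum_congr rfl
    intro P _
    exact (RD_BP hK P 0 (e P)).2.2
  rw [← h2]; exact h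

theorem finite_zeros (hK : FF k K) (y : K) (hy : Transcendental k y) :
    {P : Place k K | P.1 y < 1}.Finite := by
  by_contra hinf
  have hinf : {P : Place k K | P.1 y < 1}.Infinite := hinf
  obtain ⟨S, hS, hc⟩ := hinf.exists_subset_card_eq
    (Module.finrank (IntermediateField.adjoin k ({y} : Set K)) K + 1)
  have h1 := sum_le hK y hy S (fun P hP => hS hP)
  have hy0 : y ≠ 0 := by rintro rfl; exact hy isAlgebraic_zero
  have h2 : ∑ P ∈ S, 1 ≤ ∑ P ∈ S, (-(WithZero.log (P.1 y))).toNat * P.deg := by
    apply Finset.sum_le_sum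
    intro P hP
    have h3 := deg_pos hK P
    have h4 : WithZero.log (P.1 y) < 0 := by
      rw [← WithZero.log_one]; exact (WithZero.log_lt_log (by simpa using hy0) one_ne_zero).mpr (hS hP)
    exact Nat.mul_pos (by omega) h3
  simp at h2
  omega

theorem finite_support (hK : FF k K) (x : K) :
    (Function.support fun P : Place k K => P.ord x).Finite := by
  by_cases hx : IsAlgebraic k x
  · have : (Function.support fun P : Place k K => P.ord x) = ∅ := by
      ext P
      by_cases hx0 : x = 0
      · simp [hx0, Place.ord]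
      · simp [Place.ord, val_alg P hx hx0]
    rw [this]; exact Set.finite_empty
  · have hx0 : x ≠ 0 := by rintro rfl; exact hx isAlgebraic_zero
    have hxi : Transcendental k x⁻¹ := by
      intro h; apply hx; have := h.inv; rwa [inv_inv] at this
    refine ((finite_zeros hK x hx).union (finite_zeros hK x⁻¹ hxi)).subset ?_
    intro P hP
    have hP : P.ord x ≠ 0 := hP
    have h0 : P.1 x ≠ 0 := by simpa using hx0
    have h1 : P.1 x ≠ 1 := by intro h; apply hP; simp [Place.ord, h]
    rcases lt_or_gt_of_ne h1 with h | h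
    · exact Or.inl h
    · right
      change P.1 x⁻¹ < 1
      rw [map_inv₀]
      exact inv_lt_one_of_one_lt₀ h

theorem div_apply (hK : FF k K) (x : K) (P : Place k K) : div k x P = P.ord x := by
  unfold FunFld.div
  rw [dif_pos (finite_support hK x)]
  rfl

theorem RD_AD_step (hK : FF k K) (D : Divisor k K) (P : Place k K) :
    RD (AD D) (AD (D + Finsupp.single P 1)) P.deg := by
  classical
  have := finite_residue hK P
  obtain ⟨f, hf, hk⟩ := exists_locMap P (D P + 1)
  let g : AD (D + Finsupp.single P 1) →ₗ[k] BP P (D P + 1) :=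
    { toFun := fun a => ⟨a.1 P, by
        have := a.2 P
        rw [Finsupp.add_apply, Finsupp.single_eq_same] at this
        exact this⟩
      map_add' := fun _ _ => rfl
      map_smul' := fun _ _ => rfl }
  have hle : D ≤ D + Finsupp.single P 1 := by
    have : (0 : Divisor k K) ≤ Finsupp.single P 1 := Finsupp.single_nonneg.mpr zero_le_one
    exact le_add_of_nonneg_right this
  refine RD_of_map (AD_mono hle) (f.comp g) ?_ ?_
  · intro z
    obtain ⟨w, rfl⟩ := hf z
    refine ⟨⟨Function.update 0 P (w : K), ?_⟩, ?_⟩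
    · intro Q
      by_cases hQ : Q = P
      · subst hQ
        rw [Function.update_self, Finsupp.add_apply, Finsupp.single_eq_same]
        exact w.2
      · rw [Function.update_of_ne hQ]; simp
    · rw [LinearMap.comp_apply]
      congr 1
      refine Subtype.ext ?_
      change Function.update (0 : Place k K → K) P (w : K) P = w
      rw [Function.update_self]
  · intro b
    rw [LinearMap.comp_apply, hk, add_sub_cancel_right]
    constructor
    · intro h Q
      by_cases hQ : Q = P
      · subst hQ; exact h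
      · have := b.2 Q
        rw [Finsupp.add_apply, Finsupp.single_eq_of_ne hQ, add_zero] at this
        exact this
    · intro h; exact h P

theorem RD_AD_aux (hK : FF k K) (n : ℕ) : ∀ E : Divisor k K, 0 ≤ E →
    (E.sum fun _ m => m) = (n : ℤ) → ∀ D, RD (AD D) (AD (D + E)) E.deg.toNat := by
  induction n with
  | zero =>
    intro E hE hs D
    have : E = 0 := by
      ext P
      by_contra hP
      have hP' : 0 < E P := lt_of_le_of_ne (hE P) (Ne.symm hP)
      have h1 : E P ≤ E.sum fun _ m => m :=
        Finset.single_le_sum (f := fun P => E P) (fun Q _ => hE Q) (Finsupp.mem_support_iff.mpr hP)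
      simp at hs; omega
    rw [this, add_zero, deg_zero]; exact RD_refl _
  | succ n ih =>
    intro E hE hs D
    obtain ⟨P, hP⟩ : ∃ P, E P ≠ 0 := by
      by_contra h; push Not at h
      have : E = 0 := by ext P; exact h P
      rw [this] at hs; simp at hs; omega
    have hP1 : 1 ≤ E P := by have := hE P; simp at this; omega
    have hE' : 0 ≤ E - Finsupp.single P 1 := by
      intro Q
      by_cases hQ : Q = P
      · subst hQ; simp; exact hP1
      · rw [Finsupp.sub_apply, Finsupp.single_eq_of_ne hQ, sub_zero]; exact hE Q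
    have hs' : ((E - Finsupp.single P 1).sum fun _ m => m) = (n : ℤ) := by
      have h1 : (((E - Finsupp.single P 1) + Finsupp.single P 1).sum fun _ m => m) =
        ((E - Finsupp.single P 1).sum fun _ m => m) + ((Finsupp.single P 1 : Divisor k K).sum fun _ m => m) :=
        Finsupp.sum_add_index' (by simp) (by intros; rfl)
      rw [sub_add_cancel, Finsupp.sum_single_index rfl] at h1
      push_cast at hs
      omega
    have h1 := ih _ hE' hs' D
    have h2 := RD_AD_step hK (D + (E - Finsupp.single P 1)) P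
    rw [add_assoc, sub_add_cancel] at h2
    have h3 := RD_trans h1 h2
    have h4 : (E - Finsupp.single P 1).deg.toNat + P.deg = E.deg.toNat := by
      have h5 := deg_nonneg hE'
      have h6 := deg_nonneg hE
      rw [deg_sub, deg_single] at h5 ⊢
      omega
    rwa [h4] at h3

theorem RD_AD (hK : FF k K) {D₁ D₂ : Divisor k K} (h : D₁ ≤ D₂) :
    RD (AD D₁) (AD D₂) (D₂.deg - D₁.deg).toNat := by
  have hE : 0 ≤ D₂ - D₁ := sub_nonneg.mpr h
  have hs : 0 ≤ ((D₂ - D₁).sum fun _ m => m) := Finset.sum_nonneg fun P _ => hE P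
  have := RD_AD_aux hK ((D₂ - D₁).sum fun _ m => m).toNat (D₂ - D₁) hE (by rw [Int.toNat_of_nonneg hs]) D₁
  rwa [add_sub_cancel, deg_sub] at this

theorem exists_trans (hK : FF k K) : ∃ x : K, Transcendental k x := by
  obtain ⟨x, hx, _⟩ := hK; exact ⟨x, hx⟩

theorem nonempty_place (hK : FF k K) : Nonempty (Place k K) := by
  obtain ⟨x, hx⟩ := exists_trans hK
  exact ⟨(exists_zero hK hx).choose⟩

theorem diag_inj (hK : FF k K) : Function.Injective (diag k K) := by
  obtain ⟨P⟩ := nonempty_place hK
  intro x y h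
  exact congrFun h P

theorem RD_L (hK : FF k K) {D₁ D₂ : Divisor k K} (h : D₁ ≤ D₂) :
    ∃ m l : ℕ, RD (L D₁) (L D₂) m ∧
      RD (AD D₁ ⊔ LinearMap.range (diag k K)) (AD D₂ ⊔ LinearMap.range (diag k K)) l ∧
      (m : ℤ) + l = D₂.deg - D₁.deg := by
  obtain ⟨m, l, h1, h2, h3⟩ := RD_sup_inf (LinearMap.range (diag k K)) (RD_AD hK h)
  refine ⟨m, l, RD_comap _ (diag_inj hK) h1, h2, ?_⟩
  have := deg_mono h
  omega

theorem alg_of_mem_L0 (hK : FF k K) {x : K} (hx : x ∈ L (0 : Divisor k K)) : IsAlgebraic k x := by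
  by_contra ht
  have ht : Transcendental k x := ht
  obtain ⟨P, hP⟩ := exists_zero hK (trans_inv ht)
  have h1 : P.1 x ≤ 1 := by simpa using hx P
  rw [map_inv₀] at hP
  have h0 : P.1 x ≠ 0 := by simpa using trans_ne_zero ht
  exact absurd h1 (not_le.mpr ((inv_lt_one₀ (zero_lt_iff.mpr h0)).mp hP))

theorem finite_L0 (hK : FF k K) : FiniteDimensional k (L (0 : Divisor k K)) := by
  obtain ⟨P⟩ := nonempty_place hK
  have := finite_residue hK P
  let g : L (0 : Divisor k K) →ₗ[k] subO (k := k) P.O (fun c => P.2.1 c) :=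
    { toFun := fun x => ⟨x, by have := x.2 P; rw [Finsupp.zero_apply, WithZero.exp_zero] at this; exact this⟩
      map_add' := fun _ _ => rfl
      map_smul' := fun _ _ => rfl }
  have hinj : Function.Injective ((resLin P).comp g) := by
    rw [← LinearMap.ker_eq_bot, LinearMap.ker_eq_bot']
    intro x hx
    rw [LinearMap.comp_apply, resLin_eq_zero] at hx
    by_contra hne
    have h0 : (x : K) ≠ 0 := fun h => hne (Subtype.ext h)
    have := val_alg P (alg_of_mem_L0 hK x.2) h0
    change P.1 (x : K) < 1 at hx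
    rw [this] at hx; exact lt_irrefl _ hx
  exact Module.Finite.of_injective _ hinj

theorem finite_L (hK : FF k K) (D : Divisor k K) : FiniteDimensional k (L D) := by
  have h1 : (0 : Divisor k K) ≤ D ⊔ 0 := le_sup_right
  obtain ⟨m, l, h2, h3, h4⟩ := RD_L hK h1
  have h5 := (RD_finrank h2 (finite_L0 hK)).1
  exact Submodule.finiteDimensional_of_le (L_mono (le_sup_left : D ≤ D ⊔ 0))

theorem ell_rel (hK : FF k K) {D₁ D₂ : Divisor k K} (h : D₁ ≤ D₂) :
    ∃ m l : ℕ, ell D₂ = ell D₁ + m ∧ RD (L D₁) (L D₂) m ∧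
      RD (AD D₁ ⊔ LinearMap.range (diag k K)) (AD D₂ ⊔ LinearMap.range (diag k K)) l ∧
      (m : ℤ) + l = D₂.deg - D₁.deg := by
  obtain ⟨m, l, h1, h2, h3⟩ := RD_L hK h
  exact ⟨m, l, (RD_finrank h1 (finite_L hK D₁)).2, h1, h2, h3⟩

theorem ell_le (hK : FF k K) {D₁ D₂ : Divisor k K} (h : D₁ ≤ D₂) :
    (ell D₂ : ℤ) - ell D₁ ≤ D₂.deg - D₁.deg := by
  obtain ⟨m, l, h1, _, _, h2⟩ := ell_rel hK h
  omega

theorem ell_le_deg (hK : FF k K) {D : Divisor k K} (h : 0 ≤ D) :
    (ell D : ℤ) ≤ D.deg + ell (0 : Divisor k K) := by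
  have := ell_le hK h
  rw [deg_zero] at this
  omega

theorem finite_poles (hK : FF k K) (x : K) :
    (Function.support fun P : Place k K => max (WithZero.log (P.1 x)) 0).Finite := by
  refine (finite_support hK x).subset ?_
  intro P hP h
  apply hP
  have h' : -(WithZero.log (P.1 x)) = 0 := h
  have : WithZero.log (P.1 x) = 0 := by omega
  simp [this]

noncomputable def poleDiv (hK : FF k K) (x : K) : Divisor k K :=
  Finsupp.ofSupportFinite _ (finite_poles hK x)

theorem poleDiv_apply (hK : FF k K) (x : K) (P : Place k K) :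
    poleDiv hK x P = max (WithZero.log (P.1 x)) 0 := rfl

theorem poleDiv_nonneg (hK : FF k K) (x : K) : 0 ≤ poleDiv hK x := by
  intro P; rw [poleDiv_apply]; exact le_max_right _ _

theorem mem_L_poleDiv (hK : FF k K) (x : K) : x ∈ L (poleDiv hK x) := by
  intro P
  rw [poleDiv_apply]
  exact WithZero.le_exp_log.trans (WithZero.exp_le_exp.mpr (le_max_left _ _))

theorem div_eq_sub (hK : FF k K) (x : K) :
    div k x = poleDiv hK x⁻¹ - poleDiv hK x := by
  ext P
  rw [div_apply hK, Finsupp.sub_apply, poleDiv_apply, poleDiv_apply, map_inv₀, WithZero.log_inv,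
    Place.ord]
  omega

theorem exists_C (hK : FF k K) (x : K) (hx : Transcendental k x) :
    ∃ C : Divisor k K, 0 ≤ C ∧ ∀ r : ℕ,
      Module.finrank (IntermediateField.adjoin k ({x} : Set K)) K * (r + 1) ≤ ell (r • poleDiv hK x + C) := by
  have hfd := fd_adjoin hK hx
  set F := IntermediateField.adjoin k ({x} : Set K) with hF
  set n := Module.finrank F K with hn
  let u := Module.finBasis F K
  let C : Divisor k K := ∑ i : Fin n, poleDiv hK (u i)
  have hC : 0 ≤ C := Finset.sum_nonneg fun i _ => poleDiv_nonneg hK _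
  refine ⟨C, hC, fun r => ?_⟩
  have hui : ∀ i, u i ∈ L C := fun i =>
    L_mono (Finset.single_le_sum (f := fun i : Fin n => poleDiv hK (u i)) (fun i _ => poleDiv_nonneg hK _) (Finset.mem_univ i))
      (mem_L_poleDiv hK (u i))
  let xF : F := ⟨x, IntermediateField.mem_adjoin_simple_self k x⟩
  have hxF : Transcendental k xF := by
    intro h
    apply hx
    have := h.algebraMap (A := K)
    exact this
  have hpow : LinearIndependent k (fun j : Fin (r+1) => xF ^ (j : ℕ)) := by
    rw [Fintype.linearIndependent_iff]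
    intro g hg
    have h2 : Polynomial.aeval xF (∑ j : Fin (r+1), Polynomial.monomial (j : ℕ) (g j)) = 0 := by
      rw [map_sum, ← hg]
      apply Finset.sum_congr rfl
      intro j _
      rw [Polynomial.aeval_monomial, Algebra.smul_def]
    have h3 : (∑ j : Fin (r+1), Polynomial.monomial (j : ℕ) (g j)) = 0 := by
      by_contra hne
      exact hxF ⟨_, hne, h2⟩
    intro i
    have h4 := congrArg (fun q => Polynomial.coeff q (i : ℕ)) h3
    simp only [Polynomial.finset_sum_coeff, Polynomial.coeff_monomial, Polynomial.coeff_zero] at h4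
    rw [Finset.sum_eq_single i] at h4
    · simpa using h4
    · intro b _ hb
      rw [if_neg]
      intro h; exact hb (Fin.val_injective h)
    · simp
  have hli : LinearIndependent k fun p : Fin (r+1) × Fin n => (xF ^ (p.1 : ℕ)) • u p.2 :=
    linearIndependent_smul hpow u.linearIndependent
  have hmem : ∀ p : Fin (r+1) × Fin n, (xF ^ (p.1 : ℕ)) • u p.2 ∈ L (r • poleDiv hK x + C) := by
    intro p
    have h1 : (xF ^ (p.1 : ℕ)) • u p.2 = x ^ (p.1 : ℕ) * u p.2 := rfl
    rw [h1]
    apply mul_mem_L _ (hui _)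
    refine L_mono ?_ (pow_mem_L (mem_L_poleDiv hK x) _)
    exact nsmul_le_nsmul_left (poleDiv_nonneg hK x) (by omega)
  have hli2 : LinearIndependent k fun p : Fin (r+1) × Fin n =>
      (⟨_, hmem p⟩ : L (r • poleDiv hK x + C)) := by
    apply LinearIndependent.of_comp (L (r • poleDiv hK x + C)).subtype
    exact hli
  have hfL := finite_L hK (r • poleDiv hK x + C)
  have := hli2.fintype_card_le_finrank
  simp only [Fintype.card_prod, Fintype.card_fin] at this
  rw [mul_comm]
  exact this

theorem deg_poleDiv_ge (hK : FF k K) (x : K) (hx : Transcendental k x) :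
    (Module.finrank (IntermediateField.adjoin k ({x} : Set K)) K : ℤ) ≤ (poleDiv hK x).deg := by
  obtain ⟨C, hC, h⟩ := exists_C hK x hx
  by_contra hlt
  rw [not_le] at hlt
  have h1 := h (C.deg.toNat + ell (0 : Divisor k K))
  have hCd := deg_nonneg hC
  have h2 := ell_le_deg hK (D := (C.deg.toNat + ell (0 : Divisor k K)) • poleDiv hK x + C)
    (add_nonneg (nsmul_nonneg' (poleDiv_nonneg hK x) _) hC)
  rw [deg_add, deg_nsmul] at h2
  set n := Module.finrank (IntermediateField.adjoin k ({x} : Set K)) K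
  set d := (poleDiv hK x).deg
  have hd : 0 ≤ d := deg_nonneg (poleDiv_nonneg hK x)
  have h3 : (n : ℤ) * ((C.deg.toNat + ell (0 : Divisor k K) : ℕ) + 1) ≤ ((C.deg.toNat + ell (0 : Divisor k K) : ℕ) : ℤ) * d + C.deg + ell (0 : Divisor k K) := by
    refine le_trans ?_ h2
    exact_mod_cast h1
  have h4 : ((C.deg.toNat + ell (0 : Divisor k K) : ℕ) : ℤ) = C.deg + ell (0 : Divisor k K) := by omega
  rw [h4] at h3
  have h9 := fd_adjoin hK hx
  have h10 : 0 < n := Module.finrank_pos
  nlinarith

theorem deg_poleDiv_inv_le (hK : FF k K) (x : K) (hx : Transcendental k x) :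
    (poleDiv hK x⁻¹).deg ≤ Module.finrank (IntermediateField.adjoin k ({x} : Set K)) K := by
  have h := sum_le hK x hx (poleDiv hK x⁻¹).support (by
    intro P hP
    rw [Finsupp.mem_support_iff, poleDiv_apply, map_inv₀, WithZero.log_inv] at hP
    have h0 : P.1 x ≠ 0 := by simpa using trans_ne_zero hx
    have : WithZero.log (P.1 x) < 0 := by
      by_contra hc; apply hP; omega
    rw [← WithZero.log_one] at this
    exact (WithZero.log_lt_log h0 one_ne_zero).mp this)
  refine le_trans (le_of_eq ?_) (Int.ofNat_le.mpr h)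
  change ∑ P ∈ (poleDiv hK x⁻¹).support, poleDiv hK x⁻¹ P * (P.deg : ℤ) = _
  push_cast
  apply Finset.sum_congr rfl
  intro P hP
  rw [poleDiv_apply, map_inv₀, WithZero.log_inv]
  congr 1
  omega

theorem deg_poleDiv (hK : FF k K) (x : K) (hx : Transcendental k x) :
    (poleDiv hK x).deg = Module.finrank (IntermediateField.adjoin k ({x} : Set K)) K := by
  apply le_antisymm _ (deg_poleDiv_ge hK x hx)
  have := deg_poleDiv_inv_le hK x⁻¹ (trans_inv hx)
  rwa [inv_inv, adjoin_inv] at this


end Groth.Agent.H16g
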