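import Groth.Agent.Lib.H16_FunFldM

set_option autoImplicit false
open FunFld Groth.Agent.H16

namespace Groth.Agent.H16g

variable {k K K' : Type*} [Field k] [Field K] [Field K'] [Algebra k K] [Algebra K K'] [Algebra k K']

theorem fd_ext [IsScalarTower k K K'] [FiniteDimensional K K'] (x : K) :
    (Module.finrank (IntermediateField.adjoin k ({algebraMap K K' x} : Set K')) K' =
      Module.finrank K K' * Module.finrank (IntermediateField.adjoin k ({x} : Set K)) K) ∧
    (FiniteDimensional (IntermediateField.adjoin k ({x} : Set K)) K →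
      FiniteDimensional (IntermediateField.adjoin k ({algebraMap K K' x} : Set K')) K') := by
  set F := IntermediateField.adjoin k ({x} : Set K) with hF
  let f : K →ₐ[k] K' := IsScalarTower.toAlgHom k K K'
  have hmap : IntermediateField.adjoin k ({algebraMap K K' x} : Set K') = F.map f := by
    rw [hF, IntermediateField.adjoin_map, Set.image_singleton]; rfl
  rw [hmap]
  let e : F ≃ₐ[k] F.map f := F.equivMap f
  have hc : (algebraMap (F.map f) K').comp (e : F ≃+* F.map f).toRingHom =
      (RingEquiv.refl K').toRingHom.comp (algebraMap F K') := by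
    ext z; rfl
  constructor
  · rw [← Algebra.finrank_eq_of_equiv_equiv (e : F ≃+* F.map f) (RingEquiv.refl K') hc,
      mul_comm, Module.finrank_mul_finrank F K K']
  · intro h
    have : Module.Finite F K' := Module.Finite.trans K K'
    exact Module.Finite.of_equiv_equiv (e : F ≃+* F.map f) (RingEquiv.refl K') hc

theorem trans_map [IsScalarTower k K K'] {x : K} (hx : Transcendental k x) :
    Transcendental k (algebraMap K K' x) :=
  (transcendental_algebraMap_iff (algebraMap K K').injective).mpr hx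

theorem FF_ext [IsScalarTower k K K'] [FiniteDimensional K K'] (hK : FF k K) : FF k K' := by
  obtain ⟨x, hx, hfd⟩ := hK
  exact ⟨algebraMap K K' x, trans_map hx, (fd_ext x).2 hfd⟩

theorem over_pos {Q : Place k K'} {P : Place k K} {e : ℕ} (h : IsOverWith Q P e) : e ≠ 0 := by
  rintro rfl
  have := h 0
  simp at this

theorem over_unique {Q : Place k K'} {P P' : Place k K} {e e' : ℕ} (h : IsOverWith Q P e)
    (h' : IsOverWith Q P' e') : P = P' := by
  apply place_ext
  intro z hz
  have h1 : Q.1 (algebraMap K K' z) ≤ 1 := by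
    rw [h z]; exact pow_le_one' hz e
  rw [h' z] at h1
  exact (pow_le_one_iff (over_pos h')).mp h1

theorem over_e_unique {Q : Place k K'} {P : Place k K} {e e' : ℕ} (h : IsOverWith Q P e)
    (h' : IsOverWith Q P e') : e = e' := by
  obtain ⟨z, _, hz⟩ := exists_val P 1
  have h1 := h z
  rw [h' z, hz, ← WithZero.exp_nsmul, ← WithZero.exp_nsmul, WithZero.exp_inj] at h1
  simp at h1
  exact h1.symm

theorem ramIdx_eq {Q : Place k K'} {P : Place k K} {e : ℕ} (h : IsOverWith Q P e) : ramIdx Q P = e := by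
  classical
  have hov : IsOver Q P := ⟨e, h⟩
  unfold ramIdx
  rw [dif_pos hov]
  exact over_e_unique (Nat.find_spec hov) h

theorem exists_below [IsScalarTower k K K'] [FiniteDimensional K K'] (hK : FF k K) (Q : Place k K') :
    ∃ (P : Place k K) (e : ℕ), 0 < e ∧ IsOverWith Q P e := by
  let V : ValuationSubring K := Q.O.comap (algebraMap K K')
  have hmem : ∀ z, z ∈ V ↔ Q.1 (algebraMap K K' z) ≤ 1 := fun z => Iff.rfl
  have hkV : ∀ c : k, algebraMap k K c ∈ V := by
    intro c
    rw [hmem, ← IsScalarTower.algebraMap_apply k K K']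
    exact Q.2.1 c
  have hne : ∃ z : K, z ∉ V := by
    by_contra hall
    push Not at hall
    obtain ⟨y, _, hy⟩ := exists_val Q 1
    have h1 : y ∈ Q.O := mem_of_alg (k := K) Q.O (fun c => hall c) (Algebra.IsAlgebraic.isAlgebraic y)
    have h2 : Q.1 y ≤ 1 := h1
    rw [hy] at h2
    have h3 : WithZero.exp (1 : ℤ) ≤ WithZero.exp (0 : ℤ) := h2.trans_eq (WithZero.exp_zero).symm
    rw [WithZero.exp_le_exp] at h3
    omega
  obtain ⟨P, hP⟩ := exists_place hK V hkV hne
  have hPV : ∀ z, P.1 z ≤ 1 ↔ Q.1 (algebraMap K K' z) ≤ 1 := by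
    intro z
    rw [← hmem, ← hP]; rfl
  obtain ⟨π, hπ0, hπ, hπlt⟩ := exists_unif P
  have hunit : ∀ u, P.1 u = 1 → Q.1 (algebraMap K K' u) = 1 := by
    intro u hu
    have hu0 : u ≠ 0 := by
      intro h0; rw [h0, map_zero] at hu; exact zero_ne_one hu
    have h0 : Q.1 (algebraMap K K' u) ≠ 0 := by simpa using hu0
    apply le_antisymm ((hPV u).mp hu.le)
    have h1 := (hPV u⁻¹).mp (by rw [map_inv₀, hu, inv_one])
    rw [map_inv₀, map_inv₀] at h1
    exact (inv_le_one₀ (zero_lt_iff.mpr h0)).mp h1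
  set b := Q.1 (algebraMap K K' π) with hb
  have hb0 : b ≠ 0 := by rw [hb]; simpa using hπ0
  have hb1 : b < 1 := by
    by_contra hc
    rw [not_lt] at hc
    have h1 : Q.1 (algebraMap K K' π⁻¹) ≤ 1 := by
      rw [map_inv₀, map_inv₀]; exact inv_le_one_of_one_le₀ hc
    have h2 := (hPV _).mpr h1
    rw [map_inv₀, hπ] at h2
    have h3 : WithZero.exp (1 : ℤ) ≤ WithZero.exp (0 : ℤ) := by
      rw [WithZero.exp_zero]; rw [← WithZero.exp_neg, neg_neg] at h2; exact h2
    rw [WithZero.exp_le_exp] at h3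
    omega
  have hlog : WithZero.log b < 0 := by
    rw [← WithZero.log_one]; exact (WithZero.log_lt_log hb0 one_ne_zero).mpr hb1
  refine ⟨P, (-(WithZero.log b)).toNat, by omega, ?_⟩
  intro z
  by_cases hz : z = 0
  · rw [hz, map_zero, map_zero, map_zero, zero_pow (by omega)]
  have hz' : P.1 z ≠ 0 := by simpa using hz
  have h1 : P.1 (z * π ^ (WithZero.log (P.1 z))) = 1 := by
    have h2 : P.1 z = WithZero.exp (WithZero.log (P.1 z)) := (WithZero.exp_log hz').symm
    rw [map_mul, map_zpow₀, hπ, ← WithZero.exp_zsmul]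
    nth_rewrite 1 [h2]
    rw [← WithZero.exp_add]; simp
  have h2 := hunit _ h1
  rw [map_mul, map_mul, map_zpow₀, map_zpow₀, ← hb] at h2
  have h3 : Q.1 (algebraMap K K' z) = b ^ (-(WithZero.log (P.1 z))) := by
    rw [zpow_neg]; exact eq_inv_of_mul_eq_one_left h2
  rw [h3]
  have h4 : b = WithZero.exp (WithZero.log b) := (WithZero.exp_log hb0).symm
  have h5 : P.1 z = WithZero.exp (WithZero.log (P.1 z)) := (WithZero.exp_log hz').symm
  conv_lhs => rw [h4]
  conv_rhs => rw [h5]
  rw [← WithZero.exp_zsmul, ← WithZero.exp_nsmul, WithZero.exp_inj]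
  simp only [smul_eq_mul, nsmul_eq_mul]
  have h6 : (((-(WithZero.log b)).toNat : ℕ) : ℤ) = -(WithZero.log b) := Int.toNat_of_nonneg (by omega)
  rw [h6]; ring

theorem exists_pole_only (hK : IsFunctionField k K) (P : Place k K) :
    ∃ (x : K) (m : ℤ), 0 < m ∧ Transcendental k x ∧ H16.poleDiv hK x = Finsupp.single P m := by
  have hP := H16.deg_pos hK P
  have hd : Divisor.deg (Finsupp.single P (2 * (genus k K : ℤ) + 1)) ≥ 2 * (genus k K : ℤ) + 1 := by
    rw [deg_single]
    exact le_mul_of_one_le_right (by positivity) (by exact_mod_cast hP)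
  have h1 := H16.ell_of_deg_ge hK (Finsupp.single P (2 * (genus k K : ℤ) + 1)) (by omega)
  obtain ⟨x, hx, ht⟩ := exists_nonconst hK (D := Finsupp.single P (2 * (genus k K : ℤ) + 1)) (by omega)
  have h0 : (0 : Divisor k K) ≤ Finsupp.single P (2 * (genus k K : ℤ) + 1) :=
    Finsupp.single_nonneg.mpr (by positivity)
  have h2 := poleDiv_le_of_mem hK h0 hx
  have h3 : H16.poleDiv hK x = Finsupp.single P (H16.poleDiv hK x P) := by
    ext Q
    by_cases hQ : Q = P
    · subst hQ; simp
    · have h4 := h2 Q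
      have h5 := H16.poleDiv_nonneg hK x Q
      rw [Finsupp.single_eq_of_ne hQ] at h4 ⊢
      exact le_antisymm h4 h5
  refine ⟨x, H16.poleDiv hK x P, ?_, ht, h3⟩
  have h5 := H16.poleDiv_nonneg hK x P
  have h6 := poleDiv_ne_zero_of_trans hK ht
  rw [h3, deg_single] at h6
  simp only [Finsupp.coe_zero, Pi.zero_apply] at h5
  rcases lt_or_eq_of_le h5 with h | h
  · exact h
  · rw [← h, zero_mul] at h6; exact absurd h6 (lt_irrefl _)

theorem poleDiv_over (hK : IsFunctionField k K) (hF : FF k K') (x : K) {Q : Place k K'} {P : Place k K} {e : ℕ}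
    (h : IsOverWith Q P e) :
    H16g.poleDiv hF (algebraMap K K' x) Q = e * H16.poleDiv hK x P := by
  rw [H16g.poleDiv_apply, H16.poleDiv_apply, h x, WithZero.log_pow, nsmul_eq_mul]
  have he : (0 : ℤ) ≤ e := by positivity
  rw [mul_max_of_nonneg _ _ he, mul_zero]

theorem fundamental [IsScalarTower k K K'] [FiniteDimensional K K'] (hK : IsFunctionField k K)
    (P : Place k K) :
    {Q : Place k K' | IsOver Q P}.Finite ∧
    ∀ (Qs : Finset (Place k K')), (∀ Q, Q ∈ Qs ↔ IsOver Q P) →
      (∑ Q ∈ Qs, ramIdx Q P * Q.deg) = Module.finrank K K' * P.deg := by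
  have hF : FF k K' := FF_ext hK.1
  obtain ⟨x, m, hm, ht, hx⟩ := exists_pole_only hK P
  have hover : ∀ Q : Place k K', IsOver Q P ↔ H16g.poleDiv hF (algebraMap K K' x) Q ≠ 0 := by
    intro Q
    constructor
    · rintro ⟨e, he⟩
      rw [poleDiv_over hK hF x he, hx, Finsupp.single_eq_same]
      have := over_pos he
      have h1 : (0 : ℤ) < e := by omega
      exact (mul_pos h1 hm).ne'
    · intro h
      obtain ⟨P', e, he, hov⟩ := exists_below (K' := K') hK.1 Q
      rw [poleDiv_over hK hF x hov, hx] at h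
      by_cases hPP : P' = P
      · rw [← hPP]; exact ⟨e, hov⟩
      · rw [Finsupp.single_eq_of_ne hPP, mul_zero] at h; exact absurd rfl h
  constructor
  · refine (H16g.poleDiv hF (algebraMap K K' x)).support.finite_toSet.subset ?_
    intro Q hQ
    exact Finsupp.mem_support_iff.mpr ((hover Q).mp hQ)
  · intro Qs hQs
    have hsupp : (H16g.poleDiv hF (algebraMap K K' x)).support = Qs := by
      ext Q; rw [Finsupp.mem_support_iff, hQs, hover]
    have h1 := H16g.deg_poleDiv hF _ (trans_map (K' := K') ht)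
    rw [(fd_ext (K' := K') x).1] at h1
    have h2 := H16.deg_poleDiv hK x ht
    rw [hx, deg_single] at h2
    push_cast at h1
    rw [← h2] at h1
    have h3 : (H16g.poleDiv hF (algebraMap K K' x)).deg =
        m * ((∑ Q ∈ Qs, ramIdx Q P * Q.deg : ℕ) : ℤ) := by
      change ∑ Q ∈ (H16g.poleDiv hF (algebraMap K K' x)).support, H16g.poleDiv hF (algebraMap K K' x) Q * (Q.deg : ℤ) = _
      rw [hsupp]
      push_cast
      rw [Finset.mul_sum]
      apply Finset.sum_congr rfl
      intro Q hQ
      obtain ⟨e, he⟩ := (hQs Q).mp hQ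
      rw [poleDiv_over hK hF x he, hx, Finsupp.single_eq_same, ramIdx_eq he]
      ring
    rw [h3] at h1
    have h4 : m * ((∑ Q ∈ Qs, ramIdx Q P * Q.deg : ℕ) : ℤ) = m * ((Module.finrank K K' * P.deg : ℕ) : ℤ) := by
      rw [h1]; push_cast; ring
    exact_mod_cast mul_left_cancel₀ hm.ne' h4

end Groth.Agent.H16g
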