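import Groth.Agent.Lib.H16_FunFldN
import Groth.Agent.Lib.H16_FunFldK

set_option autoImplicit false
open FunFld Groth.Agent.H16

namespace Groth.Agent.H16g

variable {k K K' : Type*} [Field k] [Field K] [Field K'] [Algebra k K] [Algebra K K'] [Algebra k K']

theorem deg_sum {ι : Type*} (s : Finset ι) (f : ι → Divisor k K) :
    Divisor.deg (∑ i ∈ s, f i) = ∑ i ∈ s, (f i).deg := by
  classical
  induction s using Finset.induction_on with
  | empty => simp [deg_zero]
  | insert a s ha ih => rw [Finset.sum_insert ha, Finset.sum_insert ha, deg_add, ih]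

theorem deg_zsmul (n : ℤ) (D : Divisor k K) : (n • D).deg = n * D.deg := by
  obtain ⟨m, rfl | rfl⟩ := n.eq_nat_or_neg
  · rw [natCast_zsmul, deg_nsmul]
  · rw [neg_smul, deg_neg, natCast_zsmul, deg_nsmul]; ring

open scoped Classical in
/-- conorm of one place. -/
noncomputable def conormP (K' : Type*) [Field K'] [Algebra K K'] [Algebra k K'] (P : Place k K) : Divisor k K' :=
  if h : {Q : Place k K' | IsOver Q P}.Finite then
    h.toFinset.sum (fun Q => (ramIdx Q P : ℤ) • Finsupp.single Q 1) else 0

theorem conorm_eq (D : Divisor k K) : conorm K' D = D.sum fun P n => n • conormP K' P := rfl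

theorem ramIdx_not_over {Q : Place k K'} {P : Place k K} (h : ¬ IsOver Q P) : ramIdx Q P = 0 := by
  classical
  unfold ramIdx; rw [dif_neg h]

theorem conormP_apply [IsScalarTower k K K'] [FiniteDimensional K K'] (hK : IsFunctionField k K)
    (P : Place k K) (Q : Place k K') : conormP K' P Q = ramIdx Q P := by
  classical
  unfold conormP
  rw [dif_pos (fundamental hK P).1, Finsupp.finsetSum_apply]
  by_cases hQ : IsOver Q P
  · rw [Finset.sum_eq_single Q]
    · simp
    · intro R _ hR
      rw [Finsupp.smul_apply, Finsupp.single_eq_of_ne hR.symm, smul_zero]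
    · intro h; exact absurd ((Set.Finite.mem_toFinset (fundamental hK P).1).mpr hQ) h
  · rw [ramIdx_not_over hQ, Finset.sum_eq_zero]
    · rfl
    · intro R hR
      rw [Set.Finite.mem_toFinset] at hR
      rw [Finsupp.smul_apply, Finsupp.single_eq_of_ne (by rintro rfl; exact hQ hR), smul_zero]

theorem deg_conormP [IsScalarTower k K K'] [FiniteDimensional K K'] (hK : IsFunctionField k K)
    (P : Place k K) : (conormP K' P).deg = Module.finrank K K' * P.deg := by
  classical
  have hf := fundamental (K' := K') hK P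
  have h2 := hf.2 hf.1.toFinset (fun Q => Set.Finite.mem_toFinset _)
  unfold conormP
  rw [dif_pos hf.1, deg_sum]
  have : ∀ Q : Place k K', Divisor.deg ((ramIdx Q P : ℤ) • Finsupp.single Q (1 : ℤ)) = ((ramIdx Q P * Q.deg : ℕ) : ℤ) := by
    intro Q
    rw [deg_zsmul, deg_single]; push_cast; ring
  rw [Finset.sum_congr rfl (fun Q _ => this Q)]
  exact_mod_cast h2

theorem conorm_apply [IsScalarTower k K K'] [FiniteDimensional K K'] (hK : IsFunctionField k K)
    (D : Divisor k K) {Q : Place k K'} {P : Place k K} {e : ℕ} (h : IsOverWith Q P e) :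
    conorm K' D Q = e * D P := by
  classical
  rw [conorm_eq]
  change (∑ P' ∈ D.support, D P' • conormP K' P') Q = _
  rw [Finsupp.finsetSum_apply]
  have h0 : ∀ P', P' ≠ P → ¬ IsOver Q P' := by
    rintro P' hne ⟨e', he'⟩
    exact hne (over_unique he' h)
  rw [Finset.sum_eq_single P]
  · rw [Finsupp.smul_apply, conormP_apply hK, ramIdx_eq h, smul_eq_mul, mul_comm]
  · intro P' _ hne
    rw [Finsupp.smul_apply, conormP_apply hK, ramIdx_not_over (h0 P' hne)]; simp
  · intro hP
    rw [Finsupp.notMem_support_iff] at hP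
    rw [hP]; simp

theorem deg_conorm [IsScalarTower k K K'] [FiniteDimensional K K'] (hK : IsFunctionField k K)
    (D : Divisor k K) : (conorm K' D).deg = Module.finrank K K' * D.deg := by
  rw [conorm_eq]
  change Divisor.deg (∑ P ∈ D.support, D P • conormP K' P) = _
  rw [deg_sum]
  change _ = (Module.finrank K K' : ℤ) * ∑ P ∈ D.support, D P * (P.deg : ℤ)
  rw [Finset.mul_sum]
  apply Finset.sum_congr rfl
  intro P _
  rw [deg_zsmul, deg_conormP hK]; ring

theorem div_conorm [IsScalarTower k K K'] [FiniteDimensional K K'] (hK : IsFunctionField k K)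
    (x : K) : div k (algebraMap K K' x) = conorm K' (div k x) := by
  have hF : FF k K' := FF_ext hK.1
  ext Q
  obtain ⟨P, e, he, hov⟩ := exists_below (K' := K') hK.1 Q
  rw [conorm_apply hK _ hov, H16g.div_apply hF, H16.div_apply hK]
  unfold Place.ord
  rw [hov x, WithZero.log_pow, nsmul_eq_mul]; ring

theorem mapDiv_conorm [IsScalarTower k K K'] [FiniteDimensional K K'] (hK : IsFunctionField k K)
    (hK' : IsFunctionField k K') {ι : Type*} [Fintype ι] [Nonempty ι] (φ : ι → K) :
    mapDiv k (fun i => algebraMap K K' (φ i)) = conorm K' (mapDiv k φ) := by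
  ext Q
  obtain ⟨P, e, he, hov⟩ := exists_below (K' := K') hK.1 Q
  rw [conorm_apply hK _ hov]
  have hlog : ∀ i, WithZero.log (Q.1 (algebraMap K K' (φ i))) = e * WithZero.log (P.1 (φ i)) := by
    intro i; rw [hov, WithZero.log_pow, nsmul_eq_mul]
  obtain ⟨h1, i, hi⟩ := mapDiv_spec hK' (fun i => algebraMap K K' (φ i)) Q
  obtain ⟨h2, j, hj⟩ := mapDiv_spec hK φ P
  apply le_antisymm
  · rw [hi, hlog]
    exact mul_le_mul_of_nonneg_left (h2 i) (by positivity)
  · rw [hj, ← hlog]; exact h1 j

theorem deg_mapDiv_alg [IsScalarTower k K K'] [FiniteDimensional K K'] (hK : IsFunctionField k K)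
    (hK' : IsFunctionField k K') {ι : Type*} [Fintype ι] [Nonempty ι] (φ : ι → K) :
    (mapDiv k (fun i => algebraMap K K' (φ i))).deg = Module.finrank K K' * (mapDiv k φ).deg := by
  rw [mapDiv_conorm hK hK', deg_conorm hK]

end Groth.Agent.H16g
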