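import Groth.Agent.Lib.H16_FunFldO
import Groth.Agent.S11013
import Mathlib.RingTheory.Valuation.RamificationGroup
import Mathlib.GroupTheory.GroupAction.Quotient

set_option autoImplicit false
open FunFld Groth.Agent.H16

namespace Groth.Agent.H16g

section hom
variable {k K K' : Type*} [Field k] [Field K] [Field K'] [Algebra k K] [Algebra k K']

theorem deg_mapDiv_hom (hK : IsFunctionField k K)
    (hK' : IsFunctionField k K') (f : K →ₐ[k] K') {ι : Type*} [Fintype ι] [Nonempty ι] (φ : ι → K) :
    (mapDiv k (f ∘ φ)).deg = Module.finrank f.fieldRange K' * (mapDiv k φ).deg := by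
  letI : Algebra K K' := f.toRingHom.toAlgebra
  haveI : IsScalarTower k K K' := IsScalarTower.of_algebraMap_eq (fun c => (f.commutes c).symm)
  obtain ⟨x, hx⟩ := H16.exists_trans hK
  have hτx : Transcendental k (f x) := by
    intro h
    exact hx ((isAlgebraic_algHom_iff f f.injective).mp h)
  have hfd := H16.fd_adjoin hK' hτx
  have hle : IntermediateField.adjoin k ({f x} : Set K') ≤ f.fieldRange := by
    rw [IntermediateField.adjoin_simple_le_iff]; exact ⟨x, rfl⟩
  letI : Algebra (IntermediateField.adjoin k ({f x} : Set K')) f.fieldRange :=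
    (IntermediateField.inclusion hle).toRingHom.toAlgebra
  have : IsScalarTower (IntermediateField.adjoin k ({f x} : Set K')) f.fieldRange K' :=
    IsScalarTower.of_algebraMap_eq (fun _ => rfl)
  have hfd2 : Module.Finite f.fieldRange K' :=
    Module.Finite.of_restrictScalars_finite (IntermediateField.adjoin k ({f x} : Set K')) _ _
  let e : K ≃ₐ[k] f.fieldRange := AlgEquiv.ofInjectiveField f
  have hfd3 : Module.Finite K K' := by
    refine Module.Finite.of_equiv_equiv (e.symm : f.fieldRange ≃+* K) (RingEquiv.refl K') ?_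
    ext z
    obtain ⟨z, rfl⟩ := e.surjective z
    change f (e.symm (e z)) = _
    rw [AlgEquiv.symm_apply_apply]
    rfl
  have h1 := deg_mapDiv_alg hK hK' φ
  have h2 : Module.finrank K K' = Module.finrank f.fieldRange K' :=
    Algebra.finrank_eq_of_equiv_equiv (e : K ≃+* f.fieldRange) (RingEquiv.refl K') (by ext z; rfl)
  rw [← h2]
  exact h1

end hom

variable {k K K' : Type*} [Field k] [Field K] [Field K'] [Algebra k K] [Algebra K K'] [Algebra k K']
  [IsScalarTower k K K'] [FiniteDimensional K K']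

theorem over_equiv {Q Q' : Place k K'} {P : Place k K} {e e' : ℕ} (h : IsOverWith Q P e)
    (h' : IsOverWith Q' P e') : (Q.1.comap (algebraMap K K')).IsEquiv (Q'.1.comap (algebraMap K K')) := by
  intro r s
  change Q.1 (algebraMap K K' r) ≤ Q.1 (algebraMap K K' s) ↔ Q'.1 (algebraMap K K' r) ≤ Q'.1 (algebraMap K K' s)
  rw [h, h, h', h', pow_le_pow_iff_left₀ zero_le zero_le (over_pos h),
    pow_le_pow_iff_left₀ zero_le zero_le (over_pos h')]

theorem finrank_eq_of_ker {V W M : Type*} [AddCommGroup V] [Module k V] [AddCommGroup W] [Module k W]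
    [AddCommGroup M] [Module k M] (f : M →ₗ[k] V) (g : M →ₗ[k] W) (hf : Function.Surjective f)
    (hg : Function.Surjective g) (h : LinearMap.ker f = LinearMap.ker g) :
    Module.finrank k V = Module.finrank k W := by
  have e1 := (f.quotKerEquivOfSurjective hf).finrank_eq
  have e2 := (g.quotKerEquivOfSurjective hg).finrank_eq
  rw [← e1, ← e2, h]

theorem deg_comapPlace (σ : K' ≃ₐ[k] K') (Q : Place k K') : (comapPlace σ Q).deg = Q.deg := by
  let s : subO (k := k) (comapPlace σ Q).O (fun c => (comapPlace σ Q).2.1 c) →ₗ[k]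
      subO (k := k) Q.O (fun c => Q.2.1 c) :=
    { toFun := fun z => ⟨σ z, z.2⟩
      map_add' := fun _ _ => Subtype.ext (map_add _ _ _)
      map_smul' := fun _ _ => Subtype.ext (map_smul _ _ _) }
  refine finrank_eq_of_ker (resLin (comapPlace σ Q)) ((resLin Q).comp s) (resLin_surj _) ?_ ?_
  · intro z
    obtain ⟨w, rfl⟩ := resLin_surj Q z
    have hw : Q.1 (σ (σ.symm w)) ≤ 1 := by rw [AlgEquiv.apply_symm_apply]; exact w.2
    refine ⟨⟨σ.symm w, hw⟩, ?_⟩
    rw [LinearMap.comp_apply]
    congr 1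
    exact Subtype.ext (AlgEquiv.apply_symm_apply σ _)
  · ext z
    rw [LinearMap.mem_ker, LinearMap.mem_ker, LinearMap.comp_apply, resLin_eq_zero, resLin_eq_zero]
    rfl

open scoped Pointwise in
theorem smul_O (σ : K' ≃ₐ[K] K') (Q : Place k K') :
    σ • Q.O = (comapPlace ((σ⁻¹).restrictScalars k) Q).O := by
  ext y
  rw [ValuationSubring.mem_pointwise_smul_iff_inv_smul_mem]
  rfl

theorem O_inj {Q Q' : Place k K'} (h : Q.O = Q'.O) : Q = Q' := by
  apply place_ext
  intro z hz
  have : z ∈ Q.O := hz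
  rw [h] at this; exact this

theorem over_comap {Q : Place k K'} {P : Place k K} {e : ℕ} (h : IsOverWith Q P e) (σ : K' ≃ₐ[K] K') :
    IsOverWith (comapPlace (σ.restrictScalars k) Q) P e := by
  intro x
  change Q.1 (σ (algebraMap K K' x)) = _
  rw [σ.commutes, h]

end Groth.Agent.H16g

namespace Groth.Agent.H16g
universe u v
variable {k K K' : Type*} [Field k] [Field K] [Field K'] [Algebra k K] [Algebra K K'] [Algebra k K']
  [IsScalarTower k K K'] [FiniteDimensional K K']

theorem exists_conj (hK : IsFunctionField k K) (hg : IsGeometric k K) [IsGalois K K']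
    {Q Q' : Place k K'} {P : Place k K} {e e' : ℕ} (h : IsOverWith Q P e)
    (h' : IsOverWith Q' P e') : ∃ σ : K' ≃ₐ[K] K', Q' = comapPlace (σ.restrictScalars k) Q := by
  obtain ⟨σ, hσ⟩ := S11013.result k K K' hK hg Q Q' (over_equiv h h')
  exact ⟨σ, Subtype.ext hσ.symm⟩

open scoped Pointwise in
theorem count_places (hK : IsFunctionField k K) (hg : IsGeometric k K) [IsGalois K K']
    (Q : Place k K') (P : Place k K) (e : ℕ) (he : IsOverWith Q P e) :
    Nat.card {Q' : Place k K' // IsOver Q' P} *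
        Nat.card ((Q.O).decompositionSubgroup K) = Module.finrank K K' ∧
    ∀ Q' : Place k K', IsOver Q' P → IsOverWith Q' P e ∧ Q'.deg = Q.deg := by
  constructor
  · have hmem : ∀ Q' : {Q' : Place k K' // IsOver Q' P}, Q'.1.O ∈ MulAction.orbit (K' ≃ₐ[K] K') Q.O := by
      rintro ⟨Q', e', he'⟩
      obtain ⟨σ, rfl⟩ := exists_conj hK hg he he'
      refine ⟨σ⁻¹, ?_⟩
      change σ⁻¹ • Q.O = _
      rw [smul_O, inv_inv]
    let f : {Q' : Place k K' // IsOver Q' P} → MulAction.orbit (K' ≃ₐ[K] K') Q.O :=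
      fun Q' => ⟨Q'.1.O, hmem Q'⟩
    have hf : Function.Bijective f := by
      constructor
      · intro a b hab
        exact Subtype.ext (O_inj (congrArg Subtype.val hab))
      · rintro ⟨_, σ, rfl⟩
        refine ⟨⟨comapPlace ((σ⁻¹).restrictScalars k) Q, e, over_comap he _⟩, Subtype.ext ?_⟩
        exact (smul_O σ Q).symm
    rw [Nat.card_congr (Equiv.ofBijective f hf), ← IsGalois.card_aut_eq_finrank K K',
      ← Nat.card_congr (MulAction.orbitProdStabilizerEquivGroup (K' ≃ₐ[K] K') Q.O), Nat.card_prod]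
  · rintro Q' ⟨e', he'⟩
    obtain ⟨σ, rfl⟩ := exists_conj hK hg he he'
    exact ⟨over_comap he σ, deg_comapPlace _ _⟩

theorem card_decomp (hK : IsFunctionField k K) (hg : IsGeometric k K) [IsGalois K K']
    (Q : Place k K') (P : Place k K) (e : ℕ) (he : IsOverWith Q P e) :
    Nat.card ((Q.O).decompositionSubgroup K) * P.deg = e * Q.deg := by
  obtain ⟨h1, h2⟩ := count_places hK hg Q P e he
  obtain ⟨hfin, h3⟩ := fundamental (K' := K') hK P
  have h4 := h3 hfin.toFinset (fun Q => Set.Finite.mem_toFinset _)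
  have h5 : ∀ Q' ∈ hfin.toFinset, ramIdx Q' P * Q'.deg = e * Q.deg := by
    intro Q' hQ'
    rw [Set.Finite.mem_toFinset] at hQ'
    obtain ⟨h6, h7⟩ := h2 Q' hQ'
    rw [ramIdx_eq h6, h7]
  rw [Finset.sum_congr rfl h5, Finset.sum_const, smul_eq_mul, ← h1] at h4
  have h6 : hfin.toFinset.card = Nat.card {Q' : Place k K' // IsOver Q' P} := by
    rw [← Set.ncard_eq_toFinset_card _ hfin]; rfl
  have h7 : 0 < hfin.toFinset.card := Finset.card_pos.mpr ⟨Q, (Set.Finite.mem_toFinset _).mpr ⟨e, he⟩⟩
  rw [h6] at h4 h7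
  rw [mul_assoc] at h4
  exact (Nat.eq_of_mul_eq_mul_left h7 h4).symm

end Groth.Agent.H16g
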