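import Groth.Agent.Lib.H16_FunFldO

set_option autoImplicit false
open FunFld Groth.Agent.H16

namespace Groth.Agent.H16g

variable {k K K' : Type*} [Field k] [Field K] [Field K'] [Algebra k K] [Algebra K K'] [Algebra k K']

theorem finite_over [IsScalarTower k K K'] (hF : FF k K') (P : Place k K) :
    {Q : Place k K' | IsOver Q P}.Finite := by
  obtain ⟨y, hy0, hy, hylt⟩ := exists_unif P
  refine (H16g.finite_support hF (algebraMap K K' y)).subset ?_
  rintro Q ⟨e, he⟩ h0
  have h0 : -(WithZero.log (Q.1 (algebraMap K K' y))) = 0 := h0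
  have hpos := over_pos he
  have hP0 : P.1 y ≠ 0 := by simpa using hy0
  have hl := (WithZero.log_lt_log hP0 one_ne_zero).mpr hylt
  rw [WithZero.log_one] at hl
  rw [he, WithZero.log_pow, nsmul_eq_mul] at h0
  have : (0 : ℤ) < e := by omega
  nlinarith

theorem conormP_apply_FF [IsScalarTower k K K'] (hF : FF k K')
    (P : Place k K) (Q : Place k K') : conormP K' P Q = ramIdx Q P := by
  classical
  unfold conormP
  rw [dif_pos (finite_over hF P), Finsupp.finsetSum_apply]
  by_cases hQ : IsOver Q P
  · rw [Finset.sum_eq_single Q]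
    · simp
    · intro R _ hR
      rw [Finsupp.smul_apply, Finsupp.single_eq_of_ne hR.symm, smul_zero]
    · intro h; exact absurd ((Set.Finite.mem_toFinset (finite_over hF P)).mpr hQ) h
  · rw [ramIdx_not_over hQ, Finset.sum_eq_zero]
    · rfl
    · intro R hR
      rw [Set.Finite.mem_toFinset] at hR
      rw [Finsupp.smul_apply, Finsupp.single_eq_of_ne (by rintro rfl; exact hQ hR), smul_zero]

theorem conorm_apply_FF [IsScalarTower k K K'] (hF : FF k K')
    (D : Divisor k K) {Q : Place k K'} {P : Place k K} {e : ℕ} (h : IsOverWith Q P e) :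
    conorm K' D Q = e * D P := by
  classical
  rw [conorm_eq]
  change (∑ P' ∈ D.support, D P' • conormP K' P') Q = _
  rw [Finsupp.finsetSum_apply]
  have h0 : ∀ P', P' ≠ P → ¬ IsOver Q P' := by
    rintro P' hne ⟨e', he'⟩
    exact hne (over_unique he' h)
  rw [Finset.sum_eq_single P]
  · rw [Finsupp.smul_apply, conormP_apply_FF hF, ramIdx_eq h, smul_eq_mul, mul_comm]
  · intro P' _ hne
    rw [Finsupp.smul_apply, conormP_apply_FF hF, ramIdx_not_over (h0 P' hne)]; simp
  · intro hP
    rw [Finsupp.notMem_support_iff] at hP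
    rw [hP]; simp

end Groth.Agent.H16g
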