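import Mathlib
set_option autoImplicit false
open Polynomial
universe u v
namespace Groth.Agent.H1.Hensel

lemma isUnit_of_mk {A : Type*} [CommRing A] {I : Ideal A} (hI : I ≤ Ideal.jacobson ⊥) {x : A}
    (hx : IsUnit (Ideal.Quotient.mk I x)) : IsUnit x := by
  have := isLocalHom_of_le_jacobson_bot I hI
  exact isUnit_of_map_unit (Ideal.Quotient.mk I) x hx

lemma unique_root {A : Type*} [CommRing A] {I : Ideal A} (hI : I ≤ Ideal.jacobson ⊥) (f : A[X]) {a b : A}
    (ha : f.eval a = 0) (hb : f.eval b = 0) (hab : a - b ∈ I)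
    (hu : IsUnit (Ideal.Quotient.mk I (f.derivative.eval b))) : a = b := by
  obtain ⟨k, hk⟩ := f.binomExpansion b (a - b)
  have : (a - b) * (f.derivative.eval b + k * (a-b)) = 0 := by
    rw [add_sub_cancel, ha, hb] at hk; linear_combination -hk
  have hu2 : IsUnit (f.derivative.eval b + k * (a-b)) := by
    apply isUnit_of_mk hI
    rw [map_add, map_mul, (Ideal.Quotient.eq_zero_iff_mem).2 hab, mul_zero, add_zero]; exact hu
  exact sub_eq_zero.1 ((hu2.mul_left_eq_zero).1 this)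

lemma eval_mem {A : Type*} [CommRing A] {I : Ideal A} {p : A[X]} (hp : ∀ i, p.coeff i ∈ I) (a : A) :
    p.eval a ∈ I := by
  rw [eval_eq_sum_range]
  exact Ideal.sum_mem _ fun i _ => Ideal.mul_mem_right _ _ (hp i)

lemma deriv_coeff_mem {A : Type*} [CommRing A] {I : Ideal A} {p : A[X]} (hp : ∀ i, p.coeff i ∈ I) :
    ∀ i, p.derivative.coeff i ∈ I := by
  intro i
  rw [coeff_derivative]
  exact Ideal.mul_mem_right _ _ (hp _)

/-- Gabber's criterion gives Hensel's lemma for arbitrary (not necessarily monic) polynomials. -/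
lemma lift_of_gabber {A : Type*} [CommRing A] (I : Ideal A) (hI : I ≤ Ideal.jacobson ⊥)
    (H : ∀ (n : ℕ), 0 < n → ∀ p : A[X], p.natDegree ≤ n → (∀ i, p.coeff i ∈ I) →
      ∃ α : A, α - 1 ∈ I ∧ IsRoot (X ^ n * (X - 1) + p) α)
    (f : A[X]) (a₀ : A) (h0 : f.eval a₀ ∈ I) (h1 : IsUnit (Ideal.Quotient.mk I (f.derivative.eval a₀))) :
    ∃ a, f.IsRoot a ∧ a - a₀ ∈ I := by
  replace h1 := isUnit_of_mk hI h1
  obtain ⟨c1, hc1⟩ := h1
  set F := taylor a₀ f with hF
  have hF0 : F.coeff 0 = f.eval a₀ := taylor_coeff_zero _ _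
  have hF1 : F.coeff 1 = (c1 : A) := by rw [hF, taylor_coeff_one, hc1]
  set m := F.natDegree with hm
  set c0 := f.eval a₀ with hc0
  set v : A := ((c1⁻¹ : Aˣ) : A) with hv
  set d : ℕ → A := fun i => F.coeff i * c0 ^ (i - 1) * (-v) ^ i with hd
  set p : A[X] := ∑ i ∈ Finset.range (m + 1), C (d (i + 2)) * X ^ (m - i) with hp
  have hpI : ∀ i, p.coeff i ∈ I := by
    intro i
    rw [hp, finsetSum_coeff]
    refine Ideal.sum_mem _ fun j _ => ?_
    rw [coeff_C_mul]
    refine Ideal.mul_mem_right _ _ ?_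
    simp only [hd]
    refine Ideal.mul_mem_right _ _ (Ideal.mul_mem_left _ _ ?_)
    have : j + 2 - 1 = j + 1 := by omega
    rw [this, pow_succ]
    exact Ideal.mul_mem_left _ _ h0
  have hpd : p.natDegree ≤ m + 1 := by
    refine natDegree_sum_le_of_forall_le _ _ fun i _ => ?_
    refine (natDegree_C_mul_X_pow_le _ _).trans ?_
    omega
  obtain ⟨α, hα, hroot⟩ := H (m + 1) (Nat.succ_pos _) p hpd hpI
  have hαu : IsUnit α := by
    apply isUnit_of_mk hI
    have : Ideal.Quotient.mk I α = 1 := by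
      rw [← map_one (Ideal.Quotient.mk I), Ideal.Quotient.eq]; exact hα
    rw [this]; exact isUnit_one
  obtain ⟨w, hw⟩ := hαu
  have hroot' : α ^ (m + 1) * (α - 1) + ∑ i ∈ Finset.range (m + 1), d (i + 2) * α ^ (m - i) = 0 := by
    have := hroot
    simpa [IsRoot, hp, eval_finsetSum] using this
  set y : A := -v * ((w⁻¹ : Aˣ) : A) with hy
  refine ⟨c0 * y + a₀, ?_, by simpa using Ideal.mul_mem_right _ _ h0⟩
  have key : α ^ (m + 2) * F.eval (c0 * y) = 0 := by
    have h3 : F.natDegree < m + 3 := by omega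
    rw [eval_eq_sum_range' h3, Finset.sum_range_succ', Finset.sum_range_succ']
    have e1 : ∀ i ∈ Finset.range (m + 1), α ^ (m + 2) * (F.coeff (i + 1 + 1) * (c0 * y) ^ (i + 1 + 1)) =
        c0 * (d (i + 2) * α ^ (m - i)) := by
      intro i hi
      have hi' : i ≤ m := by simpa [Nat.lt_succ_iff] using hi
      obtain ⟨k, hk⟩ := Nat.exists_eq_add_of_le hi'
      have hαw : α * ((w⁻¹ : Aˣ) : A) = 1 := by rw [← hw]; simp
      simp only [hd, hy]
      have : m - i = k := by omega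
      rw [this, hk]
      have e2 : i + 2 - 1 = i + 1 := by omega
      rw [e2]
      have : α ^ (i + k + 2) * (((w⁻¹ : Aˣ) : A)) ^ (i + 2) = α ^ k := by
        have : α ^ (i + k + 2) * (((w⁻¹ : Aˣ) : A)) ^ (i + 2) = α ^ k * (α * ((w⁻¹ : Aˣ) : A)) ^ (i + 2) := by ring
        rw [this, hαw, one_pow, mul_one]
      calc _ = F.coeff (i + 2) * c0 ^ (i + 2) * (-v) ^ (i + 2) * (α ^ (i + k + 2) * (((w⁻¹ : Aˣ) : A)) ^ (i + 2)) := by ring
        _ = _ := by rw [this]; ring
    have hαw : α * ((w⁻¹ : Aˣ) : A) = 1 := by rw [← hw]; simp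
    have hcv : (c1 : A) * v = 1 := by simp [hv]
    rw [mul_add, mul_add, Finset.mul_sum, Finset.sum_congr rfl e1, ← Finset.mul_sum]
    simp only [zero_add, hF0, hF1, pow_one, pow_zero, mul_one]
    have e3 : α ^ (m + 2) * ((c1 : A) * (c0 * y)) = - c0 * α ^ (m + 1) := by
      rw [hy]
      calc _ = - c0 * α ^ (m + 1) * ((c1 : A) * v) * (α * ((w⁻¹ : Aˣ) : A)) := by ring
        _ = _ := by rw [hcv, hαw]; ring
    rw [e3]
    linear_combination c0 * hroot'
  have hα2 : IsUnit (α ^ (m + 2)) := by rw [← hw]; exact (w.isUnit).pow _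
  have := (hα2.mul_right_eq_zero).1 key
  rw [IsRoot, ← taylor_eval]
  exact this

lemma gabber_of_henselian {A : Type*} [CommRing A] (I : Ideal A) [h : HenselianRing A I]
    (n : ℕ) (hn : 0 < n) (p : A[X]) (hp : p.natDegree ≤ n) (hpI : ∀ i, p.coeff i ∈ I) :
    ∃! α : A, α - 1 ∈ I ∧ IsRoot (X ^ n * (X - 1) + p) α := by
  nontriviality A
  have hmon : (X ^ n * (X - 1) + p : A[X]).Monic := by
    have hX : (X - 1 : A[X]).Monic := by simpa using monic_X_sub_C (1 : A)
    have hXd : (X - 1 : A[X]).natDegree = 1 := by simpa using natDegree_X_sub_C (1 : A)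
    have h1 : (X ^ n * (X - 1) : A[X]).Monic := (monic_X_pow n).mul hX
    refine h1.add_of_left ?_
    rw [degree_eq_natDegree h1.ne_zero, (monic_X_pow n).natDegree_mul hX]
    refine lt_of_le_of_lt degree_le_natDegree ?_
    rw [natDegree_X_pow, hXd]
    exact_mod_cast Nat.lt_succ_of_le hp
  have h0 : (X ^ n * (X - 1) + p : A[X]).eval 1 ∈ I := by
    simpa using eval_mem hpI 1
  have h1 : Ideal.Quotient.mk I ((X ^ n * (X - 1) + p : A[X]).derivative.eval 1) = 1 := by
    have : (X ^ n * (X - 1) + p : A[X]).derivative.eval 1 = 1 + p.derivative.eval 1 := by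
      simp
    rw [this, map_add, map_one, (Ideal.Quotient.eq_zero_iff_mem).2 (eval_mem (deriv_coeff_mem hpI) 1), add_zero]
  have h1' : IsUnit (Ideal.Quotient.mk I ((X ^ n * (X - 1) + p : A[X]).derivative.eval 1)) := by
    rw [h1]; exact isUnit_one
  obtain ⟨a, ha, ha'⟩ := h.is_henselian _ hmon 1 h0 h1'
  refine ⟨a, ⟨ha', ha⟩, ?_⟩
  rintro b ⟨hb', hb⟩
  refine unique_root h.jac _ hb ha ?_ ?_
  · have := I.sub_mem hb' ha'
    simpa using this
  · have : Ideal.Quotient.mk I ((X ^ n * (X - 1) + p : A[X]).derivative.eval a) = Ideal.Quotient.mk I ((X ^ n * (X - 1) + p : A[X]).derivative.eval 1) := by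
      rw [Ideal.Quotient.eq]
      exact I.mem_of_dvd (sub_dvd_eval_sub _ _ _) ha'
    rw [this]; exact h1'

theorem henselianRing_iff_gabber (A : Type*) [CommRing A] (I : Ideal A) :
    HenselianRing A I ↔ (I ≤ Ideal.jacobson ⊥ ∧
      ∀ (n : ℕ), 0 < n → ∀ p : Polynomial A, p.natDegree ≤ n → (∀ i, p.coeff i ∈ I) →
        ∃! α : A, α - 1 ∈ I ∧
          Polynomial.IsRoot (Polynomial.X ^ n * (Polynomial.X - 1) + p) α) := by
  constructor
  · intro h
    exact ⟨h.jac, fun n hn p hp hpI => gabber_of_henselian I n hn p hp hpI⟩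
  · rintro ⟨h1, h2⟩
    exact ⟨h1, fun f _ a₀ h0 hu => lift_of_gabber I h1 (fun n hn p hp hpI => (h2 n hn p hp hpI).exists) f a₀ h0 hu⟩

/-- Hensel's lemma for non-monic polynomials -/
lemma lift_nonmonic {A : Type*} [CommRing A] (I : Ideal A) [h : HenselianRing A I] (f : A[X]) (a₀ : A)
    (h0 : f.eval a₀ ∈ I) (h1 : IsUnit (Ideal.Quotient.mk I (f.derivative.eval a₀))) :
    ∃ a, f.IsRoot a ∧ a - a₀ ∈ I :=
  lift_of_gabber I h.jac (fun n hn p hp hpI => (gabber_of_henselian I n hn p hp hpI).exists) f a₀ h0 h1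

end Groth.Agent.H1.Hensel
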