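import Groth.Agent.Lib.H1_Hensel
set_option autoImplicit false
open Polynomial
universe u v
namespace Groth.Agent.H1.Hensel

/-- quotients of henselian pairs -/
lemma henselian_of_surjective {A B : Type*} [CommRing A] [CommRing B] (I : Ideal A) [h : HenselianRing A I]
    (φ : A →+* B) (hφ : Function.Surjective φ) : HenselianRing B (I.map φ) := by
  have hcomap : ∀ b ∈ I.map φ, ∃ a ∈ I, φ a = b := fun b hb => by
    exact (Ideal.mem_map_iff_of_surjective φ hφ).1 hb
  have hjac : I.map φ ≤ Ideal.jacobson ⊥ := by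
    intro b hb
    rw [Ideal.mem_jacobson_bot]
    intro y
    obtain ⟨a, ha, rfl⟩ := hcomap b hb
    obtain ⟨y, rfl⟩ := hφ y
    have := (Ideal.mem_jacobson_bot.1 (h.jac ha) y).map φ
    simpa using this
  refine ⟨hjac, fun f _ a₀ h0 hu => lift_of_gabber (I.map φ) hjac ?_ f a₀ h0 hu⟩
  intro n hn p hp hpI
  choose g hgI hg using fun i => hcomap _ (hpI i)
  set q : A[X] := ∑ i ∈ Finset.range (n + 1), C (g i) * X ^ i with hq
  have hqI : ∀ i, q.coeff i ∈ I := by
    intro i
    rw [hq, finsetSum_coeff]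
    refine Ideal.sum_mem _ fun j _ => ?_
    rw [coeff_C_mul]
    exact Ideal.mul_mem_right _ _ (hgI j)
  have hqd : q.natDegree ≤ n := by
    refine natDegree_sum_le_of_forall_le _ _ fun i hi => ?_
    refine (natDegree_C_mul_X_pow_le _ _).trans ?_
    simpa [Nat.lt_succ_iff] using hi
  have hqp : q.map φ = p := by
    rw [hq, Polynomial.map_sum]
    simp only [Polynomial.map_mul, Polynomial.map_C, Polynomial.map_pow, Polynomial.map_X, hg]
    exact (p.as_sum_range_C_mul_X_pow' (Nat.lt_succ_of_le hp)).symm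
  obtain ⟨α, ⟨hα, hr⟩, -⟩ := gabber_of_henselian I n hn q hqd hqI
  refine ⟨φ α, ?_, ?_⟩
  · have := Ideal.mem_map_of_mem φ hα
    simpa using this
  · have := hr.map (f := φ)
    simpa [hqp] using this

lemma henselian_of_nil {A : Type*} [CommRing A] (I : Ideal A) (hI : ∀ x ∈ I, IsNilpotent x) :
    HenselianRing A I := by
  have hjac : I ≤ Ideal.jacobson ⊥ := by
    intro x hx
    rw [Ideal.mem_jacobson_bot]
    intro y
    have : IsNilpotent (x * y) := (Commute.all x y).isNilpotent_mul_right (hI x hx)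
    exact this.isUnit_add_one
  refine ⟨hjac, fun f _ a₀ h0 hu => ?_⟩
  have hu' := isUnit_of_mk hjac hu
  obtain ⟨r, ⟨hr1, hr2⟩, -⟩ := Polynomial.existsUnique_nilpotent_sub_and_aeval_eq_zero (P := f) (x := a₀)
    (by simpa using hI _ h0) (by simpa using hu')
  have hr2' : f.eval r = 0 := by simpa using hr2
  refine ⟨r, hr2', ?_⟩
  obtain ⟨k, hk⟩ := f.binomExpansion a₀ (r - a₀)
  rw [add_sub_cancel, hr2'] at hk
  have hn : IsNilpotent (k * (r - a₀)) := by
    have : IsNilpotent (r - a₀) := by rw [← neg_sub]; exact hr1.neg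
    exact (Commute.all k _).isNilpotent_mul_left this
  have hu3 : IsUnit (f.derivative.eval a₀ + k * (r - a₀)) := hn.isUnit_add_left_of_commute hu' (Commute.all _ _)
  obtain ⟨w, hw⟩ := hu3
  have : (r - a₀) = - f.eval a₀ * ((w⁻¹ : Aˣ) : A) := by
    have : (r - a₀) * w = - f.eval a₀ := by rw [hw]; linear_combination -hk
    rw [← this]; simp [mul_assoc]
  rw [this]
  exact Ideal.mul_mem_right _ _ (I.neg_mem h0)

lemma henselian_iff_of_le {A : Type*} [CommRing A] (I J : Ideal A) (hIJ : I ≤ J) :
    HenselianRing A J ↔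
      (HenselianRing A I ∧ HenselianRing (A ⧸ I) (Ideal.map (Ideal.Quotient.mk I) J)) := by
  constructor
  · intro h
    refine ⟨⟨hIJ.trans h.jac, fun f hf a₀ h0 hu => ?_⟩, henselian_of_surjective J _ Ideal.Quotient.mk_surjective⟩
    have hu' := isUnit_of_mk (hIJ.trans h.jac) hu
    obtain ⟨a, ha, ha'⟩ := h.is_henselian f hf a₀ (hIJ h0) (hu'.map _)
    refine ⟨a, ha, ?_⟩
    obtain ⟨k, hk⟩ := f.binomExpansion a₀ (a - a₀)
    rw [add_sub_cancel, ha.eq_zero] at hk
    have hu3 : IsUnit (f.derivative.eval a₀ + k * (a - a₀)) := by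
      apply isUnit_of_mk h.jac
      rw [map_add, map_mul, (Ideal.Quotient.eq_zero_iff_mem).2 ha', mul_zero, add_zero]
      exact hu'.map _
    obtain ⟨w, hw⟩ := hu3
    have : (a - a₀) = - f.eval a₀ * ((w⁻¹ : Aˣ) : A) := by
      have : (a - a₀) * w = - f.eval a₀ := by rw [hw]; linear_combination -hk
      rw [← this]; simp [mul_assoc]
    rw [this]
    exact Ideal.mul_mem_right _ _ (I.neg_mem h0)
  · rintro ⟨hI, hJ⟩
    have hjac : J ≤ Ideal.jacobson ⊥ := by
      intro x hx
      rw [Ideal.mem_jacobson_bot]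
      intro y
      apply isUnit_of_mk hI.jac
      have := Ideal.mem_jacobson_bot.1 (hJ.jac (Ideal.mem_map_of_mem _ hx)) (Ideal.Quotient.mk I y)
      simpa using this
    refine ⟨hjac, fun f hf a₀ h0 hu => ?_⟩
    have hu' := isUnit_of_mk hjac hu
    obtain ⟨b, hb, hb'⟩ := hJ.is_henselian (f.map (Ideal.Quotient.mk I)) (hf.map _) (Ideal.Quotient.mk I a₀)
      (by rw [eval_map_apply]; exact Ideal.mem_map_of_mem _ h0)
      (by rw [derivative_map, eval_map_apply]; exact (hu'.map _).map _)
    obtain ⟨a1, rfl⟩ := Ideal.Quotient.mk_surjective b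
    have hb2 : f.eval a1 ∈ I := by
      rw [IsRoot, eval_map_apply] at hb
      exact Ideal.Quotient.eq_zero_iff_mem.1 hb
    have hb3 : a1 - a₀ ∈ J := by
      rw [← map_sub, Ideal.mem_quotient_iff_mem hIJ] at hb'
      exact hb'
    have hu1 : IsUnit (f.derivative.eval a1) := by
      apply isUnit_of_mk hjac
      have : Ideal.Quotient.mk J (f.derivative.eval a1) = Ideal.Quotient.mk J (f.derivative.eval a₀) := by
        rw [Ideal.Quotient.eq]
        exact J.mem_of_dvd (sub_dvd_eval_sub _ _ _) hb3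
      rw [this]; exact hu
    obtain ⟨a, ha, ha'⟩ := hI.is_henselian f hf a1 hb2 (hu1.map _)
    refine ⟨a, ha, ?_⟩
    have : a - a₀ = (a - a1) + (a1 - a₀) := by ring
    rw [this]
    exact J.add_mem (hIJ ha') hb3

lemma henselian_iff_radical {A : Type*} [CommRing A] (I : Ideal A) : HenselianRing A I ↔ HenselianRing A I.radical := by
  rw [henselian_iff_of_le I I.radical Ideal.le_radical]
  refine ⟨fun h => ⟨h, henselian_of_nil _ ?_⟩, fun h => h.1⟩
  intro x hx
  obtain ⟨a, ha, rfl⟩ := (Ideal.mem_map_iff_of_surjective _ Ideal.Quotient.mk_surjective).1 hx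
  obtain ⟨n, hn⟩ := ha
  exact ⟨n, by rw [← map_pow]; exact Ideal.Quotient.eq_zero_iff_mem.2 hn⟩

theorem S0525 (A : Type u) [CommRing A] (I J : Ideal A)
    (h : I.radical = J.radical) : HenselianRing A I ↔ HenselianRing A J := by
  rw [henselian_iff_radical I, henselian_iff_radical J, h]

theorem S0529 (J : Type u) (A : J → Type u) [∀ j, CommRing (A j)]
    (I : ∀ j, Ideal (A j)) :
    HenselianRing (∀ j, A j) (⨅ j, Ideal.comap (Pi.evalRingHom A j) (I j)) ↔
      ∀ j, HenselianRing (A j) (I j) := by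
  classical
  have hmem : ∀ x : (∀ j, A j), x ∈ (⨅ j, Ideal.comap (Pi.evalRingHom A j) (I j)) ↔ ∀ j, x j ∈ I j := by
    intro x; simp [Ideal.mem_iInf]
  constructor
  · intro h j
    have := henselian_of_surjective (⨅ j, Ideal.comap (Pi.evalRingHom A j) (I j)) (Pi.evalRingHom A j)
      (Function.surjective_eval j)
    convert this
    apply le_antisymm
    · intro x hx
      have : x = Pi.evalRingHom A j (Pi.single j x) := by simp
      rw [this]
      apply Ideal.mem_map_of_mem
      rw [hmem]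
      intro i
      by_cases hij : i = j
      · subst hij; simpa using hx
      · simp [Pi.single_eq_of_ne hij]
    · rw [Ideal.map_le_iff_le_comap]
      intro x hx
      exact (hmem x).1 hx j
  · intro h
    rw [henselianRing_iff_gabber]
    have h' := fun j => (henselianRing_iff_gabber (A j) (I j)).1 (h j)
    refine ⟨?_, ?_⟩
    · intro x hx
      rw [Ideal.mem_jacobson_bot]
      intro y
      rw [Pi.isUnit_iff]
      intro j
      exact Ideal.mem_jacobson_bot.1 ((h' j).1 ((hmem x).1 hx j)) (y j)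
    · intro n hn p hp hpI
      have key : ∀ (j : J), ∃! α : A j, α - 1 ∈ I j ∧ IsRoot (X ^ n * (X - 1) + p.map (Pi.evalRingHom A j)) α := by
        intro j
        refine (h' j).2 n hn _ (natDegree_map_le.trans hp) fun i => ?_
        rw [coeff_map]
        exact (hmem _).1 (hpI i) j
      choose α hα huniq using key
      have hroot : ∀ β : (∀ j, A j), IsRoot (X ^ n * (X - 1) + p) β ↔
          ∀ j, IsRoot (X ^ n * (X - 1) + p.map (Pi.evalRingHom A j)) (β j) := by
        intro β
        simp only [IsRoot]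
        rw [funext_iff]
        refine forall_congr' fun j => ?_
        have : (eval β (X ^ n * (X - 1) + p)) j = eval (β j) (X ^ n * (X - 1) + p.map (Pi.evalRingHom A j)) := by
          have := (eval_map_apply (Pi.evalRingHom A j) β (p := (X ^ n * (X - 1) + p))).symm
          simpa using this
        rw [this]; rfl
      refine ⟨α, ⟨(hmem _).2 fun j => (hα j).1, (hroot _).2 fun j => (hα j).2⟩, ?_⟩
      rintro β ⟨hβ1, hβ2⟩
      ext j
      exact huniq j _ ⟨(hmem _).1 hβ1 j, (hroot _).1 hβ2 j⟩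


end Groth.Agent.H1.Hensel
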