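import Groth.Agent.Lib.H1_HenselB
import Groth.Prelude.Def_Hensel
set_option autoImplicit false
open Polynomial
universe u v
namespace Groth.Agent.H1.Hensel

lemma henselianLocal_of_ring {R : Type*} [CommRing R] [IsLocalRing R] (h : HenselianRing R (IsLocalRing.maximalIdeal R)) :
    HenselianLocalRing R where
  is_henselian f hf a₀ h0 h1 := h.is_henselian f hf a₀ h0 (h1.map _)

theorem henselianLocal_of_surjective {A B : Type*} [CommRing A] [CommRing B] [HenselianLocalRing A] [Nontrivial B]
    (φ : A →+* B) (hφ : Function.Surjective φ) : HenselianLocalRing B := by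
  have hB : IsLocalRing B := IsLocalRing.of_surjective' φ hφ
  have := henselian_of_surjective (IsLocalRing.maximalIdeal A) φ hφ
  have e : (IsLocalRing.maximalIdeal A).map φ = IsLocalRing.maximalIdeal B := by
    have hm := Ideal.map_eq_top_or_isMaximal_of_surjective φ hφ (IsLocalRing.maximalIdeal.isMaximal A)
    rcases hm with h | h
    · exfalso
      have h1 := this.jac
      rw [h] at h1
      have : IsUnit (0 : B) := by
        have := Ideal.mem_jacobson_bot.1 (h1 (Submodule.mem_top : (-1 : B) ∈ ⊤)) 1
        simpa using this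
      exact not_isUnit_zero this
    · exact IsLocalRing.eq_maximalIdeal h
  rw [e] at this
  exact henselianLocal_of_ring this

theorem S0495 (R : Type u) [CommRing R] [IsLocalRing R]
    (h : ringKrullDim R = 0) : HenselianLocalRing R := by
  apply henselianLocal_of_ring
  apply henselian_of_nil
  intro x hx
  have : Ring.KrullDimLE 0 R := by
    rw [Ring.krullDimLE_iff]; simp [h]
  rwa [← Ring.KrullDimLE.nilradical_eq_maximalIdeal, mem_nilradical] at hx

theorem S0498 (R : Type u) [CommRing R] [HenselianLocalRing R]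
    (f : Polynomial R) (a₀ : IsLocalRing.ResidueField R)
    (h₁ : Polynomial.eval₂ (IsLocalRing.residue R) a₀ f = 0)
    (h₂ : Polynomial.eval₂ (IsLocalRing.residue R) a₀ (Polynomial.derivative f) ≠ 0) :
    ∃ a : R, Polynomial.IsRoot f a ∧ IsLocalRing.residue R a = a₀ := by
  obtain ⟨b, rfl⟩ := IsLocalRing.residue_surjective a₀
  rw [eval₂_at_apply] at h₁ h₂
  obtain ⟨a, ha, ha'⟩ := lift_nonmonic (IsLocalRing.maximalIdeal R) f b
    (by rwa [IsLocalRing.residue_eq_zero_iff] at h₁)
    (by
      have : IsUnit (f.derivative.eval b) := by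
        rwa [Ne, IsLocalRing.residue_eq_zero_iff, IsLocalRing.mem_maximalIdeal, mem_nonunits_iff, not_not] at h₂
      exact this.map _)
  refine ⟨a, ha, ?_⟩
  rw [← sub_eq_zero, ← map_sub, IsLocalRing.residue_eq_zero_iff]
  exact ha'

theorem S0508 (R : Type u) [CommRing R] [IsLocalRing R] (S : Type u) [CommRing S] [IsLocalRing S]
    [Algebra R S] [IsLocalHom (algebraMap R S)] [h : Hensel.IsHenselization R S] :
    Function.Bijective (IsLocalRing.ResidueField.map (algebraMap R S)) := by
  refine ⟨RingHom.injective _, ?_⟩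
  have hl : IsLocalHom (IsLocalRing.residue R) := inferInstance
  obtain ⟨g, hg, -⟩ := h.universal (IsLocalRing.ResidueField R) (IsLocalRing.residue R) hl
  intro s
  obtain ⟨s, rfl⟩ := IsLocalRing.residue_surjective s
  obtain ⟨r, hr⟩ := IsLocalRing.residue_surjective (g s)
  have h1 : g (s - algebraMap R S r) = 0 := by
    rw [map_sub, sub_eq_zero, ← hr, ← hg]; rfl
  have h2 : s - algebraMap R S r ∈ IsLocalRing.maximalIdeal S := by
    rw [IsLocalRing.mem_maximalIdeal, mem_nonunits_iff]
    intro hu
    have := hu.map g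
    rw [h1] at this
    exact not_isUnit_zero this
  refine ⟨IsLocalRing.residue R r, ?_⟩
  rw [IsLocalRing.ResidueField.map_residue]
  symm
  rw [← sub_eq_zero, ← map_sub, IsLocalRing.residue_eq_zero_iff]
  exact h2

theorem S0507 (R : Type u) [CommRing R] [IsLocalRing R] (S : Type u) [CommRing S] [IsLocalRing S]
    [Algebra R S] [IsLocalHom (algebraMap R S)] [h : Hensel.IsHenselization R S] :
    Ideal.map (algebraMap R S) (IsLocalRing.maximalIdeal R) = IsLocalRing.maximalIdeal S := by
  have hle : Ideal.map (algebraMap R S) (IsLocalRing.maximalIdeal R) ≤ IsLocalRing.maximalIdeal S :=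
    Ideal.map_le_iff_le_comap.2 fun x hx => by
      rw [Ideal.mem_comap, IsLocalRing.mem_maximalIdeal, mem_nonunits_iff]
      intro hu
      exact hx (isUnit_of_map_unit _ _ hu)
  apply le_antisymm hle
  set J := Ideal.map (algebraMap R S) (IsLocalRing.maximalIdeal R) with hJ
  have hnt : Nontrivial (S ⧸ J) := Ideal.Quotient.nontrivial_iff.2 (ne_top_of_le_ne_top (IsLocalRing.maximalIdeal.isMaximal S).ne_top hle)
  have := h.henselian
  have hT : HenselianLocalRing (S ⧸ J) := henselianLocal_of_surjective (Ideal.Quotient.mk J) Ideal.Quotient.mk_surjective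
  have hl : IsLocalHom (IsLocalRing.residue R) := inferInstance
  obtain ⟨g, hg, -⟩ := h.universal (IsLocalRing.ResidueField R) (IsLocalRing.residue R) hl
  -- the map κ(R) → S/J
  let ψ : IsLocalRing.ResidueField R →+* S ⧸ J := Ideal.Quotient.lift _ ((Ideal.Quotient.mk J).comp (algebraMap R S)) (by
    intro a ha
    exact Ideal.Quotient.eq_zero_iff_mem.2 (Ideal.mem_map_of_mem _ ha))
  have hψ : ∀ r, ψ (IsLocalRing.residue R r) = Ideal.Quotient.mk J (algebraMap R S r) := fun r => rfl
  have hloc : IsLocalHom ((Ideal.Quotient.mk J).comp (algebraMap R S)) := by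
    constructor
    intro a ha
    have h1 : IsUnit (algebraMap R S a) := by
      by_contra hn
      have h2 : algebraMap R S a ∈ IsLocalRing.maximalIdeal S := hn
      have h3 := IsLocalRing.of_surjective' (Ideal.Quotient.mk J) Ideal.Quotient.mk_surjective
      have h4 : a ∈ IsLocalRing.maximalIdeal R := by
        rw [IsLocalRing.mem_maximalIdeal, mem_nonunits_iff]
        intro h5; exact hn (h5.map _)
      have h5 : (Ideal.Quotient.mk J).comp (algebraMap R S) a = 0 := Ideal.Quotient.eq_zero_iff_mem.2 (Ideal.mem_map_of_mem _ h4)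
      rw [h5] at ha
      exact not_isUnit_zero ha
    exact isUnit_of_map_unit (algebraMap R S) a h1
  obtain ⟨k, hk, huniq⟩ := h.universal (S ⧸ J) ((Ideal.Quotient.mk J).comp (algebraMap R S)) hloc
  have e1 := huniq (Ideal.Quotient.mk J) rfl
  have e2 := huniq (ψ.comp g) (by
    show (ψ.comp g).comp (algebraMap R S) = _
    rw [RingHom.comp_assoc, hg]
    ext r
    exact hψ r)
  intro s hs
  rw [← Ideal.Quotient.eq_zero_iff_mem, e1, ← e2, RingHom.comp_apply]
  have : g s = 0 := by
    by_contra hne
    obtain ⟨r, hr⟩ := IsLocalRing.residue_surjective (g s)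
    have hr' : IsUnit r := by
      have : IsUnit (IsLocalRing.residue R r) := by rw [hr]; exact isUnit_iff_ne_zero.2 hne
      exact isUnit_of_map_unit _ _ this
    have h1 : g (s - algebraMap R S r) = 0 := by
      rw [map_sub, sub_eq_zero, ← hr, ← hg]; rfl
    have h2 : IsUnit (s - algebraMap R S r) := by
      have : IsUnit (-(algebraMap R S r)) := (hr'.map _).neg
      by_contra hn
      have h3 : s - algebraMap R S r ∈ IsLocalRing.maximalIdeal S := hn
      have h4 : algebraMap R S r ∈ IsLocalRing.maximalIdeal S := by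
        have := (IsLocalRing.maximalIdeal S).sub_mem hs h3
        simpa using this
      exact h4 (hr'.map _)
    have := h2.map g
    rw [h1] at this
    exact not_isUnit_zero this
  rw [this, map_zero]

theorem S0510 (R : Type u) [CommRing R] [IsLocalRing R] (S : Type u) [CommRing S] [IsLocalRing S]
    [Algebra R S] [IsLocalHom (algebraMap R S)] [h : Hensel.IsHenselization R S] (n : ℕ) :
    Function.Bijective (Ideal.quotientMap
      (Ideal.map (algebraMap R S) (IsLocalRing.maximalIdeal R ^ n)) (algebraMap R S)
      Ideal.le_comap_map) := by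
  have hm := S0507 R S
  have hres := (S0508 R S).2
  -- S = R + m^n S
  have hsurj : ∀ (n : ℕ) (s : S), ∃ r : R, s - algebraMap R S r ∈ Ideal.map (algebraMap R S) (IsLocalRing.maximalIdeal R ^ n) := by
    intro n
    induction n with
    | zero => intro s; exact ⟨0, by rw [pow_zero, Ideal.one_eq_top, Ideal.map_top]; trivial⟩
    | succ n ih =>
      have h1 : ∀ s : S, ∃ r : R, s - algebraMap R S r ∈ Ideal.map (algebraMap R S) (IsLocalRing.maximalIdeal R) := by
        intro s
        obtain ⟨x, hx⟩ := hres (IsLocalRing.residue S s)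
        obtain ⟨r, rfl⟩ := IsLocalRing.residue_surjective x
        refine ⟨r, ?_⟩
        rw [hm, ← IsLocalRing.residue_eq_zero_iff, map_sub, ← hx, IsLocalRing.ResidueField.map_residue, sub_self]
      have h2 : ∀ x ∈ Ideal.map (algebraMap R S) (IsLocalRing.maximalIdeal R ^ n), ∃ r ∈ IsLocalRing.maximalIdeal R ^ n,
          x - algebraMap R S r ∈ Ideal.map (algebraMap R S) (IsLocalRing.maximalIdeal R ^ (n + 1)) := by
        intro x hx
        refine Submodule.span_induction (p := fun x _ => ∃ r ∈ IsLocalRing.maximalIdeal R ^ n,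
          x - algebraMap R S r ∈ Ideal.map (algebraMap R S) (IsLocalRing.maximalIdeal R ^ (n + 1))) ?_ ?_ ?_ ?_ hx
        · rintro _ ⟨a, ha, rfl⟩
          exact ⟨a, ha, by simp⟩
        · exact ⟨0, Ideal.zero_mem _, by simp⟩
        · rintro x y _ _ ⟨a, ha', ha⟩ ⟨b, hb', hb⟩
          refine ⟨a + b, Ideal.add_mem _ ha' hb', ?_⟩
          have : x + y - algebraMap R S (a + b) = (x - algebraMap R S a) + (y - algebraMap R S b) := by
            rw [map_add]; ring
          rw [this]; exact Ideal.add_mem _ ha hb
        · rintro s x _ ⟨r, hr', hr⟩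
          obtain ⟨a, ha⟩ := h1 s
          refine ⟨a * r, Ideal.mul_mem_left _ _ hr', ?_⟩
          have : s • x - algebraMap R S (a * r) = s * (x - algebraMap R S r) + (s - algebraMap R S a) * algebraMap R S r := by
            rw [map_mul, smul_eq_mul]; ring
          rw [this]
          refine Ideal.add_mem _ (Ideal.mul_mem_left _ _ hr) ?_
          rw [pow_succ', Ideal.map_mul]
          exact Ideal.mul_mem_mul ha (Ideal.mem_map_of_mem _ hr')
      intro s
      obtain ⟨r, hr⟩ := ih s
      obtain ⟨r', -, hr'⟩ := h2 _ hr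
      exact ⟨r + r', by rw [map_add, ← sub_sub]; exact hr'⟩
  constructor
  · apply Ideal.quotientMap_injective'
    intro a ha
    rcases Nat.eq_zero_or_pos n with rfl | hn
    · rw [pow_zero, Ideal.one_eq_top]; trivial
    · set J := IsLocalRing.maximalIdeal R ^ n with hJ
      have hJle : J ≤ IsLocalRing.maximalIdeal R := Ideal.pow_le_self hn.ne'
      have hnt : Nontrivial (R ⧸ J) := Ideal.Quotient.nontrivial_iff.2
        (ne_top_of_le_ne_top (IsLocalRing.maximalIdeal.isMaximal R).ne_top hJle)
      have hTl : IsLocalRing (R ⧸ J) := IsLocalRing.of_surjective' (Ideal.Quotient.mk J) Ideal.Quotient.mk_surjective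
      have hloc : IsLocalHom (Ideal.Quotient.mk J) := by
        constructor
        intro a ha
        by_contra hn
        have h1 : a ∈ IsLocalRing.maximalIdeal R := hn
        have h2 : (Ideal.Quotient.mk J a) ^ n = 0 := by
          rw [← map_pow]; exact Ideal.Quotient.eq_zero_iff_mem.2 (Ideal.pow_mem_pow h1 n)
        exact not_isUnit_zero (h2 ▸ ha.pow n)
      have hT : HenselianLocalRing (R ⧸ J) := by
        apply henselianLocal_of_ring
        apply henselian_of_nil
        intro x hx
        obtain ⟨b, rfl⟩ := Ideal.Quotient.mk_surjective x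
        have h1 : b ∈ IsLocalRing.maximalIdeal R := by
          rw [IsLocalRing.mem_maximalIdeal, mem_nonunits_iff]
          intro hu
          exact hx (hu.map _)
        exact ⟨n, by rw [← map_pow]; exact Ideal.Quotient.eq_zero_iff_mem.2 (Ideal.pow_mem_pow h1 n)⟩
      obtain ⟨g, hg, -⟩ := h.universal (R ⧸ J) (Ideal.Quotient.mk J) hloc
      have h1 : g (algebraMap R S a) ∈ Ideal.map g (Ideal.map (algebraMap R S) J) := Ideal.mem_map_of_mem _ ha
      rw [Ideal.map_map, hg, Ideal.map_quotient_self, Ideal.mem_bot] at h1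
      have h2 : Ideal.Quotient.mk J a = 0 := by rw [← hg]; exact h1
      exact Ideal.Quotient.eq_zero_iff_mem.1 h2
  · intro x
    obtain ⟨s, rfl⟩ := Ideal.Quotient.mk_surjective x
    obtain ⟨r, hr⟩ := hsurj n s
    refine ⟨Ideal.Quotient.mk _ r, ?_⟩
    rw [Ideal.quotientMap_mk]
    exact (Ideal.Quotient.eq.2 hr).symm

end Groth.Agent.H1.Hensel
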