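import Mathlib
set_option autoImplicit false
set_option linter.all false
open TensorProduct
namespace Groth.Agent.H22Art
universe u v

theorem key0 (A : Type u) [CommRing A] [IsLocalRing A] [IsArtinianRing A]
    (P L : Type v) [AddCommGroup P] [Module A P] [AddCommGroup L] [Module A L]
    [Module.Flat A L] (h : P →ₗ[A] L) (N : Type u) [AddCommGroup N] [Module A N] [Module.Finite A N] :
      (Function.Injective (h.lTensor (IsLocalRing.ResidueField A)) → Function.Injective (h.lTensor N)) ∧
      (Function.Surjective (h.lTensor (IsLocalRing.ResidueField A)) → Function.Surjective (h.lTensor N)) := by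
  classical
  have key : ∀ (N : Type u) [AddCommGroup N] [Module A N] [Module.Finite A N],
      (Function.Injective (h.lTensor (IsLocalRing.ResidueField A)) → Function.Injective (h.lTensor N)) ∧
      (Function.Surjective (h.lTensor (IsLocalRing.ResidueField A)) → Function.Surjective (h.lTensor N)) := by
    intro N _ _ hfin
    induction hfin using IsNoetherianRing.induction_on_isQuotientEquivQuotientPrime A with
    | subsingleton N =>
      refine ⟨fun _ => ?_, fun _ => ?_⟩
      · exact Function.injective_of_subsingleton _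
      · exact Function.surjective_to_subsingleton _
    | quotient N q e =>
      have hq : q.1 = IsLocalRing.maximalIdeal A := IsLocalRing.eq_maximalIdeal (Ideal.IsPrime.isMaximal' q.2)
      have e' : N ≃ₗ[A] IsLocalRing.ResidueField A := e.trans (Submodule.quotEquivOfEq _ _ hq)
      have hcomm : (h.lTensor (IsLocalRing.ResidueField A)) ∘ₗ (e'.toLinearMap.rTensor P) = (e'.toLinearMap.rTensor L) ∘ₗ (h.lTensor N) := by
        ext x y; simp
      have b1 : Function.Bijective (e'.toLinearMap.rTensor P) := (TensorProduct.congr e' (LinearEquiv.refl A P)).bijective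
      have b2 : Function.Bijective (e'.toLinearMap.rTensor L) := (TensorProduct.congr e' (LinearEquiv.refl A L)).bijective
      refine ⟨fun hi => ?_, fun hs => ?_⟩
      · have h1 : Function.Injective ((e'.toLinearMap.rTensor L) ∘ₗ (h.lTensor N)) := by
          rw [← hcomm]; exact hi.comp b1.1
        exact Function.Injective.of_comp h1
      · have h1 : Function.Surjective ((e'.toLinearMap.rTensor L) ∘ₗ (h.lTensor N)) := by
          rw [← hcomm]; exact hs.comp b1.2
        intro y
        obtain ⟨x, hx⟩ := h1 (e'.toLinearMap.rTensor L y)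
        exact ⟨x, b2.1 hx⟩
    | exact N₁ N₂ N₃ f g hf hg hfg h1 h3 =>
      have hcf : ∀ x, (h.lTensor N₂) (f.rTensor P x) = f.rTensor L (h.lTensor N₁ x) := by
        intro x
        have : (h.lTensor N₂) ∘ₗ (f.rTensor P) = (f.rTensor L) ∘ₗ (h.lTensor N₁) := by ext a b; simp
        exact LinearMap.congr_fun this x
      have hcg : ∀ x, (h.lTensor N₃) (g.rTensor P x) = g.rTensor L (h.lTensor N₂ x) := by
        intro x
        have : (h.lTensor N₃) ∘ₗ (g.rTensor P) = (g.rTensor L) ∘ₗ (h.lTensor N₂) := by ext a b; simp
        exact LinearMap.congr_fun this x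
      have exP : Function.Exact (f.rTensor P) (g.rTensor P) := rTensor_exact P hfg hg
      have exL : Function.Exact (f.rTensor L) (g.rTensor L) := rTensor_exact L hfg hg
      refine ⟨fun hi => ?_, fun hs => ?_⟩
      · rw [injective_iff_map_eq_zero]
        intro x hx
        have h4 : g.rTensor P x = 0 := by
          apply h3.1 hi
          rw [hcg, hx, map_zero, map_zero]
        obtain ⟨y, rfl⟩ := (exP x).1 h4
        rw [hcf] at hx
        have h5 := Module.Flat.rTensor_preserves_injective_linearMap (M := L) f hf
        have h6 : h.lTensor N₁ y = 0 := by apply h5; rw [hx, map_zero]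
        have h7 : y = 0 := by apply h1.1 hi; rw [h6, map_zero]
        rw [h7, map_zero]
      · intro z
        obtain ⟨w', hw'⟩ := h3.2 hs (g.rTensor L z)
        obtain ⟨w, rfl⟩ := LinearMap.rTensor_surjective P hg w'
        rw [hcg] at hw'
        have h4 : g.rTensor L (z - h.lTensor N₂ w) = 0 := by rw [map_sub, hw', sub_self]
        obtain ⟨y, hy⟩ := (exL _).1 h4
        obtain ⟨y', rfl⟩ := h1.2 hs y
        refine ⟨w + f.rTensor P y', ?_⟩
        rw [map_add, hcf, hy]; abel
  exact key N

theorem inj_of (A : Type u) [CommRing A] [IsLocalRing A] [IsArtinianRing A]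
    (P L : Type v) [AddCommGroup P] [Module A P] [AddCommGroup L] [Module A L]
    [Module.Flat A L] (h : P →ₗ[A] L) (hi : Function.Injective (h.lTensor (IsLocalRing.ResidueField A))) :
    Function.Injective h := by
  have hcomm : h ∘ₗ (TensorProduct.lid A P).toLinearMap = (TensorProduct.lid A L).toLinearMap ∘ₗ (h.lTensor A) := by
    ext x; simp
  have h1 : Function.Injective (h ∘ₗ (TensorProduct.lid A P).toLinearMap) := by
    rw [hcomm]; exact (TensorProduct.lid A L).injective.comp ((key0 A P L h A).1 hi)
  intro x y hxy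
  obtain ⟨x', rfl⟩ := (TensorProduct.lid A P).surjective x
  obtain ⟨y', rfl⟩ := (TensorProduct.lid A P).surjective y
  rw [h1 hxy]

theorem flat_of (A : Type u) [CommRing A] [IsLocalRing A] [IsArtinianRing A]
    (M N P : Type v) [AddCommGroup M] [Module A M] [AddCommGroup N] [Module A N]
    [AddCommGroup P] [Module A P] [Module.Flat A N] (f : M →ₗ[A] N) (g : N →ₗ[A] P)
    (hg : Function.Surjective g) (hfg : Function.Exact f g)
    (hi : Function.Injective (f.lTensor (IsLocalRing.ResidueField A))) : Module.Flat A P := by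
  rw [Module.Flat.iff_rTensor_injective]
  intro I hI
  rw [injective_iff_map_eq_zero]
  intro z hz
  obtain ⟨z', rfl⟩ := LinearMap.lTensor_surjective I hg z
  have c1 : ∀ x, (I.subtype.rTensor P) (g.lTensor I x) = g.lTensor A (I.subtype.rTensor N x) := by
    intro x
    have : (I.subtype.rTensor P) ∘ₗ (g.lTensor I) = (g.lTensor A) ∘ₗ (I.subtype.rTensor N) := by ext a b; simp
    exact LinearMap.congr_fun this x
  rw [c1] at hz
  obtain ⟨m, hm⟩ := (lTensor_exact A hfg hg _).1 hz
  have c2 : ∀ x, (I.mkQ.rTensor N) (f.lTensor A x) = f.lTensor (A ⧸ I) (I.mkQ.rTensor M x) := by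
    intro x
    have : (I.mkQ.rTensor N) ∘ₗ (f.lTensor A) = (f.lTensor (A ⧸ I)) ∘ₗ (I.mkQ.rTensor M) := by ext a; simp
    exact LinearMap.congr_fun this x
  have exI : Function.Exact I.subtype I.mkQ := LinearMap.exact_subtype_mkQ I
  have exM : Function.Exact (I.subtype.rTensor M) (I.mkQ.rTensor M) := rTensor_exact M exI (Submodule.mkQ_surjective I)
  have exN : Function.Exact (I.subtype.rTensor N) (I.mkQ.rTensor N) := rTensor_exact N exI (Submodule.mkQ_surjective I)
  have h5 : I.mkQ.rTensor M m = 0 := by
    apply (key0 A M N f (A ⧸ I)).1 hi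
    rw [← c2, hm, map_zero]
    exact (exN _).2 ⟨_, rfl⟩
  obtain ⟨m', rfl⟩ := (exM _).1 h5
  have c3 : ∀ x, f.lTensor A (I.subtype.rTensor M x) = I.subtype.rTensor N (f.lTensor I x) := by
    intro x
    have : (f.lTensor A) ∘ₗ (I.subtype.rTensor M) = (I.subtype.rTensor N) ∘ₗ (f.lTensor I) := by ext a b; simp
    exact LinearMap.congr_fun this x
  rw [c3] at hm
  have h6 := Module.Flat.rTensor_preserves_injective_linearMap (M := N) I.subtype (Submodule.injective_subtype I) hm
  rw [← h6]
  exact (lTensor_exact I hfg hg _).2 ⟨_, rfl⟩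

end Groth.Agent.H22Art
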