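import Mathlib

set_option autoImplicit false
universe u v

namespace H22Harb

open Classical in
theorem core {P : Type u} {ι : Type v} [Fintype ι]
    (inc : P → ι → Prop) (h : ℕ) (hh : 0 < h) (hd : 2 ≤ Fintype.card ι)
    (hfin : ∀ i j : ι, i ≠ j → {p : P | inc p i ∧ inc p j}.Finite)
    (hcount : ∀ i j : ι, i ≠ j → {p : P | inc p i ∧ inc p j}.ncard = h)
    (hnone : ∀ p : P, ∃ i : ι, ¬ inc p i) :
    ∃ F : Finset P, (∀ p, p ∈ F ↔ ∃ i j, i ≠ j ∧ inc p i ∧ inc p j) ∧
      Nat.card {p : P // 2 ≤ Nat.card {j : ι // inc p j}} = F.card ∧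
      (∀ i j, i ≠ j → (F.filter (fun p => inc p i ∧ inc p j)).card = h) ∧
      (∀ i, h < (F.filter (fun p => inc p i)).card) := by
  have hmem : ∀ p : P, 2 ≤ Nat.card {j : ι // inc p j} ↔ ∃ i j, i ≠ j ∧ inc p i ∧ inc p j := by
    intro p
    rw [show (2 ≤ Nat.card {j : ι // inc p j}) ↔ (1 < Nat.card {j : ι // inc p j}) from Iff.rfl,
      Finite.one_lt_card_iff_nontrivial]
    constructor
    · rintro ⟨⟨⟨i, hi⟩, ⟨j, hj⟩, hij⟩⟩
      exact ⟨i, j, fun e => hij (Subtype.ext e), hi, hj⟩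
    · rintro ⟨i, j, hij, hi, hj⟩
      exact ⟨⟨⟨i, hi⟩, ⟨j, hj⟩, fun e => hij (congrArg Subtype.val e)⟩⟩
  have hMfin : {p : P | ∃ i j, i ≠ j ∧ inc p i ∧ inc p j}.Finite := by
    have : {p : P | ∃ i j, i ≠ j ∧ inc p i ∧ inc p j} ⊆
        ⋃ x : {x : ι × ι // x.1 ≠ x.2}, {p : P | inc p x.1.1 ∧ inc p x.1.2} := by
      rintro p ⟨i, j, hij, hi, hj⟩
      exact Set.mem_iUnion.2 ⟨⟨(i, j), hij⟩, hi, hj⟩
    exact (Set.finite_iUnion (fun x => hfin _ _ x.2)).subset this
  let F : Finset P := hMfin.toFinset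
  have hF : ∀ p, p ∈ F ↔ ∃ i j, i ≠ j ∧ inc p i ∧ inc p j := by
    intro p
    simp [F]
  have h2 : ∀ i j, i ≠ j → (F.filter (fun p => inc p i ∧ inc p j)).card = h := by
    intro i j hij
    rw [← hcount i j hij, Set.ncard_eq_toFinset_card _ (hfin i j hij)]
    congr 1
    ext p
    rw [Finset.mem_filter, hF, Set.Finite.mem_toFinset]
    constructor
    · rintro ⟨_, h1⟩
      exact h1
    · intro h1
      exact ⟨⟨i, j, hij, h1.1, h1.2⟩, h1⟩
  refine ⟨F, hF, ?_, h2, ?_⟩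
  · rw [Nat.card_congr (Equiv.subtypeEquivRight (fun p => (hmem p).trans (hF p).symm)),
      Nat.card_eq_fintype_card, Fintype.card_coe]
  · intro i
    by_contra hle
    push Not at hle
    haveI : Nontrivial ι := Fintype.one_lt_card_iff_nontrivial.1 hd
    have hall : ∀ j, i ≠ j → F.filter (fun p => inc p i ∧ inc p j) = F.filter (fun p => inc p i) := by
      intro j hij
      apply Finset.eq_of_subset_of_card_le
      · intro p hp
        rw [Finset.mem_filter] at hp ⊢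
        exact ⟨hp.1, hp.2.1⟩
      · rw [h2 i j hij]
        exact hle
    obtain ⟨j, hj⟩ := exists_ne i
    have hpos : 0 < (F.filter (fun p => inc p i ∧ inc p j)).card := by
      rw [h2 i j hj.symm]; exact hh
    obtain ⟨p, hp⟩ := Finset.card_pos.1 hpos
    rw [hall j hj.symm] at hp
    obtain ⟨k, hk⟩ := hnone p
    have hik : i ≠ k := by
      rintro rfl
      exact hk (Finset.mem_filter.1 hp).2
    rw [← hall k hik] at hp
    exact hk (Finset.mem_filter.1 hp).2.2

end H22Harb
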