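import Mathlib
import Groth.Prelude.Def_EtMil
set_option autoImplicit false
set_option linter.all false
open TensorProduct
namespace Groth.Agent.H22Mil
universe u v

section
variable {B' B A' A : Type u} [CommRing B'] [CommRing B] [CommRing A'] [CommRing A]
    [Algebra B' B] [Algebra B' A'] [Algebra B A] [Algebra A' A] [Algebra B' A] [IsScalarTower B' B A] [IsScalarTower B' A' A]

lemma inj (hsq : EtMil.IsFibreSquare B' B A' A) {x y : B'} (h1 : algebraMap B' B x = algebraMap B' B y)
    (h2 : algebraMap B' A' x = algebraMap B' A' y) : x = y := by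
  have h := hsq.2 (algebraMap B' B y) (algebraMap B' A' y) (by
    rw [← IsScalarTower.algebraMap_apply, ← IsScalarTower.algebraMap_apply])
  exact h.unique ⟨h1, h2⟩ ⟨rfl, rfl⟩

lemma surj (hsq : EtMil.IsFibreSquare B' B A' A) : Function.Surjective (algebraMap B' B) := by
  intro b
  obtain ⟨a', ha'⟩ := hsq.1 (algebraMap B A b)
  obtain ⟨b', hb', _⟩ := hsq.2 b a' ha'.symm
  exact ⟨b', hb'.1⟩

lemma exj (hsq : EtMil.IsFibreSquare B' B A' A) (j : B') (hj : algebraMap B' B j = 0) (a' : A') :
    ∃ b' : B', algebraMap B' B b' = 0 ∧ algebraMap B' A' b' = a' * algebraMap B' A' j := by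
  obtain ⟨b', hb', _⟩ := hsq.2 0 (a' * algebraMap B' A' j) (by
    rw [map_zero, map_mul, ← IsScalarTower.algebraMap_apply B' A' A, IsScalarTower.algebraMap_apply B' B A, hj, map_zero, mul_zero])
  exact ⟨b', hb'⟩

noncomputable def mulJ (hsq : EtMil.IsFibreSquare B' B A' A) (j : B') (hj : algebraMap B' B j = 0) : A' →ₗ[B'] B' where
  toFun a' := (exj hsq j hj a').choose
  map_add' a b := by
    have h1 := (exj hsq j hj a).choose_spec
    have h2 := (exj hsq j hj b).choose_spec
    have h3 := (exj hsq j hj (a + b)).choose_spec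
    apply inj hsq
    · rw [map_add, h1.1, h2.1, h3.1, add_zero]
    · rw [map_add, h1.2, h2.2, h3.2, add_mul]
  map_smul' r a := by
    have h1 := (exj hsq j hj a).choose_spec
    have h3 := (exj hsq j hj (r • a)).choose_spec
    apply inj hsq
    · rw [h3.1, RingHom.id_apply, smul_eq_mul, map_mul, h1.1, mul_zero]
    · rw [h3.2, RingHom.id_apply, smul_eq_mul, map_mul, h1.2, Algebra.smul_def, mul_assoc]

lemma mulJ_one (hsq : EtMil.IsFibreSquare B' B A' A) (j : B') (hj : algebraMap B' B j = 0) : mulJ hsq j hj 1 = j := by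
  have h1 := (exj hsq j hj 1).choose_spec
  apply inj hsq
  · exact h1.1.trans hj.symm
  · exact h1.2.trans (one_mul _)

/-- `j • l = 0` if `1 ⊗ l = 0` in `A' ⊗ L'`. -/
lemma smul_eq_zero_of_tmul (hsq : EtMil.IsFibreSquare B' B A' A) (j : B') (hj : algebraMap B' B j = 0)
    {L' : Type v} [AddCommGroup L'] [Module B' L'] (l : L') (hl : (1 : A') ⊗ₜ[B'] l = 0) : j • l = 0 := by
  have := congrArg (TensorProduct.lift ((LinearMap.lsmul B' L').comp (mulJ hsq j hj))) hl
  rw [TensorProduct.lift.tmul, LinearMap.comp_apply, mulJ_one, LinearMap.lsmul_apply, map_zero] at this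
  exact this

noncomputable def secB (hsq : EtMil.IsFibreSquare B' B A' A) {M : Type v} [AddCommGroup M] [Module B' M] (z : M)
    (hz : ∀ j : B', algebraMap B' B j = 0 → j • z = 0) : B →ₗ[B'] M :=
  have key : ∀ x y : B', algebraMap B' B x = algebraMap B' B y → x • z = y • z := fun x y h => by
    rw [← sub_eq_zero, ← sub_smul]; exact hz _ (by rw [map_sub, h, sub_self])
  { toFun := fun b => (surj hsq b).choose • z
    map_add' := fun a b => by
      rw [← add_smul]; apply key
      rw [map_add, (surj hsq _).choose_spec, (surj hsq _).choose_spec, (surj hsq _).choose_spec]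
    map_smul' := fun r a => by
      rw [RingHom.id_apply, smul_smul]; apply key
      rw [map_mul, (surj hsq _).choose_spec, (surj hsq _).choose_spec, Algebra.smul_def] }

lemma secB_one (hsq : EtMil.IsFibreSquare B' B A' A) {M : Type v} [AddCommGroup M] [Module B' M] (z : M)
    (hz : ∀ j : B', algebraMap B' B j = 0 → j • z = 0) : secB hsq z hz 1 = z := by
  have key : ∀ x y : B', algebraMap B' B x = algebraMap B' B y → x • z = y • z := fun x y h => by
    rw [← sub_eq_zero, ← sub_smul]; exact hz _ (by rw [map_sub, h, sub_self])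
  have : secB hsq z hz 1 = (surj hsq (1 : B)).choose • z := rfl
  rw [this, key _ 1 (by rw [(surj hsq _).choose_spec, map_one]), one_smul]

lemma subsingleton_of (hsq : EtMil.IsFibreSquare B' B A' A) (L' : Type v) [AddCommGroup L'] [Module B' L']
    [Subsingleton (B ⊗[B'] L')] [Subsingleton (A' ⊗[B'] L')] : Subsingleton L' := by
  have hJ : ∀ j : B', algebraMap B' B j = 0 → j • (LinearMap.id : L' →ₗ[B'] L') = 0 := by
    intro j hj
    ext l
    exact smul_eq_zero_of_tmul hsq j hj l (Subsingleton.elim _ _)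
  refine subsingleton_of_forall_eq 0 (fun l => ?_)
  have h0 : (1 : B) ⊗ₜ[B'] l = 0 := Subsingleton.elim _ _
  have := congrArg (TensorProduct.lift (secB hsq (LinearMap.id : L' →ₗ[B'] L') hJ)) h0
  rw [TensorProduct.lift.tmul, secB_one, map_zero, LinearMap.id_apply] at this
  exact this

lemma mul_zero_of (hsq : EtMil.IsFibreSquare B' B A' A)
    (D' : Type v) [CommRing D'] [Algebra B' D'] (x y : D')
    (hx : ((1 : B) ⊗ₜ[B'] x : B ⊗[B'] D') = 0)
    (hy' : ((1 : A') ⊗ₜ[B'] y : A' ⊗[B'] D') = 0) : x * y = 0 := by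
  have hJ : ∀ j : B', algebraMap B' B j = 0 → j • y = 0 := fun j hj => smul_eq_zero_of_tmul hsq j hj y hy'
  have := congrArg (TensorProduct.lift ((LinearMap.mul B' D').comp (secB hsq y hJ))) hx
  rw [TensorProduct.lift.tmul, LinearMap.comp_apply, secB_one, map_zero, LinearMap.mul_apply'] at this
  rw [mul_comm]; exact this

lemma exists_gens (R S : Type u) [CommRing R] [CommRing S] [Algebra R S] (L : Type v) [AddCommGroup L] [Module R L]
    [Module.Finite S (S ⊗[R] L)] : ∃ s : Finset L, Submodule.span S ((fun l : L => (1 : S) ⊗ₜ[R] l) '' (s : Set L)) = ⊤ := by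
  classical
  have h1 : Submodule.span S (Set.range (fun l : L => (1 : S) ⊗ₜ[R] l)) = ⊤ := by
    rw [eq_top_iff]
    rintro x -
    induction x with
    | zero => exact Submodule.zero_mem _
    | tmul a l =>
      have : a ⊗ₜ[R] l = a • ((1 : S) ⊗ₜ[R] l) := by rw [TensorProduct.smul_tmul', smul_eq_mul, mul_one]
      rw [this]
      exact Submodule.smul_mem _ _ (Submodule.subset_span ⟨l, rfl⟩)
    | add x y hx hy => exact Submodule.add_mem _ hx hy
  have h2 : (Submodule.span S (Set.range (fun l : L => (1 : S) ⊗ₜ[R] l))).FG := by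
    rw [h1]; exact Module.Finite.fg_top
  obtain ⟨t, ht, ht'⟩ := Submodule.fg_span_iff_fg_span_finset_subset _ |>.1 h2
  obtain ⟨s, hs, hst⟩ : ∃ s : Finset L, True ∧ (fun l : L => (1 : S) ⊗ₜ[R] l) '' (s : Set L) = t := by
    have ht2 : ∀ x : {x // x ∈ t}, ∃ l : L, (1 : S) ⊗ₜ[R] l = x.1 := fun x => ht x.2
    choose g hg using ht2
    refine ⟨Finset.univ.image g, trivial, ?_⟩
    ext y
    simp only [Finset.coe_image, Finset.coe_univ, Set.image_univ, Set.mem_image, Set.mem_range, exists_exists_eq_and, Finset.mem_coe]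
    constructor
    · rintro ⟨a, rfl⟩; rw [hg]; exact a.2
    · intro hy; exact ⟨⟨y, hy⟩, hg _⟩
  exact ⟨s, by rw [hst, ← ht', h1]⟩


lemma finite_of (hsq : EtMil.IsFibreSquare B' B A' A)
    (L' : Type u) [AddCommGroup L'] [Module B' L']
    [Module.Finite B (B ⊗[B'] L')] [Module.Finite A' (A' ⊗[B'] L')] : Module.Finite B' L' := by
  classical
  obtain ⟨s, hs⟩ := exists_gens B' B L'
  obtain ⟨t, ht⟩ := exists_gens B' A' L'
  let N : Submodule B' L' := Submodule.span B' (↑(s ∪ t) : Set L')
  have gen : ∀ (S : Type u) [CommRing S] [Algebra B' S] (s' : Finset L') (hs' : s' ⊆ s ∪ t)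
      (h : Submodule.span S ((fun l : L' => (1 : S) ⊗ₜ[B'] l) '' (s' : Set L')) = ⊤), Subsingleton (S ⊗[B'] (L' ⧸ N)) := by
    intro S _ _ s' hs' h
    have hsurj : Function.Surjective (N.mkQ.baseChange S) := LinearMap.lTensor_surjective S (Submodule.mkQ_surjective N)
    have h1 : LinearMap.range (N.mkQ.baseChange S) = ⊥ := by
      rw [LinearMap.range_eq_map, ← h, Submodule.map_span, Submodule.span_eq_bot]
      rintro _ ⟨_, ⟨l, hl, rfl⟩, rfl⟩
      simp only [LinearMap.baseChange_tmul]
      have : N.mkQ l = 0 := by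
        rw [Submodule.mkQ_apply, Submodule.Quotient.mk_eq_zero]
        exact Submodule.subset_span (hs' hl)
      rw [this, tmul_zero]
    rw [LinearMap.range_eq_top.2 hsurj] at h1
    exact (Submodule.subsingleton_iff S).1 ⟨fun a b => by
      have ha : a ≤ ⊥ := h1 ▸ le_top
      have hb : b ≤ ⊥ := h1 ▸ le_top
      rw [le_bot_iff.1 ha, le_bot_iff.1 hb]⟩
  haveI := gen B s Finset.subset_union_left hs
  haveI := gen A' t Finset.subset_union_right ht
  have hQ := subsingleton_of hsq (L' ⧸ N)
  rw [Submodule.Quotient.subsingleton_iff] at hQ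
  exact ⟨⟨s ∪ t, hQ⟩⟩

end
end Groth.Agent.H22Mil
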