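import Mathlib
import Groth.Prelude.Def_W4c2invhilbsl2HJ

set_option autoImplicit false

namespace Groth.Agent.H23HJ

open W4c2invhilbsl2

theorem hjVal_gt_one (c : List ℤ) (hc : c ≠ []) (h2 : ∀ x ∈ c, (2 : ℤ) ≤ x) : 1 < HJFrac.hjVal c := by
  induction c with
  | nil => exact absurd rfl hc
  | cons x c ih =>
    have hx : (2 : ℚ) ≤ x := by exact_mod_cast h2 x (by simp)
    show (1 : ℚ) < (x : ℚ) - (HJFrac.hjVal c)⁻¹
    by_cases hc' : c = []
    · subst hc'
      show (1 : ℚ) < (x : ℚ) - (0 : ℚ)⁻¹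
      rw [inv_zero]; linarith
    · have := ih hc' (fun y hy => h2 y (by simp [hy]))
      have h3 : (HJFrac.hjVal c)⁻¹ < 1 := inv_lt_one_of_one_lt₀ this
      linarith

theorem euclid (c : List ℤ) (hc : c ≠ []) (h2 : ∀ x ∈ c, (2 : ℤ) ≤ x) :
    ∀ (S : ℕ → ℤ), 0 < S 1 → HJFrac.hjVal c = (S 0 : ℚ) / (S 1 : ℚ) →
      (∀ i, S (i + 2) = c.getD i 0 * S (i + 1) - S i) →
      (∀ i ≤ c.length, S (i + 1) < S i) ∧ (∀ i ≤ c.length, 0 < S i) ∧
        S c.length = (Int.gcd (S 0) (S 1) : ℤ) ∧ S (c.length + 1) = 0 := by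
  induction c with
  | nil => exact absurd rfl hc
  | cons x c ih =>
    intro S hS1 hval hrec
    have hgt := hjVal_gt_one (x :: c) hc h2
    rw [hval] at hgt
    have hS1' : (0 : ℚ) < (S 1 : ℚ) := by exact_mod_cast hS1
    have h01 : S 1 < S 0 := by
      rw [lt_div_iff₀ hS1', one_mul] at hgt
      exact_mod_cast hgt
    have hr0 : S 2 = x * S 1 - S 0 := by simpa using hrec 0
    have hx : (2 : ℤ) ≤ x := h2 x (by simp)
    by_cases hc' : c = []
    · subst hc'
      have hv : (x : ℚ) - (0 : ℚ)⁻¹ = (S 0 : ℚ) / (S 1 : ℚ) := hval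
      rw [inv_zero, sub_zero, eq_div_iff hS1'.ne'] at hv
      have hv' : x * S 1 = S 0 := by exact_mod_cast hv
      have hS2 : S 2 = 0 := by rw [hr0, hv', sub_self]
      refine ⟨?_, ?_, ?_, ?_⟩
      · intro i hi
        have hi' : i ≤ 1 := by simpa using hi
        interval_cases i
        · exact h01
        · show S 2 < S 1; rw [hS2]; exact hS1
      · intro i hi
        have hi' : i ≤ 1 := by simpa using hi
        interval_cases i
        · linarith
        · exact hS1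
      · show S 1 = _
        rw [← hv', Int.gcd_eq_natAbs_gcd_natAbs]
        have : (x * S 1).natAbs.gcd (S 1).natAbs = (S 1).natAbs := by
          rw [Int.natAbs_mul]; exact Nat.gcd_eq_right (Dvd.intro_left _ rfl)
        rw [this]
        exact (Int.natAbs_of_nonneg hS1.le).symm
      · exact hS2
    · have hgt' := hjVal_gt_one c hc' (fun y hy => h2 y (by simp [hy]))
      have hv : (x : ℚ) - (HJFrac.hjVal c)⁻¹ = (S 0 : ℚ) / (S 1 : ℚ) := hval
      have hS2q : (S 2 : ℚ) = S 1 * (HJFrac.hjVal c)⁻¹ := by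
        have e1 : (HJFrac.hjVal c)⁻¹ = x - (S 0 : ℚ) / (S 1 : ℚ) := by linarith
        rw [e1, hr0]; push_cast; field_simp
      have hinv : 0 < (HJFrac.hjVal c)⁻¹ := by positivity
      have hS2 : 0 < S 2 := by
        have : (0 : ℚ) < S 2 := by rw [hS2q]; positivity
        exact_mod_cast this
      have hval' : HJFrac.hjVal c = ((fun i => S (i + 1)) 0 : ℚ) / ((fun i => S (i + 1)) 1 : ℚ) := by
        show HJFrac.hjVal c = (S 1 : ℚ) / (S 2 : ℚ)
        rw [hS2q]
        field_simp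
      have hrec' : ∀ i, (fun i => S (i + 1)) (i + 2) = c.getD i 0 * (fun i => S (i + 1)) (i + 1) - (fun i => S (i + 1)) i := by
        intro i
        have := hrec (i + 1)
        simpa using this
      obtain ⟨k1, k2, k3, k4⟩ := ih hc' (fun y hy => h2 y (by simp [hy])) (fun i => S (i + 1)) hS2 hval' hrec'
      refine ⟨?_, ?_, ?_, ?_⟩
      · intro i hi
        rcases i with _ | i
        · exact h01
        · exact k1 i (by simpa using hi)
      · intro i hi
        rcases i with _ | i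
        · linarith
        · exact k2 i (by simpa using hi)
      · show S (c.length + 1) = _
        have k3' : S (c.length + 1) = (Int.gcd (S 1) (S 2) : ℤ) := k3
        rw [k3', hr0]
        congr 1
        rw [Int.gcd_comm (S 0), show x * S 1 - S 0 = -(S 0) + S 1 * x by ring]
        rw [Int.gcd_add_mul_left_right, Int.gcd_neg]
      · exact k4

theorem getD_ge (c : List ℤ) (h2 : ∀ x ∈ c, (2 : ℤ) ≤ x) (i : ℕ) (hi : i < c.length) :
    2 ≤ c.getD i 0 := by
  rw [List.getD_eq_getElem _ _ hi]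
  exact h2 _ (List.getElem_mem hi)

theorem P_mono (c : List ℤ) (h2 : ∀ x ∈ c, (2 : ℤ) ≤ x) :
    ∀ i ≤ c.length, 0 ≤ hjP c i ∧ hjP c i < hjP c (i + 1) := by
  intro i
  induction i with
  | zero => intro _; exact ⟨le_rfl, by show (0 : ℤ) < 1; norm_num⟩
  | succ i ih =>
    intro hi
    obtain ⟨h0, h1⟩ := ih (by omega)
    have h3 := getD_ge c h2 i (by omega)
    refine ⟨by linarith, ?_⟩
    show hjP c (i + 1) < c.getD i 0 * hjP c (i + 1) - hjP c i
    nlinarith

theorem det_one (c : List ℤ) (i : ℕ) : hjP c i * hjQ c (i + 1) - hjP c (i + 1) * hjQ c i = 1 := by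
  induction i with
  | zero => show (0 : ℤ) * 0 - 1 * (-1) = 1; norm_num
  | succ i ih =>
    show hjP c (i + 1) * (c.getD i 0 * hjQ c (i + 1) - hjQ c i) -
      (c.getD i 0 * hjP c (i + 1) - hjP c i) * hjQ c (i + 1) = 1
    linarith

/-- The reduced sequence. -/
def TT (b t : ℤ) (c : List ℤ) (i : ℕ) : ℤ := t * hjP c i - b * hjQ c i

theorem TT_rec (b t : ℤ) (c : List ℤ) (i : ℕ) :
    TT b t c (i + 2) = c.getD i 0 * TT b t c (i + 1) - TT b t c i := by
  unfold TT
  show t * (c.getD i 0 * hjP c (i + 1) - hjP c i) - b * (c.getD i 0 * hjQ c (i + 1) - hjQ c i) = _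
  ring

theorem TT_zero (b t : ℤ) (c : List ℤ) : TT b t c 0 = b := by
  unfold TT
  show t * 0 - b * (-1) = b
  ring

theorem TT_one (b t : ℤ) (c : List ℤ) : TT b t c 1 = t := by
  unfold TT
  show t * 1 - b * 0 = t
  ring

/-- Arithmetic of the parameters. -/
theorem params (p q m : ℕ) (_hp : 0 < p) (hpq : p < q) (hcop : Nat.Coprime p q) (hm : 0 < m) :
    0 < gcdK p q m ∧ 0 < bB p q m ∧ 0 < tT p q m ∧ (q : ℤ) - p = gcdK p q m * bB p q m ∧
    (((alpha p q m + 1 : ℕ) : ℤ) * ((q : ℤ) - p) - p * m = gcdK p q m * tT p q m) ∧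
    Int.gcd (bB p q m : ℤ) (tT p q m : ℤ) = 1 := by
  have hD : 0 < q - p := Nat.sub_pos_of_lt hpq
  have hg : 0 < gcdK p q m := Nat.gcd_pos_of_pos_left _ hm
  have hgD : gcdK p q m ∣ q - p := Nat.gcd_dvd_right m (q - p)
  have hgm : gcdK p q m ∣ m := Nat.gcd_dvd_left m (q - p)
  have hb : gcdK p q m * bB p q m = q - p := Nat.mul_div_cancel' hgD
  have hb0 : 0 < bB p q m := Nat.div_pos (Nat.le_of_dvd hD hgD) hg
  have hβ : m * p % (q - p) < q - p := Nat.mod_lt _ hD
  have hgβ : gcdK p q m ∣ m * p % (q - p) := (Nat.dvd_mod_iff hgD).mpr (hgm.mul_right p)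
  have hgt : gcdK p q m ∣ q - p - m * p % (q - p) := Nat.dvd_sub hgD hgβ
  have ht : gcdK p q m * tT p q m = q - p - m * p % (q - p) := Nat.mul_div_cancel' hgt
  have ht0 : 0 < tT p q m := Nat.div_pos (Nat.le_of_dvd (by omega) hgt) hg
  have hDz : ((q - p : ℕ) : ℤ) = (q : ℤ) - p := by push_cast [Nat.cast_sub hpq.le]; ring
  have hbz : (q : ℤ) - p = gcdK p q m * bB p q m := by rw [← hDz, ← hb]; push_cast; ring
  have htz : (gcdK p q m : ℤ) * tT p q m = ((q : ℤ) - p) - ((m * p % (q - p) : ℕ) : ℤ) := by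
    rw [← hDz, ← Nat.cast_sub hβ.le, ← ht]; push_cast; ring
  have hdm : ((m * p : ℕ) : ℤ) = ((q : ℤ) - p) * (alpha p q m : ℤ) + ((m * p % (q - p) : ℕ) : ℤ) := by
    have := Nat.div_add_mod (m * p) (q - p)
    rw [← hDz]
    unfold alpha
    exact_mod_cast this.symm
  have h5 : ((alpha p q m + 1 : ℕ) : ℤ) * ((q : ℤ) - p) - p * m = gcdK p q m * tT p q m := by
    rw [htz]
    push_cast at hdm ⊢
    linarith
  refine ⟨hg, hb0, ht0, hbz, h5, ?_⟩
  -- coprimality
  obtain ⟨a, ha⟩ := hgm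
  have hab : Nat.Coprime a (bB p q m) := by
    have h1 := Nat.coprime_div_gcd_div_gcd (m := m) (n := q - p) hg
    have h2 : m / Nat.gcd m (q - p) = a := Nat.div_eq_of_eq_mul_right hg ha
    rw [h2] at h1
    exact h1
  have hpD : Nat.Coprime p (q - p) := by
    have h := (Nat.coprime_sub_self_right hpq.le).mpr hcop
    exact h
  have hpb : Nat.Coprime p (bB p q m) := Nat.Coprime.coprime_dvd_right ⟨_, (mul_comm _ _).trans hb |>.symm⟩ hpD
  have h6 : (tT p q m : ℤ) = (alpha p q m + 1 : ℕ) * (bB p q m : ℤ) - p * a := by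
    have hg' : (gcdK p q m : ℤ) ≠ 0 := by exact_mod_cast hg.ne'
    apply mul_left_cancel₀ hg'
    rw [← h5, hbz]
    have ha' : (m : ℤ) = gcdK p q m * a := by exact_mod_cast ha
    rw [ha']; ring
  rw [h6, show ((alpha p q m + 1 : ℕ) : ℤ) * (bB p q m : ℤ) - p * a = -((p : ℤ) * a) + (bB p q m : ℤ) * (alpha p q m + 1 : ℕ) by ring]
  rw [Int.gcd_add_mul_left_right, Int.gcd_neg]
  have : Nat.Coprime (bB p q m) (p * a) := (Nat.Coprime.mul_left hpb hab).symm
  rw [show ((p : ℤ) * a) = ((p * a : ℕ) : ℤ) by push_cast; rfl, Int.gcd_natCast_natCast]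
  exact this

theorem nN_eq (p q m : ℕ) (hp : 0 < p) (hpq : p < q) (hcop : Nat.Coprime p q) (hm : 0 < m) (c : List ℤ) (i : ℕ) :
    nN p q m c i = gcdK p q m * TT (bB p q m) (tT p q m) c i := by
  obtain ⟨_, _, _, h4, h5, _⟩ := params p q m hp hpq hcop hm
  unfold nN eE lL TT
  have e : (gcdK p q m : ℤ) * ((tT p q m : ℤ) * hjP c i - (bB p q m : ℤ) * hjQ c i) =
    (gcdK p q m * tT p q m) * hjP c i - (gcdK p q m * bB p q m) * hjQ c i := by ring
  rw [e, ← h4, ← h5]
  push_cast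
  ring

/-- Package of properties. -/
theorem pack (p q m : ℕ) (hp : 0 < p) (hpq : p < q) (hcop : Nat.Coprime p q) (hm : 0 < m) (c : List ℤ)
    (hc : IsHJDigits p q m c) :
    (∀ i ≤ c.length, TT (bB p q m) (tT p q m) c (i + 1) < TT (bB p q m) (tT p q m) c i) ∧
    (∀ i ≤ c.length, 0 < TT (bB p q m) (tT p q m) c i) ∧
    TT (bB p q m) (tT p q m) c c.length = 1 ∧ TT (bB p q m) (tT p q m) c (c.length + 1) = 0 := by
  obtain ⟨h1, h2, h3, h4, h5, h6⟩ := params p q m hp hpq hcop hm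
  obtain ⟨hc1, hc2⟩ := hc
  have hb' : (0 : ℚ) < bB p q m := by exact_mod_cast h2
  have ht' : (0 : ℚ) < tT p q m := by exact_mod_cast h3
  have hne : c ≠ [] := by
    rintro rfl
    have : (0 : ℚ) = (bB p q m : ℚ) / (tT p q m : ℚ) := hc2
    have h7 : (0 : ℚ) < (bB p q m : ℚ) / (tT p q m : ℚ) := div_pos hb' ht'
    linarith
  have := euclid c hne hc1 (TT (bB p q m) (tT p q m) c) (by rw [TT_one]; exact_mod_cast h3)
    (by rw [TT_zero, TT_one, hc2]; push_cast; rfl) (TT_rec _ _ c)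
  rw [TT_zero, TT_one, h6] at this
  exact this

theorem TT_lt (p q m : ℕ) (hp : 0 < p) (hpq : p < q) (hcop : Nat.Coprime p q) (hm : 0 < m) (c : List ℤ)
    (hc : IsHJDigits p q m c) (i : ℕ) (h1 : 1 ≤ i) (hi : i ≤ c.length + 1) :
    TT (bB p q m) (tT p q m) c i < bB p q m := by
  obtain ⟨k1, _, _, _⟩ := pack p q m hp hpq hcop hm c hc
  induction i with
  | zero => omega
  | succ i ih =>
    rcases Nat.eq_zero_or_pos i with h | h
    · subst h
      have := k1 0 (by omega)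
      rw [TT_zero] at this
      exact this
    · exact (k1 i (by omega)).trans (ih h (by omega))

theorem lower (P1 P2 T1 T2 x ρ u w : ℤ) (hP1 : 0 < P1) (hP : P1 < P2) (hT2 : 0 < T2) (hT : T2 < T1)
    (hx : x = u * P1 + w * P2) (hρ : ρ = u * T1 + w * T2) (hx0 : 0 < x) (hxP : x < P2) (hρ0 : 0 ≤ ρ) :
    T1 ≤ ρ := by
  rcases le_or_gt w 0 with hw | hw
  · have h1 : -w < u := by
      by_contra hcon
      push Not at hcon
      have h2 : u * P1 ≤ (-w) * P1 := mul_le_mul_of_nonneg_right hcon hP1.le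
      have h3 : (-w) * P1 ≤ (-w) * P2 := mul_le_mul_of_nonneg_left hP.le (by linarith)
      linarith
    have h4 : (1 - w) * T1 ≤ u * T1 := mul_le_mul_of_nonneg_right (by linarith) (by linarith)
    have h5 : 0 ≤ (-w) * (T1 - T2) := mul_nonneg (by linarith) (by linarith)
    rw [hρ]
    linarith
  · exfalso
    have h1 : -u < w := by
      by_contra hcon
      push Not at hcon
      -- w ≤ -u
      have h2 : w * T2 < w * T1 := mul_lt_mul_of_pos_left hT hw
      have h3 : w * T1 ≤ (-u) * T1 := mul_le_mul_of_nonneg_right hcon (by linarith)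
      linarith
    have hu : u < 0 := by
      by_contra hcon
      push Not at hcon
      have h2 : 0 ≤ u * P1 := mul_nonneg hcon hP1.le
      have h3 : 1 * P2 ≤ w * P2 := mul_le_mul_of_nonneg_right (by linarith) (by linarith)
      linarith
    have h4 : (1 - u) * P2 ≤ w * P2 := mul_le_mul_of_nonneg_right (by linarith) (by linarith)
    have h5 : 0 < (-u) * (P2 - P1) := mul_pos (by linarith) (by linarith)
    linarith

theorem lowerT (b t : ℤ) (hb : 0 < b) (c : List ℤ) (i : ℕ) (hP1 : 0 < hjP c i) (hP : hjP c i < hjP c (i + 1))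
    (hT2 : 0 < TT b t c (i + 1)) (hT : TT b t c (i + 1) < TT b t c i) (x : ℤ) (hx0 : 0 < x)
    (hxP : x < hjP c (i + 1)) : TT b t c i ≤ (t * x) % b := by
  have hdet := det_one c i
  set z := (t * x) / b with hz
  have hρ : (t * x) % b = t * x - b * z := by
    have := Int.emod_add_mul_ediv (t * x) b
    linarith
  apply lower (hjP c i) (hjP c (i + 1)) (TT b t c i) (TT b t c (i + 1)) x ((t * x) % b)
    (x * hjQ c (i + 1) - z * hjP c (i + 1)) (z * hjP c i - x * hjQ c i) hP1 hP hT2 hT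
  · have : x * (hjP c i * hjQ c (i + 1) - hjP c (i + 1) * hjQ c i) = x := by rw [hdet, mul_one]
    linarith
  · rw [hρ]
    unfold TT
    have e1 : (x * hjQ c (i + 1) - z * hjP c (i + 1)) * (t * hjP c i - b * hjQ c i) +
      (z * hjP c i - x * hjQ c i) * (t * hjP c (i + 1) - b * hjQ c (i + 1)) =
      (t * x - b * z) * (hjP c i * hjQ c (i + 1) - hjP c (i + 1) * hjQ c i) := by ring
    rw [e1, hdet, mul_one]
  · exact hx0
  · exact hxP
  · exact Int.emod_nonneg _ hb.ne'

/-- Key package for `1 < i ≤ r`. -/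
theorem bounds (p q m : ℕ) (hp : 0 < p) (hpq : p < q) (hcop : Nat.Coprime p q) (hm : 0 < m) (c : List ℤ)
    (hc : IsHJDigits p q m c) (i : ℕ) (hi : 1 < i) (hir : i ≤ c.length) (x : ℤ) (hx0 : 0 < x)
    (hx : x < hjP c i) :
    TT (bB p q m) (tT p q m) c (i - 1) ≤ ((tT p q m : ℤ) * x) % (bB p q m : ℤ) := by
  obtain ⟨j, rfl⟩ : ∃ j, i = j + 1 := ⟨i - 1, by omega⟩
  obtain ⟨k1, k2, _, _⟩ := pack p q m hp hpq hcop hm c hc
  obtain ⟨_, h2, _, _, _, _⟩ := params p q m hp hpq hcop hm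
  have hPj := P_mono c hc.1 j (by omega)
  have hPj0 : 0 < hjP c j := by
    obtain ⟨l, rfl⟩ : ∃ l, j = l + 1 := ⟨j - 1, by omega⟩
    have := P_mono c hc.1 l (by omega)
    linarith
  exact lowerT _ _ (by exact_mod_cast h2) c j hPj0 hPj.2 (k2 (j + 1) hir) (k1 j (by omega)) x hx0 hx

theorem emod_P (p q m : ℕ) (hp : 0 < p) (hpq : p < q) (hcop : Nat.Coprime p q) (hm : 0 < m) (c : List ℤ)
    (hc : IsHJDigits p q m c) (i : ℕ) (hi : 1 ≤ i) (hir : i ≤ c.length) :
    ((tT p q m : ℤ) * hjP c i) % (bB p q m : ℤ) = TT (bB p q m) (tT p q m) c i := by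
  obtain ⟨k1, k2, _, _⟩ := pack p q m hp hpq hcop hm c hc
  have e : (tT p q m : ℤ) * hjP c i = TT (bB p q m) (tT p q m) c i + (bB p q m : ℤ) * hjQ c i := by
    unfold TT; ring
  rw [e, Int.add_mul_emod_self_left]
  exact Int.emod_eq_of_lt (k2 i hir).le (TT_lt p q m hp hpq hcop hm c hc i hi (by omega))

end Groth.Agent.H23HJ
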