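import Mathlib
import Groth.Prelude.Def_W4c2invhilbsl2HJ
import Groth.Agent.Lib.H23_HJ

set_option autoImplicit false

namespace Groth.Agent.H23HJ

open W4c2invhilbsl2

open MvPolynomial in
theorem rank_piece_le_one {σ : Type*} {k : Type*} [Field k] {M : Type*} [AddCommMonoid M]
    (w : σ → M) (I : Ideal (MvPolynomial σ k)) (ν : M) (v : MvPolynomial σ k ⧸ I)
    (h : ∀ d : σ →₀ ℕ, Finsupp.weight w d = ν →
      ∃ c : k, Ideal.Quotient.mk I (monomial d 1) = c • v) :
    Module.rank k (W4c2invhilbsl2.piece k w I ν) ≤ 1 := by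
  have hle : W4c2invhilbsl2.piece k w I ν ≤ Submodule.span k {v} := by
    unfold W4c2invhilbsl2.piece
    rw [Submodule.map_le_iff_le_comap]
    intro f hf
    rw [mem_weightedHomogeneousSubmodule] at hf
    show Ideal.Quotient.mk I f ∈ Submodule.span k {v}
    rw [f.as_sum, map_sum]
    apply Submodule.sum_mem
    intro d hd
    obtain ⟨c, hc⟩ := h d (hf (mem_support_iff.mp hd))
    have e1 : (monomial d (coeff d f) : MvPolynomial σ k) = (coeff d f) • monomial d 1 := by
      rw [smul_monomial, smul_eq_mul, mul_one]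
    have e2 : Ideal.Quotient.mk I ((coeff d f) • (monomial d 1 : MvPolynomial σ k)) =
        (coeff d f) • Ideal.Quotient.mk I (monomial d 1) := rfl
    rw [e1, e2, hc, ← mul_smul]
    exact Submodule.smul_mem _ _ (Submodule.mem_span_singleton_self v)
  refine (Submodule.rank_mono hle).trans ?_
  refine (rank_span_le _).trans ?_
  simp

theorem weight3_fst (p q m : ℕ) (d : Fin 3 →₀ ℕ) :
    (Finsupp.weight (W4c2invhilbsl2.wt3 p q m) d).1 = (d 0 : ℤ) - p * d 1 + q * d 2 := by
  rw [Finsupp.weight_apply, Finsupp.sum_fintype _ _ (by intro i; simp), Fin.sum_univ_three]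
  simp [W4c2invhilbsl2.wt3]
  ring

theorem weight3_snd (p q m : ℕ) (d : Fin 3 →₀ ℕ) :
    (Finsupp.weight (W4c2invhilbsl2.wt3 p q m) d).2 = (((d 2 : ℤ) - d 1 : ℤ) : ZMod m) := by
  rw [Finsupp.weight_apply, Finsupp.sum_fintype _ _ (by intro i; simp), Fin.sum_univ_three]
  simp [W4c2invhilbsl2.wt3]
  ring

theorem weight3_eq_iff (p q m : ℕ) (d e : Fin 3 →₀ ℕ) :
    Finsupp.weight (W4c2invhilbsl2.wt3 p q m) d = Finsupp.weight (W4c2invhilbsl2.wt3 p q m) e ↔
    ((d 0 : ℤ) - p * d 1 + q * d 2 = (e 0 : ℤ) - p * e 1 + q * e 2) ∧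
    (m : ℤ) ∣ ((d 2 : ℤ) - d 1) - ((e 2 : ℤ) - e 1) := by
  rw [Prod.ext_iff, weight3_fst, weight3_fst, weight3_snd, weight3_snd,
    ← ZMod.intCast_zmod_eq_zero_iff_dvd]
  constructor
  · rintro ⟨a, b⟩
    refine ⟨a, ?_⟩
    rw [Int.cast_sub, b, sub_self]
  · rintro ⟨a, b⟩
    refine ⟨a, ?_⟩
    rw [Int.cast_sub] at b
    exact sub_eq_zero.mp b

theorem weight3_zero_iff (p q m : ℕ) (d : Fin 3 →₀ ℕ) :
    Finsupp.weight (W4c2invhilbsl2.wt3 p q m) d = 0 ↔
    ((d 0 : ℤ) - p * d 1 + q * d 2 = 0) ∧ (m : ℤ) ∣ ((d 2 : ℤ) - d 1) := by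
  have := weight3_eq_iff p q m d 0
  rw [map_zero] at this
  rw [this]
  simp

open MvPolynomial in
theorem mk_mon3 {k : Type*} [Field k] (I : Ideal (MvPolynomial (Fin 3) k)) (d : Fin 3 →₀ ℕ) :
    Ideal.Quotient.mk I (monomial d 1) = Ideal.Quotient.mk I (X 0) ^ d 0 * Ideal.Quotient.mk I (X 1) ^ d 1 *
      Ideal.Quotient.mk I (X 2) ^ d 2 := by
  rw [monomial_eq, C_1, one_mul, Finsupp.prod_fintype _ _ (by intro i; simp), Fin.prod_univ_three]
  simp only [map_mul, map_pow]

theorem T_le_b (p q m : ℕ) (hp : 0 < p) (hpq : p < q) (hcop : Nat.Coprime p q) (hm : 0 < m) (c : List ℤ)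
    (hc : IsHJDigits p q m c) (i : ℕ) (hi : i ≤ c.length + 1) :
    TT (bB p q m) (tT p q m) c i ≤ bB p q m := by
  rcases Nat.eq_zero_or_pos i with rfl | h
  · rw [TT_zero]
  · exact (TT_lt p q m hp hpq hcop hm c hc i h hi).le

theorem comb (p q m : ℕ) (hp : 0 < p) (hpq : p < q) (hcop : Nat.Coprime p q) (hm : 0 < m) (c : List ℤ)
    (hc : IsHJDigits p q m c) (i : ℕ) (hi : 1 ≤ i) (hir : i ≤ c.length)
    (d0 d1 d2 e0 e1 e2 : ℕ)
    (hw1 : (d0 : ℤ) - p * d1 + q * d2 = e0 - p * e1 + q * e2)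
    (hw2 : (m : ℤ) ∣ ((d2 : ℤ) - d1) - (e2 - e1))
    (hd0 : (d0 : ℤ) < nN p q m c (i - 1)) (he0 : (e0 : ℤ) < nN p q m c (i - 1))
    (hdK : ∀ a0 a1 a2 : ℕ, ¬ (a0 = 0 ∧ a1 = 0 ∧ a2 = 0) → a0 ≤ d0 → a1 ≤ d1 → a2 ≤ d2 →
      ((a0 : ℤ) - p * a1 + q * a2 = 0) → (m : ℤ) ∣ (a2 : ℤ) - a1 → False)
    (hne : ¬ (d0 = e0 ∧ d1 = e1 ∧ d2 = e2)) (hle : e1 ≤ d1) :
    0 < eE p q m c i ∧ 0 ≤ lL p q m c i ∧ eE p q m c i ≤ d1 ∧ lL p q m c i ≤ d2 := by
  obtain ⟨h1, h2, h3, h4, h5, h6⟩ := params p q m hp hpq hcop hm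
  obtain ⟨k1, k2, k3, k4⟩ := pack p q m hp hpq hcop hm c hc
  have hg : (0 : ℤ) < gcdK p q m := by exact_mod_cast h1
  have hb : (0 : ℤ) < bB p q m := by exact_mod_cast h2
  have hp' : (0 : ℤ) < p := by exact_mod_cast hp
  have hm' : (0 : ℤ) < m := by exact_mod_cast hm
  have hD : (0 : ℤ) < (q : ℤ) - p := by
    have : (p : ℤ) < q := by exact_mod_cast hpq
    linarith
  have hn1 : nN p q m c (i - 1) ≤ (q : ℤ) - p := by
    rw [nN_eq p q m hp hpq hcop hm, h4]
    exact mul_le_mul_of_nonneg_left (T_le_b p q m hp hpq hcop hm c hc (i - 1) (by omega)) hg.le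
  have hn2 : nN p q m c i < (q : ℤ) - p := by
    rw [nN_eq p q m hp hpq hcop hm, h4]
    exact mul_lt_mul_of_pos_left (TT_lt p q m hp hpq hcop hm c hc i hi (by omega)) hg
  have hn3 : 0 < nN p q m c i := by
    rw [nN_eq p q m hp hpq hcop hm]
    exact mul_pos hg (k2 i hir)
  have hPi : 0 < hjP c i := by
    obtain ⟨j, rfl⟩ : ∃ j, i = j + 1 := ⟨i - 1, by omega⟩
    have := P_mono c hc.1 j (by omega)
    linarith
  have hel : eE p q m c i = lL p q m c i + m * hjP c i := by
    unfold eE lL; push_cast; ring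
  have hnl : nN p q m c i = ((q : ℤ) - p) * lL p q m c i - p * m * hjP c i := by
    unfold nN; rw [hel]; ring
  have hpm : 0 < (p : ℤ) * m * hjP c i := mul_pos (mul_pos hp' hm') hPi
  have hl0 : 0 < lL p q m c i := by
    by_contra hcon
    push Not at hcon
    have : ((q : ℤ) - p) * lL p q m c i ≤ 0 := mul_nonpos_of_nonneg_of_nonpos hD.le hcon
    linarith
  have hE0 : 0 < eE p q m c i := by
    rw [hel]
    have : 0 < (m : ℤ) * hjP c i := mul_pos hm' hPi
    linarith
  refine ⟨hE0, hl0.le, ?_⟩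
  obtain ⟨B, hB⟩ := Nat.exists_eq_add_of_le hle
  have hB' : (d1 : ℤ) = e1 + B := by exact_mod_cast hB
  have he00 : (0 : ℤ) ≤ e0 := Int.natCast_nonneg _
  have hd00 : (0 : ℤ) ≤ d0 := Int.natCast_nonneg _
  have he20 : (0 : ℤ) ≤ e2 := Int.natCast_nonneg _
  have he10 : (0 : ℤ) ≤ e1 := Int.natCast_nonneg _
  have hB0 : (0 : ℤ) ≤ B := Int.natCast_nonneg _
  obtain ⟨x', hx'⟩ := hw2
  -- C = d2 - e2
  obtain ⟨C, hC⟩ : ∃ C : ℤ, C = (d2 : ℤ) - e2 := ⟨_, rfl⟩
  have hBC : (B : ℤ) - C = m * (-x') := by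
    rw [hC]; linarith
  have hA : (d0 : ℤ) - e0 = p * B - q * C := by
    rw [hC]; rw [hB'] at hw1; linarith
  rcases lt_or_ge C 0 with hCneg | hCpos
  · -- C < 0
    exfalso
    have hk : 0 < m * (-x') := by rw [← hBC]; linarith
    have hpk : (p : ℤ) * (m * (-x')) > 0 := mul_pos hp' hk
    have e1' : (d0 : ℤ) - e0 = p * (m * (-x')) + ((q : ℤ) - p) * (-C) := by
      rw [hA, ← hBC]; ring
    have h7 : ((q : ℤ) - p) * 1 ≤ ((q : ℤ) - p) * (-C) := mul_le_mul_of_nonneg_left (by linarith) hD.le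
    linarith
  · rcases le_or_gt (e0 : ℤ) d0 with hAp | hAn
    · exfalso
      have hle0 : e0 ≤ d0 := by exact_mod_cast hAp
      have hle2 : e2 ≤ d2 := by
        have : (e2 : ℤ) ≤ d2 := by linarith
        exact_mod_cast this
      apply hdK (d0 - e0) B (d2 - e2)
      · rintro ⟨a1, a2, a3⟩
        apply hne
        refine ⟨by omega, by omega, by omega⟩
      · omega
      · omega
      · omega
      · push_cast [Nat.cast_sub hle0, Nat.cast_sub hle2]
        rw [hA, ← hC]; ring
      · push_cast [Nat.cast_sub hle2]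
        refine ⟨x', ?_⟩
        linarith
    · -- a' = e0 - d0 > 0
      obtain ⟨x, hx⟩ : ∃ x : ℤ, x = -x' := ⟨_, rfl⟩
      rw [← hx] at hBC
      have ha' : (e0 : ℤ) - d0 = ((q : ℤ) - p) * C - p * m * x := by
        have : (B : ℤ) = C + m * x := by linarith
        have h8 : (e0 : ℤ) - d0 = q * C - p * B := by linarith
        rw [h8, this]; ring
      have hCp : 0 < C := by
        rcases hCpos.lt_or_eq with h | h
        · exact h
        · exfalso
          have h8 : (e0 : ℤ) - d0 = q * C - p * B := by linarith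
          rw [← h] at h8
          have : 0 ≤ (p : ℤ) * B := mul_nonneg hp'.le hB0
          linarith
      have hxp : 0 < x := by
        by_contra hcon
        push Not at hcon
        have h8 : (p : ℤ) * m * x ≤ 0 := mul_nonpos_of_nonneg_of_nonpos (mul_pos hp' hm').le hcon
        have h9 : ((q : ℤ) - p) * 1 ≤ ((q : ℤ) - p) * C := mul_le_mul_of_nonneg_left (by linarith) hD.le
        linarith
      have hρ : ((tT p q m : ℤ) * x) % (bB p q m : ℤ) < TT (bB p q m) (tT p q m) c (i - 1) := by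
        obtain ⟨y, hy⟩ : ∃ y : ℤ, y = (tT p q m : ℤ) * x + (bB p q m : ℤ) * (C - ((alpha p q m + 1 : ℕ) : ℤ) * x) := ⟨_, rfl⟩
        have hgy : (gcdK p q m : ℤ) * y = (e0 : ℤ) - d0 := by
          rw [ha', hy]
          have h9 : (p : ℤ) * m = ((alpha p q m + 1 : ℕ) : ℤ) * ((q : ℤ) - p) - gcdK p q m * tT p q m := by linarith
          rw [h9, h4]; ring
        have hy0 : 0 < y := by
          have : 0 < (gcdK p q m : ℤ) * y := by rw [hgy]; linarith
          exact (mul_pos_iff_of_pos_left hg).mp this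
        have hyT : y < TT (bB p q m) (tT p q m) c (i - 1) := by
          have : (gcdK p q m : ℤ) * y < gcdK p q m * TT (bB p q m) (tT p q m) c (i - 1) := by
            rw [hgy, ← nN_eq p q m hp hpq hcop hm]; linarith
          exact lt_of_mul_lt_mul_left this hg.le
        have hyb : y < bB p q m := lt_of_lt_of_le hyT (T_le_b p q m hp hpq hcop hm c hc (i - 1) (by omega))
        have hyy : ((tT p q m : ℤ) * x) % (bB p q m : ℤ) = y := by
          have h10 : (tT p q m : ℤ) * x = y + (bB p q m : ℤ) * (-(C - ((alpha p q m + 1 : ℕ) : ℤ) * x)) := by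
            rw [hy]; ring
          rw [h10, Int.add_mul_emod_self_left]
          exact Int.emod_eq_of_lt hy0.le hyb
        rw [hyy]; exact hyT
      have hxP : hjP c i ≤ x := by
        by_contra hcon
        push Not at hcon
        rcases Nat.lt_or_ge 1 i with h | h
        · exact absurd (bounds p q m hp hpq hcop hm c hc i h hir x hxp hcon) (not_le.mpr hρ)
        · have : i = 1 := by omega
          subst this
          have h11 : hjP c 1 = 1 := rfl
          rw [h11] at hcon
          linarith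
      have hCl : lL p q m c i ≤ C := by
        by_contra hcon
        push Not at hcon
        have h12 : (p : ℤ) * m * hjP c i ≤ p * m * x := mul_le_mul_of_nonneg_left hxP (mul_pos hp' hm').le
        have h13 : ((q : ℤ) - p) * C ≤ ((q : ℤ) - p) * (lL p q m c i - 1) :=
          mul_le_mul_of_nonneg_left (by linarith) hD.le
        linarith
      have hBe : eE p q m c i ≤ B := by
        rw [hel]
        have h14 : (m : ℤ) * hjP c i ≤ m * x := mul_le_mul_of_nonneg_left hxP hm'.le
        linarith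
      constructor
      · linarith
      · linarith

open MvPolynomial in
theorem rankL (k : Type*) [Field k] (p q m : ℕ) (hp : 0 < p) (hpq : p < q) (hcop : Nat.Coprime p q)
    (hm : 0 < m) (c : List ℤ) (hc : IsHJDigits p q m c) (i : ℕ) (hi : 1 ≤ i) (hir : i ≤ c.length)
    (s : k) (ν : ℤ × ZMod m) :
    Module.rank k (piece k (wt3 p q m) (idealL k p q m c i s) ν) ≤ 1 := by
  classical
  obtain ⟨I, hI⟩ : ∃ I, I = idealL k p q m c i s := ⟨_, rfl⟩
  rw [← hI]
  have hx0 : Ideal.Quotient.mk I (X 0) ^ (nN p q m c (i - 1)).toNat = 0 := by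
    rw [← map_pow, Ideal.Quotient.eq_zero_iff_mem, hI]
    exact Ideal.mem_sup_left (Ideal.subset_span (by simp))
  have hs : Ideal.Quotient.mk I (X 1) ^ (eE p q m c i).toNat * Ideal.Quotient.mk I (X 2) ^ (lL p q m c i).toNat =
      Ideal.Quotient.mk I (C s) * Ideal.Quotient.mk I (X 0) ^ (nN p q m c i).toNat := by
    rw [← map_pow, ← map_pow, ← map_pow, ← map_mul, ← map_mul, eq_comm, ← sub_eq_zero, ← map_sub,
      Ideal.Quotient.eq_zero_iff_mem, hI]
    exact Ideal.mem_sup_left (Ideal.subset_span (by simp))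
  have hK : ∀ a d : Fin 3 →₀ ℕ, a ≠ 0 → a ≤ d → Finsupp.weight (wt3 p q m) a = 0 →
      Ideal.Quotient.mk I (monomial d (1 : k)) = 0 := by
    intro a d ha had hwa
    have e1 : (monomial d (1 : k)) = monomial a 1 * monomial (d - a) 1 := by
      rw [monomial_mul, one_mul, add_tsub_cancel_of_le had]
    have e2 : Ideal.Quotient.mk I (monomial a (1 : k)) = 0 := by
      rw [Ideal.Quotient.eq_zero_iff_mem, hI]
      exact Ideal.mem_sup_right (Ideal.subset_span ⟨a, ha, hwa, rfl⟩)
    rw [e1, map_mul, e2, zero_mul]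
  clear hI
  obtain ⟨h1, h2, h3, h4, h5, h6⟩ := params p q m hp hpq hcop hm
  obtain ⟨k1, k2, k3, k4⟩ := pack p q m hp hpq hcop hm c hc
  have hg : (0 : ℤ) < gcdK p q m := by exact_mod_cast h1
  have hn3 : 0 < nN p q m c i := by
    rw [nN_eq p q m hp hpq hcop hm]
    exact mul_pos hg (k2 i hir)
  have hn4 : 0 < nN p q m c (i - 1) := by
    rw [nN_eq p q m hp hpq hcop hm]
    exact mul_pos hg (k2 (i - 1) (by omega))
  -- surviving predicate
  let Sv : (Fin 3 →₀ ℕ) → Prop := fun d => (d 0 : ℤ) < nN p q m c (i - 1) ∧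
    ∀ a : Fin 3 →₀ ℕ, a ≠ 0 → a ≤ d → Finsupp.weight (wt3 p q m) a ≠ 0
  have hnSv : ∀ d, ¬ Sv d → Ideal.Quotient.mk I (monomial d (1 : k)) = 0 := by
    intro d hd
    by_cases h : (d 0 : ℤ) < nN p q m c (i - 1)
    · have : ∃ a : Fin 3 →₀ ℕ, a ≠ 0 ∧ a ≤ d ∧ Finsupp.weight (wt3 p q m) a = 0 := by
        by_contra hcon
        push Not at hcon
        exact hd ⟨h, hcon⟩
      obtain ⟨a, ha1, ha2, ha3⟩ := this
      exact hK a d ha1 ha2 ha3
    · push Not at h
      have h7 : (nN p q m c (i - 1)).toNat ≤ d 0 := by omega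
      obtain ⟨j, hj⟩ := Nat.exists_eq_add_of_le h7
      rw [mk_mon3, hj, pow_add, hx0]; simp
  by_cases hex : ∃ d : Fin 3 →₀ ℕ, Finsupp.weight (wt3 p q m) d = ν ∧ Sv d
  · have hex2 : ∃ n : ℕ, ∃ d : Fin 3 →₀ ℕ, (Finsupp.weight (wt3 p q m) d = ν ∧ Sv d) ∧ d 1 = n := by
      obtain ⟨d, hd⟩ := hex
      exact ⟨d 1, d, hd, rfl⟩
    obtain ⟨e, ⟨he, heS⟩, he1⟩ := Nat.find_spec hex2
    have hmin : ∀ d : Fin 3 →₀ ℕ, Finsupp.weight (wt3 p q m) d = ν → Sv d → e 1 ≤ d 1 := by
      intro d h1 h2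
      rw [he1]
      exact Nat.find_min' hex2 ⟨d, ⟨h1, h2⟩, rfl⟩
    apply rank_piece_le_one _ _ _ (Ideal.Quotient.mk I (monomial e 1))
    have main : ∀ N : ℕ, ∀ d : Fin 3 →₀ ℕ, d 1 ≤ N → Finsupp.weight (wt3 p q m) d = ν →
        ∃ r : k, Ideal.Quotient.mk I (monomial d 1) = r • Ideal.Quotient.mk I (monomial e 1) := by
      intro N
      induction N with
      | zero =>
        intro d hdN hd
        by_cases hS : Sv d
        swap
        · exact ⟨0, by rw [hnSv d hS, zero_smul]⟩
        by_cases hde : d = e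
        · exact ⟨1, by rw [hde, one_smul]⟩
        exfalso
        have hw := (weight3_eq_iff p q m d e).mp (hd.trans he.symm)
        have hcomb := comb p q m hp hpq hcop hm c hc i hi hir (d 0) (d 1) (d 2) (e 0) (e 1) (e 2)
          hw.1 hw.2 hS.1 heS.1 ?_ ?_ (hmin d hd hS)
        · obtain ⟨c1, c2, c3, c4⟩ := hcomb
          omega
        · intro a0 a1 a2 hne ha0 ha1 ha2 hwa hma
          refine hS.2 (Finsupp.equivFunOnFinite.symm ![a0, a1, a2]) ?_ ?_ ?_
          · intro h0
            apply hne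
            have e0 := DFunLike.congr_fun h0 0
            have e1 := DFunLike.congr_fun h0 1
            have e2 := DFunLike.congr_fun h0 2
            simp at e0 e1 e2
            exact ⟨e0, e1, e2⟩
          · intro j
            fin_cases j
            · simpa using ha0
            · simpa using ha1
            · simpa using ha2
          · rw [weight3_zero_iff]
            simpa using ⟨hwa, hma⟩
        · rintro ⟨g0, g1, g2⟩
          apply hde
          ext j
          fin_cases j
          · exact g0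
          · exact g1
          · exact g2
      | succ N ih =>
        intro d hdN hd
        by_cases hS : Sv d
        swap
        · exact ⟨0, by rw [hnSv d hS, zero_smul]⟩
        by_cases hde : d = e
        · exact ⟨1, by rw [hde, one_smul]⟩
        have hw := (weight3_eq_iff p q m d e).mp (hd.trans he.symm)
        have hcomb := comb p q m hp hpq hcop hm c hc i hi hir (d 0) (d 1) (d 2) (e 0) (e 1) (e 2)
          hw.1 hw.2 hS.1 heS.1 ?_ ?_ (hmin d hd hS)
        · obtain ⟨c1, c2, c3, c4⟩ := hcomb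
          obtain ⟨E, hE⟩ := Int.eq_ofNat_of_zero_le c1.le
          obtain ⟨L, hL⟩ := Int.eq_ofNat_of_zero_le c2
          obtain ⟨n, hn⟩ := Int.eq_ofNat_of_zero_le hn3.le
          have hnel : nN p q m c i = -(p : ℤ) * eE p q m c i + (q : ℤ) * lL p q m c i := rfl
          have hel : eE p q m c i = lL p q m c i + m * hjP c i := by
            unfold eE lL; push_cast; ring
          rw [hE] at c1 c3 hs hnel hel
          rw [hL] at c4 hs hnel hel
          rw [hn] at hs hnel
          have c1' : 0 < E := by exact_mod_cast c1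
          have c3' : E ≤ d 1 := by exact_mod_cast c3
          have c4' : L ≤ d 2 := by exact_mod_cast c4
          have hs' : Ideal.Quotient.mk I (X 1) ^ E * Ideal.Quotient.mk I (X 2) ^ L =
            Ideal.Quotient.mk I (C s) * Ideal.Quotient.mk I (X 0) ^ n := by simpa using hs
          obtain ⟨d', hd'⟩ : ∃ d' : Fin 3 →₀ ℕ, d' = Finsupp.equivFunOnFinite.symm ![d 0 + n, d 1 - E, d 2 - L] := ⟨_, rfl⟩
          have d'0 : d' 0 = d 0 + n := by rw [hd']; simp
          have d'1 : d' 1 = d 1 - E := by rw [hd']; simp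
          have d'2 : d' 2 = d 2 - L := by rw [hd']; simp
          have hwd' : Finsupp.weight (wt3 p q m) d' = ν := by
            rw [← hd, weight3_eq_iff, d'0, d'1, d'2]
            push_cast [Nat.cast_sub c3', Nat.cast_sub c4']
            constructor
            · linarith
            · refine ⟨hjP c i, ?_⟩
              linarith
          obtain ⟨r, hr⟩ := ih d' (by rw [d'1]; omega) hwd'
          refine ⟨s * r, ?_⟩
          have e5 : (s * r) • (Ideal.Quotient.mk I (monomial e (1 : k))) =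
              Ideal.Quotient.mk I (C s) * (r • Ideal.Quotient.mk I (monomial e 1)) := by
            have hsm : ∀ (r : k) (x : MvPolynomial (Fin 3) k),
                r • Ideal.Quotient.mk I x = Ideal.Quotient.mk I (C r) * Ideal.Quotient.mk I x := by
              intro r x
              rw [← map_mul, ← smul_eq_C_mul]; rfl
            rw [hsm, hsm, C_mul, map_mul, mul_assoc]
          rw [e5, ← hr, mk_mon3, mk_mon3, d'0, d'1, d'2]
          obtain ⟨u1, hu1⟩ := Nat.exists_eq_add_of_le c3'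
          obtain ⟨u2, hu2⟩ := Nat.exists_eq_add_of_le c4'
          rw [hu1, hu2, Nat.add_sub_cancel_left, Nat.add_sub_cancel_left, pow_add, pow_add, pow_add]
          calc _ = Ideal.Quotient.mk I (X 0) ^ d 0 * Ideal.Quotient.mk I (X 1) ^ u1 * Ideal.Quotient.mk I (X 2) ^ u2 *
              (Ideal.Quotient.mk I (X 1) ^ E * Ideal.Quotient.mk I (X 2) ^ L) := by ring
            _ = _ := by rw [hs']; ring
        · intro a0 a1 a2 hne ha0 ha1 ha2 hwa hma
          refine hS.2 (Finsupp.equivFunOnFinite.symm ![a0, a1, a2]) ?_ ?_ ?_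
          · intro h0
            apply hne
            have e0 := DFunLike.congr_fun h0 0
            have e1 := DFunLike.congr_fun h0 1
            have e2 := DFunLike.congr_fun h0 2
            simp at e0 e1 e2
            exact ⟨e0, e1, e2⟩
          · intro j
            fin_cases j
            · simpa using ha0
            · simpa using ha1
            · simpa using ha2
          · rw [weight3_zero_iff]
            simpa using ⟨hwa, hma⟩
        · rintro ⟨g0, g1, g2⟩
          apply hde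
          ext j
          fin_cases j
          · exact g0
          · exact g1
          · exact g2
    intro d hd
    exact main (d 1) d le_rfl hd
  · apply rank_piece_le_one _ _ _ 0
    intro d hd
    refine ⟨0, ?_⟩
    rw [smul_zero]
    apply hnSv
    intro hS
    exact absurd ⟨d, hd, hS⟩ hex

end Groth.Agent.H23HJ
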