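import Mathlib
import Groth.Prelude.Def_W4c2invhilbsl2HJ
import Groth.Agent.Lib.H23_HJ
import Groth.Agent.Lib.H23_HJ2

set_option autoImplicit false

namespace Groth.Agent.H23HJ

open W4c2invhilbsl2

theorem comb' (p q m : ℕ) (hp : 0 < p) (hpq : p < q) (hcop : Nat.Coprime p q) (hm : 0 < m) (c : List ℤ)
    (hc : IsHJDigits p q m c) (i : ℕ) (hi : 1 ≤ i) (hir : i ≤ c.length)
    (d0 d1 d2 e0 e1 e2 : ℕ)
    (hw1 : (d0 : ℤ) - p * d1 + q * d2 = e0 - p * e1 + q * e2)
    (hw2 : (m : ℤ) ∣ ((d2 : ℤ) - d1) - (e2 - e1))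
    (hd0 : (d0 : ℤ) < nN p q m c (i - 1)) (he0 : (e0 : ℤ) < nN p q m c (i - 1))
    (hcase : ¬ (e0 ≤ d0)) (hle : e1 ≤ d1) :
    0 < eE p q m c i ∧ 0 ≤ lL p q m c i ∧ eE p q m c i ≤ d1 ∧ lL p q m c i ≤ d2 := by
  obtain ⟨h1, h2, h3, h4, h5, h6⟩ := params p q m hp hpq hcop hm
  obtain ⟨k1, k2, k3, k4⟩ := pack p q m hp hpq hcop hm c hc
  have hg : (0 : ℤ) < gcdK p q m := by exact_mod_cast h1
  have hb : (0 : ℤ) < bB p q m := by exact_mod_cast h2
  have hp' : (0 : ℤ) < p := by exact_mod_cast hp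
  have hm' : (0 : ℤ) < m := by exact_mod_cast hm
  have hD : (0 : ℤ) < (q : ℤ) - p := by
    have : (p : ℤ) < q := by exact_mod_cast hpq
    linarith
  have hn1 : nN p q m c (i - 1) ≤ (q : ℤ) - p := by
    rw [nN_eq p q m hp hpq hcop hm, h4]
    exact mul_le_mul_of_nonneg_left (T_le_b p q m hp hpq hcop hm c hc (i - 1) (by omega)) hg.le
  have hn2 : nN p q m c i < (q : ℤ) - p := by
    rw [nN_eq p q m hp hpq hcop hm, h4]
    exact mul_lt_mul_of_pos_left (TT_lt p q m hp hpq hcop hm c hc i hi (by omega)) hg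
  have hn3 : 0 < nN p q m c i := by
    rw [nN_eq p q m hp hpq hcop hm]
    exact mul_pos hg (k2 i hir)
  have hPi : 0 < hjP c i := by
    obtain ⟨j, rfl⟩ : ∃ j, i = j + 1 := ⟨i - 1, by omega⟩
    have := P_mono c hc.1 j (by omega)
    linarith
  have hel : eE p q m c i = lL p q m c i + m * hjP c i := by
    unfold eE lL; push_cast; ring
  have hnl : nN p q m c i = ((q : ℤ) - p) * lL p q m c i - p * m * hjP c i := by
    unfold nN; rw [hel]; ring
  have hpm : 0 < (p : ℤ) * m * hjP c i := mul_pos (mul_pos hp' hm') hPi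
  have hl0 : 0 < lL p q m c i := by
    by_contra hcon
    push Not at hcon
    have : ((q : ℤ) - p) * lL p q m c i ≤ 0 := mul_nonpos_of_nonneg_of_nonpos hD.le hcon
    linarith
  have hE0 : 0 < eE p q m c i := by
    rw [hel]
    have : 0 < (m : ℤ) * hjP c i := mul_pos hm' hPi
    linarith
  refine ⟨hE0, hl0.le, ?_⟩
  obtain ⟨B, hB⟩ := Nat.exists_eq_add_of_le hle
  have hB' : (d1 : ℤ) = e1 + B := by exact_mod_cast hB
  have he00 : (0 : ℤ) ≤ e0 := Int.natCast_nonneg _
  have hd00 : (0 : ℤ) ≤ d0 := Int.natCast_nonneg _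
  have he20 : (0 : ℤ) ≤ e2 := Int.natCast_nonneg _
  have he10 : (0 : ℤ) ≤ e1 := Int.natCast_nonneg _
  have hB0 : (0 : ℤ) ≤ B := Int.natCast_nonneg _
  obtain ⟨x', hx'⟩ := hw2
  -- C = d2 - e2
  obtain ⟨C, hC⟩ : ∃ C : ℤ, C = (d2 : ℤ) - e2 := ⟨_, rfl⟩
  have hBC : (B : ℤ) - C = m * (-x') := by
    rw [hC]; linarith
  have hA : (d0 : ℤ) - e0 = p * B - q * C := by
    rw [hC]; rw [hB'] at hw1; linarith
  rcases lt_or_ge C 0 with hCneg | hCpos
  · -- C < 0
    exfalso
    have hk : 0 < m * (-x') := by rw [← hBC]; linarith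
    have hpk : (p : ℤ) * (m * (-x')) > 0 := mul_pos hp' hk
    have e1' : (d0 : ℤ) - e0 = p * (m * (-x')) + ((q : ℤ) - p) * (-C) := by
      rw [hA, ← hBC]; ring
    have h7 : ((q : ℤ) - p) * 1 ≤ ((q : ℤ) - p) * (-C) := mul_le_mul_of_nonneg_left (by linarith) hD.le
    linarith
  · rcases le_or_gt (e0 : ℤ) d0 with hAp | hAn
    · exact absurd (by exact_mod_cast hAp) hcase
    · -- a' = e0 - d0 > 0
      obtain ⟨x, hx⟩ : ∃ x : ℤ, x = -x' := ⟨_, rfl⟩
      rw [← hx] at hBC
      have ha' : (e0 : ℤ) - d0 = ((q : ℤ) - p) * C - p * m * x := by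
        have : (B : ℤ) = C + m * x := by linarith
        have h8 : (e0 : ℤ) - d0 = q * C - p * B := by linarith
        rw [h8, this]; ring
      have hCp : 0 < C := by
        rcases hCpos.lt_or_eq with h | h
        · exact h
        · exfalso
          have h8 : (e0 : ℤ) - d0 = q * C - p * B := by linarith
          rw [← h] at h8
          have : 0 ≤ (p : ℤ) * B := mul_nonneg hp'.le hB0
          linarith
      have hxp : 0 < x := by
        by_contra hcon
        push Not at hcon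
        have h8 : (p : ℤ) * m * x ≤ 0 := mul_nonpos_of_nonneg_of_nonpos (mul_pos hp' hm').le hcon
        have h9 : ((q : ℤ) - p) * 1 ≤ ((q : ℤ) - p) * C := mul_le_mul_of_nonneg_left (by linarith) hD.le
        linarith
      have hρ : ((tT p q m : ℤ) * x) % (bB p q m : ℤ) < TT (bB p q m) (tT p q m) c (i - 1) := by
        obtain ⟨y, hy⟩ : ∃ y : ℤ, y = (tT p q m : ℤ) * x + (bB p q m : ℤ) * (C - ((alpha p q m + 1 : ℕ) : ℤ) * x) := ⟨_, rfl⟩
        have hgy : (gcdK p q m : ℤ) * y = (e0 : ℤ) - d0 := by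
          rw [ha', hy]
          have h9 : (p : ℤ) * m = ((alpha p q m + 1 : ℕ) : ℤ) * ((q : ℤ) - p) - gcdK p q m * tT p q m := by linarith
          rw [h9, h4]; ring
        have hy0 : 0 < y := by
          have : 0 < (gcdK p q m : ℤ) * y := by rw [hgy]; linarith
          exact (mul_pos_iff_of_pos_left hg).mp this
        have hyT : y < TT (bB p q m) (tT p q m) c (i - 1) := by
          have : (gcdK p q m : ℤ) * y < gcdK p q m * TT (bB p q m) (tT p q m) c (i - 1) := by
            rw [hgy, ← nN_eq p q m hp hpq hcop hm]; linarith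
          exact lt_of_mul_lt_mul_left this hg.le
        have hyb : y < bB p q m := lt_of_lt_of_le hyT (T_le_b p q m hp hpq hcop hm c hc (i - 1) (by omega))
        have hyy : ((tT p q m : ℤ) * x) % (bB p q m : ℤ) = y := by
          have h10 : (tT p q m : ℤ) * x = y + (bB p q m : ℤ) * (-(C - ((alpha p q m + 1 : ℕ) : ℤ) * x)) := by
            rw [hy]; ring
          rw [h10, Int.add_mul_emod_self_left]
          exact Int.emod_eq_of_lt hy0.le hyb
        rw [hyy]; exact hyT
      have hxP : hjP c i ≤ x := by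
        by_contra hcon
        push Not at hcon
        rcases Nat.lt_or_ge 1 i with h | h
        · exact absurd (bounds p q m hp hpq hcop hm c hc i h hir x hxp hcon) (not_le.mpr hρ)
        · have : i = 1 := by omega
          subst this
          have h11 : hjP c 1 = 1 := rfl
          rw [h11] at hcon
          linarith
      have hCl : lL p q m c i ≤ C := by
        by_contra hcon
        push Not at hcon
        have h12 : (p : ℤ) * m * hjP c i ≤ p * m * x := mul_le_mul_of_nonneg_left hxP (mul_pos hp' hm').le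
        have h13 : ((q : ℤ) - p) * C ≤ ((q : ℤ) - p) * (lL p q m c i - 1) :=
          mul_le_mul_of_nonneg_left (by linarith) hD.le
        linarith
      have hBe : eE p q m c i ≤ B := by
        rw [hel]
        have h14 : (m : ℤ) * hjP c i ≤ m * x := mul_le_mul_of_nonneg_left hxP hm'.le
        linarith
      constructor
      · linarith
      · linarith


/-- A monomial of weight `(nᵢ, 0)` is divisible by `X₀^nᵢ` or by `X₁^eᵢ X₂^lᵢ`. -/
theorem dvd_or (p q m : ℕ) (hp : 0 < p) (hpq : p < q) (hcop : Nat.Coprime p q) (hm : 0 < m) (c : List ℤ)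
    (hc : IsHJDigits p q m c) (i : ℕ) (hi : 1 ≤ i) (hir : i ≤ c.length) (d0 d1 d2 : ℕ)
    (hw1 : (d0 : ℤ) - p * d1 + q * d2 = nN p q m c i) (hw2 : (m : ℤ) ∣ (d2 : ℤ) - d1) :
    (nN p q m c i).toNat ≤ d0 ∨ ((eE p q m c i).toNat ≤ d1 ∧ (lL p q m c i).toNat ≤ d2) := by
  obtain ⟨h1, h2, h3, h4, h5, h6⟩ := params p q m hp hpq hcop hm
  obtain ⟨k1, k2, k3, k4⟩ := pack p q m hp hpq hcop hm c hc
  have hg : (0 : ℤ) < gcdK p q m := by exact_mod_cast h1
  have hn3 : 0 < nN p q m c i := by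
    rw [nN_eq p q m hp hpq hcop hm]
    exact mul_pos hg (k2 i hir)
  have hn5 : nN p q m c i < nN p q m c (i - 1) := by
    rw [nN_eq p q m hp hpq hcop hm, nN_eq p q m hp hpq hcop hm]
    obtain ⟨j, rfl⟩ : ∃ j, i = j + 1 := ⟨i - 1, by omega⟩
    exact mul_lt_mul_of_pos_left (k1 j (by omega)) hg
  by_cases h : (nN p q m c i).toNat ≤ d0
  · exact Or.inl h
  · right
    have hlt : (d0 : ℤ) < nN p q m c i := by omega
    have := comb' p q m hp hpq hcop hm c hc i hi hir d0 d1 d2 (nN p q m c i).toNat 0 0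
      (by rw [hw1]; push_cast; rw [Int.toNat_of_nonneg hn3.le]; ring)
      (by simpa using hw2) (by linarith) (by rw [Int.toNat_of_nonneg hn3.le]; exact hn5) h (Nat.zero_le _)
    obtain ⟨c1, c2, c3, c4⟩ := this
    constructor <;> omega

end Groth.Agent.H23HJ
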