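import Groth.Prelude.Def_WeilCoh

set_option autoImplicit false
universe u v w
open CategoryTheory AlgebraicGeometry
open WeilCoh

namespace Groth.Agent.H23Weil

section
variable {k : Type u} [Field k] {P : ObjectProperty (Over (Spec (CommRingCat.of k)))}
variable {K : Type v} [Field K] (T : WeilCoh.TheoryOn.{u, v, w} k P K)

theorem pairing_apply {A : Type w} [Ring A] [Algebra K A] (S S' : Submodule K A) (t : A →ₗ[K] K)
    (a : S) (b : S') : WeilCoh.pairing K S S' t a b = t ((a : A) * (b : A)) := rfl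

/-- Push-forward is characterised by its pairing functional. -/
theorem tr_push_mul {X Y : P.FullSubcategory} (f : X ⟶ Y) (i : ℤ) (a : ↥(T.gr X i))
    (b : T.H Y) (hb : b ∈ T.gr Y (2 * (dim X.obj.left : ℤ) - i)) :
    T.tr Y ((T.push f i a : T.H Y) * b) = T.tr X ((a : T.H X) * T.pull f b) := by
  haveI := T.duality Y (i + 2 * (dim Y.obj.left : ℤ) - 2 * (dim X.obj.left : ℤ))
    (2 * (dim X.obj.left : ℤ) - i) (by omega)
  have h := (pairing K (T.gr Y (i + 2 * (dim Y.obj.left : ℤ) - 2 * (dim X.obj.left : ℤ)))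
      (T.gr Y (2 * (dim X.obj.left : ℤ) - i)) (T.tr Y)).apply_symm_toPerfPair_self
      (T.pushFunctional f i a)
  have h2 := congrArg (fun φ => φ ⟨b, hb⟩) h
  exact h2

/-- Two homogeneous classes of degree `i` with the same pairing functional are equal. -/
theorem eq_of_pairing {X : P.FullSubcategory} {i j : ℤ} (hij : i + j = 2 * (dim X.obj.left : ℤ))
    {x y : T.H X} (hx : x ∈ T.gr X i) (hy : y ∈ T.gr X i)
    (h : ∀ b : T.H X, b ∈ T.gr X j → T.tr X (x * b) = T.tr X (y * b)) : x = y := by
  haveI := T.duality X i j hij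
  have hinj := (LinearMap.IsPerfPair.bijective_left (pairing K (T.gr X i) (T.gr X j) (T.tr X))).1
  have : (⟨x, hx⟩ : T.gr X i) = ⟨y, hy⟩ := by
    apply hinj
    ext b
    exact h b b.2
  exact congrArg Subtype.val this

theorem eq_of_pairing_right {X : P.FullSubcategory} {i j : ℤ} (hij : j + i = 2 * (dim X.obj.left : ℤ))
    {x y : T.H X} (hx : x ∈ T.gr X i) (hy : y ∈ T.gr X i)
    (h : ∀ b : T.H X, b ∈ T.gr X j → T.tr X (b * x) = T.tr X (b * y)) : x = y := by
  haveI := T.duality X j i hij
  have hinj := (LinearMap.IsPerfPair.bijective_right (pairing K (T.gr X j) (T.gr X i) (T.tr X))).1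
  have : (⟨x, hx⟩ : T.gr X i) = ⟨y, hy⟩ := by
    apply hinj
    ext b
    exact h b b.2
  exact congrArg Subtype.val this

theorem mem_cast {X : P.FullSubcategory} {i j : ℤ} (hij : i = j) {x : T.H X} (hx : x ∈ T.gr X i) :
    x ∈ T.gr X j := hij ▸ hx

theorem mul_mem {X : P.FullSubcategory} {i j l : ℤ} (hij : i + j = l) {x y : T.H X}
    (hx : x ∈ T.gr X i) (hy : y ∈ T.gr X j) : x * y ∈ T.gr X l :=
  hij ▸ SetLike.mul_mem_graded hx hy

theorem one_mem (X : P.FullSubcategory) : (1 : T.H X) ∈ T.gr X 0 := SetLike.one_mem_graded (T.gr X)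

/-- dimension of degree i and complementary degree agree. -/
theorem finrank_compl (X : P.FullSubcategory) {i j : ℤ} (hij : i + j = 2 * (dim X.obj.left : ℤ)) :
    Module.finrank K (T.gr X i) = Module.finrank K (T.gr X j) := by
  haveI := T.duality X i j hij
  exact Module.finrank_of_isPerfPair (pairing K (T.gr X i) (T.gr X j) (T.tr X))

theorem finrank_top (X : P.FullSubcategory) :
    Module.finrank K (T.gr X (2 * (dim X.obj.left : ℤ))) = 1 := by
  have e := LinearEquiv.ofBijective _ (T.tr_bijective X)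
  rw [e.finrank_eq, Module.finrank_self]

theorem finrank_zero (X : P.FullSubcategory) : Module.finrank K (T.gr X 0) = 1 := by
  rw [finrank_compl T X (i := 0) (j := 2 * (dim X.obj.left : ℤ)) (by ring), finrank_top]

theorem nontrivial (X : P.FullSubcategory) : (1 : T.H X) ≠ 0 := by
  intro h
  have h1 : Module.finrank K (T.gr X (2 * (dim X.obj.left : ℤ))) = 0 := by
    have : ∀ x : T.gr X (2 * (dim X.obj.left : ℤ)), x = 0 := by
      intro x
      apply Subtype.ext
      calc (x : T.H X) = 1 * x := (one_mul _).symm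
        _ = 0 := by rw [h, zero_mul]
    haveI : Subsingleton (T.gr X (2 * (dim X.obj.left : ℤ))) := ⟨fun a b => by rw [this a, this b]⟩
    exact Module.finrank_zero_of_subsingleton
  rw [finrank_top] at h1
  exact one_ne_zero h1

theorem exists_smul_one {X : P.FullSubcategory} {x : T.H X} (hx : x ∈ T.gr X 0) :
    ∃ c : K, c • (1 : T.H X) = x := by
  have h1 : (⟨1, one_mem T X⟩ : T.gr X 0) ≠ 0 := by
    intro h
    exact nontrivial T X (congrArg Subtype.val h)
  obtain ⟨c, hc⟩ := exists_smul_eq_of_finrank_eq_one (finrank_zero T X) h1 ⟨x, hx⟩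
  exact ⟨c, congrArg Subtype.val hc⟩

end

end Groth.Agent.H23Weil
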