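import Groth.Agent.Lib.H23_Weil
import Mathlib.Tactic
import Mathlib.AlgebraicGeometry.AlgClosed.Basic
import Mathlib.AlgebraicGeometry.Morphisms.Finite
import Mathlib.RingTheory.Length

set_option autoImplicit false
universe u v w
open CategoryTheory AlgebraicGeometry
open WeilCoh

namespace Groth.Agent.H23Weil

section AG

theorem residueDegree_of_bijective {X Y : Scheme.{u}} (f : X ⟶ Y) (x : X)
    (h : Function.Bijective (f.residueFieldMap x).hom) : f.residueDegree x = 1 := by
  letI := (f.residueFieldMap x).hom.toAlgebra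
  have e := LinearEquiv.ofBijective (Algebra.linearMap (Y.residueField (f x)) (X.residueField x)) h
  show Module.finrank (Y.residueField (f x)) (X.residueField x) = 1
  rw [← e.finrank_eq, Module.finrank_self]

theorem bijective_comp_of_eq_id {X Y : Scheme.{u}} (s : X ⟶ Y) (f : Y ⟶ X) (h : s ≫ f = 𝟙 X) (x : X) :
    Function.Bijective (s.residueFieldMap x).hom ∧
      Function.Bijective (f.residueFieldMap (s x)).hom := by
  have h1 : Function.Bijective ((s ≫ f).residueFieldMap x).hom := by
    have : IsIso ((s ≫ f).residueFieldMap x) := by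
      haveI : IsIso (s ≫ f) := by rw [h]; infer_instance
      infer_instance
    exact (ConcreteCategory.isIso_iff_bijective _).mp this
  rw [Scheme.residueFieldMap_comp] at h1
  have h2 : Function.Bijective ((s.residueFieldMap x).hom ∘ (f.residueFieldMap (s x)).hom) := h1
  have h3 : Function.Injective (s.residueFieldMap x).hom := RingHom.injective _
  have h4 : Function.Surjective (s.residueFieldMap x).hom := Function.Surjective.of_comp h2.2
  have h5 : Function.Bijective (s.residueFieldMap x).hom := ⟨h3, h4⟩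
  exact ⟨h5, (Function.Bijective.of_comp_iff' h5 _).mp h2⟩

theorem residueDegree_section {X Y : Scheme.{u}} (s : X ⟶ Y) (f : Y ⟶ X) (h : s ≫ f = 𝟙 X) (x : X) :
    s.residueDegree x = 1 := residueDegree_of_bijective s x (bijective_comp_of_eq_id s f h x).1

theorem residueDegree_retraction {X Y : Scheme.{u}} (s : X ⟶ Y) (f : Y ⟶ X) (h : s ≫ f = 𝟙 X) (x : X) :
    f.residueDegree (s x) = 1 := residueDegree_of_bijective f (s x) (bijective_comp_of_eq_id s f h x).2

theorem natDim_eq_zero_of_subsingleton (T : Type u) [TopologicalSpace T] [Subsingleton T] [Nonempty T] :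
    natDim T = 0 := by
  haveI : DiscreteTopology T := Subsingleton.discreteTopology
  have h := topologicalKrullDim_zero_of_discreteTopology T
  rw [natDim]
  generalize topologicalKrullDim T = d at h
  induction d using WithBot.recBotCoe with
  | bot => rfl
  | coe a =>
    have ha : a ≤ 0 := by exact_mod_cast h
    have ha0 : a = 0 := nonpos_iff_eq_zero.mp ha
    subst ha0
    rfl

theorem natDim_univ (T : Type u) [TopologicalSpace T] : natDim ↥(Set.univ : Set T) = natDim T := by
  rw [natDim, natDim, IsHomeomorph.topologicalKrullDim_eq _ (Homeomorph.Set.univ T).isHomeomorph]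

theorem pdim_genericPoint (X : Scheme.{u}) [IrreducibleSpace X] : pdim X (genericPoint X) = dim X := by
  rw [pdim, genericPoint_closure]
  exact natDim_univ X

theorem codim_genericPoint (X : Scheme.{u}) [IrreducibleSpace X] : codim X (genericPoint X) = 0 := by
  rw [codim, pdim_genericPoint, Nat.sub_self]

theorem pdim_closed (X : Scheme.{u}) (x : X) (hx : IsClosed ({x} : Set X)) : pdim X x = 0 := by
  rw [pdim, hx.closure_eq]
  exact natDim_eq_zero_of_subsingleton _

variable {k : Type u} [Field k] [IsAlgClosed k]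

instance lft (X : WeilCoh.Var k) : LocallyOfFiniteType X.obj.hom := by
  haveI : Smooth X.obj.hom := X.property.1
  infer_instance

instance irr (X : WeilCoh.Var k) : IrreducibleSpace ↥X.obj.left := X.property.2.2

theorem exists_closed (X : WeilCoh.Var k) : ∃ x : X.obj.left, IsClosed ({x} : Set X.obj.left) := by
  haveI : JacobsonSpace ↥X.obj.left := LocallyOfFiniteType.jacobsonSpace X.obj.hom
  have h := closure_closedPoints (X := X.obj.left)
  have hne : (closedPoints X.obj.left).Nonempty := by
    rw [← closure_nonempty_iff, h]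
    exact Set.univ_nonempty
  obtain ⟨x, hx⟩ := hne
  exact ⟨x, hx⟩

theorem isVar_pt (X : WeilCoh.Var k) : IsVar k (Over.mk (𝟙 (Spec (CommRingCat.of k)))) := by
  refine ⟨inferInstanceAs (Smooth (𝟙 (Spec (CommRingCat.of k)))), ?_, ?_⟩
  · obtain ⟨x, hx⟩ := exists_closed X
    obtain ⟨n, i, hi, hi2⟩ := X.property.2.1
    have hs := pointOfClosedPoint_comp X.obj.hom x hx
    haveI : IsClosedImmersion (pointOfClosedPoint X.obj.hom x hx) :=
      isClosedImmersion_of_comp_eq_id _ _ hs
    refine ⟨n, pointOfClosedPoint X.obj.hom x hx ≫ i, ?_, ?_⟩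
    · show IsClosedImmersion (pointOfClosedPoint X.obj.hom x hx ≫ i)
      infer_instance
    · show (pointOfClosedPoint X.obj.hom x hx ≫ i) ≫ _ = 𝟙 _
      rw [Category.assoc, hi2, hs]
  · show IrreducibleSpace ↥(Spec (CommRingCat.of k))
    infer_instance

/-- The point as an object (its projectivity is deduced from that of any object). -/
noncomputable def pt (X : WeilCoh.Var k) : WeilCoh.Var k := ⟨Over.mk (𝟙 (Spec (CommRingCat.of k))), isVar_pt X⟩

noncomputable def toPt (X : WeilCoh.Var k) : X ⟶ pt X :=
  ObjectProperty.homMk (Over.homMk X.obj.hom (by simp [pt]))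

noncomputable def fromPt (X : WeilCoh.Var k) (s : Spec (CommRingCat.of k) ⟶ X.obj.left) (hs : s ≫ X.obj.hom = 𝟙 _) :
    pt X ⟶ X :=
  ObjectProperty.homMk (Over.homMk s (by simpa [pt] using hs))

theorem sm_fromPt (X : WeilCoh.Var k) (s : Spec (CommRingCat.of k) ⟶ X.obj.left)
    (hs : s ≫ X.obj.hom = 𝟙 _) : sm (fromPt X s hs) = s := rfl

theorem sm_toPt (X : WeilCoh.Var k) : sm (toPt X) = X.obj.hom := rfl

instance (X : WeilCoh.Var k) : Subsingleton ↥(pt X).obj.left :=
  inferInstanceAs (Subsingleton ↥(Spec (CommRingCat.of k)))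

instance (X : WeilCoh.Var k) : Nonempty ↥(pt X).obj.left :=
  inferInstanceAs (Nonempty ↥(Spec (CommRingCat.of k)))

theorem dim_pt (X : WeilCoh.Var k) : dim (pt X).obj.left = 0 :=
  natDim_eq_zero_of_subsingleton _

variable {K : Type v} [Field K] [CharZero K] (T : WeilCoh.Theory k K)

theorem cl_pt (X : WeilCoh.Var k) (ξ : (pt X).obj.left) : T.cl (pt X) ξ = 1 :=
  (T.point (pt X) (dim_pt X)).1 ξ

theorem tr_pt (X : WeilCoh.Var k) : T.tr (pt X) 1 = 1 := (T.point (pt X) (dim_pt X)).2

/-- Residue degree of the structure morphism at a closed point. -/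
theorem residueDegree_toPt (X : WeilCoh.Var k) (x : X.obj.left) (hx : IsClosed ({x} : Set X.obj.left)) :
    X.obj.hom.residueDegree x = 1 := by
  have h1 := residueDegree_retraction (pointOfClosedPoint X.obj.hom x hx) X.obj.hom
    (pointOfClosedPoint_comp X.obj.hom x hx) (IsLocalRing.closedPoint k)
  exact (pointOfClosedPoint_apply X.obj.hom x hx (IsLocalRing.closedPoint k)) ▸ h1

theorem tr_cl_closed (X : WeilCoh.Var k) (x : X.obj.left) (hx : IsClosed ({x} : Set X.obj.left)) :
    T.tr X (T.cl X x) = 1 := by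
  have h := T.cl_push (toPt X) x (1 : T.H (pt X)) (by
    rw [pdim_closed _ x hx]
    exact one_mem T _)
  rw [map_one, mul_one, mul_one, cl_pt, tr_pt,
    show (sm (toPt X)).residueDegree x = 1 from residueDegree_toPt X x hx] at h
  simpa using h

theorem preimMult_eq_one {X Y : Scheme.{u}} (f : X ⟶ Y) (ξ : Y) (w : X)
    (h : f w ∈ closure ({ξ} : Set Y))
    (hJ : IsLocalRing.maximalIdeal (X.presheaf.stalk w) ≤ Ideal.map (f.stalkMap w).hom
      (RingHom.ker (Cyc.specMap (f w) ξ (specializes_iff_mem_closure.mpr h)))) :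
    preimMult f ξ w h = 1 := by
  have h1 : Ideal.map (f.stalkMap w).hom
      (RingHom.ker (Cyc.specMap (f w) ξ (specializes_iff_mem_closure.mpr h))) ≤
      IsLocalRing.maximalIdeal (X.presheaf.stalk w) := by
    have h2 : RingHom.ker (Cyc.specMap (f w) ξ (specializes_iff_mem_closure.mpr h)) ≤
        IsLocalRing.maximalIdeal (Y.presheaf.stalk (f w)) := by
      apply IsLocalRing.le_maximalIdeal
      exact RingHom.ker_ne_top _
    refine (Ideal.map_mono h2).trans ?_
    have h5 : IsLocalHom (f.stalkMap w).hom := inferInstance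
    have h6 := (IsLocalRing.local_hom_TFAE (f.stalkMap w).hom).out 0 2
    exact h6.mp h5
  have h3 := le_antisymm h1 hJ
  rw [preimMult, h3]
  have h4 : IsSimpleModule (X.presheaf.stalk w)
      (X.presheaf.stalk w ⧸ IsLocalRing.maximalIdeal (X.presheaf.stalk w)) := by
    rw [isSimpleModule_iff_isCoatom]
    exact (IsLocalRing.maximalIdeal.isMaximal (X.presheaf.stalk w)).out
  rw [Module.length_eq_one_iff.mpr h4]
  rfl

theorem cl_gen (X : WeilCoh.Var k) [IrreducibleSpace ↥X.obj.left] : T.cl X (genericPoint ↥X.obj.left) = 1 := by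
  obtain ⟨x, hx⟩ := exists_closed X
  let s := pointOfClosedPoint X.obj.hom x hx
  have hs : s ≫ X.obj.hom = 𝟙 _ := pointOfClosedPoint_comp X.obj.hom x hx
  have hmem := T.cl_mem X (genericPoint ↥X.obj.left)
  rw [codim_genericPoint] at hmem
  obtain ⟨c, hc⟩ := exists_smul_one T (X := X) (x := T.cl X (genericPoint ↥X.obj.left)) hmem
  have huniv : (sm (fromPt X s hs)) ⁻¹' closure ({genericPoint ↥X.obj.left} : Set X.obj.left) = Set.univ := by
    rw [genericPoint_closure]; exact Set.preimage_univ
  have hmult : ∀ (w : (pt X).obj.left)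
      (hw : IsCompPt ((sm (fromPt X s hs)) ⁻¹' closure ({genericPoint ↥X.obj.left} : Set X.obj.left)) w),
      preimMult (sm (fromPt X s hs)) (genericPoint ↥X.obj.left) w hw.1 = 1 := by
    intro w hw
    apply preimMult_eq_one
    have hf : IsField ((pt X).obj.left.presheaf.stalk w) := by
      haveI : IsIntegral (pt X).obj.left := inferInstanceAs (IsIntegral (Spec (CommRingCat.of k)))
      have hw : w = genericPoint (pt X).obj.left := Subsingleton.elim _ _
      rw [hw]
      exact Field.toIsField (pt X).obj.left.functionField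
    rw [IsLocalRing.isField_iff_maximalIdeal_eq.mp hf]
    exact bot_le
  have hpull := T.cl_pull (fromPt X s hs) (genericPoint ↥X.obj.left) (by
    intro w _
    rw [pdim_closed _ w (by
      have : ({w} : Set (pt X).obj.left) = Set.univ := by
        ext y; simp [Subsingleton.elim y w]
      rw [this]; exact isClosed_univ), pdim_genericPoint, dim_pt]
    ring) (Or.inr hmult)
  rw [← hc] at hpull
  have hsum : ∑ᶠ w : {w : (pt X).obj.left // IsCompPt ((sm (fromPt X s hs)) ⁻¹' closure ({genericPoint ↥X.obj.left} : Set X.obj.left)) w},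
        (preimMult (sm (fromPt X s hs)) (genericPoint ↥X.obj.left) w.1 w.2.1 : K) • T.cl (pt X) w.1 = 1 := by
    have w0 : (pt X).obj.left := Classical.arbitrary _
    have hw0 : IsCompPt ((sm (fromPt X s hs)) ⁻¹' closure ({genericPoint ↥X.obj.left} : Set X.obj.left)) w0 :=
      ⟨by rw [huniv]; trivial, fun w' _ _ => Subsingleton.elim _ _⟩
    rw [finsum_eq_single _ (⟨w0, hw0⟩ : {w : (pt X).obj.left // IsCompPt ((sm (fromPt X s hs)) ⁻¹' closure ({genericPoint ↥X.obj.left} : Set X.obj.left)) w})
      (fun b hb => absurd (Subtype.ext (Subsingleton.elim _ _)) hb)]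
    rw [hmult w0 hw0, cl_pt]
    simp
  rw [hsum, map_smul, map_one] at hpull
  have h2 : (c - 1) • (1 : T.H (pt X)) = 0 := by rw [sub_smul, hpull, one_smul, sub_self]
  rcases smul_eq_zero.mp h2 with h3 | h3
  · rw [← hc, sub_eq_zero.mp h3, one_smul]
  · exact absurd h3 (nontrivial T _)

end AG

end Groth.Agent.H23Weil
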