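import Groth.Agent.Lib.H23_Weil2
import Mathlib.LinearAlgebra.Trace
import Mathlib.LinearAlgebra.Dual.Lemmas

set_option autoImplicit false
universe u v w
open CategoryTheory AlgebraicGeometry TensorProduct
open WeilCoh

namespace Groth.Agent.H23Weil

section prod
variable {k : Type u} [Field k] {P : ObjectProperty (Over (Spec (CommRingCat.of k)))}
variable {K : Type v} [Field K] (T : WeilCoh.TheoryOn.{u, v, w} k P K)

theorem exists_tr_one (X : P.FullSubcategory) :
    ∃ a : T.H X, a ∈ T.gr X (2 * (dim X.obj.left : ℤ)) ∧ T.tr X a = 1 := by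
  obtain ⟨a, ha⟩ := (T.tr_bijective X).2 1
  exact ⟨a, a.2, ha⟩

include T in
theorem dim_prod {X Y Q : P.FullSubcategory} (p : Q ⟶ X) (q : Q ⟶ Y) (hP : IsProd p q) :
    dim Q.obj.left = dim X.obj.left + dim Y.obj.left := by
  obtain ⟨a, ha, ha1⟩ := exists_tr_one T X
  obtain ⟨b, hb, hb1⟩ := exists_tr_one T Y
  have h1 := T.tr_prod p q hP a b ha hb
  rw [ha1, hb1, mul_one] at h1
  have h2 : T.pull p a * T.pull q b ∈ T.gr Q (2 * (dim X.obj.left : ℤ) + 2 * (dim Y.obj.left : ℤ)) :=
    mul_mem T rfl (T.pull_mem p _ _ ha) (T.pull_mem q _ _ hb)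
  by_contra hne
  have h3 := T.tr_vanish Q _ _ h2 (by omega)
  rw [h1] at h3
  exact one_ne_zero h3

theorem induction_hom {X : P.FullSubcategory} {motive : T.H X → Prop}
    (hhom : ∀ (i : ℤ) (a : T.H X), a ∈ T.gr X i → motive a) (h0 : motive 0)
    (hadd : ∀ a b, motive a → motive b → motive (a + b)) (x : T.H X) : motive x := by
  have h : x ∈ ⨆ i, T.gr X i := by
    rw [(T.decomp X).submodule_iSup_eq_top]; trivial
  induction h using Submodule.iSup_induction' with
  | mem i x hx => exact hhom i x hx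
  | zero => exact h0
  | add x y _ _ hx hy => exact hadd x y hx hy

theorem tr_prod' {X Y Q : P.FullSubcategory} (p : Q ⟶ X) (q : Q ⟶ Y) (hP : IsProd p q)
    (a : T.H X) (b : T.H Y) : T.tr Q (T.pull p a * T.pull q b) = T.tr X a * T.tr Y b := by
  have hd := dim_prod T p q hP
  induction a using induction_hom T with
  | h0 => simp
  | hadd a a' h1 h2 => simp only [map_add, add_mul, h1, h2]
  | hhom i a ha =>
    induction b using induction_hom T with
    | h0 => simp
    | hadd b b' h1 h2 => simp only [map_add, mul_add, h1, h2]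
    | hhom j b hb =>
      by_cases hi : i = 2 * (dim X.obj.left : ℤ)
      · by_cases hj : j = 2 * (dim Y.obj.left : ℤ)
        · subst hi hj
          exact T.tr_prod p q hP a b ha hb
        · rw [T.tr_vanish Y j b hb hj, mul_zero]
          refine T.tr_vanish Q (i + j) _ (mul_mem T rfl (T.pull_mem p _ _ ha) (T.pull_mem q _ _ hb)) ?_
          omega
      · rw [T.tr_vanish X i a ha hi, zero_mul]
        by_cases hij : i + j = 2 * (dim Q.obj.left : ℤ)
        · have hcase : 2 * (dim X.obj.left : ℤ) < i ∨ 2 * (dim Y.obj.left : ℤ) < j := by omega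
          rcases hcase with h | h
          · have h0 := T.vanish X i (Or.inr h)
            rw [h0] at ha
            rw [(Submodule.mem_bot K).mp ha]
            simp
          · have h0 := T.vanish Y j (Or.inr h)
            rw [h0] at hb
            rw [(Submodule.mem_bot K).mp hb]
            simp
        · exact T.tr_vanish Q (i + j) _ (mul_mem T rfl (T.pull_mem p _ _ ha) (T.pull_mem q _ _ hb)) hij

/-- Equality of classes on a product can be tested against products of homogeneous classes. -/
theorem eq_of_pairing_prod {X Y Q : P.FullSubcategory} (p : Q ⟶ X) (q : Q ⟶ Y) (hP : IsProd p q)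
    {i : ℤ} {x y : T.H Q} (hx : x ∈ T.gr Q i) (hy : y ∈ T.gr Q i)
    (h : ∀ (r s : ℤ) (a : T.H X) (b : T.H Y), a ∈ T.gr X r → b ∈ T.gr Y s →
      i + (r + s) = 2 * (dim Q.obj.left : ℤ) →
      T.tr Q (x * (T.pull p a * T.pull q b)) = T.tr Q (y * (T.pull p a * T.pull q b))) : x = y := by
  refine eq_of_pairing T (i := i) (j := 2 * (dim Q.obj.left : ℤ) - i) (by ring) hx hy ?_
  intro z hz
  clear hz
  obtain ⟨t, rfl⟩ := (T.kunneth p q hP).2 z
  induction t using TensorProduct.induction_on with
  | zero => simp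
  | add s t hs ht => simp only [map_add, mul_add, hs, ht]
  | tmul a b =>
    show T.tr Q (x * (T.pull p a * T.pull q b)) = T.tr Q (y * (T.pull p a * T.pull q b))
    induction a using induction_hom T with
    | h0 => simp
    | hadd a a' h1 h2 => simp only [map_add, add_mul, mul_add, h1, h2]
    | hhom r a ha =>
      induction b using induction_hom T with
      | h0 => simp
      | hadd b b' h1 h2 => simp only [map_add, mul_add, h1, h2]
      | hhom s b hb =>
        by_cases hi : i + (r + s) = 2 * (dim Q.obj.left : ℤ)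
        · exact h r s a b ha hb hi
        · have hm := mul_mem T (rfl : r + s = r + s) (T.pull_mem p _ _ ha) (T.pull_mem q _ _ hb)
          rw [T.tr_vanish Q _ _ (mul_mem T rfl hx hm) hi, T.tr_vanish Q _ _ (mul_mem T rfl hy hm) hi]

/-- Even classes commute with homogeneous ones. -/
theorem comm_even {X : P.FullSubcategory} {i j : ℤ} {a b : T.H X} (ha : a ∈ T.gr X i)
    (hb : b ∈ T.gr X j) (hi : Even i) : a * b = b * a := by
  rw [T.gradedComm X i j a b ha hb]
  have : Even (i.natAbs * j.natAbs) := (Int.natAbs_even.mpr hi).mul_right _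
  rw [this.neg_one_pow, one_smul]

end prod

section graph
variable {k : Type u} [Field k] [IsAlgClosed k]
variable {K : Type v} [Field K] [CharZero K] (T : WeilCoh.Theory k K)

/-- Push-forward identity for a graph: `j` a section of `p`. -/
theorem tr_cl_section {X Q : WeilCoh.Var k} (j : X ⟶ Q) (p : Q ⟶ X) (hjp : j ≫ p = 𝟙 X)
    [IrreducibleSpace ↥X.obj.left]
    (c : T.H Q) (hc : c ∈ T.gr Q (2 * (dim X.obj.left : ℤ))) :
    T.tr Q (T.cl Q (sm j (genericPoint ↥X.obj.left)) * c) = T.tr X (T.pull j c) := by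
  have h := T.cl_push j (genericPoint ↥X.obj.left) c (by rw [pdim_genericPoint]; exact hc)
  have hs : sm j ≫ sm p = 𝟙 _ := by
    have := congrArg (fun f => sm f) hjp
    exact this
  rw [cl_gen T X, one_mul, residueDegree_section (sm j) (sm p) hs] at h
  rw [h]
  simp

theorem pull_section {X Q : WeilCoh.Var k} (j : X ⟶ Q) (p : Q ⟶ X) (hjp : j ≫ p = 𝟙 X) (a : T.H X) :
    T.pull j (T.pull p a) = a := by
  have h := T.pull_comp j p
  rw [hjp, T.pull_id] at h
  exact (DFunLike.congr_fun h a).symm

theorem pull_pull {X Y Z : WeilCoh.Var k} (j : X ⟶ Y) (p : Y ⟶ Z) (g : X ⟶ Z) (hjp : j ≫ p = g)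
    (a : T.H Z) : T.pull j (T.pull p a) = T.pull g a := by
  have h := T.pull_comp j p
  rw [hjp] at h
  exact (DFunLike.congr_fun h a).symm

/-- the class of a graph has degree twice the codimension computed cohomologically -/
theorem codim_graph {X Y Q : WeilCoh.Var k} (j : X ⟶ Q) (p : Q ⟶ X) (q : Q ⟶ Y) (hP : IsProd p q)
    (hjp : j ≫ p = 𝟙 X) [IrreducibleSpace ↥X.obj.left] :
    T.cl Q (sm j (genericPoint ↥X.obj.left)) ∈ T.gr Q (2 * (dim Y.obj.left : ℤ)) := by
  -- the trace of cl * pull p (top class) is nonzero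
  obtain ⟨a, ha, ha1⟩ := exists_tr_one T X
  have h1 := tr_cl_section T j p hjp (T.pull p a) (T.pull_mem p _ _ ha)
  rw [pull_section T j p hjp, ha1] at h1
  have h2 := T.cl_mem Q (sm j (genericPoint ↥X.obj.left))
  have h3 : T.cl Q (sm j (genericPoint ↥X.obj.left)) * T.pull p a ∈
      T.gr Q (2 * (codim Q.obj.left (sm j (genericPoint ↥X.obj.left)) : ℤ) + 2 * (dim X.obj.left : ℤ)) :=
    mul_mem T rfl h2 (T.pull_mem p _ _ ha)
  have hd := dim_prod T p q hP
  have h4 : 2 * (codim Q.obj.left (sm j (genericPoint ↥X.obj.left)) : ℤ) = 2 * (dim Y.obj.left : ℤ) := by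
    by_contra hne
    have h5 := T.tr_vanish Q _ _ h3 (by omega)
    rw [h1] at h5
    exact one_ne_zero h5
  exact mem_cast T h4 h2

end graph

end Groth.Agent.H23Weil
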