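import Groth.Agent.Lib.H23_Weil3

set_option autoImplicit false
universe u v w
open CategoryTheory AlgebraicGeometry TensorProduct
open WeilCoh

namespace Groth.Agent.H23Weil

section graph
variable {k : Type u} [Field k] [IsAlgClosed k]
variable {K : Type v} [Field K] [CharZero K] (T : WeilCoh.Theory k K)

theorem expand (X : WeilCoh.Var k) {i j : ℤ} {ι : Type} [Fintype ι] [DecidableEq ι]
    (e : Module.Basis ι K ↥(T.gr X i)) (f : ι → ↥(T.gr X j))
    (hef : ∀ i l : ι, T.tr X ((f l : T.H X) * (e i : T.H X)) = if i = l then 1 else 0)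
    (b : ↥(T.gr X i)) (l : ι) : e.repr b l = T.tr X ((f l : T.H X) * (b : T.H X)) := by
  have h : (b : T.H X) = ∑ i, e.repr b i • (e i : T.H X) := by
    have := congrArg (fun x : ↥(T.gr X i) => (x : T.H X)) (e.sum_repr b)
    simp only [Submodule.coe_sum, Submodule.coe_smul] at this
    exact this.symm
  rw [h, Finset.mul_sum, map_sum]
  rw [Finset.sum_eq_single l]
  · rw [mul_smul_comm, map_smul, hef]; simp
  · intro m _ hm
    rw [mul_smul_comm, map_smul, hef, if_neg hm, smul_zero]
  · simp

theorem cl_graph_eq (X P : WeilCoh.Var k) [IrreducibleSpace ↥X.obj.left] (φ : X ⟶ X)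
    (p q : P ⟶ X) (hP : WeilCoh.IsProd p q) (j : X ⟶ P) (hjp : j ≫ p = 𝟙 X) (hjq : j ≫ q = φ)
    (ι : ℕ → Type) [∀ r, Fintype (ι r)] [∀ r, DecidableEq (ι r)]
    (e : (r : ℕ) → Module.Basis (ι r) K ↥(T.gr X (r : ℤ)))
    (f : (r : ℕ) → ι r → ↥(T.gr X (2 * (WeilCoh.dim X.obj.left : ℤ) - r)))
    (hef : ∀ r, r ≤ 2 * WeilCoh.dim X.obj.left → ∀ i l : ι r,
      T.tr X ((f r l : T.H X) * (e r i : T.H X)) = if i = l then 1 else 0) :
    T.cl P (WeilCoh.sm j (genericPoint ↥X.obj.left)) =
      ∑ r ∈ Finset.range (2 * WeilCoh.dim X.obj.left + 1), ∑ i : ι r,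
        T.pull p (T.pull φ (e r i : T.H X)) * T.pull q (f r i : T.H X) := by
  have hd := dim_prod T p q hP
  refine eq_of_pairing_prod T p q hP (i := 2 * (dim X.obj.left : ℤ))
    (codim_graph T j p q hP hjp) ?_ ?_
  · refine Submodule.sum_mem _ (fun r _ => Submodule.sum_mem _ (fun i _ => ?_))
    exact mul_mem T (by ring) (T.pull_mem p _ _ (T.pull_mem φ _ _ (e r i).2))
      (T.pull_mem q _ _ (f r i).2)
  · intro r s a b ha hb hrs
    have hrs' : r + s = 2 * (dim X.obj.left : ℤ) := by rw [hd] at hrs; push_cast at hrs; linarith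
    rw [tr_cl_section T j p hjp _ (mul_mem T hrs' (T.pull_mem p _ _ ha) (T.pull_mem q _ _ hb)),
      map_mul, pull_section T j p hjp, pull_pull T j q φ hjq]
    rw [Finset.sum_mul, map_sum]
    by_cases hs0 : s < 0 ∨ 2 * (dim X.obj.left : ℤ) < s
    · have hb0 : b = 0 := by
        have := T.vanish X s hs0
        rw [this] at hb
        exact (Submodule.mem_bot K).mp hb
      rw [hb0]
      simp
    · push Not at hs0
      obtain ⟨n, hn⟩ := Int.eq_ofNat_of_zero_le hs0.1
      have hn' : s = (n : ℤ) := hn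
      subst hn'
      have hn2 : n ≤ 2 * dim X.obj.left := by have := hs0.2; omega
      rw [Finset.sum_eq_single n]
      · -- main term
        rw [Finset.sum_mul, map_sum]
        have hterm : ∀ i : ι n, T.tr P (T.pull p (T.pull φ (e n i : T.H X)) * T.pull q (f n i : T.H X) *
            (T.pull p a * T.pull q b)) =
            (-1 : K) ^ ((2 * (dim X.obj.left : ℤ) - n).natAbs * r.natAbs) *
              (T.tr X (T.pull φ (e n i : T.H X) * a) * T.tr X ((f n i : T.H X) * b)) := by
          intro i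
          have h1 : T.pull p (T.pull φ (e n i : T.H X)) * T.pull q (f n i : T.H X) *
            (T.pull p a * T.pull q b) =
              T.pull p (T.pull φ (e n i : T.H X)) * (T.pull q (f n i : T.H X) *
            T.pull p a) * T.pull q b := by noncomm_ring
          rw [h1, T.gradedComm P _ _ _ _ (T.pull_mem q _ _ (f n i).2) (T.pull_mem p _ _ ha)]
          rw [mul_smul_comm, smul_mul_assoc, map_smul, smul_eq_mul]
          congr 1
          rw [← tr_prod' T p q hP, map_mul (T.pull p), map_mul (T.pull q)]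
          congr 1
          noncomm_ring
        rw [Finset.sum_congr rfl (fun i _ => hterm i), ← Finset.mul_sum]
        have h2 : ∑ i : ι n, (T.tr X (T.pull φ (e n i : T.H X) * a) * T.tr X ((f n i : T.H X) * b)) =
            T.tr X (T.pull φ b * a) := by
          have h3 : b = ∑ i, T.tr X ((f n i : T.H X) * b) • (e n i : T.H X) := by
            have := congrArg (fun x : ↥(T.gr X n) => (x : T.H X)) ((e n).sum_repr ⟨b, hb⟩)
            have h4 : ∀ l, (e n).repr ⟨b, hb⟩ l = T.tr X ((f n l : T.H X) * b) := fun l =>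
              expand T X (e n) (f n) (hef n hn2) ⟨b, hb⟩ l
            simp only [h4] at this
            simpa using this.symm
          conv_rhs => rw [h3]
          rw [map_sum, Finset.sum_mul, map_sum]
          refine Finset.sum_congr rfl (fun i _ => ?_)
          rw [map_smul, smul_mul_assoc, map_smul, smul_eq_mul, mul_comm]
        rw [h2, T.gradedComm X _ _ _ _ (T.pull_mem φ _ _ hb) ha, map_smul, smul_eq_mul, ← mul_assoc,
          ← pow_add]
        have hr : r.natAbs = 2 * dim X.obj.left - n := by omega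
        have hr2 : (2 * (dim X.obj.left : ℤ) - n).natAbs = 2 * dim X.obj.left - n := by omega
        have hnn : ((n : ℕ) : ℤ).natAbs = n := by omega
        rw [hr, hr2, hnn]
        have h5 : (2 * dim X.obj.left - n) * (2 * dim X.obj.left - n) + n * (2 * dim X.obj.left - n)
            = 2 * (dim X.obj.left * (2 * dim X.obj.left - n)) := by
          rw [← add_mul, Nat.sub_add_cancel hn2]; ring
        rw [h5, pow_mul]
        simp
      · intro r' _ hr'
        rw [Finset.sum_mul, map_sum]
        apply Finset.sum_eq_zero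
        intro i _
        have h1 : T.pull p (T.pull φ (e r' i : T.H X)) * T.pull q (f r' i : T.H X) *
            (T.pull p a * T.pull q b) =
              T.pull p (T.pull φ (e r' i : T.H X)) * (T.pull q (f r' i : T.H X) *
            T.pull p a) * T.pull q b := by noncomm_ring
        rw [h1, T.gradedComm P _ _ _ _ (T.pull_mem q _ _ (f r' i).2) (T.pull_mem p _ _ ha)]
        rw [mul_smul_comm, smul_mul_assoc, map_smul]
        have h2 : T.pull p (T.pull φ (e r' i : T.H X)) * (T.pull p a * T.pull q (f r' i : T.H X)) *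
            T.pull q b = T.pull p (T.pull φ (e r' i : T.H X) * a) * T.pull q ((f r' i : T.H X) * b) := by
          rw [map_mul, map_mul]; noncomm_ring
        rw [h2, tr_prod' T p q hP]
        have h3 : T.tr X ((f r' i : T.H X) * b) = 0 := by
          refine T.tr_vanish X _ _ (mul_mem T rfl (f r' i).2 hb) ?_
          intro h4
          apply hr'
          have : (r' : ℤ) = n := by linarith
          exact_mod_cast this
        rw [h3, mul_zero, smul_zero]
      · intro hnot
        exfalso
        apply hnot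
        rw [Finset.mem_range]
        omega

theorem exists_dual (X : WeilCoh.Var k) (r : ℕ) {ι : Type} [Fintype ι] [DecidableEq ι]
    (e : Module.Basis ι K ↥(T.gr X (r : ℤ))) :
    ∃ f : ι → ↥(T.gr X (2 * (WeilCoh.dim X.obj.left : ℤ) - r)),
      ∀ i l : ι, T.tr X ((f l : T.H X) * (e i : T.H X)) = if i = l then 1 else 0 := by
  have hp := T.duality X (2 * (WeilCoh.dim X.obj.left : ℤ) - r) r (by ring)
  refine ⟨fun l => (pairing K (T.gr X (2 * (WeilCoh.dim X.obj.left : ℤ) - r)) (T.gr X (r : ℤ))
    (T.tr X)).toPerfPair.symm (e.coord l), fun i l => ?_⟩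
  have h := (pairing K (T.gr X (2 * (WeilCoh.dim X.obj.left : ℤ) - r)) (T.gr X (r : ℤ))
    (T.tr X)).apply_symm_toPerfPair_self (e.coord l)
  have h2 := congrArg (fun φ => φ (e i)) h
  have h3 : T.tr X (((pairing K (T.gr X (2 * (WeilCoh.dim X.obj.left : ℤ) - r)) (T.gr X (r : ℤ))
    (T.tr X)).toPerfPair.symm (e.coord l) : T.H X) * (e i : T.H X)) = e.coord l (e i) := h2
  rw [h3, Module.Basis.coord_apply, Module.Basis.repr_self, Finsupp.single_apply]

theorem trace_formula
    (X P : WeilCoh.Var k) [IrreducibleSpace ↥X.obj.left] (φ : X ⟶ X)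
    (p q : P ⟶ X) (hP : WeilCoh.IsProd p q) (j d : X ⟶ P)
    (hjp : j ≫ p = 𝟙 X) (hjq : j ≫ q = φ) (hdp : d ≫ p = 𝟙 X) (hdq : d ≫ q = 𝟙 X) :
    T.tr P (T.cl P (WeilCoh.sm j (genericPoint ↥X.obj.left)) * T.cl P (WeilCoh.sm d (genericPoint ↥X.obj.left))) =
      ∑ i ∈ Finset.range (2 * WeilCoh.dim X.obj.left + 1),
        (-1 : K) ^ i * LinearMap.trace K ↥(T.gr X (i : ℤ)) (T.pullDeg φ (i : ℤ)) := by
  let ι : ℕ → Type := fun r => Fin (Module.finrank K (T.gr X (r : ℤ)))
  let e : (r : ℕ) → Module.Basis (ι r) K ↥(T.gr X (r : ℤ)) := fun r => Module.finBasis K _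
  choose f hf using fun r : ℕ => exists_dual T X r (e r)
  rw [cl_graph_eq T X P φ p q hP j hjp hjq ι e f (fun r _ => hf r)]
  rw [Finset.sum_mul, map_sum]
  refine Finset.sum_congr rfl (fun r hr => ?_)
  have hr' : r ≤ 2 * dim X.obj.left := by rw [Finset.mem_range] at hr; omega
  rw [Finset.sum_mul, map_sum]
  rw [LinearMap.trace_eq_matrix_trace K (e r), Matrix.trace, Finset.mul_sum]
  refine Finset.sum_congr rfl (fun i _ => ?_)
  have hdmem := codim_graph T d p q hP hdp
  have hc : T.pull p (T.pull φ (e r i : T.H X)) * T.pull q (f r i : T.H X) ∈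
      T.gr P (2 * (dim X.obj.left : ℤ)) :=
    mul_mem T (by ring) (T.pull_mem p _ _ (T.pull_mem φ _ _ (e r i).2)) (T.pull_mem q _ _ (f r i).2)
  rw [← comm_even T hdmem hc (even_two_mul _), tr_cl_section T d p hdp _ hc, map_mul,
    pull_section T d p hdp, pull_section T d q hdq]
  rw [T.gradedComm X _ _ _ _ (T.pull_mem φ _ _ (e r i).2) (f r i).2, map_smul, smul_eq_mul]
  have h1 : T.tr X ((f r i : T.H X) * T.pull φ (e r i : T.H X)) =
      (LinearMap.toMatrix (e r) (e r) (T.pullDeg φ (r : ℤ))).diag i := by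
    rw [Matrix.diag_apply, LinearMap.toMatrix_apply]
    rw [expand T X (e r) (f r) (hf r) _ i]
    rfl
  rw [h1]
  congr 1
  have hr2 : (2 * (dim X.obj.left : ℤ) - r).natAbs = 2 * dim X.obj.left - r := by omega
  have hnn : ((r : ℕ) : ℤ).natAbs = r := by omega
  rw [hr2, hnn]
  have h3 : (-1 : K) ^ (r * (2 * dim X.obj.left - r)) * (-1 : K) ^ (r * r) = 1 := by
    rw [← pow_add, ← mul_add, Nat.sub_add_cancel hr']
    rw [show r * (2 * dim X.obj.left) = 2 * (r * dim X.obj.left) by ring, pow_mul]
    simp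
  have h4 : (-1 : K) ^ (r * r) = (-1) ^ r := by
    rcases Nat.even_or_odd r with h | h
    · rw [h.neg_one_pow, (h.mul_right r).neg_one_pow]
    · rw [h.neg_one_pow, (h.mul h).neg_one_pow]
  rw [h4] at h3
  have h5 : (-1 : K) ^ r * (-1 : K) ^ r = 1 := by rw [← pow_add, ← two_mul, pow_mul]; simp
  calc (-1 : K) ^ (r * (2 * dim X.obj.left - r))
      = (-1 : K) ^ (r * (2 * dim X.obj.left - r)) * ((-1 : K) ^ r * (-1 : K) ^ r) := by rw [h5, mul_one]
    _ = ((-1 : K) ^ (r * (2 * dim X.obj.left - r)) * (-1 : K) ^ r) * (-1 : K) ^ r := by ring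
    _ = (-1) ^ r := by rw [h3, one_mul]

end graph

end Groth.Agent.H23Weil
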