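import Groth.Prelude.Def_QuadGrp
import Mathlib.Tactic
import Mathlib.LinearAlgebra.Determinant
import Mathlib.LinearAlgebra.Matrix.BilinearForm
import Mathlib.Algebra.MvPolynomial.CommRing
import Mathlib.Data.ZMod.Basic
import Mathlib.Algebra.CharP.Two

set_option autoImplicit false
universe u v

namespace H25Half

open QuadGrp

/-- skew lift of the universal polar matrix -/
noncomputable def skew (n : ℕ) : Matrix (Fin n) (Fin n) (MvPolynomial (Sym2 (Fin n)) ℤ) :=
  Matrix.of fun i j => if i = j then 0 else if i < j then MvPolynomial.X (Sym2.mk i j) else - MvPolynomial.X (Sym2.mk i j)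

theorem skew_transpose (n : ℕ) : (skew n).transpose = - skew n := by
  ext1 i j
  simp only [Matrix.transpose_apply, Matrix.neg_apply, skew, Matrix.of_apply]
  rcases lt_trichotomy i j with h | h | h
  · rw [if_neg (ne_of_gt h), if_neg (not_lt_of_gt h), if_neg (ne_of_lt h), if_pos h, Sym2.eq_swap]
  · subst h; simp
  · rw [if_neg (ne_of_lt h), if_pos h, if_neg (ne_of_gt h), if_neg (not_lt_of_gt h), neg_neg, Sym2.eq_swap]

theorem det_skew {n : ℕ} (hn : Odd n) : (skew n).det = 0 := by
  have h : (skew n).det = - (skew n).det := by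
    conv_lhs => rw [← Matrix.det_transpose, skew_transpose, Matrix.det_neg, Fintype.card_fin, hn.neg_one_pow, neg_one_mul]
  have h2 : (2 : MvPolynomial (Sym2 (Fin n)) ℤ) * (skew n).det = 0 := by
    rw [two_mul]
    nth_rewrite 2 [h]
    exact add_neg_cancel _
  rcases mul_eq_zero.mp h2 with h3 | h3
  · exact absurd h3 two_ne_zero
  · exact h3

theorem map_discUniv {n : ℕ} (hn : Odd n) :
    MvPolynomial.map (Int.castRingHom (ZMod 2)) (discUniv n) = 0 := by
  have h1 : MvPolynomial.map (Int.castRingHom (ZMod 2)) (discUniv n) =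
      MvPolynomial.map (Int.castRingHom (ZMod 2)) (skew n).det := by
    unfold discUniv
    rw [RingHom.map_det, RingHom.map_det]
    congr 1
    ext1 i j
    simp only [RingHom.mapMatrix_apply, Matrix.map_apply, univPolarMat, skew, Matrix.of_apply]
    have h2 : (2 : MvPolynomial (Sym2 (Fin n)) (ZMod 2)) = 0 := by
      have : (2 : MvPolynomial (Sym2 (Fin n)) (ZMod 2)) = MvPolynomial.C (2 : ZMod 2) :=
        (map_ofNat MvPolynomial.C 2).symm
      rw [this]
      have h0 : (2 : ZMod 2) = 0 := rfl
      rw [h0, map_zero]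
    have hneg : ∀ x : MvPolynomial (Sym2 (Fin n)) (ZMod 2), - x = x := by
      intro x
      rw [neg_eq_iff_add_eq_zero, ← two_mul, h2, zero_mul]
    by_cases h : i = j
    · subst h
      rw [if_pos rfl, if_pos rfl, map_mul, map_ofNat, h2, zero_mul, map_zero]
    · rw [if_neg h, if_neg h]
      by_cases h' : i < j
      · rw [if_pos h']
      · rw [if_neg h', map_neg, hneg]
  rw [h1, det_skew hn, map_zero]

theorem two_mul_half {n : ℕ} (hn : Odd n) : (2 : MvPolynomial (Sym2 (Fin n)) ℤ) * halfDiscUniv n = discUniv n := by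
  ext s
  have h2 : (2 : MvPolynomial (Sym2 (Fin n)) ℤ) = MvPolynomial.C (2 : ℤ) := by simp
  rw [h2, MvPolynomial.coeff_C_mul, coeff_halfDiscUniv]
  apply Int.mul_ediv_cancel'
  have h := congrArg (MvPolynomial.coeff s) (map_discUniv hn)
  rw [MvPolynomial.coeff_map, MvPolynomial.coeff_zero] at h
  exact (ZMod.intCast_zmod_eq_zero_iff_dvd _ 2).1 h

variable {R : Type u} [CommRing R] {n : ℕ}

/-- coefficients of the quadratic form `x ↦ xᵀ N x` -/
def cf (N : Matrix (Fin n) (Fin n) R) : Sym2 (Fin n) → R :=
  Sym2.lift ⟨fun i j => if i = j then N i i else N i j + N j i, fun i j => by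
    by_cases h : i = j
    · subst h; rfl
    · dsimp only
      rw [if_neg h, if_neg (Ne.symm h), add_comm]⟩

theorem cf_mk (N : Matrix (Fin n) (Fin n) R) (i j : Fin n) :
    cf N (Sym2.mk i j) = if i = j then N i i else N i j + N j i := rfl

noncomputable def H (a : Sym2 (Fin n) → R) : R := MvPolynomial.eval₂ (Int.castRingHom R) a (halfDiscUniv n)

theorem two_H (hn : Odd n) (N : Matrix (Fin n) (Fin n) R) : 2 * H (cf N) = (N + N.transpose).det := by
  have h := congrArg (MvPolynomial.eval₂Hom (Int.castRingHom R) (cf N)) (two_mul_half hn)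
  rw [map_mul, map_ofNat] at h
  unfold discUniv at h
  rw [RingHom.map_det] at h
  have e : MvPolynomial.eval₂Hom (Int.castRingHom R) (cf N) (halfDiscUniv n) = H (cf N) := rfl
  rw [e] at h
  rw [h]
  congr 1
  ext1 i j
  simp only [RingHom.mapMatrix_apply, Matrix.map_apply, univPolarMat, Matrix.of_apply, Matrix.add_apply,
    Matrix.transpose_apply]
  by_cases hij : i = j
  · subst hij
    rw [if_pos rfl, map_mul, map_ofNat, MvPolynomial.coe_eval₂Hom, MvPolynomial.eval₂_X, cf_mk, if_pos rfl, two_mul]
  · rw [if_neg hij, MvPolynomial.coe_eval₂Hom, MvPolynomial.eval₂_X, cf_mk, if_neg hij]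

theorem H_map {S : Type v} [CommRing S] (f : R →+* S) (N : Matrix (Fin n) (Fin n) R) :
    f (H (cf N)) = H (cf (N.map f)) := by
  unfold H
  rw [MvPolynomial.hom_eval₂]
  have h1 : f.comp (Int.castRingHom R) = Int.castRingHom S := RingHom.ext_int _ _
  have h2 : (fun s => f (cf N s)) = cf (N.map f) := by
    funext s
    induction s using Sym2.ind with
    | _ i j =>
      rw [cf_mk, cf_mk]
      by_cases h : i = j
      · rw [if_pos h, if_pos h, Matrix.map_apply]
      · rw [if_neg h, if_neg h, Matrix.map_apply, Matrix.map_apply, map_add]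
  rw [h1, h2]

theorem H_conj_aux (hn : Odd n) (h2 : ∀ x y : R, 2 * x = 2 * y → x = y) (N G : Matrix (Fin n) (Fin n) R) :
    H (cf (G.transpose * N * G)) = G.det ^ 2 * H (cf N) := by
  apply h2
  rw [two_H hn, mul_left_comm, two_H hn]
  have : G.transpose * N * G + (G.transpose * N * G).transpose = G.transpose * (N + N.transpose) * G := by
    rw [Matrix.transpose_mul, Matrix.transpose_mul, Matrix.transpose_transpose, mul_add, add_mul, Matrix.mul_assoc,
      Matrix.mul_assoc]
  rw [this, Matrix.det_mul, Matrix.det_mul, Matrix.det_transpose]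
  ring

theorem H_conj (hn : Odd n) (N G : Matrix (Fin n) (Fin n) R) :
    H (cf (G.transpose * N * G)) = G.det ^ 2 * H (cf N) := by
  let T := MvPolynomial R ℤ
  let f : T →+* R := MvPolynomial.eval₂Hom (Int.castRingHom R) id
  let N' : Matrix (Fin n) (Fin n) T := N.map MvPolynomial.X
  let G' : Matrix (Fin n) (Fin n) T := G.map MvPolynomial.X
  have hN : N'.map f = N := by
    ext1 i j
    exact MvPolynomial.eval₂Hom_X' _ _ _
  have hG : G'.map f = G := by
    ext1 i j
    exact MvPolynomial.eval₂Hom_X' _ _ _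
  have h := congrArg f (H_conj_aux (R := T) hn (fun x y hxy => mul_left_cancel₀ two_ne_zero hxy) N' G')
  rw [H_map, map_mul, map_pow, H_map, hN, RingHom.map_det, RingHom.mapMatrix_apply, hG] at h
  rw [← h]
  congr 2
  have : (G'.transpose * N' * G').map f = (G'.transpose.map f) * (N'.map f) * (G'.map f) := by
    rw [Matrix.map_mul, Matrix.map_mul]
  rw [this, hN, hG]
  congr 2
  exact (congrArg Matrix.transpose hG).symm

end H25Half

namespace H25Half

open QuadGrp

variable {R : Type u} [CommRing R] {n : ℕ} {M : Type v} [AddCommGroup M] [Module R M]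

theorem coeffs_eq_cf (b : Module.Basis (Fin n) R M) (B : LinearMap.BilinForm R M) :
    coeffs b (LinearEquiv.refl R R) (LinearMap.BilinMap.toQuadraticMap B) = cf (LinearMap.BilinForm.toMatrix b B) := by
  funext s
  induction s using Sym2.ind with
  | _ i j =>
    rw [coeffs_mk, cf_mk, LinearMap.BilinForm.toMatrix_apply, LinearMap.BilinForm.toMatrix_apply, LinearMap.BilinForm.toMatrix_apply]
    by_cases h : i = j
    · subst h
      rw [if_pos rfl, if_pos rfl]
      rfl
    · rw [if_neg h, if_neg h, LinearMap.BilinMap.polar_toQuadraticMap]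
      rfl

theorem halfDisc_comp (hn : Odd n) (b : Module.Basis (Fin n) R M) (Q : QuadraticForm R M) (g : M →ₗ[R] M) :
    halfDisc b (LinearEquiv.refl R R) (Q.comp g) =
      LinearMap.det g ^ 2 * halfDisc b (LinearEquiv.refl R R) Q := by
  have : Module.Free R M := Module.Free.of_basis b
  have hQ : LinearMap.BilinMap.toQuadraticMap (bilinLift Q) = Q := bilinLift_spec Q
  have hB : LinearMap.BilinMap.toQuadraticMap (LinearMap.BilinForm.comp (bilinLift Q) g g) = Q.comp g := by
    ext x
    conv_rhs => rw [← hQ]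
    rfl
  have e1 : halfDisc b (LinearEquiv.refl R R) (Q.comp g) =
      H (cf (LinearMap.BilinForm.toMatrix b (LinearMap.BilinForm.comp (bilinLift Q) g g))) := by
    unfold halfDisc H
    rw [← coeffs_eq_cf, hB]
  have e2 : halfDisc b (LinearEquiv.refl R R) Q = H (cf (LinearMap.BilinForm.toMatrix b (bilinLift Q))) := by
    unfold halfDisc H
    rw [← coeffs_eq_cf, hQ]
  rw [e1, e2, LinearMap.BilinForm.toMatrix_comp b b, H_conj hn, LinearMap.det_toMatrix]

end H25Half
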