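import Groth.Prelude.Def_Isoc
import Mathlib.Analysis.Subadditive
import Mathlib.NumberTheory.DiophantineApproximation.Basic
import Mathlib.RingTheory.Filtration
import Mathlib.RingTheory.Length
import Mathlib.RingTheory.Nakayama

set_option autoImplicit false
set_option linter.unusedSectionVars false

noncomputable section

open scoped Pointwise Isocrystal
open Filter Topology

universe u v w

namespace Groth.Agent.H25Isoc

variable {p : ℕ} [Fact p.Prime] {k : Type u} [Field k] [CharP k p] [PerfectRing k p]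

/-- `τ` preserves `W` -/
def Nice (τ : K(p, k) →+* K(p, k)) : Prop :=
  ∃ σ : WittVector p k ≃+* WittVector p k, ∀ w, τ (algebraMap (WittVector p k) K(p, k) w) =
    algebraMap (WittVector p k) K(p, k) (σ w)

theorem nice_frob (a : ℤ) : Nice (Isoc.frob p k a) :=
  ⟨WittVector.frobeniusEquiv p k ^ a, Isoc.frob_algebraMap p k a⟩

theorem nice_id : Nice (RingHom.id K(p, k)) := ⟨RingEquiv.refl _, fun _ => rfl⟩

theorem Nice.comp {τ τ' : K(p, k) →+* K(p, k)} (h : Nice τ) (h' : Nice τ') : Nice (τ * τ') := by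
  obtain ⟨σ, hσ⟩ := h
  obtain ⟨σ', hσ'⟩ := h'
  refine ⟨σ'.trans σ, fun w => ?_⟩
  rw [RingHom.coe_mul, Function.comp_apply, hσ', hσ]
  rfl

theorem Nice.pow {τ : K(p, k) →+* K(p, k)} (h : Nice τ) (n : ℕ) : Nice (τ ^ n) := by
  induction n with
  | zero => rw [pow_zero]; exact nice_id
  | succ n ih => rw [pow_succ]; exact ih.comp h

theorem map_p_zpow (τ : K(p, k) →+* K(p, k)) (r : ℤ) : τ ((p : K(p, k)) ^ r) = (p : K(p, k)) ^ r := by
  rw [map_zpow₀, map_natCast]

theorem p_ne_zero : (p : K(p, k)) ≠ 0 := by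
  have : (p : WittVector p k) ≠ 0 := (WittVector.irreducible p).ne_zero
  have h2 : algebraMap (WittVector p k) K(p, k) (p : WittVector p k) ≠ 0 := by
    intro h0
    apply this
    exact (IsFractionRing.injective (WittVector p k) K(p, k)) (by rw [h0, map_zero])
  rwa [map_natCast] at h2

section basic

variable {N : Type v} [AddCommGroup N] [Module (WittVector p k) N] [Module K(p, k) N]
  [IsScalarTower (WittVector p k) K(p, k) N]
variable {τ : K(p, k) →+* K(p, k)}

theorem map_w_smul {σ : WittVector p k ≃+* WittVector p k}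
    (hσ : ∀ w, τ (algebraMap (WittVector p k) K(p, k) w) = algebraMap (WittVector p k) K(p, k) (σ w))
    (F : N →ₛₗ[τ] N) (w : WittVector p k) (x : N) : F (w • x) = σ w • F x := by
  rw [← algebraMap_smul K(p, k) w x, map_smulₛₗ, hσ, algebraMap_smul]

theorem map_p_smul (F : N →ₛₗ[τ] N) (r : ℤ) (x : N) :
    F ((p : K(p, k)) ^ r • x) = (p : K(p, k)) ^ r • F x := by
  rw [map_smulₛₗ, map_p_zpow]

theorem iterate_p_smul (F : N →ₛₗ[τ] N) (s : ℕ) (r : ℤ) (x : N) :
    F^[s] ((p : K(p, k)) ^ r • x) = (p : K(p, k)) ^ r • F^[s] x := by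
  rw [← Isoc.iter_apply, map_p_smul]; rfl

theorem mem_latImg (hτ : Nice τ) (F : N →ₛₗ[τ] N) (s : ℕ) (M : Submodule (WittVector p k) N) (x : N) :
    x ∈ Isoc.latImg F s M ↔ ∃ y ∈ M, F^[s] y = x := by
  obtain ⟨σ, hσ⟩ := hτ.pow s
  let S : Submodule (WittVector p k) N :=
    { carrier := F^[s] '' (M : Set N)
      add_mem' := by
        rintro _ _ ⟨a, ha, rfl⟩ ⟨b, hb, rfl⟩
        exact ⟨a + b, M.add_mem ha hb, by rw [← Isoc.iter_apply, map_add]; rfl⟩
      zero_mem' := ⟨0, M.zero_mem, by rw [← Isoc.iter_apply, map_zero]⟩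
      smul_mem' := by
        rintro w _ ⟨a, ha, rfl⟩
        refine ⟨σ.symm w • a, M.smul_mem _ ha, ?_⟩
        rw [← Isoc.iter_apply, map_w_smul hσ, RingEquiv.apply_symm_apply]; rfl }
  have hS : Isoc.latImg F s M = S := Submodule.span_eq S
  rw [hS]
  rfl

theorem mem_pPow (r : ℤ) (M : Submodule (WittVector p k) N) (x : N) :
    x ∈ Isoc.pPow r M ↔ (p : K(p, k)) ^ (-r) • x ∈ M := by
  rw [Isoc.pPow, Submodule.mem_smul_pointwise_iff_exists]
  constructor
  · rintro ⟨b, hb, rfl⟩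
    rw [smul_smul, ← zpow_add₀ p_ne_zero]
    simpa using hb
  · intro h
    refine ⟨_, h, ?_⟩
    rw [smul_smul, ← zpow_add₀ p_ne_zero]
    simp

theorem smul_mem_pPow {r : ℤ} {M : Submodule (WittVector p k) N} {x : N} (hx : x ∈ M) :
    (p : K(p, k)) ^ r • x ∈ Isoc.pPow r M := by
  rw [mem_pPow, smul_smul, ← zpow_add₀ p_ne_zero]
  simpa using hx

theorem smul_mem_pPow' {r s : ℤ} {M : Submodule (WittVector p k) N} {x : N} (hx : x ∈ Isoc.pPow s M) :
    (p : K(p, k)) ^ r • x ∈ Isoc.pPow (r + s) M := by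
  rw [mem_pPow] at hx ⊢
  rw [smul_smul, ← zpow_add₀ p_ne_zero]
  convert hx using 3
  ring

theorem pPow_zero (M : Submodule (WittVector p k) N) : Isoc.pPow 0 M = M := by
  ext x; rw [mem_pPow]; simp

theorem pPow_pPow (r s : ℤ) (M : Submodule (WittVector p k) N) :
    Isoc.pPow r (Isoc.pPow s M) = Isoc.pPow (r + s) M := by
  ext x
  rw [mem_pPow, mem_pPow, mem_pPow, smul_smul, ← zpow_add₀ p_ne_zero]
  rw [show -s + -r = -(r + s) by ring]

theorem pPow_mono (r : ℤ) {M M' : Submodule (WittVector p k) N} (h : M ≤ M') :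
    Isoc.pPow r M ≤ Isoc.pPow r M' := by
  intro x hx
  rw [mem_pPow] at hx ⊢
  exact h hx

theorem pPow_le_iff (r : ℤ) {M M' : Submodule (WittVector p k) N} :
    Isoc.pPow r M ≤ M' ↔ M ≤ Isoc.pPow (-r) M' := by
  constructor
  · intro h
    have := pPow_mono (-r) h
    rwa [pPow_pPow, neg_add_cancel, pPow_zero] at this
  · intro h
    have := pPow_mono r h
    rwa [pPow_pPow, add_neg_cancel, pPow_zero] at this

theorem p_smul_mem {M : Submodule (WittVector p k) N} {x : N} (hx : x ∈ M) {n : ℤ} (hn : 0 ≤ n) :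
    (p : K(p, k)) ^ n • x ∈ M := by
  obtain ⟨m, rfl⟩ := Int.eq_ofNat_of_zero_le hn
  have : (p : K(p, k)) ^ (m : ℤ) = algebraMap (WittVector p k) K(p, k) ((p : WittVector p k) ^ m) := by
    rw [map_pow, map_natCast, zpow_natCast]
  rw [this, algebraMap_smul]
  exact M.smul_mem _ hx

theorem pPow_anti {r s : ℤ} (h : r ≤ s) (M : Submodule (WittVector p k) N) :
    Isoc.pPow s M ≤ Isoc.pPow r M := by
  intro x hx
  rw [mem_pPow] at hx ⊢
  have := p_smul_mem hx (n := s - r) (by omega)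
  rw [smul_smul, ← zpow_add₀ p_ne_zero] at this
  rwa [show s - r + -s = -r by ring] at this

theorem latImg_mono (F : N →ₛₗ[τ] N) (s : ℕ) {M M' : Submodule (WittVector p k) N} (h : M ≤ M') :
    Isoc.latImg F s M ≤ Isoc.latImg F s M' :=
  Submodule.span_mono (Set.image_mono h)

theorem latImg_pPow (hτ : Nice τ) (F : N →ₛₗ[τ] N) (s : ℕ) (r : ℤ) (M : Submodule (WittVector p k) N) :
    Isoc.latImg F s (Isoc.pPow r M) = Isoc.pPow r (Isoc.latImg F s M) := by
  ext x
  rw [mem_latImg hτ, mem_pPow, mem_latImg hτ]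
  constructor
  · rintro ⟨y, hy, rfl⟩
    rw [mem_pPow] at hy
    exact ⟨_, hy, by rw [iterate_p_smul]⟩
  · rintro ⟨y, hy, h⟩
    refine ⟨(p : K(p, k)) ^ r • y, smul_mem_pPow hy, ?_⟩
    rw [iterate_p_smul, h, smul_smul, ← zpow_add₀ p_ne_zero]
    simp

theorem latImg_latImg (hτ : Nice τ) (F : N →ₛₗ[τ] N) (s t : ℕ) (M : Submodule (WittVector p k) N) :
    Isoc.latImg F s (Isoc.latImg F t M) = Isoc.latImg F (s + t) M := by
  ext x
  rw [mem_latImg hτ, mem_latImg hτ]
  constructor
  · rintro ⟨y, hy, rfl⟩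
    rw [mem_latImg hτ] at hy
    obtain ⟨z, hz, rfl⟩ := hy
    exact ⟨z, hz, by rw [Function.iterate_add_apply]⟩
  · rintro ⟨z, hz, rfl⟩
    exact ⟨F^[t] z, (mem_latImg hτ F t M _).2 ⟨z, hz, rfl⟩, by rw [Function.iterate_add_apply]⟩

theorem latImg_zero (hτ : Nice τ) (F : N →ₛₗ[τ] N) (M : Submodule (WittVector p k) N) :
    Isoc.latImg F 0 M = M := by
  ext x
  rw [mem_latImg hτ]
  simp

theorem exists_p_mul_mem (c : K(p, k)) : ∃ e : ℕ, ∃ w : WittVector p k,
    (p : K(p, k)) ^ e * c = algebraMap (WittVector p k) K(p, k) w := by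
  obtain ⟨a, b, hb, rfl⟩ := IsFractionRing.div_surjective (A := WittVector p k) c
  have hb0 : b ≠ 0 := nonZeroDivisors.ne_zero hb
  obtain ⟨e, u, hu⟩ := WittVector.exists_eq_pow_p_mul' b hb0
  refine ⟨e, (↑u⁻¹ : WittVector p k) * a, ?_⟩
  have h2 : algebraMap (WittVector p k) K(p, k) (u : WittVector p k) ≠ 0 := by
    intro h0
    apply u.ne_zero
    exact (IsFractionRing.injective (WittVector p k) K(p, k)) (by rw [h0, map_zero])
  have hu' : algebraMap (WittVector p k) K(p, k) (↑u⁻¹ : WittVector p k) * algebraMap (WittVector p k) K(p, k) (u : WittVector p k) = 1 := by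
    rw [← map_mul, Units.inv_mul, map_one]
  rw [hu, map_mul, map_mul, map_pow, map_natCast]
  have hp := p_ne_zero (p := p) (k := k)
  rw [eq_inv_of_mul_eq_one_left hu']
  field_simp

theorem exists_p_smul_mem {M : Submodule (WittVector p k) N} (hM : Submodule.span K(p, k) (M : Set N) = ⊤) (x : N) :
    ∃ e : ℕ, (p : K(p, k)) ^ (e : ℤ) • x ∈ M := by
  have hx : x ∈ Submodule.span K(p, k) (M : Set N) := by rw [hM]; trivial
  induction hx using Submodule.span_induction with
  | mem y hy => exact ⟨0, by simpa using hy⟩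
  | zero => exact ⟨0, by simp⟩
  | add y z _ _ hy hz =>
    obtain ⟨e, he⟩ := hy
    obtain ⟨f, hf⟩ := hz
    refine ⟨e + f, ?_⟩
    rw [smul_add]
    refine M.add_mem ?_ ?_
    · have := p_smul_mem he (n := f) (by omega)
      rw [smul_smul, ← zpow_add₀ p_ne_zero] at this
      convert this using 3
      push_cast; ring
    · have := p_smul_mem hf (n := e) (by omega)
      rw [smul_smul, ← zpow_add₀ p_ne_zero] at this
      convert this using 3
      push_cast; ring
  | smul c y _ hy =>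
    obtain ⟨e, he⟩ := hy
    obtain ⟨f, w, hf⟩ := exists_p_mul_mem c
    refine ⟨f + e, ?_⟩
    have : (p : K(p, k)) ^ ((f + e : ℕ) : ℤ) • c • y = w • (p : K(p, k)) ^ (e : ℤ) • y := by
      rw [← algebraMap_smul K(p, k) w, ← hf, smul_smul, smul_smul]
      congr 1
      rw [zpow_natCast, zpow_natCast, pow_add]; ring
    rw [this]
    exact M.smul_mem _ he

theorem exists_le_pPow {M' M : Submodule (WittVector p k) N} (hM' : M'.FG)
    (hM : Submodule.span K(p, k) (M : Set N) = ⊤) : ∃ c : ℕ, M' ≤ Isoc.pPow (-(c : ℤ)) M := by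
  classical
  obtain ⟨S, rfl⟩ := hM'
  induction S using Finset.induction_on with
  | empty => exact ⟨0, by simp⟩
  | insert x S _ ih =>
    obtain ⟨c, hc⟩ := ih
    obtain ⟨e, he⟩ := exists_p_smul_mem hM x
    refine ⟨c + e, ?_⟩
    rw [Finset.coe_insert, Submodule.span_insert]
    refine sup_le ?_ (hc.trans (pPow_anti (by push_cast; omega) M))
    rw [Submodule.span_singleton_le_iff_mem]
    refine pPow_anti (r := -((c + e : ℕ) : ℤ)) (s := -(e : ℤ)) (by push_cast; omega) M ?_
    rw [mem_pPow, neg_neg]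
    exact he

/-- lattice predicate without class issues -/
theorem lat_fg {M : Submodule (WittVector p k) N} (h : M.IsLattice K(p, k)) : M.FG := h.fg
theorem lat_span {M : Submodule (WittVector p k) N} (h : M.IsLattice K(p, k)) :
    Submodule.span K(p, k) (M : Set N) = ⊤ := h.span_eq_top

theorem latImg_fg (hτ : Nice τ) (F : N →ₛₗ[τ] N) (s : ℕ) {M : Submodule (WittVector p k) N} (hM : M.FG) :
    (Isoc.latImg F s M).FG := by
  obtain ⟨σ, hσ⟩ := hτ.pow s
  obtain ⟨S, rfl⟩ := hM
  classical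
  refine ⟨S.image (F^[s]), ?_⟩
  apply le_antisymm
  · rw [Submodule.span_le]
    rintro x hx
    rw [Finset.coe_image] at hx
    obtain ⟨y, hy, rfl⟩ := hx
    exact Submodule.subset_span ⟨y, Submodule.subset_span hy, rfl⟩
  · intro x hx
    rw [mem_latImg hτ] at hx
    obtain ⟨y, hy, rfl⟩ := hx
    induction hy using Submodule.span_induction with
    | mem y hy =>
      apply Submodule.subset_span
      rw [Finset.coe_image]
      exact ⟨y, hy, rfl⟩
    | zero => rw [← Isoc.iter_apply, map_zero]; exact Submodule.zero_mem _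
    | add y z _ _ hy hz => rw [← Isoc.iter_apply, map_add]; exact Submodule.add_mem _ hy hz
    | smul w y _ hy =>
      rw [← Isoc.iter_apply, map_w_smul hσ]
      exact Submodule.smul_mem _ _ hy

theorem latImg_span (hτ : Nice τ) (F : N →ₛₗ[τ] N) (hF : Function.Surjective F) (s : ℕ)
    {M : Submodule (WittVector p k) N} (hM : Submodule.span K(p, k) (M : Set N) = ⊤) :
    Submodule.span K(p, k) (Isoc.latImg F s M : Set N) = ⊤ := by
  rw [eq_top_iff]
  intro x _
  obtain ⟨y, rfl⟩ := hF.iterate s x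
  obtain ⟨e, he⟩ := exists_p_smul_mem hM y
  have h1 : (p : K(p, k)) ^ (e : ℤ) • F^[s] y ∈ Isoc.latImg F s M := by
    rw [mem_latImg hτ]
    exact ⟨_, he, iterate_p_smul _ _ _ _⟩
  have h2 := Submodule.smul_mem _ ((p : K(p, k)) ^ (-(e : ℤ))) (Submodule.subset_span (R := K(p, k)) h1)
  rw [smul_smul, ← zpow_add₀ p_ne_zero] at h2
  simpa using h2

theorem latImg_lat (hτ : Nice τ) (F : N →ₛₗ[τ] N) (hF : Function.Surjective F) (s : ℕ)
    {M : Submodule (WittVector p k) N} (hM : M.IsLattice K(p, k)) : (Isoc.latImg F s M).IsLattice K(p, k) :=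
  ⟨latImg_fg hτ F s hM.fg, latImg_span hτ F hF s hM.span_eq_top⟩

theorem pPow_fg (r : ℤ) {M : Submodule (WittVector p k) N} (hM : M.FG) : (Isoc.pPow r M).FG := by
  obtain ⟨S, rfl⟩ := hM
  classical
  refine ⟨S.image (fun x => (p : K(p, k)) ^ r • x), ?_⟩
  rw [Isoc.pPow, Submodule.smul_span]
  congr 1
  rw [Finset.coe_image]
  rfl

theorem pPow_span (r : ℤ) {M : Submodule (WittVector p k) N} (hM : Submodule.span K(p, k) (M : Set N) = ⊤) :
    Submodule.span K(p, k) (Isoc.pPow r M : Set N) = ⊤ := by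
  rw [eq_top_iff]
  intro x _
  obtain ⟨e, he⟩ := exists_p_smul_mem hM x
  have h2 := Submodule.smul_mem _ ((p : K(p, k)) ^ (-(e : ℤ) - r)) (Submodule.subset_span (R := K(p, k))
    (smul_mem_pPow (r := r) he))
  rw [smul_smul, smul_smul, ← zpow_add₀ p_ne_zero, ← zpow_add₀ p_ne_zero] at h2
  simpa using h2

theorem pPow_lat (r : ℤ) {M : Submodule (WittVector p k) N} (hM : M.IsLattice K(p, k)) :
    (Isoc.pPow r M).IsLattice K(p, k) :=
  ⟨pPow_fg r hM.fg, pPow_span r hM.span_eq_top⟩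

theorem eq_bot_of_le_pPow {M : Submodule (WittVector p k) N} (hM : M.FG) {r : ℤ} (hr : 0 < r)
    (h : M ≤ Isoc.pPow r M) : M = ⊥ := by
  have h1 : M ≤ Isoc.pPow 1 M := h.trans (pPow_anti (by omega) M)
  apply Submodule.eq_bot_of_le_smul_of_le_jacobson_bot (Ideal.span {(p : WittVector p k)}) M hM
  · intro x hx
    have := h1 hx
    rw [Isoc.pPow, Submodule.mem_smul_pointwise_iff_exists] at this
    obtain ⟨b, hb, rfl⟩ := this
    have hh : (p : K(p, k)) ^ (1 : ℤ) • b = (p : WittVector p k) • b := by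
      rw [← algebraMap_smul K(p, k) (p : WittVector p k), map_natCast, zpow_one]
    rw [hh]
    exact Submodule.smul_mem_smul (Ideal.mem_span_singleton_self _) hb
  · rw [IsLocalRing.jacobson_eq_maximalIdeal ⊥ bot_ne_top]
    rw [Ideal.span_singleton_le_iff_mem]
    exact (IsLocalRing.mem_maximalIdeal _).2 (WittVector.irreducible p).not_isUnit

end basic

end Groth.Agent.H25Isoc
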