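import Groth.Agent.Lib.H25_Isoc9

set_option autoImplicit false
set_option linter.unusedSectionVars false

noncomputable section

open scoped Pointwise Isocrystal
open Filter Topology

universe u v w

namespace Groth.Agent.H25Isoc

variable {p : ℕ} [Fact p.Prime] {k : Type u} [Field k] [CharP k p] [PerfectRing k p]

section ten

variable {N : Type v} [AddCommGroup N] [Module (WittVector p k) N] [Module K(p, k) N]
  [IsScalarTower (WittVector p k) K(p, k) N]
variable {τ : K(p, k) →+* K(p, k)}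

theorem exists_p_smul_mem' {M : Submodule (WittVector p k) N} {x : N} (hx : x ∈ Submodule.span K(p, k) (M : Set N)) :
    ∃ e : ℕ, (p : K(p, k)) ^ (e : ℤ) • x ∈ M := by
  induction hx using Submodule.span_induction with
  | mem y hy => exact ⟨0, by simpa using hy⟩
  | zero => exact ⟨0, by simp⟩
  | add y z _ _ hy hz =>
    obtain ⟨e, he⟩ := hy
    obtain ⟨f, hf⟩ := hz
    refine ⟨e + f, ?_⟩
    rw [smul_add]
    refine M.add_mem ?_ ?_
    · have := p_smul_mem he (n := f) (by omega)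
      rw [smul_smul, ← zpow_add₀ p_ne_zero] at this
      convert this using 3
      push_cast; ring
    · have := p_smul_mem hf (n := e) (by omega)
      rw [smul_smul, ← zpow_add₀ p_ne_zero] at this
      convert this using 3
      push_cast; ring
  | smul c y _ hy =>
    obtain ⟨e, he⟩ := hy
    obtain ⟨f, w, hf⟩ := exists_p_mul_mem c
    refine ⟨f + e, ?_⟩
    have : (p : K(p, k)) ^ ((f + e : ℕ) : ℤ) • c • y = w • (p : K(p, k)) ^ (e : ℤ) • y := by
      rw [← algebraMap_smul K(p, k) w, ← hf, smul_smul, smul_smul]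
      congr 1
      rw [zpow_natCast, zpow_natCast, pow_add]; ring
    rw [this]
    exact M.smul_mem _ he

theorem exists_le_pPow' {M' M : Submodule (WittVector p k) N} (hM' : M'.FG)
    (hM : ∀ x ∈ M', x ∈ Submodule.span K(p, k) (M : Set N)) : ∃ c : ℕ, M' ≤ Isoc.pPow (-(c : ℤ)) M := by
  classical
  obtain ⟨S, rfl⟩ := hM'
  induction S using Finset.induction_on with
  | empty => exact ⟨0, by simp⟩
  | insert x S _ ih =>
    obtain ⟨c, hc⟩ := ih fun y hy => hM y (Submodule.span_mono (by simp) hy)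
    obtain ⟨e, he⟩ := exists_p_smul_mem' (hM x (Submodule.subset_span (by simp)))
    refine ⟨c + e, ?_⟩
    rw [Finset.coe_insert, Submodule.span_insert]
    refine sup_le ?_ (hc.trans (pPow_anti (by push_cast; omega) M))
    rw [Submodule.span_singleton_le_iff_mem]
    refine pPow_anti (r := -((c + e : ℕ) : ℤ)) (s := -(e : ℤ)) (by push_cast; omega) M ?_
    rw [mem_pPow, neg_neg]
    exact he

/-- two different slopes -/
theorem isoOn_eq_bot (hτ : Nice τ) (F : N →ₛₗ[τ] N) (hF : Function.Injective F) {μ₁ μ₂ : ℚ} (hne : μ₁ ≠ μ₂)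
    {P Q : Submodule K(p, k) N} (hPQ : P ≤ Q) (hP : IsoOn F P μ₁) (hQ : IsoOn F Q μ₂) : P = ⊥ := by
  obtain ⟨M₁, hM₁, hMP, r₁, s₁, hs₁, hrs₁, h1⟩ := hP
  obtain ⟨M₂, hM₂, hMQ, r₂, s₂, hs₂, hrs₂, h2⟩ := hQ
  have hs1 : (s₁ : ℚ) ≠ 0 := by positivity
  have hs2 : (s₂ : ℚ) ≠ 0 := by positivity
  have hne' : (s₂ : ℤ) * r₁ ≠ s₁ * r₂ := by
    intro heq
    apply hne
    rw [← hrs₁, ← hrs₂, div_eq_div_iff hs1 hs2]
    have : ((s₂ : ℤ) * r₁ : ℚ) = (s₁ * r₂ : ℚ) := by exact_mod_cast heq
    push_cast at this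
    linarith
  have h1' := latImg_mul_eq hτ h1 s₂
  have h2' := latImg_mul_eq hτ h2 s₁
  rw [mul_comm s₁ s₂] at h2'
  set S := s₂ * s₁ with hS
  set A := (s₂ : ℤ) * r₁ with hA
  set B := (s₁ : ℤ) * r₂ with hB
  obtain ⟨c, hc⟩ := exists_le_pPow' (M := M₂) hM₁ (fun x hx => by
    rw [hMQ]; exact hPQ (hMP ▸ Submodule.subset_span hx))
  suffices hz : ∀ x ∈ M₁, x = 0 by
    rw [← hMP, Submodule.span_eq_bot]
    exact hz
  intro x hx
  apply eq_zero_of_forall_mem_pPow hM₂
  intro n
  rcases lt_or_gt_of_ne hne' with hlt | hgt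
  · have h3 := latImg_mul_eq hτ h1' (n + c)
    have h4 := latImg_mul_eq hτ h2' (n + c)
    set m := n + c with hm
    have h5 : (p : K(p, k)) ^ ((m : ℤ) * A) • x ∈ Isoc.latImg F (m * S) M₁ := by
      rw [h3]; exact smul_mem_pPow hx
    rw [mem_latImg hτ] at h5
    obtain ⟨y, hy, hyx⟩ := h5
    have h6 : y ∈ Isoc.pPow (-(c : ℤ)) M₂ := hc hy
    have h7 : F^[m * S] y ∈ Isoc.pPow (-(c : ℤ)) (Isoc.latImg F (m * S) M₂) := by
      rw [← latImg_pPow hτ, mem_latImg hτ]; exact ⟨_, h6, rfl⟩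
    rw [h4, pPow_pPow, hyx] at h7
    have h8 := smul_mem_pPow' (r := -((m : ℤ) * A)) h7
    rw [smul_smul, ← zpow_add₀ p_ne_zero, neg_add_cancel, zpow_zero, one_smul] at h8
    refine pPow_anti ?_ M₂ h8
    have : (m : ℤ) * (B - A) ≥ m * 1 := by
      apply mul_le_mul_of_nonneg_left (by omega) (by omega)
    have h9 : (m : ℤ) = n + c := by rw [hm]; push_cast; ring
    nlinarith
  · have h3 := latImg_mul_eq hτ h1' (n + c)
    have h4 := latImg_mul_eq hτ h2' (n + c)
    set m := n + c with hm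
    have h5 : F^[m * S] x ∈ Isoc.pPow ((m : ℤ) * A) M₁ := by
      rw [← h3, mem_latImg hτ]; exact ⟨x, hx, rfl⟩
    have h7 : F^[m * S] x ∈ Isoc.pPow ((m : ℤ) * A + -(c : ℤ)) M₂ := by
      have := pPow_mono ((m : ℤ) * A) hc h5
      rwa [pPow_pPow] at this
    have h8 : Isoc.pPow ((m : ℤ) * A + -(c : ℤ)) M₂ = Isoc.pPow ((m : ℤ) * A + -(c : ℤ) - m * B) (Isoc.latImg F (m * S) M₂) := by
      rw [h4, pPow_pPow]; congr 1; ring
    rw [h8, ← latImg_pPow hτ, mem_latImg hτ] at h7
    obtain ⟨y, hy, hyx⟩ := h7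
    have h9 := hF.iterate _ hyx
    rw [← h9]
    refine pPow_anti ?_ M₂ hy
    have : (m : ℤ) * (A - B) ≥ m * 1 := by
      apply mul_le_mul_of_nonneg_left (by omega) (by omega)
    have h9 : (m : ℤ) = n + c := by rw [hm]; push_cast; ring
    nlinarith

end ten

section map

variable {N₁ : Type v} [AddCommGroup N₁] [Module (WittVector p k) N₁] [Module K(p, k) N₁]
  [IsScalarTower (WittVector p k) K(p, k) N₁]
variable {N₂ : Type w} [AddCommGroup N₂] [Module (WittVector p k) N₂] [Module K(p, k) N₂]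
  [IsScalarTower (WittVector p k) K(p, k) N₂]
variable {τ : K(p, k) →+* K(p, k)}

theorem isoOn_map (hτ : Nice τ) (F₁ : N₁ →ₛₗ[τ] N₁) (F₂ : N₂ →ₛₗ[τ] N₂)
    (f : N₁ →ₗ[K(p, k)] N₂) (hf : ∀ x : N₁, f (F₁ x) = F₂ (f x)) {Q : Submodule K(p, k) N₁} {μ : ℚ}
    (hQ : IsoOn F₁ Q μ) : IsoOn F₂ (Q.map f) μ := by
  obtain ⟨M, hM, hMP, r, s, hs, hrs, h⟩ := hQ
  let ff : N₁ →ₗ[WittVector p k] N₂ := f.restrictScalars (WittVector p k)
  refine ⟨M.map ff, hM.map ff, ?_, r, s, hs, hrs, ?_⟩
  · rw [← hMP, Submodule.map_span]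
    rfl
  · ext x
    rw [mem_latImg hτ, mem_pPow]
    constructor
    · rintro ⟨_, ⟨y, hy, rfl⟩, rfl⟩
      have h1 : F₁^[s] y ∈ Isoc.pPow r M := by
        rw [← h, mem_latImg hτ]; exact ⟨y, hy, rfl⟩
      rw [mem_pPow] at h1
      refine ⟨_, h1, ?_⟩
      change f ((p : K(p, k)) ^ (-r) • F₁^[s] y) = (p : K(p, k)) ^ (-r) • F₂^[s] (f y)
      rw [map_smul, hom_iterate F₁ F₂ f hf]
    · rintro ⟨y, hy, hyx⟩
      have h1 : (p : K(p, k)) ^ r • y ∈ Isoc.latImg F₁ s M := by
        rw [h]; exact smul_mem_pPow hy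
      rw [mem_latImg hτ] at h1
      obtain ⟨z, hz, hzy⟩ := h1
      refine ⟨ff z, ⟨z, hz, rfl⟩, ?_⟩
      change F₂^[s] (f z) = x
      rw [← hom_iterate F₁ F₂ f hf, hzy, map_smul]
      change (p : K(p, k)) ^ r • ff y = x
      rw [hyx, smul_smul, ← zpow_add₀ p_ne_zero]
      simp

end map

section dec

variable {N : Type v} [AddCommGroup N] [Module (WittVector p k) N] [Module K(p, k) N]
  [IsScalarTower (WittVector p k) K(p, k) N]
variable {τ : K(p, k) →+* K(p, k)}

theorem le_slopePart (hτ : Nice τ) [Module.Finite K(p, k) N] (F : N →ₛₗ[τ] N) (hFs : Function.Surjective F) {μ : ℚ}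
    {P : Submodule K(p, k) N} (hP : ∀ x ∈ P, F x ∈ P) (hPμ : IsoOn F P μ) : P ≤ Isoc.slopePart F μ := by
  obtain ⟨M, h2, h3, r, s, hs, hrs, h4⟩ := hPμ
  obtain ⟨M', hM', h5⟩ := isIsoclinic_of_isoOn hτ F hFs hP M h2 h3.ge r s h4
  exact le_sSup ⟨hP, M', hM', r, s, hs, hrs, h5⟩

theorem slope_indep_aux (hτ : Nice τ) [Module.Finite K(p, k) N] (F : N →ₛₗ[τ] N) (hF : Function.Bijective F)
    (S : Finset ℚ) : ∀ μ ∉ S, Disjoint (Isoc.slopePart F μ) (S.sup (Isoc.slopePart F)) := by
  classical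
  induction S using Finset.induction_on with
  | empty => intro μ _; simp
  | insert ν S hν ih =>
    intro μ hμ
    rw [Finset.mem_insert, not_or] at hμ
    obtain ⟨hμν, hμS⟩ := hμ
    have ihμ := ih μ hμS
    -- R = sum over S
    set R := S.sup (Isoc.slopePart F) with hR
    have hRst : ∀ x ∈ R, F x ∈ R := by
      have key : ∀ T : Finset ℚ, ∀ x ∈ T.sup (Isoc.slopePart F), F x ∈ T.sup (Isoc.slopePart F) := by
        intro T
        induction T using Finset.induction_on with
        | empty =>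
          intro x hx
          rw [Finset.sup_empty, Submodule.mem_bot] at hx ⊢
          rw [hx, map_zero]
        | insert a T _ ihT =>
          intro x hx
          rw [Finset.sup_insert, Submodule.mem_sup] at hx ⊢
          obtain ⟨y, hy, z, hz, rfl⟩ := hx
          exact ⟨F y, (slopePart_spec hτ F hF.surjective a).1 y hy, F z, ihT z hz, (map_add _ _ _).symm⟩
      exact key S
    have hRc : R ≤ R.comap F := fun x hx => hRst x hx
    let Fb := R.mapQ R F hRc
    have hFbinj : Function.Injective Fb := by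
      rw [injective_iff_map_eq_zero]
      intro x hx
      obtain ⟨x, rfl⟩ := R.mkQ_surjective x
      have h1 : R.mkQ (F x) = 0 := hx
      rw [Submodule.mkQ_apply, Submodule.Quotient.mk_eq_zero] at h1
      have := mem_of_map_mem F hF.surjective hRst x h1
      rw [Submodule.mkQ_apply, Submodule.Quotient.mk_eq_zero]
      exact this
    rw [Finset.sup_insert]
    -- P = intersection
    set P := Isoc.slopePart F μ ⊓ (Isoc.slopePart F ν ⊔ R) with hP
    have hPst : ∀ x ∈ P, F x ∈ P := by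
      rintro x ⟨hx1, hx2⟩
      refine ⟨(slopePart_spec hτ F hF.surjective μ).1 x hx1, ?_⟩
      rw [SetLike.mem_coe, Submodule.mem_sup] at hx2 ⊢
      obtain ⟨y, hy, z, hz, rfl⟩ := hx2
      exact ⟨F y, (slopePart_spec hτ F hF.surjective ν).1 y hy, F z, hRst z hz, (map_add _ _ _).symm⟩
    -- P is isoclinic
    have hPiso : IsoOn F P μ := by
      obtain ⟨M, h2, h3, r, s, hs, hrs, h4⟩ := (slopePart_spec hτ F hF.surjective μ).2
      obtain ⟨M', hM', h5⟩ := isIsoclinic_of_isoOn hτ F hF.surjective hPst M h2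
        (by rw [h3]; exact inf_le_left) r s h4
      exact isoOn_of_isIsoclinic hτ F hPst ⟨M', hM', r, s, hs, hrs, h5⟩
    have hPb := isoOn_map hτ F Fb R.mkQ (fun x => rfl) hPiso
    have hQb := isoOn_map hτ F Fb R.mkQ (fun x => rfl) (slopePart_spec hτ F hF.surjective ν).2
    have hle : P.map R.mkQ ≤ (Isoc.slopePart F ν).map R.mkQ := by
      rintro _ ⟨x, ⟨hx1, hx2⟩, rfl⟩
      rw [SetLike.mem_coe, Submodule.mem_sup] at hx2
      obtain ⟨y, hy, z, hz, rfl⟩ := hx2
      refine ⟨y, hy, ?_⟩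
      rw [map_add]
      have : R.mkQ z = 0 := by
        rw [Submodule.mkQ_apply, Submodule.Quotient.mk_eq_zero]; exact hz
      rw [this, add_zero]
    have hbot := isoOn_eq_bot hτ Fb hFbinj hμν hle hPb hQb
    rw [disjoint_iff]
    have hPR : P ≤ R := by
      intro x hx
      have : R.mkQ x ∈ P.map R.mkQ := ⟨x, hx, rfl⟩
      rw [hbot, Submodule.mem_bot, Submodule.mkQ_apply, Submodule.Quotient.mk_eq_zero] at this
      exact this
    rw [eq_bot_iff]
    have := disjoint_iff.1 ihμ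
    rw [← this]
    exact le_inf inf_le_left hPR

theorem slope_indep (hτ : Nice τ) [Module.Finite K(p, k) N] (F : N →ₛₗ[τ] N) (hF : Function.Bijective F) :
    iSupIndep (Isoc.slopePart F) := by
  rw [iSupIndep_iff_supIndep]
  intro s t _ i _ hi
  exact slope_indep_aux hτ F hF t i hi

/-- the main decomposition step: `N = N₀ + N₁` with `N₀` isoclinic and `N₁` proper -/
theorem decomp_step (hτ : Nice τ) [Module.Finite K(p, k) N] [Nontrivial N] (F : N →ₛₗ[τ] N) (hF : Function.Bijective F) :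
    ∃ (μ : ℚ) (N₀ N₁ : Submodule K(p, k) N), (∀ x ∈ N₀, F x ∈ N₀) ∧ (∀ x ∈ N₁, F x ∈ N₁) ∧
      IsoOn F N₀ μ ∧ N₀ ⊔ N₁ = ⊤ ∧ N₁ ≠ ⊤ := by
  let b := Module.finBasisOfFinrankEq K(p, k) N rfl
  have hMb : (Submodule.span (WittVector p k) (Set.range b)).IsLattice K(p, k) := by
    refine ⟨Submodule.fg_span (Set.finite_range b), ?_⟩
    rw [Submodule.span_span_of_tower, b.span_eq]
  obtain ⟨o, ho, lam, hlim⟩ := exists_lim hτ F hF.surjective hMb
  have hlam : Isoc.IsFirstSlope F lam := ⟨_, hMb, o, ho, hlim⟩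
  obtain ⟨r, s, M, hs, -, hl, hM, hord⟩ := slope_rational hτ F hF.surjective _ rfl lam hlam
  set G := ((p : K(p, k)) ^ (-r) • Isoc.iter F s) with hG
  have hτG := hτ.pow s
  have hGs : Function.Surjective G := twist_surjective F hF.surjective (-r) s
  have hGapp : ∀ x, G x = (p : K(p, k)) ^ (-r) • F^[s] x := fun x => rfl
  have hGi : Function.Injective G := by
    intro x y hxy
    rw [hGapp, hGapp] at hxy
    have h1 := congrArg (fun z => (p : K(p, k)) ^ r • z) hxy
    simp only [smul_smul, ← zpow_add₀ (p_ne_zero (p := p) (k := k)), add_neg_cancel, zpow_zero, one_smul] at h1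
    exact hF.injective.iterate s h1
  have htw : ∀ A : Submodule (WittVector p k) N, Isoc.latImg G 1 A = Isoc.pPow (-r) (Isoc.latImg F s A) := by
    intro A
    have := latImg_twist hτ F (-r) s 1 A
    rw [mul_one, Nat.cast_one, mul_one] at this
    exact this
  have hGM : Isoc.latImg G 1 M ≤ M := by
    rw [htw, pPow_le_iff, neg_neg]
    exact hord.1
  have hGslope : Isoc.IsFirstSlope G 0 := by
    have := s143 hτ F lam hlam (-r) s
    have hs' : (s : ℝ) ≠ 0 := by positivity
    rw [hl] at this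
    convert this using 1
    push_cast
    field_simp
    ring
  -- commutation
  have hcomm : ∀ x, G (F x) = F (G x) := by
    intro x
    rw [hGapp, hGapp, map_p_smul, ← Function.iterate_succ_apply, ← Function.iterate_succ_apply' F s x]
  have hcommn : ∀ (n : ℕ) (x : N), G^[n] (F x) = F (G^[n] x) := by
    intro n x
    induction n with
    | zero => rfl
    | succ n ih => rw [Function.iterate_succ_apply', ih, hcomm, Function.iterate_succ_apply']
  obtain ⟨c, hc⟩ := exists_le_pPow (latImg_fg hτ F 1 hM.fg) hM.span_eq_top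
  have hFM : ∀ (j : ℤ) (x : N), x ∈ Isoc.pPow j M → F x ∈ Isoc.pPow (j - c) M := by
    intro j x hx
    have h1 : F x ∈ Isoc.latImg F 1 (Isoc.pPow j M) := (mem_latImg hτ _ _ _ _).2 ⟨x, hx, rfl⟩
    rw [latImg_pPow hτ] at h1
    have h2 := pPow_mono j hc h1
    rw [pPow_pPow] at h2
    exact h2
  set M₀ : Submodule (WittVector p k) N := ⨅ n : ℕ, Isoc.latImg G n M with hM₀
  have hM₀M : M₀ ≤ M := by
    have := iInf_le (fun n : ℕ => Isoc.latImg G n M) 0
    rw [latImg_zero hτG] at this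
    exact this
  have hGM₀ : Isoc.latImg G 1 M₀ = M₀ := by
    ext x
    rw [mem_latImg hτG]
    constructor
    · rintro ⟨y, hy, rfl⟩
      rw [hM₀, Submodule.mem_iInf] at hy ⊢
      intro n
      have h1 := hy n
      rw [mem_latImg hτG] at h1 ⊢
      obtain ⟨z, hz, hzy⟩ := h1
      refine ⟨G z, hGM ((mem_latImg hτG _ _ _ _).2 ⟨z, hz, rfl⟩), ?_⟩
      rw [← hzy, Function.iterate_one, ← Function.iterate_succ_apply, Function.iterate_succ_apply']
    · intro hx
      rw [hM₀, Submodule.mem_iInf] at hx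
      have h1 := hx 1
      rw [mem_latImg hτG] at h1
      obtain ⟨z, hz, rfl⟩ := h1
      refine ⟨z, ?_, rfl⟩
      rw [hM₀, Submodule.mem_iInf]
      intro n
      have h2 := hx (n + 1)
      rw [mem_latImg hτG] at h2
      obtain ⟨y, hy, hyz⟩ := h2
      rw [mem_latImg hτG]
      refine ⟨y, hy, ?_⟩
      apply hGi
      rw [← Function.iterate_succ_apply' G n y, hyz]
      rfl
  have hM₀F : Isoc.latImg F s M₀ = Isoc.pPow r M₀ := by
    have h1 := htw M₀
    rw [hGM₀] at h1
    conv_rhs => rw [h1]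
    rw [pPow_pPow, add_neg_cancel, pPow_zero]
  have hM₀fg : M₀.FG := by
    have : Module.Finite (WittVector p k) M := Module.Finite.iff_fg.2 hM.fg
    have : IsNoetherian (WittVector p k) M := inferInstance
    have := isNoetherian_of_le hM₀M
    exact Module.Finite.iff_fg.1 inferInstance
  have hfit := fitting hτG G ⟨hGi, hGs⟩ hM hGM
  refine ⟨(r : ℚ) / s, Submodule.span K(p, k) (M₀ : Set N), NilPart hτG G M hGM, ?_, ?_,
    ⟨M₀, hM₀fg, rfl, r, s, hs, rfl, hM₀F⟩, ?_, ?_⟩
  · intro x hx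
    induction hx using Submodule.span_induction with
    | mem y hy =>
      have h1 : (p : K(p, k)) ^ (c : ℤ) • F y ∈ M₀ := by
        rw [SetLike.mem_coe, hM₀, Submodule.mem_iInf] at hy
        rw [hM₀, Submodule.mem_iInf]
        intro n
        have h2 := hy n
        rw [mem_latImg hτG] at h2 ⊢
        obtain ⟨z, hz, rfl⟩ := h2
        refine ⟨(p : K(p, k)) ^ (c : ℤ) • F z, ?_, ?_⟩
        · have h3 := hFM 0 z (by rw [pPow_zero]; exact hz)
          rw [mem_pPow] at h3
          simpa using h3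
        · rw [iterate_p_smul, hcommn]
      have h3 := Submodule.smul_mem _ ((p : K(p, k)) ^ (-(c : ℤ))) (Submodule.subset_span (R := K(p, k)) h1)
      rw [smul_smul, ← zpow_add₀ p_ne_zero] at h3
      simpa using h3
    | zero => rw [map_zero]; exact Submodule.zero_mem _
    | add y z _ _ hy hz => rw [map_add]; exact Submodule.add_mem _ hy hz
    | smul a y _ hy => rw [map_smulₛₗ]; exact Submodule.smul_mem _ _ hy
  · intro x hx
    rw [mem_NilPart] at hx ⊢
    intro j
    obtain ⟨n, hn⟩ := hx (j + c)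
    refine ⟨n, ?_⟩
    rw [hcommn]
    have := hFM _ _ hn
    convert this using 2
    push_cast
    ring
  · rw [eq_top_iff]
    intro x _
    obtain ⟨e, he⟩ := exists_p_smul_mem hM.span_eq_top x
    obtain ⟨y, hy, hz⟩ := hfit _ he
    have h1 : x = (p : K(p, k)) ^ (-(e : ℤ)) • y + (p : K(p, k)) ^ (-(e : ℤ)) • ((p : K(p, k)) ^ (e : ℤ) • x - y) := by
      rw [← smul_add, add_sub_cancel, smul_smul, ← zpow_add₀ p_ne_zero]
      simp
    rw [h1]
    exact Submodule.add_mem_sup (Submodule.smul_mem _ _ (Submodule.subset_span hy))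
      (Submodule.smul_mem _ _ ((mem_NilPart hτG G M hGM _).2 hz))
  · intro htop
    -- then G is nilpotent modulo p
    have h1 : ∃ n : ℕ, 1 ≤ n ∧ Isoc.latImg G n M ≤ Isoc.pPow 1 M := by
      obtain ⟨m, x, hx⟩ := Submodule.fg_iff_exists_fin_generating_family.1 hM.fg
      have h2 : ∀ i : Fin m, ∃ n : ℕ, G^[n] (x i) ∈ Isoc.pPow ((1 : ℕ) : ℤ) M := by
        intro i
        have : x i ∈ NilPart hτG G M hGM := by rw [htop]; trivial
        exact (mem_NilPart hτG G M hGM _).1 this 1
      choose n hn using h2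
      refine ⟨(∑ i, n i) + 1, by omega, ?_⟩
      have h3 : ∀ i : Fin m, G^[(∑ i, n i) + 1] (x i) ∈ Isoc.pPow 1 M := by
        intro i
        have h4 : n i ≤ ∑ i, n i := Finset.single_le_sum (fun _ _ => Nat.zero_le _) (Finset.mem_univ i)
        obtain ⟨t, ht⟩ := Nat.exists_eq_add_of_le (h4.trans (Nat.le_succ _))
        rw [show (∑ i, n i) + 1 = n i + t from ht, add_comm, Function.iterate_add_apply]
        exact iterate_mem_pPow hτG hGM (by simpa using hn i) t
      intro z hz
      rw [mem_latImg hτG] at hz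
      obtain ⟨y, hy, rfl⟩ := hz
      rw [← hx] at hy
      obtain ⟨σ, hσ⟩ := hτG.pow ((∑ i, n i) + 1)
      induction hy using Submodule.span_induction with
      | mem y hy => obtain ⟨i, rfl⟩ := hy; exact h3 i
      | zero => rw [← Isoc.iter_apply, map_zero]; exact Submodule.zero_mem _
      | add y z _ _ hy hz => rw [← Isoc.iter_apply, map_add]; exact Submodule.add_mem _ hy hz
      | smul w y _ hy =>
        rw [← Isoc.iter_apply, map_w_smul hσ]
        exact Submodule.smul_mem _ _ hy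
    obtain ⟨n, hn1, hn⟩ := h1
    have h2 := le_slope_of hτG G hGslope hM 1 n hn1 hn
    have h3 : (0 : ℝ) < ((1 : ℤ) : ℝ) / n := by
      have : (0 : ℝ) < n := by exact_mod_cast hn1
      positivity
    linarith

theorem iSup_slopePart (hτ : Nice τ) (n : ℕ) : ∀ (N : Type v) [AddCommGroup N] [Module (WittVector p k) N] [Module K(p, k) N]
    [IsScalarTower (WittVector p k) K(p, k) N] [Module.Finite K(p, k) N] (F : N →ₛₗ[τ] N) (_ : Function.Bijective F),
    Module.finrank K(p, k) N = n → ⨆ μ, Isoc.slopePart F μ = ⊤ := by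
  induction n using Nat.strong_induction_on with
  | _ n ih =>
  intro N _ _ _ _ _ F hF hn
  rcases subsingleton_or_nontrivial N with hsub | hnt
  · exact Subsingleton.elim _ _
  obtain ⟨μ, N₀, N₁, h0, h1, hiso, hsup, hne⟩ := decomp_step hτ F hF
  have hF1 : Function.Bijective (F.restrict h1) := by
    constructor
    · intro x y hxy
      apply Subtype.ext
      apply hF.injective
      exact congrArg (fun z : N₁ => (z : N)) hxy
    · rintro ⟨x, hx⟩
      obtain ⟨y, rfl⟩ := hF.surjective x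
      exact ⟨⟨y, mem_of_map_mem F hF.surjective h1 y hx⟩, rfl⟩
  have hlt : Module.finrank K(p, k) N₁ < n := by
    rw [← hn]
    exact Submodule.finrank_lt hne
  have hih := ih _ hlt N₁ (F.restrict h1) hF1 rfl
  rw [eq_top_iff, ← hsup]
  apply sup_le
  · exact (le_slopePart hτ F hF.surjective h0 hiso).trans (le_iSup (Isoc.slopePart F) μ)
  · have h2 := congrArg (Submodule.map N₁.subtype) hih
    rw [Submodule.map_top, Submodule.range_subtype, Submodule.map_iSup] at h2
    rw [← h2]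
    apply iSup_mono
    intro ν
    have hsp := slopePart_spec hτ (F.restrict h1) hF1.surjective ν
    apply le_slopePart hτ F hF.surjective
    · rintro _ ⟨x, hx, rfl⟩
      exact ⟨F.restrict h1 x, hsp.1 x hx, rfl⟩
    · exact isoOn_map hτ (F.restrict h1) F N₁.subtype (fun _ => rfl) hsp.2

theorem s152 (hτ : Nice τ) (F : N →ₛₗ[τ] N) (hF : Isoc.IsIsoc F) :
    DirectSum.IsInternal (fun μ : ℚ => Isoc.slopePart F μ) := by
  have := hF.finite
  rw [DirectSum.isInternal_submodule_iff_iSupIndep_and_iSup_eq_top]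
  exact ⟨slope_indep hτ F hF.bijective, iSup_slopePart hτ _ N F hF.bijective rfl⟩

end dec

end Groth.Agent.H25Isoc
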