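import Groth.Agent.Lib.H25_Isoc10
import Mathlib.Algebra.DirectSum.Module
import Mathlib.Algebra.DirectSum.LinearMap

set_option autoImplicit false
set_option linter.unusedSectionVars false

noncomputable section

open scoped Pointwise Isocrystal
open Filter Topology

universe u v w

namespace Groth.Agent.H25Isoc

variable {p : ℕ} [Fact p.Prime] {k : Type u} [Field k] [CharP k p] [PerfectRing k p]

section eleven

variable {N : Type v} [AddCommGroup N] [Module (WittVector p k) N] [Module K(p, k) N]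
  [IsScalarTower (WittVector p k) K(p, k) N]
variable {τ : K(p, k) →+* K(p, k)}

theorem latImg_span_range (hτ : Nice τ) (F : N →ₛₗ[τ] N) (s : ℕ) {ι : Type*} (x : ι → N) :
    Submodule.span (WittVector p k) (Set.range fun j => F^[s] (x j)) =
      Isoc.latImg F s (Submodule.span (WittVector p k) (Set.range x)) :=
  latImg_one_span (hτ.pow s) (Isoc.iter F s) x

/-- adapted generating families for an isoclinic isocrystal -/
theorem adapted (hτ : Nice τ) {n : ℕ} (F : N →ₛₗ[τ] N) {M : Submodule (WittVector p k) N}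
    {S : ℕ} {e : ℤ} (h : Isoc.latImg F S M = Isoc.pPow e M) (c : Fin n → N)
    (hc : Submodule.span (WittVector p k) (Set.range c) = M) :
    Submodule.span (WittVector p k) (Set.range fun i => (p : K(p, k)) ^ (-e) • F^[S] (c i)) = M := by
  have h1 := latImg_span_range hτ F S c
  rw [hc, h] at h1
  have h2 := congrArg (Isoc.pPow (-e)) h1
  rw [pPow_pPow, neg_add_cancel, pPow_zero] at h2
  rw [← h2, Isoc.pPow, Submodule.smul_span]
  congr 1
  rw [← Set.image_smul, ← Set.range_comp]
  rfl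

theorem s158 (hτ : Nice τ) (F : N →ₛₗ[τ] N) (hF : Isoc.IsIsoc F)
    (h : ℕ) (b : Module.Basis (Fin h) K(p, k) N)
    (d : ℤ) (hd : Isoc.IsOrdP (Isoc.detCoeff b F) d) :
    ∑ᶠ μ : ℚ, μ * (Isoc.newtonMult F μ : ℚ) = d := by
  classical
  have hfin := hF.finite
  have hint := s152 hτ F hF
  have hst : ∀ μ : ℚ, ∀ x ∈ Isoc.slopePart F μ, F x ∈ Isoc.slopePart F μ := fun μ =>
    (slopePart_spec hτ F hF.bijective.surjective μ).1
  have hex : ∀ μ : ℚ, ∃ (M : Submodule (WittVector p k) (Isoc.slopePart F μ)) (r : ℤ) (s : ℕ), M.IsLattice K(p, k) ∧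
      0 < s ∧ (r : ℚ) / s = μ ∧ Isoc.latImg (F.restrict (hst μ)) s M = Isoc.pPow r M := by
    intro μ
    obtain ⟨M, h2, h3, r, s, hs, hrs, h4⟩ := (slopePart_spec hτ F hF.bijective.surjective μ).2
    obtain ⟨M', hM', h5⟩ := isIsoclinic_of_isoOn hτ F hF.bijective.surjective (hst μ) M h2 h3.ge r s h4
    exact ⟨M', r, s, hM', hs, hrs, h5⟩
  choose M r s hM hs hrs hFM using hex
  have hrank : ∀ μ, Module.finrank (WittVector p k) (M μ) = Module.finrank K(p, k) (Isoc.slopePart F μ) := by
    intro μ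
    have := hM μ
    rw [Module.finrank, Submodule.IsLattice.rank' K(p, k) (M μ)]
    rfl
  let bW : ∀ μ, Module.Basis (Fin (Module.finrank K(p, k) (Isoc.slopePart F μ))) (WittVector p k) (M μ) := fun μ =>
    haveI := hM μ
    Module.finBasisOfFinrankEq (WittVector p k) (M μ) (hrank μ)
  let bK : ∀ μ, Module.Basis (Fin (Module.finrank K(p, k) (Isoc.slopePart F μ))) K(p, k) (Isoc.slopePart F μ) := fun μ =>
    haveI := hM μ
    (bW μ).extendOfIsLattice K(p, k)
  have hbKW : ∀ μ i, bK μ i = ((bW μ i : M μ) : Isoc.slopePart F μ) := by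
    intro μ i
    have := hM μ
    exact Module.Basis.extendOfIsLattice_apply K(p, k) (bW μ) i
  have hspanW : ∀ μ, Submodule.span (WittVector p k) (Set.range (bK μ)) = M μ := by
    intro μ
    have h1 : Submodule.span (WittVector p k) (Set.range (bW μ)) = ⊤ := (bW μ).span_eq
    have h2 := congrArg (Submodule.map (M μ).subtype) h1
    rw [Submodule.map_span, Submodule.map_top, Submodule.range_subtype, ← Set.range_comp] at h2
    rw [← h2]
    congr 1
    congr 1
    ext1 i
    rw [hbKW]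
    rfl
  obtain ⟨c, hc⟩ : ∃ c : Module.Basis (Σ μ : ℚ, Fin (Module.finrank K(p, k) (Isoc.slopePart F μ))) K(p, k) N,
      ∀ j, c j = ((bK j.1 j.2 : Isoc.slopePart F j.1) : N) :=
    ⟨hint.collectedBasis bK, fun j => by rw [DirectSum.IsInternal.collectedBasis_coe]⟩
  have hJfin : Finite (Σ μ : ℚ, Fin (Module.finrank K(p, k) (Isoc.slopePart F μ))) := Module.Finite.finite_basis c
  have : Fintype (Σ μ : ℚ, Fin (Module.finrank K(p, k) (Isoc.slopePart F μ))) := Fintype.ofFinite _
  have hcard : Fintype.card (Σ μ : ℚ, Fin (Module.finrank K(p, k) (Isoc.slopePart F μ))) = h := by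
    rw [← Module.finrank_eq_card_basis c, Module.finrank_eq_card_basis b, Fintype.card_fin]
  let eq : (Σ μ : ℚ, Fin (Module.finrank K(p, k) (Isoc.slopePart F μ))) ≃ Fin h := Fintype.equivFinOfCardEq hcard
  -- common exponent
  set S := ∏ j : (Σ μ : ℚ, Fin (Module.finrank K(p, k) (Isoc.slopePart F μ))), s j.1 with hS
  have hSpos : 0 < S := Finset.prod_pos fun j _ => hs j.1
  have hdiv : ∀ j : (Σ μ : ℚ, Fin (Module.finrank K(p, k) (Isoc.slopePart F μ))), ∃ t : ℕ, S = t * s j.1 := by
    intro j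
    obtain ⟨t, ht⟩ := Finset.dvd_prod_of_mem (fun j : (Σ μ : ℚ, Fin (Module.finrank K(p, k) (Isoc.slopePart F μ))) => s j.1) (Finset.mem_univ j)
    exact ⟨t, by rw [hS, ht, mul_comm]⟩
  have hex2 : ∀ j : (Σ μ : ℚ, Fin (Module.finrank K(p, k) (Isoc.slopePart F μ))), ∃ e : ℤ, Isoc.latImg (F.restrict (hst j.1)) S (M j.1) = Isoc.pPow e (M j.1) ∧ (e : ℚ) = S * j.1 := by
    intro j
    obtain ⟨t, ht⟩ := hdiv j
    refine ⟨t * r j.1, ?_, ?_⟩
    · rw [ht]; exact latImg_mul_eq hτ (hFM j.1) t
    · rw [ht]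
      have hs' : (s j.1 : ℚ) ≠ 0 := by have := hs j.1; positivity
      have := hrs j.1
      rw [div_eq_iff hs'] at this
      push_cast
      rw [this]
      ring
  choose e he he2 using hex2
  have hecompat : ∀ j j' : (Σ μ : ℚ, Fin (Module.finrank K(p, k) (Isoc.slopePart F μ))), j.1 = j'.1 → e j = e j' := by
    intro j j' hjj
    have h1 : (e j : ℚ) = e j' := by rw [he2, he2, hjj]
    exact_mod_cast h1
  let y : (Σ μ : ℚ, Fin (Module.finrank K(p, k) (Isoc.slopePart F μ))) → N := fun j => (p : K(p, k)) ^ (-(e j)) • F^[S] (c j)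
  -- spans agree
  have hspan1 : ∀ μ, Submodule.span (WittVector p k) (Set.range fun i : Fin (Module.finrank K(p, k) (Isoc.slopePart F μ)) => c ⟨μ, i⟩) =
      (M μ).map ((Isoc.slopePart F μ).subtype.restrictScalars (WittVector p k)) := by
    intro μ
    rw [← hspanW μ, Submodule.map_span, ← Set.range_comp]
    congr 2
    ext1 i
    rw [hc]
    rfl
  have hspan2 : ∀ μ, Submodule.span (WittVector p k) (Set.range fun i : Fin (Module.finrank K(p, k) (Isoc.slopePart F μ)) => y ⟨μ, i⟩) =
      (M μ).map ((Isoc.slopePart F μ).subtype.restrictScalars (WittVector p k)) := by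
    intro μ
    rcases Nat.eq_zero_or_pos (Module.finrank K(p, k) (Isoc.slopePart F μ)) with h0 | h0
    · have hempty : IsEmpty (Fin (Module.finrank K(p, k) (Isoc.slopePart F μ))) := by rw [h0]; infer_instance
      rw [← hspan1 μ, Set.range_eq_empty, Set.range_eq_empty]
    · have h1 := adapted hτ (F.restrict (hst μ)) (he ⟨μ, ⟨0, h0⟩⟩) (bK μ) (hspanW μ)
      conv_rhs => rw [← h1]
      rw [Submodule.map_span, ← Set.range_comp]
      congr 2
      ext1 i
      simp only [y, Function.comp]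
      rw [hc, hecompat ⟨μ, i⟩ ⟨μ, ⟨0, h0⟩⟩ rfl, ← coe_restrict_iterate F (hst μ)]
      rfl
  have hspan3 : ∀ z : (Σ μ : ℚ, Fin (Module.finrank K(p, k) (Isoc.slopePart F μ))) → N, Submodule.span (WittVector p k) (Set.range z) =
      ⨆ μ, Submodule.span (WittVector p k) (Set.range fun i : Fin (Module.finrank K(p, k) (Isoc.slopePart F μ)) => z ⟨μ, i⟩) := by
    intro z
    rw [← Submodule.span_iUnion]
    congr 1
    ext x
    simp only [Set.mem_range, Set.mem_iUnion]
    constructor
    · rintro ⟨⟨μ, i⟩, rfl⟩; exact ⟨μ, i, rfl⟩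
    · rintro ⟨μ, i, rfl⟩; exact ⟨⟨μ, i⟩, rfl⟩
  have hspan4 : Submodule.span (WittVector p k) (Set.range y) = Submodule.span (WittVector p k) (Set.range c) := by
    rw [hspan3 y, hspan3 c]
    congr 1
    ext1 μ
    rw [hspan1, hspan2]
  -- reindex
  let c' : Fin h → N := fun i => c (eq.symm i)
  let y' : Fin h → N := fun i => y (eq.symm i)
  have hrc : Set.range c' = Set.range c := by
    have : c' = c ∘ eq.symm := rfl
    rw [this, eq.symm.surjective.range_comp]
  have hry : Set.range y' = Set.range y := by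
    have : y' = y ∘ eq.symm := rfl
    rw [this, eq.symm.surjective.range_comp]
  set L := Submodule.span (WittVector p k) (Set.range c') with hL
  have hcdet : (b.toMatrix c').det ≠ 0 := by
    have h1 : c' = (c.reindex eq) := by
      ext i
      simp [c']
    rw [h1]
    have := b.invertibleToMatrix (c.reindex eq)
    exact (Matrix.isUnit_det_of_invertible _).ne_zero
  obtain ⟨v, hv⟩ := exists_ordP hcdet
  have hVolL : Vol b L v := ⟨c', rfl, hv⟩
  have h1 := vol_latImg hτ b F hd hVolL S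
  -- y' also spans L
  have hyL : Submodule.span (WittVector p k) (Set.range y') = L := by
    rw [hL, hrc, hry, hspan4]
  have hz : ∀ i, F^[S] (c' i) = (p : K(p, k)) ^ (e (eq.symm i)) • y' i := by
    intro i
    change F^[S] (c (eq.symm i)) = (p : K(p, k)) ^ (e (eq.symm i)) • ((p : K(p, k)) ^ (-(e (eq.symm i))) • F^[S] (c (eq.symm i)))
    rw [smul_smul, ← zpow_add₀ p_ne_zero]
    simp
  have hdetz : (b.toMatrix fun i => F^[S] (c' i)).det = (∏ i, (p : K(p, k)) ^ (e (eq.symm i))) * (b.toMatrix y').det := by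
    rw [← Matrix.det_mul_row]
    congr 1
    ext i j
    rw [Module.Basis.toMatrix_apply, hz, map_smul]
    rfl
  have hprod : (∏ i, (p : K(p, k)) ^ (e (eq.symm i))) = (p : K(p, k)) ^ (∑ i, e (eq.symm i)) := by
    have : ∀ (T : Finset (Fin h)), (∏ i ∈ T, (p : K(p, k)) ^ (e (eq.symm i))) = (p : K(p, k)) ^ (∑ i ∈ T, e (eq.symm i)) := by
      intro T
      induction T using Finset.induction_on with
      | empty => simp
      | insert a T ha ih => rw [Finset.prod_insert ha, Finset.sum_insert ha, zpow_add₀ p_ne_zero, ih]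
    exact this _
  have hydet : Isoc.IsOrdP (b.toMatrix y').det v := by
    have hyne : (b.toMatrix y').det ≠ 0 := by
      intro h0
      rw [h0, mul_zero] at hdetz
      have h3 : (b.toMatrix fun i => F^[S] (c' i)).det = Isoc.detCoeff b (Isoc.iter F S) * (τ ^ S) ((b.toMatrix c').det) :=
        det_semilin b (Isoc.iter F S) c'
      rw [h3, mul_eq_zero] at hdetz
      rcases hdetz with h4 | h4
      · exact detCoeff_ne_zero (hτ.pow S) b (Isoc.iter F S) (hF.bijective.surjective.iterate S) h4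
      · rw [map_eq_zero] at h4
        exact hcdet h4
    obtain ⟨v', hv'⟩ := exists_ordP hyne
    have := vol_unique b (⟨y', hyL, hv'⟩ : Vol b L v') hVolL
    rwa [this] at hv'
  have h2 : Vol b (Isoc.latImg F S L) ((∑ i, e (eq.symm i)) + v) := by
    refine ⟨fun i => F^[S] (c' i), latImg_span_range hτ F S c', ?_⟩
    rw [hdetz, hprod]
    exact ordP_mul (ordP_zpow _) hydet
  have h3 := vol_unique b h1 h2
  have h4 : (S : ℤ) * d = ∑ j : (Σ μ : ℚ, Fin (Module.finrank K(p, k) (Isoc.slopePart F μ))), e j := by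
    rw [← Equiv.sum_comp eq.symm e]
    omega
  have h5 : (d : ℚ) = ∑ j : (Σ μ : ℚ, Fin (Module.finrank K(p, k) (Isoc.slopePart F μ))), j.1 := by
    have hS' : (S : ℚ) ≠ 0 := by positivity
    have h6 : ((S : ℤ) * d : ℚ) = ∑ j : (Σ μ : ℚ, Fin (Module.finrank K(p, k) (Isoc.slopePart F μ))), (e j : ℚ) := by exact_mod_cast h4
    have h7 : ∑ j : (Σ μ : ℚ, Fin (Module.finrank K(p, k) (Isoc.slopePart F μ))), (e j : ℚ) = S * ∑ j : (Σ μ : ℚ, Fin (Module.finrank K(p, k) (Isoc.slopePart F μ))), j.1 := by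
      rw [Finset.mul_sum]
      exact Finset.sum_congr rfl fun j _ => he2 j
    rw [h7] at h6
    push_cast at h6
    exact mul_left_cancel₀ hS' h6
  rw [h5]
  rw [finsum_eq_sum_of_support_subset (s := Finset.image (fun j : (Σ μ : ℚ, Fin (Module.finrank K(p, k) (Isoc.slopePart F μ))) => j.1) Finset.univ)]
  · rw [← Finset.sum_fiberwise_of_maps_to (g := fun j : (Σ μ : ℚ, Fin (Module.finrank K(p, k) (Isoc.slopePart F μ))) => j.1) (t := Finset.image (fun j : (Σ μ : ℚ, Fin (Module.finrank K(p, k) (Isoc.slopePart F μ))) => j.1) Finset.univ)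
      (fun j _ => Finset.mem_image_of_mem _ (Finset.mem_univ j)) (fun j : (Σ μ : ℚ, Fin (Module.finrank K(p, k) (Isoc.slopePart F μ))) => j.1)]
    refine Finset.sum_congr rfl fun μ _ => ?_
    have h8 : ∑ j ∈ Finset.univ.filter (fun j : (Σ μ : ℚ, Fin (Module.finrank K(p, k) (Isoc.slopePart F μ))) => j.1 = μ), j.1 = ∑ j ∈ Finset.univ.filter (fun j : (Σ μ : ℚ, Fin (Module.finrank K(p, k) (Isoc.slopePart F μ))) => j.1 = μ), μ :=
      Finset.sum_congr rfl fun j hj => (Finset.mem_filter.1 hj).2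
    rw [h8, Finset.sum_const, nsmul_eq_mul, mul_comm]
    congr 2
    rw [← Fintype.card_subtype, Fintype.card_congr (Equiv.sigmaSubtype μ), Fintype.card_fin]
    rfl
  · intro μ hμ
    rw [Function.mem_support] at hμ
    have h9 : Isoc.newtonMult F μ ≠ 0 := by
      intro h0
      apply hμ
      rw [h0, Nat.cast_zero, mul_zero]
    rw [Finset.coe_image, Set.mem_image]
    exact ⟨⟨μ, ⟨0, Nat.pos_of_ne_zero h9⟩⟩, by simp, rfl⟩

end eleven

end Groth.Agent.H25Isoc
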