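import Groth.Agent.Lib.H25_Lang
import Mathlib.RingTheory.WittVector.Teichmuller

set_option autoImplicit false
set_option linter.unusedSectionVars false

noncomputable section

universe u v w

namespace Groth.Agent.H25Isoc

variable {p : ℕ} [Fact p.Prime] {k : Type u} [Field k] [CharP k p] [IsAlgClosed k]

theorem perf : PerfectRing k p := inferInstance

theorem coeff_zero_dvd (x : WittVector p k) (h : x.coeff 0 = 0) : (p : WittVector p k) ∣ x := by
  by_cases hx : x = 0
  · rw [hx]; exact dvd_zero _
  obtain ⟨e, u, hu⟩ := WittVector.exists_eq_pow_p_mul' x hx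
  cases e with
  | zero =>
    exfalso
    rw [pow_zero, one_mul] at hu
    have h1 : IsUnit (WittVector.constantCoeff x) := by
      rw [hu]; exact u.isUnit.map _
    rw [show WittVector.constantCoeff x = x.coeff 0 from rfl, h] at h1
    exact not_isUnit_zero h1
  | succ e => rw [hu, pow_succ]; exact ⟨(p : WittVector p k) ^ e * u, by ring⟩

theorem p_coeff_zero : (p : WittVector p k).coeff 0 = 0 := by
  have : WittVector.constantCoeff (p : WittVector p k) = 0 := by
    rw [map_natCast, CharP.cast_eq_zero]
  exact this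

section M

variable {M : Type v} [AddCommGroup M] [Module (WittVector p k) M] [Module.Finite (WittVector p k) M]

theorem m_complete (u : ℕ → M) : ∃ L : M, ∀ n : ℕ, ∃ e : M,
    L = ∑ j ∈ Finset.range n, (p : WittVector p k) ^ j • u j + (p : WittVector p k) ^ n • e := by
  obtain ⟨m, x, hx⟩ := Module.Finite.exists_fin (R := WittVector p k) (M := M)
  have h1 : ∀ j, ∃ c : Fin m → WittVector p k, ∑ i, c i • x i = u j := by
    intro j
    rw [← Submodule.mem_span_range_iff_exists_fun, hx]
    trivial
  choose c hc using h1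
  choose L e hL using fun i : Fin m => w_complete fun j => c j i
  refine ⟨∑ i, L i • x i, fun n => ⟨∑ i, e i n • x i, ?_⟩⟩
  have h2 : ∑ j ∈ Finset.range n, (p : WittVector p k) ^ j • u j =
      ∑ i, (∑ j ∈ Finset.range n, (p : WittVector p k) ^ j * c j i) • x i := by
    have : ∀ j ∈ Finset.range n, (p : WittVector p k) ^ j • u j = ∑ i, ((p : WittVector p k) ^ j * c j i) • x i := by
      intro j _
      rw [← hc j, Finset.smul_sum]
      exact Finset.sum_congr rfl fun i _ => smul_smul _ _ _
    rw [Finset.sum_congr rfl this, Finset.sum_comm]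
    exact Finset.sum_congr rfl fun i _ => (Finset.sum_smul ..).symm
  rw [h2, Finset.smul_sum, ← Finset.sum_add_distrib]
  refine Finset.sum_congr rfl fun i _ => ?_
  rw [smul_smul, ← add_smul]
  congr 1
  exact hL i n

theorem m_hausdorff (x : M) (h : ∀ n : ℕ, ∃ e : M, x = (p : WittVector p k) ^ n • e) : x = 0 := by
  have hI : (Ideal.span {(p : WittVector p k)}) ≠ ⊤ := by
    rw [Ne, Ideal.span_singleton_eq_top]
    exact (WittVector.irreducible p).not_isUnit
  have h1 := Ideal.iInf_pow_smul_eq_bot_of_isLocalRing (M := M) (Ideal.span {(p : WittVector p k)}) hI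
  have h2 : x ∈ (⨅ i : ℕ, (Ideal.span {(p : WittVector p k)}) ^ i • (⊤ : Submodule (WittVector p k) M)) := by
    rw [Submodule.mem_iInf]
    intro i
    obtain ⟨e, rfl⟩ := h i
    exact Submodule.smul_mem_smul (Ideal.pow_mem_pow (Ideal.mem_span_singleton_self _) i) Submodule.mem_top
  rwa [h1, Submodule.mem_bot] at h2

theorem add_p_smul (F : M →+ M) (n : ℕ) (x : M) : F ((p : WittVector p k) ^ n • x) = (p : WittVector p k) ^ n • F x := by
  have h1 : (p : WittVector p k) ^ n • x = (p ^ n : ℕ) • x := by
    rw [← Nat.cast_pow, Nat.cast_smul_eq_nsmul]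
  have h2 : (p : WittVector p k) ^ n • F x = (p ^ n : ℕ) • F x := by
    rw [← Nat.cast_pow, Nat.cast_smul_eq_nsmul]
  rw [h1, h2, map_nsmul]

/-- surjectivity of `F - 1` from surjectivity modulo `p` -/
theorem sub_one_surj (F : M →+ M) (hmod : ∀ z : M, ∃ u z' : M, F u - u = z + (p : WittVector p k) • z') (z : M) :
    ∃ u : M, F u - u = z := by
  choose U Z hUZ using hmod
  let zs : ℕ → M := fun n => Nat.rec z (fun _ y => -Z y) n
  have hzs : ∀ n, zs (n + 1) = -Z (zs n) := fun n => rfl
  obtain ⟨L, hL⟩ := m_complete (p := p) (k := k) (fun n => U (zs n))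
  refine ⟨L, ?_⟩
  rw [← sub_eq_zero]
  apply m_hausdorff (p := p) (k := k)
  intro n
  obtain ⟨e, he⟩ := hL n
  have h1 : ∀ n : ℕ, F (∑ j ∈ Finset.range n, (p : WittVector p k) ^ j • U (zs j)) -
      ∑ j ∈ Finset.range n, (p : WittVector p k) ^ j • U (zs j) = z - (p : WittVector p k) ^ n • zs n := by
    intro n
    induction n with
    | zero => simp [zs]
    | succ n ih =>
      rw [Finset.sum_range_succ, map_add, add_p_smul]
      have h2 := hUZ (zs n)
      have h3 : F (U (zs n)) = U (zs n) + (zs n + (p : WittVector p k) • Z (zs n)) := by rw [← h2]; abel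
      rw [h3, hzs]
      have h4 : (p : WittVector p k) ^ (n + 1) • -Z (zs n) = -((p : WittVector p k) ^ n • (p : WittVector p k) • Z (zs n)) := by
        rw [smul_neg, pow_succ, mul_smul]
      rw [h4, smul_add, smul_add]
      have h5 := ih
      rw [sub_eq_iff_eq_add] at h5
      rw [h5]
      abel
  refine ⟨F e - e - zs n, ?_⟩
  have h2 := h1 n
  rw [sub_eq_iff_eq_add] at h2
  rw [he, map_add, add_p_smul, h2, smul_sub, smul_sub]
  abel

end M

section lang

variable {M : Type v} [AddCommGroup M] [Module (WittVector p k) M]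

theorem lang_W {ν : ℕ} (hν : 1 ≤ ν) {n : ℕ} (b : Module.Basis (Fin n) (WittVector p k) M) (F : M →+ M)
    (hF : ∀ (a : WittVector p k) (m : M), F (a • m) = ((⇑(WittVector.frobenius : WittVector p k →+* WittVector p k))^[ν] a) • F m)
    (hbij : Function.Bijective F) : ∃ b' : Module.Basis (Fin n) (WittVector p k) M, ∀ i, F (b' i) = b' i := by
  have hfin : Module.Finite (WittVector p k) M := Module.Finite.of_basis b
  have hq : 2 ≤ p ^ ν := by
    calc 2 ≤ p := (Fact.out : p.Prime).two_le
      _ ≤ p ^ ν := Nat.le_self_pow (by omega) p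
  -- reduction
  let π : M → (Fin n → k) := fun m i => (b.repr m i).coeff 0
  have hπadd : ∀ x y, π (x + y) = π x + π y := by
    intro x y
    ext i
    change WittVector.constantCoeff (b.repr (x + y) i) = WittVector.constantCoeff (b.repr x i) + WittVector.constantCoeff (b.repr y i)
    rw [map_add, Finsupp.add_apply, map_add]
  have hπsmul : ∀ (a : WittVector p k) x, π (a • x) = a.coeff 0 • π x := by
    intro a x
    ext i
    change WittVector.constantCoeff (b.repr (a • x) i) = WittVector.constantCoeff a * WittVector.constantCoeff (b.repr x i)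
    rw [map_smul, Finsupp.smul_apply, smul_eq_mul, map_mul]
  have hπneg : ∀ x, π (-x) = -π x := by
    intro x
    have := hπadd x (-x)
    rw [add_neg_cancel] at this
    have h0 : π 0 = 0 := by
      have := hπsmul 0 0
      rw [smul_zero, WittVector.zero_coeff, zero_smul] at this
      exact this
    rw [h0] at this
    exact (neg_eq_of_add_eq_zero_right this.symm).symm
  have hπsurj : Function.Surjective π := by
    intro x
    refine ⟨∑ i, WittVector.teichmuller p (x i) • b i, ?_⟩
    ext i
    change (b.repr (∑ i, WittVector.teichmuller p (x i) • b i) i).coeff 0 = x i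
    rw [b.repr_sum_self]
    exact WittVector.teichmuller_coeff_zero p (x i)
  have hπker : ∀ x, π x = 0 → ∃ y, x = (p : WittVector p k) • y := by
    intro x hx
    have h1 : ∀ i, ∃ c, b.repr x i = (p : WittVector p k) * c := by
      intro i
      exact coeff_zero_dvd _ (congrFun hx i)
    choose c hc using h1
    refine ⟨∑ i, c i • b i, ?_⟩
    rw [Finset.smul_sum]
    conv_lhs => rw [← b.sum_repr x]
    refine Finset.sum_congr rfl fun i _ => ?_
    rw [hc, smul_smul]
  have hπp : ∀ y, π ((p : WittVector p k) • y) = 0 := by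
    intro y
    rw [hπsmul, p_coeff_zero, zero_smul]
  -- the induced map
  let φ : (Fin n → k) →+ (Fin n → k) :=
    { toFun := fun x => ∑ j, (x j) ^ (p ^ ν) • π (F (b j))
      map_zero' := by
        apply Finset.sum_eq_zero
        intro j _
        rw [Pi.zero_apply, zero_pow (by omega), zero_smul]
      map_add' := by
        intro x y
        rw [← Finset.sum_add_distrib]
        refine Finset.sum_congr rfl fun j _ => ?_
        rw [Pi.add_apply, add_pow_char_pow, add_smul] }
  have hφ_apply : ∀ x, φ x = ∑ j, (x j) ^ (p ^ ν) • π (F (b j)) := fun x => rfl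
  have hφ : ∀ (a : k) (x : Fin n → k), φ (a • x) = a ^ (p ^ ν) • φ x := by
    intro a x
    rw [hφ_apply, hφ_apply, Finset.smul_sum]
    refine Finset.sum_congr rfl fun j _ => ?_
    rw [Pi.smul_apply, smul_eq_mul, mul_pow, mul_smul]
  have hπsum : ∀ (s : Finset (Fin n)) (f : Fin n → M), π (∑ j ∈ s, f j) = ∑ j ∈ s, π (f j) := by
    intro s f
    classical
    induction s using Finset.induction_on with
    | empty =>
      have := hπsmul 0 0
      rw [smul_zero, WittVector.zero_coeff, zero_smul] at this
      simpa using this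
    | insert a s ha ih => rw [Finset.sum_insert ha, Finset.sum_insert ha, hπadd, ih]
  have hcomm : ∀ m, π (F m) = φ (π m) := by
    intro m
    conv_lhs => rw [← b.sum_repr m]
    rw [map_sum, hπsum, hφ_apply]
    refine Finset.sum_congr rfl fun j _ => ?_
    rw [hF, hπsmul, WittVector.iterate_frobenius_coeff]
  have hφinj : Function.Injective φ := by
    rw [injective_iff_map_eq_zero]
    intro x hx
    obtain ⟨m, rfl⟩ := hπsurj x
    rw [← hcomm] at hx
    obtain ⟨y, hy⟩ := hπker _ hx
    obtain ⟨y', rfl⟩ := hbij.surjective y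
    have h1 := add_p_smul (p := p) (k := k) F 1 y'
    rw [pow_one, ← hy] at h1
    have h2 := hbij.injective h1
    rw [← h2]
    exact hπp _
  obtain ⟨ι, c, hc⟩ := exists_basis_fixed hq φ hφ hφinj
  have hιfin : Finite ι := Module.Finite.finite_basis c
  have : Fintype ι := Fintype.ofFinite ι
  have hcard : Fintype.card ι = n := by
    rw [← Module.finrank_eq_card_basis c, Module.finrank_fin_fun]
  let c' : Module.Basis (Fin n) k (Fin n → k) := c.reindex (Fintype.equivFinOfCardEq hcard)
  have hc' : ∀ i, φ (c' i) = c' i := by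
    intro i
    rw [Module.Basis.reindex_apply]
    exact hc _
  -- surjectivity modulo p
  have hmod : ∀ z : M, ∃ u z' : M, F u - u = z + (p : WittVector p k) • z' := by
    intro z
    choose d hd using fun i => solve_as hq (c'.repr (π z) i)
    obtain ⟨u, hu⟩ := hπsurj (∑ i, d i • c' i)
    have h1 : π (F u - u - z) = 0 := by
      rw [sub_eq_add_neg, sub_eq_add_neg, hπadd, hπadd, hπneg, hπneg, hcomm, hu, map_sum]
      conv_lhs =>
        enter [2]
        rw [← c'.sum_repr (π z)]
      rw [← Finset.sum_neg_distrib, ← Finset.sum_neg_distrib, ← Finset.sum_add_distrib, ← Finset.sum_add_distrib]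
      apply Finset.sum_eq_zero
      intro i _
      rw [hφ, hc', ← neg_smul, ← neg_smul, ← add_smul, ← add_smul]
      have h2 := hd i
      have h3 : d i ^ p ^ ν + -d i + -(c'.repr (π z)) i = 0 := by rw [← h2]; ring
      rw [h3, zero_smul]
    obtain ⟨z', hz'⟩ := hπker _ h1
    exact ⟨u, z', by rw [← hz']; abel⟩
  -- lift the fixed vectors
  have hlift : ∀ i, ∃ x : M, F x = x ∧ π x = c' i := by
    intro i
    obtain ⟨y, hy⟩ := hπsurj (c' i)
    have h1 : π (F y - y) = 0 := by
      rw [sub_eq_add_neg, hπadd, hπneg, hcomm, hy, hc', add_neg_cancel]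
    obtain ⟨z, hz⟩ := hπker _ h1
    obtain ⟨u, hu⟩ := sub_one_surj F hmod z
    refine ⟨y - (p : WittVector p k) • u, ?_, ?_⟩
    · rw [map_sub]
      have h2 := add_p_smul (p := p) (k := k) F 1 u
      rw [pow_one] at h2
      rw [h2]
      have h3 : F y = y + (p : WittVector p k) • z := by rw [← hz]; abel
      have h4 : F u = u + z := by rw [← hu]; abel
      rw [h3, h4, smul_add]
      abel
    · rw [sub_eq_add_neg, hπadd, hπneg, hπp, neg_zero, add_zero, hy]
  choose x hxF hxπ using hlift
  have hdet : IsUnit (b.det x) := by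
    rw [Module.Basis.det_apply]
    apply WittVector.isUnit_of_coeff_zero_ne_zero
    have h1 : ((b.toMatrix x).det).coeff 0 = ((Pi.basisFun k (Fin n)).toMatrix c').det := by
      change WittVector.constantCoeff ((b.toMatrix x).det) = _
      rw [RingHom.map_det]
      congr 1
      ext i j
      rw [Module.Basis.toMatrix_apply, Pi.basisFun_repr, ← hxπ j]
      rfl
    rw [h1]
    have := (Pi.basisFun k (Fin n)).invertibleToMatrix c'
    exact (Matrix.isUnit_det_of_invertible _).ne_zero
  obtain ⟨hli, hsp⟩ := (Module.Basis.is_basis_iff_det b).2 hdet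
  refine ⟨Module.Basis.mk hli hsp.ge, fun i => ?_⟩
  rw [Module.Basis.mk_apply]
  exact hxF i

end lang

end Groth.Agent.H25Isoc
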