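import Groth.Agent.Lib.H25_Isoc10
import Groth.Agent.Lib.H25_Lang2

set_option autoImplicit false
set_option linter.unusedSectionVars false

noncomputable section

open scoped Pointwise Isocrystal
open Filter Topology

universe u v w

namespace Groth.Agent.H25Isoc

variable {p : ℕ} [Fact p.Prime] {k : Type u} [Field k] [CharP k p] [PerfectRing k p] [IsAlgClosed k]

section twelve

variable {N : Type v} [AddCommGroup N] [Module (WittVector p k) N] [Module K(p, k) N]
  [IsScalarTower (WittVector p k) K(p, k) N]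

/-- iterated frobenius -/
theorem frobEquiv_zpow_natCast (n : ℕ) (w : WittVector p k) :
    (WittVector.frobeniusEquiv p k ^ (n : ℤ)) w = WittVector.frobenius^[n] w := by
  rw [zpow_natCast]
  induction n with
  | zero => rfl
  | succ n ih =>
    rw [pow_succ', Function.iterate_succ_apply', ← ih]
    rfl

/-- a lattice fixed by a `σ^c`-semilinear map, `c ≥ 1`, is spanned by fixed vectors -/
theorem fixed_basis_pos {τ : K(p, k) →+* K(p, k)} (ν : ℕ) (hν : 1 ≤ ν)
    (hτ : ∀ w, τ (algebraMap (WittVector p k) K(p, k) w) = algebraMap (WittVector p k) K(p, k) ((WittVector.frobenius^[ν]) w))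
    (G : N →ₛₗ[τ] N) (hGi : Function.Injective G) {M : Submodule (WittVector p k) N}
    (hM : M.IsLattice K(p, k)) (hGM : ∀ x ∈ M, G x ∈ M) (hGM' : ∀ x ∈ M, ∃ y ∈ M, G y = x) :
    Submodule.span K(p, k) {x : N | G x = x} = ⊤ := by
  let φ : M →+ M :=
    { toFun := fun x => ⟨G x, hGM _ x.2⟩
      map_zero' := by apply Subtype.ext; simp
      map_add' := by intro x y; apply Subtype.ext; simp }
  have hφ : ∀ x, ((φ x : M) : N) = G x := fun x => rfl
  have : Module.Finite (WittVector p k) M := Module.Finite.iff_fg.2 hM.fg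
  have : Module.Free (WittVector p k) M := Submodule.IsLattice.free K(p, k) M
  obtain ⟨b, hb⟩ := lang_W hν (Module.finBasis (WittVector p k) M) φ (by
    intro a m
    apply Subtype.ext
    rw [hφ, Submodule.coe_smul, Submodule.coe_smul, hφ, ← algebraMap_smul K(p, k) a, map_smulₛₗ, hτ, algebraMap_smul]) (by
    constructor
    · intro x y hxy
      apply Subtype.ext
      apply hGi
      exact congrArg (fun z : M => (z : N)) hxy
    · rintro ⟨x, hx⟩
      obtain ⟨y, hy, rfl⟩ := hGM' x hx
      exact ⟨⟨y, hy⟩, rfl⟩)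
  rw [eq_top_iff, ← hM.span_eq_top, Submodule.span_le]
  intro x hx
  have h1 : (⟨x, hx⟩ : M) ∈ Submodule.span (WittVector p k) (Set.range b) := by rw [b.span_eq]; trivial
  have h2 : x ∈ (Submodule.span (WittVector p k) (Set.range b)).map M.subtype := ⟨_, h1, rfl⟩
  rw [Submodule.map_span, ← Set.range_comp] at h2
  have h3 : Submodule.span (WittVector p k) (Set.range (M.subtype ∘ b)) ≤
      (Submodule.span K(p, k) {x : N | G x = x}).restrictScalars (WittVector p k) := by
    rw [Submodule.span_le]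
    rintro _ ⟨i, rfl⟩
    apply Submodule.subset_span
    have := congrArg (fun z : M => (z : N)) (hb i)
    exact this
  exact h3 h2

/-- the inverse of a semilinear bijection for a nonpositive twist -/
theorem fixed_basis (c : ℤ) (hc : c ≠ 0) {τ : K(p, k) →+* K(p, k)}
    (hτ : ∀ w, τ (algebraMap (WittVector p k) K(p, k) w) = algebraMap (WittVector p k) K(p, k) ((WittVector.frobeniusEquiv p k ^ c) w))
    (G : N →ₛₗ[τ] N) (hGb : Function.Bijective G) {M : Submodule (WittVector p k) N}
    (hM : M.IsLattice K(p, k)) (hGM : ∀ x ∈ M, G x ∈ M) (hGM' : ∀ x ∈ M, ∃ y ∈ M, G y = x) :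
    Submodule.span K(p, k) {x : N | G x = x} = ⊤ := by
  rcases lt_or_gt_of_ne hc with hneg | hpos
  · obtain ⟨ν, rfl⟩ : ∃ ν : ℕ, c = -(ν : ℤ) := ⟨(-c).toNat, by omega⟩
    have hν : 1 ≤ ν := by omega
    -- inverse map is σ^ν semilinear
    let e := Equiv.ofBijective G hGb
    have he : ∀ x, G (e.symm x) = x := fun x => Equiv.ofBijective_apply_symm_apply G hGb x
    have hττ : ∀ y, τ (Isoc.frob p k ν y) = y := by
      intro y
      obtain ⟨a, b, hb, rfl⟩ := IsFractionRing.div_surjective (A := WittVector p k) y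
      have h1 : ∀ a : WittVector p k, (WittVector.frobeniusEquiv p k ^ (-(ν : ℤ))) ((WittVector.frobeniusEquiv p k ^ (ν : ℤ)) a) = a := by
        intro a
        change ((WittVector.frobeniusEquiv p k ^ (-(ν : ℤ))) * (WittVector.frobeniusEquiv p k ^ (ν : ℤ))) a = a
        rw [← zpow_add, neg_add_cancel, zpow_zero]
        rfl
      rw [map_div₀, map_div₀, Isoc.frob_algebraMap, Isoc.frob_algebraMap, hτ, hτ, h1, h1]
    let H : N →ₛₗ[Isoc.frob p k ν] N :=
      { toFun := e.symm
        map_add' := by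
          intro x y
          apply hGb.injective
          rw [he, map_add, he, he]
        map_smul' := by
          intro y x
          apply hGb.injective
          rw [he, map_smulₛₗ, he, hττ] }
    have hH : ∀ x, G (H x) = x := he
    have hH' : ∀ x, H (G x) = x := fun x => hGb.injective (hH _)
    have h2 := fixed_basis_pos ν hν (fun w => by rw [Isoc.frob_algebraMap, frobEquiv_zpow_natCast]) H
      (fun x y hxy => by rw [← hH x, ← hH y, hxy]) hM
      (fun x hx => by
        obtain ⟨y, hy, rfl⟩ := hGM' x hx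
        rw [hH']; exact hy)
      (fun x hx => ⟨G x, hGM x hx, hH' x⟩)
    rw [← h2]
    congr 1
    ext x
    constructor
    · intro hx
      have hx' : G x = x := hx
      change H x = x
      conv_lhs => rw [← hx']
      exact hH' x
    · intro hx
      have hx' : H x = x := hx
      change G x = x
      conv_lhs => rw [← hx']
      exact hH x
  · obtain ⟨ν, rfl⟩ : ∃ ν : ℕ, c = (ν : ℤ) := ⟨c.toNat, by omega⟩
    exact fixed_basis_pos ν (by omega) (fun w => by rw [hτ, frobEquiv_zpow_natCast]) G hGb.injective hM hGM hGM'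

/-- in an isoclinic isocrystal of slope `d/h` there is a lattice with `F^h M = p^d M` -/
theorem exists_lattice_lowest {τ : K(p, k) →+* K(p, k)} (hτ : Nice τ) [Module.Finite K(p, k) N]
    (F : N →ₛₗ[τ] N) (hF : Function.Bijective F) (μ : ℚ)
    (hμ : Isoc.IsIsoclinic F μ) : ∃ M : Submodule (WittVector p k) N, M.IsLattice K(p, k) ∧
      Isoc.latImg F μ.den M = Isoc.pPow μ.num M := by
  rcases subsingleton_or_nontrivial N with hsub | hnt
  · obtain ⟨M, hM, -⟩ := hμ
    exact ⟨M, hM, Subsingleton.elim _ _⟩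
  obtain ⟨M, hM, r, s, hs, hrs, h⟩ := hμ
  let b := Module.finBasisOfFinrankEq K(p, k) N rfl
  obtain ⟨d, hd⟩ := exists_ordP (detCoeff_ne_zero hτ b F hF.surjective)
  have h1 := (s139 hτ F ⟨inferInstance, hF⟩ _ b d hd M hM r s hs h)
  have hslope : Isoc.IsFirstSlope F ((μ.num : ℝ) / μ.den) := by
    have h2 : ((r : ℝ) / s) = (μ.num : ℝ) / μ.den := by
      have h3 : ((r : ℚ) / s) = (μ.num : ℚ) / μ.den := by rw [hrs, Rat.num_div_den]
      exact_mod_cast congrArg (Rat.cast : ℚ → ℝ) h3
    rw [← h2]
    exact h1.1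
  obtain ⟨M', hM', h4⟩ := s145 hτ F _ hslope μ.num μ.den μ.den_pos le_rfl
  refine ⟨M', hM', ?_⟩
  obtain ⟨v, hv⟩ := vol_exists b hM'
  refine (vol_le b h4 (vol_latImg hτ b F hd hv μ.den) (vol_pPow b μ.num hv)).2 ?_
  have h5 : μ.num * (Module.finrank K(p, k) N : ℤ) = μ.den * d := by
    have h6 : (μ.num : ℚ) * s = r * μ.den := by
      have h3 : ((r : ℚ) / s) = (μ.num : ℚ) / μ.den := by rw [hrs, Rat.num_div_den]
      have hs' : (s : ℚ) ≠ 0 := by positivity
      have hd' : (μ.den : ℚ) ≠ 0 := by have := μ.den_pos; positivity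
      rw [div_eq_div_iff hs' hd'] at h3
      linarith
    have h7 : μ.num * (s : ℤ) = r * μ.den := by exact_mod_cast h6
    have h8 := h1.2
    have hs' : (s : ℤ) ≠ 0 := by positivity
    apply mul_left_cancel₀ hs'
    calc (s : ℤ) * (μ.num * (Module.finrank K(p, k) N : ℤ)) = (μ.num * s) * (Module.finrank K(p, k) N : ℤ) := by ring
      _ = μ.den * (r * (Module.finrank K(p, k) N : ℤ)) := by rw [h7]; ring
      _ = μ.den * (s * d) := by rw [h8]
      _ = (s : ℤ) * (μ.den * d) := by ring
  rw [h5]

theorem isIsoc_restrict {τ : K(p, k) →+* K(p, k)} [Module.Finite K(p, k) N] (F : N →ₛₗ[τ] N) (hF : Function.Bijective F)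
    {P : Submodule K(p, k) N} (hP : ∀ x ∈ P, F x ∈ P) : Function.Bijective (F.restrict hP) := by
  constructor
  · intro x y hxy
    apply Subtype.ext
    apply hF.injective
    exact congrArg (fun z : P => (z : N)) hxy
  · rintro ⟨x, hx⟩
    obtain ⟨y, rfl⟩ := hF.surjective x
    exact ⟨⟨y, mem_of_map_mem F hF.surjective hP y hx⟩, rfl⟩

theorem frob_pow_algebraMap (a : ℤ) (n : ℕ) (w : WittVector p k) :
    ((Isoc.frob p k a) ^ n) (algebraMap (WittVector p k) K(p, k) w) =
      algebraMap (WittVector p k) K(p, k) ((WittVector.frobeniusEquiv p k ^ (a * n)) w) := by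
  induction n generalizing w with
  | zero => simp
  | succ n ih =>
    rw [pow_succ, RingHom.coe_mul, Function.comp_apply, Isoc.frob_algebraMap, ih]
    congr 1
    change ((WittVector.frobeniusEquiv p k ^ (a * n)) * (WittVector.frobeniusEquiv p k ^ a)) w = _
    rw [← zpow_add]
    congr 2
    push_cast
    ring

/-- isoclinic isocrystals are spanned by vectors with `F^h x = p^d x` -/
theorem span_eigen (a : ℤ) (ha : a ≠ 0) [Module.Finite K(p, k) N]
    (F : N →ₛₗ[Isoc.frob p k a] N) (hF : Function.Bijective F) (μ : ℚ)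
    (hμ : Isoc.IsIsoclinic F μ) :
    Submodule.span K(p, k) {x : N | F^[μ.den] x = (p : K(p, k)) ^ μ.num • x} = ⊤ := by
  obtain ⟨M, hM, h⟩ := exists_lattice_lowest (nice_frob a) F hF μ hμ
  set G := ((p : K(p, k)) ^ (-μ.num) • Isoc.iter F μ.den) with hG
  have hGapp : ∀ x, G x = (p : K(p, k)) ^ (-μ.num) • F^[μ.den] x := fun x => rfl
  have hGs : Function.Surjective G := twist_surjective F hF.surjective (-μ.num) μ.den
  have hGi : Function.Injective G := by
    intro x y hxy
    rw [hGapp, hGapp] at hxy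
    have h1 := congrArg (fun z => (p : K(p, k)) ^ μ.num • z) hxy
    simp only [smul_smul, ← zpow_add₀ (p_ne_zero (p := p) (k := k)), add_neg_cancel, zpow_zero, one_smul] at h1
    exact hF.injective.iterate _ h1
  have h1 := fixed_basis (a * μ.den) (mul_ne_zero ha (by have := μ.den_pos; omega)) (frob_pow_algebraMap a μ.den) G ⟨hGi, hGs⟩ hM
    (by
      intro x hx
      have h2 : F^[μ.den] x ∈ Isoc.latImg F μ.den M := (mem_latImg (nice_frob a) _ _ _ _).2 ⟨x, hx, rfl⟩
      rw [h, mem_pPow] at h2
      exact h2)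
    (by
      intro x hx
      have h2 : (p : K(p, k)) ^ μ.num • x ∈ Isoc.latImg F μ.den M := by rw [h]; exact smul_mem_pPow hx
      rw [mem_latImg (nice_frob a)] at h2
      obtain ⟨y, hy, hyx⟩ := h2
      refine ⟨y, hy, ?_⟩
      rw [hGapp, hyx, smul_smul, ← zpow_add₀ p_ne_zero]
      simp)
  rw [← h1]
  congr 1
  ext x
  constructor
  · intro hx
    have hx' : F^[μ.den] x = (p : K(p, k)) ^ μ.num • x := hx
    change G x = x
    rw [hGapp, hx', smul_smul, ← zpow_add₀ p_ne_zero]
    simp
  · intro hx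
    have hx' : G x = x := hx
    change F^[μ.den] x = (p : K(p, k)) ^ μ.num • x
    conv_rhs => rw [← hx', hGapp, smul_smul, ← zpow_add₀ p_ne_zero]
    simp

end twelve

end Groth.Agent.H25Isoc
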