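import Groth.Agent.Lib.H25_Isoc12
import Mathlib.LinearAlgebra.Pi
import Mathlib.Algebra.DirectSum.Module

set_option autoImplicit false
set_option linter.unusedSectionVars false

noncomputable section

open scoped Pointwise Isocrystal
open Filter Topology

universe u v w

namespace Groth.Agent.H25Isoc

variable {p : ℕ} [Fact p.Prime] {k : Type u} [Field k] [CharP k p] [PerfectRing k p]

section morph

variable {N : Type v} [AddCommGroup N] [Module (WittVector p k) N] [Module K(p, k) N]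
  [IsScalarTower (WittVector p k) K(p, k) N]
variable {τ : K(p, k) →+* K(p, k)}

/-- the morphism from the standard isocrystal given by a vector with `F^h x = p^d x` -/
def fmap (F : N →ₛₗ[τ] N) (h : ℕ) (x : N) : (Fin h → K(p, k)) →ₗ[K(p, k)] N :=
  (Pi.basisFun K(p, k) (Fin h)).constr K(p, k) (fun i => F^[i.val] x)

theorem fmap_single (F : N →ₛₗ[τ] N) (h : ℕ) (x : N) (i : Fin h) :
    fmap F h x (Pi.single i 1) = F^[i.val] x := by
  have := (Pi.basisFun K(p, k) (Fin h)).constr_basis K(p, k) (fun i => F^[i.val] x) i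
  rwa [Pi.basisFun_apply] at this

theorem fmap_comm (F : N →ₛₗ[τ] N) (d : ℤ) (h : ℕ) (x : N)
    (hx : F^[h + 1] x = (p : K(p, k)) ^ d • x) (c : Fin (h + 1) → K(p, k)) :
    fmap F (h + 1) x (Isoc.stdIsoc τ d (h + 1) c) = F (fmap F (h + 1) x c) := by
  have h1 : (fmap F (h + 1) x).comp (Isoc.stdIsoc τ d (h + 1)) = F.comp (fmap F (h + 1) x) := by
    apply (Pi.basisFun K(p, k) (Fin (h + 1))).ext
    intro i
    rw [Pi.basisFun_apply, LinearMap.comp_apply, LinearMap.comp_apply, fmap_single]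
    by_cases hi : i.val + 1 < h + 1
    · rw [std_e_succ d (h + 1) i hi, fmap_single, Function.iterate_succ_apply']
    · have hi' : i = Fin.last h := by
        apply Fin.ext
        rw [Fin.val_last]
        have := i.2
        omega
      rw [hi', std_e_last, map_smul, fmap_single, Fin.val_last, ← Function.iterate_succ_apply' F h x, hx]
      rfl
  exact LinearMap.congr_fun h1 c

theorem fmap_dichotomy (hτ : Nice τ) (F : N →ₛₗ[τ] N) (μ : ℚ) (x : N)
    (hx : F^[μ.den] x = (p : K(p, k)) ^ μ.num • x) (T : Submodule K(p, k) N) (hT : ∀ y ∈ T, F y ∈ T) :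
    T.comap (fmap F μ.den x) = ⊥ ∨ T.comap (fmap F μ.den x) = ⊤ := by
  obtain ⟨h, hh⟩ : ∃ h, μ.den = h + 1 := ⟨μ.den - 1, by have := μ.den_pos; omega⟩
  apply s153 hτ μ.num μ.den μ.den_pos
  · have := μ.reduced
    rw [Int.gcd_eq_natAbs, Int.natAbs_natCast]
    exact this
  · intro c hc
    rw [Submodule.mem_comap] at hc ⊢
    have : fmap F μ.den x (Isoc.stdIsoc τ μ.num μ.den c) = F (fmap F μ.den x c) := by
      revert c hc
      rw [hh] at hx
      rw [hh]
      intro c hc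
      exact fmap_comm F μ.num h x hx c
    rw [this]
    exact hT _ hc

theorem fmap_comm' (F : N →ₛₗ[τ] N) (μ : ℚ) (x : N)
    (hx : F^[μ.den] x = (p : K(p, k)) ^ μ.num • x) (c : Fin μ.den → K(p, k)) :
    fmap F μ.den x (Isoc.stdIsoc τ μ.num μ.den c) = F (fmap F μ.den x c) := by
  obtain ⟨h, hh⟩ : ∃ h, μ.den = h + 1 := ⟨μ.den - 1, by have := μ.den_pos; omega⟩
  revert c
  rw [hh] at hx ⊢
  exact fmap_comm F μ.num h x hx

theorem mem_range_fmap (F : N →ₛₗ[τ] N) (μ : ℚ) (x : N) : x ∈ LinearMap.range (fmap F μ.den x) :=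
  ⟨Pi.single ⟨0, μ.den_pos⟩ 1, fmap_single F μ.den x _⟩

theorem fmap_inj (hτ : Nice τ) (F : N →ₛₗ[τ] N) (μ : ℚ) (x : N) (hx0 : x ≠ 0)
    (hx : F^[μ.den] x = (p : K(p, k)) ^ μ.num • x) : Function.Injective (fmap F μ.den x) := by
  rw [← LinearMap.ker_eq_bot, ← Submodule.comap_bot]
  rcases fmap_dichotomy hτ F μ x hx ⊥ (by
    intro y hy
    rw [Submodule.mem_bot] at hy ⊢
    rw [hy, map_zero]) with h | h
  · exact h
  · exfalso
    apply hx0
    obtain ⟨c, hc⟩ := mem_range_fmap F μ x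
    have : c ∈ Submodule.comap (fmap F μ.den x) ⊥ := by rw [h]; trivial
    rw [Submodule.mem_comap, hc, Submodule.mem_bot] at this
    exact this

theorem range_fmap_stable (F : N →ₛₗ[τ] N) (μ : ℚ) (x : N)
    (hx : F^[μ.den] x = (p : K(p, k)) ^ μ.num • x) : ∀ y ∈ LinearMap.range (fmap F μ.den x),
      F y ∈ LinearMap.range (fmap F μ.den x) := by
  rintro _ ⟨c, rfl⟩
  exact ⟨_, fmap_comm' F μ x hx c⟩

/-- the set of eigenvectors -/
def EE (F : N →ₛₗ[τ] N) : Set N := {x | ∃ μ : ℚ, F^[μ.den] x = (p : K(p, k)) ^ μ.num • x}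

theorem complement_of_span [Module.Finite K(p, k) N] (hτ : Nice τ) (F : N →ₛₗ[τ] N)
    (hE : Submodule.span K(p, k) (EE F) = ⊤)
    (P : Submodule K(p, k) N) (hP : ∀ x ∈ P, F x ∈ P) :
    ∃ Q : Submodule K(p, k) N, (∀ x ∈ Q, F x ∈ Q) ∧ IsCompl P Q := by
  let S : Set (Submodule K(p, k) N) := {Q | (∀ x ∈ Q, F x ∈ Q) ∧ Disjoint P Q}
  have hS0 : (⊥ : Submodule K(p, k) N) ∈ S := by
    refine ⟨fun x hx => ?_, disjoint_bot_right⟩
    rw [Submodule.mem_bot] at hx ⊢
    rw [hx, map_zero]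
  obtain ⟨Q, ⟨hQ1, hQ2⟩, hmax⟩ := set_has_maximal_iff_noetherian.2 (inferInstance : IsNoetherian K(p, k) N) S ⟨_, hS0⟩
  refine ⟨Q, hQ1, hQ2, ?_⟩
  rw [codisjoint_iff, eq_top_iff, ← hE, Submodule.span_le]
  rintro x ⟨μ, hx⟩
  by_contra hxPQ
  have hsupst : ∀ y ∈ P ⊔ Q, F y ∈ P ⊔ Q := by
    intro y hy
    rw [Submodule.mem_sup] at hy ⊢
    obtain ⟨a, ha, b, hb, rfl⟩ := hy
    exact ⟨F a, hP a ha, F b, hQ1 b hb, (map_add _ _ _).symm⟩
  have hdis : Disjoint (P ⊔ Q) (LinearMap.range (fmap F μ.den x)) := by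
    rcases fmap_dichotomy hτ F μ x hx (P ⊔ Q) hsupst with h | h
    · rw [disjoint_iff, eq_bot_iff]
      rintro y ⟨hy1, c, rfl⟩
      have : c ∈ (P ⊔ Q).comap (fmap F μ.den x) := hy1
      rw [h, Submodule.mem_bot] at this
      rw [this, map_zero]
      exact Submodule.zero_mem _
    · exfalso
      obtain ⟨c, hc⟩ := mem_range_fmap F μ x
      have : c ∈ (P ⊔ Q).comap (fmap F μ.den x) := by rw [h]; trivial
      rw [Submodule.mem_comap, hc] at this
      exact hxPQ this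
  have hnew : Q ⊔ LinearMap.range (fmap F μ.den x) ∈ S := by
    refine ⟨?_, Disjoint.disjoint_sup_right_of_disjoint_sup_left hQ2 hdis⟩
    intro y hy
    rw [Submodule.mem_sup] at hy ⊢
    obtain ⟨a, ha, b, hb, rfl⟩ := hy
    exact ⟨F a, hQ1 a ha, F b, range_fmap_stable F μ x hx b hb, (map_add _ _ _).symm⟩
  apply hmax _ hnew
  refine lt_of_le_of_ne le_sup_left fun heq => ?_
  apply hxPQ
  have h1 : x ∈ Q ⊔ LinearMap.range (fmap F μ.den x) := (le_sup_right : _ ≤ Q ⊔ LinearMap.range (fmap F μ.den x)) (mem_range_fmap F μ x)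
  rw [← heq] at h1
  exact (le_sup_right : Q ≤ P ⊔ Q) h1

theorem classify [Module.Finite K(p, k) N] (hτ : Nice τ) (F : N →ₛₗ[τ] N)
    (hE : Submodule.span K(p, k) (EE F) = ⊤)
    (hEres : ∀ (P : Submodule K(p, k) N) (hP : ∀ x ∈ P, F x ∈ P), Submodule.span K(p, k) (EE (F.restrict hP)) = ⊤) : True := trivial

end morph

section algclosed

variable [IsAlgClosed k] {N : Type v} [AddCommGroup N] [Module (WittVector p k) N] [Module K(p, k) N]
  [IsScalarTower (WittVector p k) K(p, k) N]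

theorem span_EE (a : ℤ) (ha : a ≠ 0) [Module.Finite K(p, k) N]
    (F : N →ₛₗ[Isoc.frob p k a] N) (hF : Function.Bijective F) : Submodule.span K(p, k) (EE F) = ⊤ := by
  rw [eq_top_iff, ← iSup_slopePart (nice_frob a) _ N F hF rfl]
  apply iSup_le
  intro μ
  have hsp := slopePart_spec (nice_frob a) F hF.surjective μ
  obtain ⟨h1, M, h2, h3, r, s, hs, hrs, h4⟩ := hsp
  obtain ⟨M', hM', h5⟩ := isIsoclinic_of_isoOn (nice_frob a) F hF.surjective h1 M h2 h3.ge r s h4
  have h6 := span_eigen a ha (F.restrict h1) (isIsoc_restrict F hF h1) μ ⟨M', hM', r, s, hs, hrs, h5⟩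
  have h7 := congrArg (Submodule.map (Isoc.slopePart F μ).subtype) h6
  rw [Submodule.map_span, Submodule.map_top, Submodule.range_subtype] at h7
  rw [← h7, Submodule.span_le]
  rintro _ ⟨x, hx, rfl⟩
  apply Submodule.subset_span
  refine ⟨μ, ?_⟩
  have hx' : (F.restrict h1)^[μ.den] x = (p : K(p, k)) ^ μ.num • x := hx
  have h8 := coe_restrict_iterate F h1 μ.den x
  rw [hx'] at h8
  exact h8.symm

theorem s154 (a : ℤ) (ha : a ≠ 0) (F : N →ₛₗ[Isoc.frob p k a] N) (hF : Isoc.IsIsoc F)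
    (P : Submodule K(p, k) N) (hP : ∀ x ∈ P, F x ∈ P) :
    ∃ Q : Submodule K(p, k) N, (∀ x ∈ Q, F x ∈ Q) ∧ IsCompl P Q := by
  have := hF.finite
  exact complement_of_span (nice_frob a) F (span_EE a ha F hF.bijective) P hP

end algclosed

end Groth.Agent.H25Isoc
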