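import Groth.Agent.Lib.H25_Isoc13

set_option autoImplicit false
set_option linter.unusedSectionVars false

noncomputable section

open scoped Pointwise Isocrystal
open Filter Topology

universe u v w

namespace Groth.Agent.H25Isoc

variable {p : ℕ} [Fact p.Prime] {k : Type u} [Field k] [CharP k p] [PerfectRing k p]

section algclosed

variable [IsAlgClosed k]

theorem classify_ac (a : ℤ) (ha : a ≠ 0) (n : ℕ) : ∀ (N : Type v) [AddCommGroup N] [Module (WittVector p k) N] [Module K(p, k) N]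
    [IsScalarTower (WittVector p k) K(p, k) N] [Module.Finite K(p, k) N] (F : N →ₛₗ[Isoc.frob p k a] N) (_ : Function.Bijective F),
    Module.finrank K(p, k) N = n →
    ∃ (t : ℕ) (d : Fin t → ℤ) (h : Fin t → ℕ)
      (e : N ≃ₗ[K(p, k)] ((i : Fin t) → (Fin (h i) → K(p, k)))),
      (∀ i, 0 < h i ∧ Int.gcd (d i) (h i) = 1) ∧
      (∀ (x : N) (i : Fin t), e (F x) i = Isoc.stdIsoc (Isoc.frob p k a) (d i) (h i) (e x i)) := by
  induction n using Nat.strong_induction_on with
  | _ n ih =>
  intro N _ _ _ _ _ F hF hn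
  rcases subsingleton_or_nontrivial N with hsub | hnt
  · exact ⟨0, Fin.elim0, Fin.elim0, LinearEquiv.ofSubsingleton _ _, fun i => i.elim0, fun _ i => i.elim0⟩
  -- a nonzero eigenvector
  have hE := span_EE a ha F hF
  obtain ⟨x, ⟨μ, hx⟩, hx0⟩ : ∃ x ∈ EE F, x ≠ 0 := by
    by_contra hcon
    push Not at hcon
    have : Submodule.span K(p, k) (EE F) = ⊥ := Submodule.span_eq_bot.2 hcon
    rw [this] at hE
    exact bot_ne_top hE
  set f := fmap F μ.den x with hf
  have hfinj := fmap_inj (nice_frob a) F μ x hx0 hx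
  have hfcomm := fmap_comm' F μ x hx
  set P := LinearMap.range f with hP
  have hPst : ∀ y ∈ P, F y ∈ P := range_fmap_stable F μ x hx
  obtain ⟨Q, hQst, hPQ⟩ := complement_of_span (nice_frob a) F hE P hPst
  have hQne : Q ≠ ⊤ := by
    intro hQ
    rw [hQ] at hPQ
    have h1 : P = ⊥ := by
      have := hPQ.inf_eq_bot
      rwa [inf_top_eq] at this
    have h2 : x ∈ P := mem_range_fmap F μ x
    rw [h1, Submodule.mem_bot] at h2
    exact hx0 h2
  obtain ⟨t, d, h, e, he1, he2⟩ := ih _ (by rw [← hn]; exact Submodule.finrank_lt hQne) Q (F.restrict hQst)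
    (isIsoc_restrict F hF hQst) rfl
  let e0 : (Fin μ.den → K(p, k)) ≃ₗ[K(p, k)] P := LinearEquiv.ofInjective f hfinj
  have he0 : ∀ c, ((e0 c : P) : N) = f c := fun c => rfl
  let E1 := (Submodule.prodEquivOfIsCompl P Q hPQ).symm
  let E2 : (P × Q) ≃ₗ[K(p, k)] ((Fin μ.den → K(p, k)) × ((i : Fin t) → (Fin (h i) → K(p, k)))) :=
    LinearEquiv.prodCongr e0.symm e
  let h' : Fin (t + 1) → ℕ := Fin.cons μ.den h
  let d' : Fin (t + 1) → ℤ := Fin.cons μ.num d
  let E3 : ((Fin μ.den → K(p, k)) × ((i : Fin t) → (Fin (h i) → K(p, k)))) ≃ₗ[K(p, k)] ((i : Fin (t + 1)) → (Fin (h' i) → K(p, k))) :=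
    Fin.consLinearEquiv K(p, k) (fun i : Fin (t + 1) => (Fin (h' i) → K(p, k)))
  refine ⟨t + 1, d', h', (E1.trans E2).trans E3, ?_, ?_⟩
  · intro i
    refine Fin.cases ?_ ?_ i
    · refine ⟨μ.den_pos, ?_⟩
      change Int.gcd μ.num μ.den = 1
      have := μ.reduced
      rw [Int.gcd_eq_natAbs, Int.natAbs_natCast]
      exact this
    · intro i
      exact he1 i
  · intro y i
    obtain ⟨⟨s, q⟩, rfl⟩ := (Submodule.prodEquivOfIsCompl P Q hPQ).surjective y
    obtain ⟨c, rfl⟩ := e0.surjective s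
    have h1 : F ((Submodule.prodEquivOfIsCompl P Q hPQ) (e0 c, q)) =
        (Submodule.prodEquivOfIsCompl P Q hPQ) (e0 (Isoc.stdIsoc (Isoc.frob p k a) μ.num μ.den c), F.restrict hQst q) := by
      rw [Submodule.coe_prodEquivOfIsCompl', Submodule.coe_prodEquivOfIsCompl', map_add]
      congr 1
      simp only [he0]
      exact (hfcomm c).symm
    rw [h1]
    have h2 : ∀ (c : Fin μ.den → K(p, k)) (q : Q), ((E1.trans E2).trans E3) ((Submodule.prodEquivOfIsCompl P Q hPQ) (e0 c, q)) =
        E3 (c, e q) := by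
      intro c q
      simp only [LinearEquiv.trans_apply]
      congr 1
      have h3 : E1 ((Submodule.prodEquivOfIsCompl P Q hPQ) (e0 c, q)) = (e0 c, q) :=
        (Submodule.prodEquivOfIsCompl P Q hPQ).symm_apply_apply _
      rw [h3]
      change (e0.symm (e0 c), e q) = _
      rw [LinearEquiv.symm_apply_apply]
    rw [h2, h2]
    refine Fin.cases ?_ ?_ i
    · rfl
    · intro i
      exact he2 q i

theorem sum_newton_le (a : ℤ) {N : Type v} [AddCommGroup N] [Module (WittVector p k) N] [Module K(p, k) N]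
    [IsScalarTower (WittVector p k) K(p, k) N] (F : N →ₛₗ[Isoc.frob p k a] N) (hF : Isoc.IsIsoc F) (T : Finset ℚ) :
    ∑ μ ∈ T, Isoc.newtonMult F μ ≤ Module.finrank K(p, k) N := by
  classical
  have hfin := hF.finite
  have hint := s152 (nice_frob a) F hF
  let bK : ∀ μ, Module.Basis (Fin (Module.finrank K(p, k) (Isoc.slopePart F μ))) K(p, k) (Isoc.slopePart F μ) := fun μ =>
    Module.finBasis K(p, k) (Isoc.slopePart F μ)
  let c := hint.collectedBasis bK
  have hJfin : Finite (Σ μ : ℚ, Fin (Module.finrank K(p, k) (Isoc.slopePart F μ))) := Module.Finite.finite_basis c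
  have : Fintype (Σ μ : ℚ, Fin (Module.finrank K(p, k) (Isoc.slopePart F μ))) := Fintype.ofFinite _
  rw [Module.finrank_eq_card_basis c]
  have h1 : (T.sigma (fun μ => (Finset.univ : Finset (Fin (Module.finrank K(p, k) (Isoc.slopePart F μ)))))).card =
      ∑ μ ∈ T, Isoc.newtonMult F μ := by
    rw [Finset.card_sigma]
    refine Finset.sum_congr rfl fun μ _ => ?_
    rw [Finset.card_univ, Fintype.card_fin]
    rfl
  rw [← h1]
  exact Finset.card_le_univ _

theorem std_isoOn {τ : K(p, k) →+* K(p, k)} (hτ : Nice τ) (d : ℤ) (h : ℕ) (hh : 0 < h) :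
    IsoOn (Isoc.stdIsoc τ d h) ⊤ ((d : ℚ) / h) := by
  obtain ⟨h, rfl⟩ : ∃ m, h = m + 1 := ⟨h - 1, by omega⟩
  refine ⟨Submodule.span (WittVector p k) (Set.range fun i : Fin (h + 1) => (Pi.single i 1 : Fin (h + 1) → K(p, k))),
    Submodule.fg_span (Set.finite_range _), ?_, d, h + 1, by omega, rfl, std_latImg hτ d h⟩
  rw [Submodule.span_span_of_tower]
  have hr : (Set.range fun i : Fin (h + 1) => (Pi.single i 1 : Fin (h + 1) → K(p, k))) =
      Set.range (Pi.basisFun K(p, k) (Fin (h + 1))) := by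
    congr 1
    funext i
    exact (Pi.basisFun_apply K(p, k) (Fin (h + 1)) i).symm
  rw [hr]
  exact (Pi.basisFun K(p, k) (Fin (h + 1))).span_eq

theorem s155 (a : ℤ) (ha : a ≠ 0) {N : Type v} [AddCommGroup N] [Module (WittVector p k) N] [Module K(p, k) N]
    [IsScalarTower (WittVector p k) K(p, k) N] (F : N →ₛₗ[Isoc.frob p k a] N) (hF : Isoc.IsIsoc F) :
    ∃ (t : ℕ) (d : Fin t → ℤ) (h : Fin t → ℕ)
      (e : N ≃ₗ[K(p, k)] ((i : Fin t) → (Fin (h i) → K(p, k)))),
      (∀ i, 0 < h i ∧ Int.gcd (d i) (h i) = 1) ∧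
      (∀ (x : N) (i : Fin t), e (F x) i = Isoc.stdIsoc (Isoc.frob p k a) (d i) (h i) (e x i)) ∧
      ∀ μ : ℚ, Isoc.newtonMult F μ = ∑ i : Fin t, (if ((d i : ℚ) / (h i : ℚ)) = μ then h i else 0) := by
  classical
  have hfin := hF.finite
  obtain ⟨t, d, h, e, he1, he2⟩ := classify_ac a ha _ N F hF.bijective rfl
  refine ⟨t, d, h, e, he1, he2, ?_⟩
  -- inclusion maps
  let g : ∀ i : Fin t, (Fin (h i) → K(p, k)) →ₗ[K(p, k)] N := fun i =>
    e.symm.toLinearMap ∘ₗ LinearMap.single K(p, k) (fun i => (Fin (h i) → K(p, k))) i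
  have hg : ∀ i c, g i c = e.symm (Pi.single i c) := fun i c => rfl
  have hgcomm : ∀ i c, g i (Isoc.stdIsoc (Isoc.frob p k a) (d i) (h i) c) = F (g i c) := by
    intro i c
    apply e.injective
    ext1 j
    rw [he2, hg, hg, LinearEquiv.apply_symm_apply, LinearEquiv.apply_symm_apply]
    by_cases hij : j = i
    · subst hij
      rw [Pi.single_eq_same, Pi.single_eq_same]
    · rw [Pi.single_eq_of_ne hij, Pi.single_eq_of_ne hij, map_zero]
  have hgle : ∀ i, LinearMap.range (g i) ≤ Isoc.slopePart F ((d i : ℚ) / (h i : ℚ)) := by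
    intro i
    apply le_slopePart (nice_frob a) F hF.bijective.surjective
    · rintro _ ⟨c, rfl⟩
      exact ⟨_, hgcomm i c⟩
    · rw [LinearMap.range_eq_map]
      exact isoOn_map (nice_frob a) _ F (g i) (hgcomm i) (std_isoOn (nice_frob a) (d i) (h i) (he1 i).1)
  -- lower bound
  have hlow : ∀ μ : ℚ, (∑ i : Fin t, (if ((d i : ℚ) / (h i : ℚ)) = μ then h i else 0)) ≤ Isoc.newtonMult F μ := by
    intro μ
    let I := {i : Fin t // ((d i : ℚ) / (h i : ℚ)) = μ}
    let G : ((i : I) → (Fin (h i.1) → K(p, k))) →ₗ[K(p, k)] N := ∑ i : I, g i.1 ∘ₗ LinearMap.proj i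
    have hGapp : ∀ c, G c = ∑ i : I, g i.1 (c i) := by
      intro c
      simp only [G, LinearMap.sum_apply, LinearMap.comp_apply, LinearMap.proj_apply]
    have hGinj : Function.Injective G := by
      rw [injective_iff_map_eq_zero]
      intro c hc
      ext1 i
      rw [hGapp] at hc
      have h1 := congrArg (fun z => e z i.1) hc
      simp only [map_sum, Finset.sum_apply, map_zero, Pi.zero_apply] at h1
      rw [Finset.sum_eq_single i] at h1
      · rw [hg, LinearEquiv.apply_symm_apply, Pi.single_eq_same] at h1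
        exact h1
      · intro j _ hj
        rw [hg, LinearEquiv.apply_symm_apply, Pi.single_eq_of_ne]
        intro hij
        exact hj (Subtype.ext hij.symm)
      · intro hi
        exact absurd (Finset.mem_univ i) hi
    have hGle : LinearMap.range G ≤ Isoc.slopePart F μ := by
      rintro _ ⟨c, rfl⟩
      rw [hGapp]
      apply Submodule.sum_mem
      intro i _
      have h1 := hgle i.1 ⟨c i, rfl⟩
      rwa [i.2] at h1
    have h1 : Module.finrank K(p, k) ((i : I) → (Fin (h i.1) → K(p, k))) ≤ Module.finrank K(p, k) (Isoc.slopePart F μ) := by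
      refine le_trans ?_ (Submodule.finrank_mono hGle)
      rw [LinearMap.finrank_range_of_inj hGinj]
    rw [Module.finrank_pi_fintype] at h1
    simp only [Module.finrank_fin_fun] at h1
    refine le_trans (le_of_eq ?_) h1
    rw [← Finset.sum_filter]
    exact (Finset.sum_subtype (Finset.univ.filter fun i : Fin t => ((d i : ℚ) / (h i : ℚ)) = μ) (by simp) h)
  intro μ
  set T : Finset ℚ := insert μ (Finset.univ.image fun i : Fin t => ((d i : ℚ) / (h i : ℚ))) with hT
  have h1 := sum_newton_le a F hF T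
  have h2 : Module.finrank K(p, k) N = ∑ i : Fin t, h i := by
    rw [e.finrank_eq, Module.finrank_pi_fintype]
    simp only [Module.finrank_fin_fun]
  have h3 : ∑ μ ∈ T, (∑ i : Fin t, (if ((d i : ℚ) / (h i : ℚ)) = μ then h i else 0)) = ∑ i : Fin t, h i := by
    rw [Finset.sum_comm]
    refine Finset.sum_congr rfl fun i _ => ?_
    rw [Finset.sum_ite_eq, if_pos]
    rw [hT, Finset.mem_insert]
    right
    exact Finset.mem_image_of_mem _ (Finset.mem_univ i)
  have h4 : ∑ μ ∈ T, (∑ i : Fin t, (if ((d i : ℚ) / (h i : ℚ)) = μ then h i else 0)) = ∑ μ ∈ T, Isoc.newtonMult F μ := by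
    apply le_antisymm
    · exact Finset.sum_le_sum fun μ _ => hlow μ
    · rw [h3, ← h2]; exact h1
  exact ((Finset.sum_eq_sum_iff_of_le fun μ _ => hlow μ).1 h4 μ (by rw [hT]; exact Finset.mem_insert_self _ _)).symm

end algclosed

end Groth.Agent.H25Isoc
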