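import Groth.Agent.Lib.H25_Isoc10
import Mathlib.LinearAlgebra.Charpoly.ToMatrix
import Mathlib.LinearAlgebra.Charpoly.BaseChange
import Mathlib.LinearAlgebra.Eigenspace.Charpoly
import Mathlib.LinearAlgebra.Eigenspace.Minpoly
import Mathlib.RingTheory.IntegralClosure.IntegrallyClosed
import Mathlib.RingTheory.PrincipalIdealDomain

set_option autoImplicit false
set_option linter.unusedSectionVars false

noncomputable section

open scoped Pointwise Isocrystal
open Filter Topology

universe u v w

namespace Groth.Agent.H25Isoc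

variable {p : ℕ} [Fact p.Prime] {k : Type u} [Field k] [CharP k p] [PerfectRing k p]

/-- evaluation commutes with an intertwiner (over the fraction field) -/
theorem aeval_intertwine {N : Type v} [AddCommGroup N] [Module K(p, k) N]
    {N' : Type w} [AddCommGroup N'] [Module K(p, k) N'] (f : Module.End K(p, k) N) (f' : Module.End K(p, k) N')
    (ι : N →ₗ[K(p, k)] N') (h : ∀ x, ι (f x) = f' (ι x)) (Q : Polynomial K(p, k)) (x : N) :
    ι (Polynomial.aeval f Q x) = Polynomial.aeval f' Q (ι x) := by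
  have hpow : ∀ (n : ℕ) (x : N), ι ((f ^ n) x) = (f' ^ n) (ι x) := by
    intro n
    induction n with
    | zero => intro x; rfl
    | succ n ih => intro x; rw [pow_succ, pow_succ, Module.End.mul_apply, Module.End.mul_apply, ih, h]
  induction Q using Polynomial.induction_on' with
  | add a b ha hb => rw [map_add, map_add, LinearMap.add_apply, LinearMap.add_apply, map_add, ha, hb]
  | monomial n c =>
    rw [Polynomial.aeval_monomial, Polynomial.aeval_monomial, Module.End.mul_apply, Module.End.mul_apply,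
      Module.algebraMap_end_apply, Module.algebraMap_end_apply, map_smul, hpow]

theorem aeval_intertwine_W {N : Type v} [AddCommGroup N] [Module (WittVector p k) N] [Module K(p, k) N]
    [IsScalarTower (WittVector p k) K(p, k) N] {M : Submodule (WittVector p k) N}
    (g : Module.End (WittVector p k) M) (G : Module.End K(p, k) N) (h : ∀ x : M, ((g x : M) : N) = G x)
    (χ : Polynomial (WittVector p k)) (x : M) :
    ((Polynomial.aeval g χ x : M) : N) = Polynomial.aeval G (χ.map (algebraMap (WittVector p k) K(p, k))) (x : N) := by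
  have hpow : ∀ (n : ℕ) (x : M), (((g ^ n) x : M) : N) = (G ^ n) (x : N) := by
    intro n
    induction n with
    | zero => intro x; rfl
    | succ n ih => intro x; rw [pow_succ, pow_succ, Module.End.mul_apply, Module.End.mul_apply, ih, h]
  induction χ using Polynomial.induction_on' with
  | add a b ha hb => rw [map_add, Polynomial.map_add, map_add, LinearMap.add_apply, LinearMap.add_apply,
      Submodule.coe_add, ha, hb]
  | monomial n c =>
    rw [Polynomial.map_monomial, Polynomial.aeval_monomial, Polynomial.aeval_monomial, Module.End.mul_apply,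
      Module.End.mul_apply, Module.algebraMap_end_apply, Module.algebraMap_end_apply, Submodule.coe_smul, hpow,
      algebraMap_smul]

theorem root_aeval {N : Type v} [AddCommGroup N] [Module K(p, k) N] [Module.Finite K(p, k) N]
    {Ω : Type w} [Field Ω] [Algebra K(p, k) Ω] (π : Module.End K(p, k) N) (α : Ω)
    (hα : (π.charpoly.map (algebraMap K(p, k) Ω)).IsRoot α) (Q : Polynomial K(p, k)) (hQ : Polynomial.aeval π Q = 0) :
    Polynomial.aeval α Q = 0 := by
  rw [← LinearMap.charpoly_baseChange] at hα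
  obtain ⟨v, hv⟩ := ((Module.End.hasEigenvalue_iff_isRoot_charpoly _ _).2 hα).exists_hasEigenvector
  have h1 : Polynomial.aeval (LinearMap.baseChange Ω π) (Q.map (algebraMap K(p, k) Ω)) = 0 := by
    rw [Polynomial.aeval_map_algebraMap]
    have h2 := Polynomial.aeval_algHom_apply (Module.End.baseChangeHom K(p, k) Ω N) π Q
    rw [hQ, map_zero] at h2
    exact h2
  have h2 := Module.End.aeval_apply_of_hasEigenvector (p := Q.map (algebraMap K(p, k) Ω)) hv
  rw [h1, LinearMap.zero_apply, Polynomial.eval_map_algebraMap] at h2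
  exact (smul_eq_zero.1 h2.symm).resolve_right hv.2

theorem integral_of_root {Ω : Type w} [Field Ω] [Algebra (WittVector p k) Ω] (χ : Polynomial (WittVector p k))
    (hχ : χ.Monic) (hu : IsUnit (χ.coeff 0)) (β : Ω) (hβ : Polynomial.aeval β χ = 0)
    (hinj : Function.Injective (algebraMap (WittVector p k) Ω)) :
    β ≠ 0 ∧ IsIntegral (WittVector p k) β ∧ IsIntegral (WittVector p k) β⁻¹ := by
  have h1 : IsIntegral (WittVector p k) β := ⟨χ, hχ, hβ⟩
  obtain ⟨u, hu⟩ := hu
  have h2 : β * Polynomial.aeval β χ.divX = -algebraMap (WittVector p k) Ω u := by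
    have h3 := congrArg (Polynomial.aeval β) (Polynomial.divX_mul_X_add χ)
    rw [hβ, map_add, map_mul, Polynomial.aeval_X, Polynomial.aeval_C, ← hu] at h3
    linear_combination h3
  have h4 : algebraMap (WittVector p k) Ω u ≠ 0 := by
    intro h0
    rw [← map_zero (algebraMap (WittVector p k) Ω)] at h0
    exact u.ne_zero (hinj h0)
  have hβ0 : β ≠ 0 := by
    rintro rfl
    rw [zero_mul] at h2
    exact h4 (neg_eq_zero.1 h2.symm)
  refine ⟨hβ0, h1, ?_⟩
  have h5 : algebraMap (WittVector p k) Ω u * algebraMap (WittVector p k) Ω (↑u⁻¹ : WittVector p k) = 1 := by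
    rw [← map_mul, Units.mul_inv, map_one]
  have h6 : β⁻¹ = -(algebraMap (WittVector p k) Ω (↑u⁻¹ : WittVector p k)) * Polynomial.aeval β χ.divX := by
    rw [inv_eq_of_mul_eq_one_right]
    linear_combination (-(algebraMap (WittVector p k) Ω (↑u⁻¹ : WittVector p k))) * h2 + h5
  rw [h6]
  apply IsIntegral.mul isIntegral_algebraMap.neg
  rw [Polynomial.aeval_eq_sum_range]
  exact IsIntegral.sum _ fun i _ => IsIntegral.smul _ (h1.pow i)

section fin

variable {N : Type v} [AddCommGroup N] [Module (WittVector p k) N] [Module K(p, k) N]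
  [IsScalarTower (WittVector p k) K(p, k) N]
variable {τ : K(p, k) →+* K(p, k)}

/-- in an isoclinic isocrystal of slope `d/h` there is a lattice with `F^h M = p^d M` -/
theorem exists_lattice_lowest' (hτ : Nice τ) [Module.Finite K(p, k) N]
    (F : N →ₛₗ[τ] N) (hF : Function.Bijective F) (μ : ℚ)
    (hμ : Isoc.IsIsoclinic F μ) : ∃ M : Submodule (WittVector p k) N, M.IsLattice K(p, k) ∧
      Isoc.latImg F μ.den M = Isoc.pPow μ.num M := by
  rcases subsingleton_or_nontrivial N with hsub | hnt
  · obtain ⟨M, hM, -⟩ := hμ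
    exact ⟨M, hM, Subsingleton.elim _ _⟩
  obtain ⟨M, hM, r, s, hs, hrs, h⟩ := hμ
  let b := Module.finBasisOfFinrankEq K(p, k) N rfl
  obtain ⟨d, hd⟩ := exists_ordP (detCoeff_ne_zero hτ b F hF.surjective)
  have h1 := (s139 hτ F ⟨inferInstance, hF⟩ _ b d hd M hM r s hs h)
  have hslope : Isoc.IsFirstSlope F ((μ.num : ℝ) / μ.den) := by
    have h2 : ((r : ℝ) / s) = (μ.num : ℝ) / μ.den := by
      have h3 : ((r : ℚ) / s) = (μ.num : ℚ) / μ.den := by rw [hrs, Rat.num_div_den]
      exact_mod_cast congrArg (Rat.cast : ℚ → ℝ) h3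
    rw [← h2]
    exact h1.1
  obtain ⟨M', hM', h4⟩ := s145 hτ F _ hslope μ.num μ.den μ.den_pos le_rfl
  refine ⟨M', hM', ?_⟩
  obtain ⟨v, hv⟩ := vol_exists b hM'
  refine (vol_le b h4 (vol_latImg hτ b F hd hv μ.den) (vol_pPow b μ.num hv)).2 ?_
  have h5 : μ.num * (Module.finrank K(p, k) N : ℤ) = μ.den * d := by
    have h6 : (μ.num : ℚ) * s = r * μ.den := by
      have h3 : ((r : ℚ) / s) = (μ.num : ℚ) / μ.den := by rw [hrs, Rat.num_div_den]
      have hs' : (s : ℚ) ≠ 0 := by positivity
      have hd' : (μ.den : ℚ) ≠ 0 := by have := μ.den_pos; positivity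
      rw [div_eq_div_iff hs' hd'] at h3
      linarith
    have h7 : μ.num * (s : ℤ) = r * μ.den := by exact_mod_cast h6
    have h8 := h1.2
    have hs' : (s : ℤ) ≠ 0 := by positivity
    apply mul_left_cancel₀ hs'
    calc (s : ℤ) * (μ.num * (Module.finrank K(p, k) N : ℤ)) = (μ.num * s) * (Module.finrank K(p, k) N : ℤ) := by ring
      _ = μ.den * (r * (Module.finrank K(p, k) N : ℤ)) := by rw [h7]; ring
      _ = μ.den * (s * d) := by rw [h8]
      _ = (s : ℤ) * (μ.den * d) := by ring
  rw [h5]

/-- a lattice preserved by a linear automorphism -/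
theorem ann_lattice [Module.Finite K(p, k) N] (G : Module.End K(p, k) N) (hGi : Function.Injective G)
    (M : Submodule (WittVector p k) N) (hM : M.IsLattice K(p, k)) (hGM : ∀ x ∈ M, G x ∈ M)
    (hGM' : ∀ x ∈ M, ∃ y ∈ M, G y = x) :
    ∃ χ : Polynomial (WittVector p k), χ.Monic ∧ IsUnit (χ.coeff 0) ∧
      Polynomial.aeval G (χ.map (algebraMap (WittVector p k) K(p, k))) = 0 := by
  have hfin : Module.Finite (WittVector p k) M := Module.Finite.iff_fg.2 hM.fg
  have hfree : Module.Free (WittVector p k) M := Submodule.IsLattice.free K(p, k) M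
  let g : Module.End (WittVector p k) M :=
    { toFun := fun x => ⟨G x, hGM _ x.2⟩
      map_add' := fun x y => Subtype.ext (by simp)
      map_smul' := fun c x => Subtype.ext (by
        change G (c • (x : N)) = c • G (x : N)
        rw [← algebraMap_smul K(p, k) c (x : N), map_smul, algebraMap_smul]) }
  have hg : ∀ x : M, ((g x : M) : N) = G x := fun x => rfl
  have hgb : Function.Bijective g := by
    constructor
    · intro x y hxy
      apply Subtype.ext
      apply hGi
      rw [← hg, ← hg, hxy]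
    · rintro ⟨x, hx⟩
      obtain ⟨y, hy, hyx⟩ := hGM' x hx
      exact ⟨⟨y, hy⟩, Subtype.ext hyx⟩
  refine ⟨g.charpoly, LinearMap.charpoly_monic g, ?_, ?_⟩
  · have h6 : IsUnit (LinearMap.det g) := LinearEquiv.isUnit_det' (LinearEquiv.ofBijective g hgb)
    rw [LinearMap.det_eq_sign_charpoly_coeff] at h6
    exact isUnit_of_mul_isUnit_right h6
  · have h9 : ∀ y ∈ M, Polynomial.aeval G (g.charpoly.map (algebraMap (WittVector p k) K(p, k))) y = 0 := by
      intro y hy
      have h10 := aeval_intertwine_W g G hg g.charpoly ⟨y, hy⟩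
      rw [LinearMap.aeval_self_charpoly] at h10
      exact h10.symm
    apply LinearMap.ext
    intro y
    obtain ⟨e, he⟩ := exists_p_smul_mem hM.span_eq_top y
    have h10 := h9 _ he
    rw [map_smul, smul_eq_zero] at h10
    exact h10.resolve_left (zpow_ne_zero _ p_ne_zero)

/-- the isoclinic case -/
theorem ann_iso (hτ : Nice τ) [Module.Finite K(p, k) N] (F : N →ₛₗ[τ] N) (hF : Function.Bijective F)
    (m : ℕ) (π : Module.End K(p, k) N) (hπ : ∀ x, π x = F^[m] x) (d : ℤ) (h : ℕ) (M : Submodule (WittVector p k) N)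
    (hM : M.IsLattice K(p, k)) (hFM : Isoc.latImg F h M = Isoc.pPow d M) :
    ∃ χ : Polynomial (WittVector p k), χ.Monic ∧ IsUnit (χ.coeff 0) ∧
      Polynomial.aeval π ((χ.map (algebraMap (WittVector p k) K(p, k))).comp
        (Polynomial.C ((p : K(p, k)) ^ (-(d * (m : ℤ)))) * Polynomial.X ^ h)) = 0 := by
  have hπpow : ∀ (n : ℕ) (x : N), (π ^ n) x = F^[n * m] x := by
    intro n
    induction n with
    | zero => intro x; rw [zero_mul]; rfl
    | succ n ih =>
      intro x
      rw [pow_succ, Module.End.mul_apply, ih, hπ, ← Function.iterate_add_apply,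
        show n * m + m = (n + 1) * m by ring]
  have hGapp : ∀ x : N, ((p : K(p, k)) ^ (-(d * (m : ℤ))) • π ^ h) x = (p : K(p, k)) ^ (-(d * (m : ℤ))) • F^[m * h] x := by
    intro x
    rw [LinearMap.smul_apply, hπpow, mul_comm h m]
  have hFMm := latImg_mul_eq hτ hFM m
  obtain ⟨χ, h1, h2, h3⟩ := ann_lattice ((p : K(p, k)) ^ (-(d * (m : ℤ))) • π ^ h) (by
      rw [injective_iff_map_eq_zero]
      intro x hx
      rw [hGapp, smul_eq_zero] at hx
      rcases hx with hx | hx
      · exact absurd hx (zpow_ne_zero _ p_ne_zero)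
      · have h7 : F^[m * h] x = F^[m * h] 0 := by
          rw [hx, ← Isoc.iter_apply, map_zero]
        exact hF.injective.iterate _ h7) M hM
    (by
      intro x hx
      have h6 : F^[m * h] x ∈ Isoc.latImg F (m * h) M := (mem_latImg hτ _ _ _ _).2 ⟨x, hx, rfl⟩
      rw [hFMm, mem_pPow] at h6
      rw [hGapp, mul_comm d]
      exact h6)
    (by
      intro x hx
      have h6 : (p : K(p, k)) ^ ((m : ℤ) * d) • x ∈ Isoc.latImg F (m * h) M := by
        rw [hFMm]; exact smul_mem_pPow hx
      rw [mem_latImg hτ] at h6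
      obtain ⟨y, hy, hyx⟩ := h6
      refine ⟨y, hy, ?_⟩
      rw [hGapp, hyx, smul_smul, ← zpow_add₀ p_ne_zero, mul_comm d]
      simp)
  refine ⟨χ, h1, h2, ?_⟩
  rw [Polynomial.aeval_comp]
  have h6 : Polynomial.aeval π (Polynomial.C ((p : K(p, k)) ^ (-(d * (m : ℤ)))) * Polynomial.X ^ h) =
      (p : K(p, k)) ^ (-(d * (m : ℤ))) • π ^ h := by
    rw [map_mul, Polynomial.aeval_C, map_pow, Polynomial.aeval_X, Algebra.smul_def]
  rw [h6]
  exact h3

/-- the annihilating polynomial on the slope part -/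
theorem ann_slope (hτ : Nice τ) [Module.Finite K(p, k) N] (F : N →ₛₗ[τ] N) (hF : Function.Bijective F)
    (m : ℕ) (π : Module.End K(p, k) N) (hπ : ∀ x, π x = F^[m] x) (μ : ℚ) :
    ∃ χ : Polynomial (WittVector p k), χ.Monic ∧ IsUnit (χ.coeff 0) ∧
      ∀ x ∈ Isoc.slopePart F μ, Polynomial.aeval π ((χ.map (algebraMap (WittVector p k) K(p, k))).comp
        (Polynomial.C ((p : K(p, k)) ^ (-(μ.num * (m : ℤ)))) * Polynomial.X ^ μ.den)) x = 0 := by
  obtain ⟨h1, M0, h2, h3, r, s, hs, hrs, h4⟩ := slopePart_spec hτ F hF.surjective μ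
  obtain ⟨M', hM', h5⟩ := isIsoclinic_of_isoOn hτ F hF.surjective h1 M0 h2 h3.ge r s h4
  have hFb : Function.Bijective (F.restrict h1) := by
    constructor
    · intro x y hxy
      apply Subtype.ext
      apply hF.injective
      exact congrArg (fun z : Isoc.slopePart F μ => (z : N)) hxy
    · rintro ⟨x, hx⟩
      obtain ⟨y, rfl⟩ := hF.surjective x
      exact ⟨⟨y, mem_of_map_mem F hF.surjective h1 y hx⟩, rfl⟩
  obtain ⟨M, hM, hFM⟩ := exists_lattice_lowest' hτ (F.restrict h1) hFb μ ⟨M', hM', r, s, hs, hrs, h5⟩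
  have hπP : ∀ x ∈ Isoc.slopePart F μ, π x ∈ Isoc.slopePart F μ := by
    intro x hx
    rw [hπ]
    exact iterate_mem F h1 m x hx
  obtain ⟨χ, hχ1, hχ2, hχ3⟩ := ann_iso hτ (F.restrict h1) hFb m (LinearMap.restrict π hπP) (by
    intro x
    apply Subtype.ext
    rw [coe_restrict_iterate]
    exact hπ x) μ.num μ.den M hM hFM
  refine ⟨χ, hχ1, hχ2, fun x hx => ?_⟩
  have h7 := aeval_intertwine (LinearMap.restrict π hπP) π (Isoc.slopePart F μ).subtype (fun y => rfl)
    ((χ.map (algebraMap (WittVector p k) K(p, k))).comp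
        (Polynomial.C ((p : K(p, k)) ^ (-(μ.num * (m : ℤ)))) * Polynomial.X ^ μ.den)) ⟨x, hx⟩
  rw [hχ3] at h7
  exact h7.symm

end fin

end Groth.Agent.H25Isoc
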