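import Groth.Agent.Lib.H25_Isoc15
import Mathlib.FieldTheory.IsAlgClosed.Basic
import Mathlib.LinearAlgebra.Projection
import Mathlib.RingTheory.Polynomial.RationalRoot

set_option autoImplicit false
set_option linter.unusedSectionVars false

noncomputable section

open scoped Pointwise Isocrystal
open Filter Topology

universe u v w

namespace Groth.Agent.H25Isoc

variable {p : ℕ} [Fact p.Prime] {k : Type u} [Field k] [CharP k p] [PerfectRing k p]

theorem not_integral_p {Ω : Type w} [Field Ω] [Algebra (WittVector p k) Ω] [Algebra K(p, k) Ω]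
    [IsScalarTower (WittVector p k) K(p, k) Ω] (n : ℕ)
    (h : IsIntegral (WittVector p k) ((algebraMap K(p, k) Ω (p : K(p, k))) ^ (-((n : ℤ) + 1)))) : False := by
  rw [← map_zpow₀, isIntegral_algebraMap_iff (algebraMap K(p, k) Ω).injective] at h
  obtain ⟨w, hw⟩ := IsIntegrallyClosed.isIntegral_iff.1 h
  have h1 : Isoc.IsOrdP (algebraMap (WittVector p k) K(p, k) w) (-((n : ℤ) + 1)) := by
    rw [hw]; exact ordP_zpow _
  have := ordP_nonneg h1
  omega

theorem conj_prod {N : Type v} [AddCommGroup N] [Module K(p, k) N] [Module.Finite K(p, k) N]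
    (π : Module.End K(p, k) N) (P Q : Submodule K(p, k) N) (hPQ : IsCompl P Q)
    (hP : ∀ x ∈ P, π x ∈ P) (hQ : ∀ x ∈ Q, π x ∈ Q) :
    π.charpoly = (LinearMap.restrict π hP).charpoly * (LinearMap.restrict π hQ).charpoly := by
  rw [← LinearMap.charpoly_prodMap, ← LinearEquiv.charpoly_conj (Submodule.prodEquivOfIsCompl P Q hPQ)]
  congr 1
  apply LinearMap.ext
  intro x
  obtain ⟨⟨a, b⟩, rfl⟩ := (Submodule.prodEquivOfIsCompl P Q hPQ).surjective x
  rw [LinearEquiv.conj_apply_apply, LinearEquiv.symm_apply_apply, Submodule.coe_prodEquivOfIsCompl',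
    LinearMap.prodMap_apply, Submodule.coe_prodEquivOfIsCompl', map_add]
  rfl

section fin

variable {N : Type v} [AddCommGroup N] [Module (WittVector p k) N] [Module K(p, k) N]
  [IsScalarTower (WittVector p k) K(p, k) N]
variable {τ : K(p, k) →+* K(p, k)}

open scoped Classical in
theorem s156 (hτ : Nice τ) [Module.Finite K(p, k) N] (F : N →ₛₗ[τ] N) (hF : Isoc.IsIsoc F)
    (m : ℕ) (hm : 0 < m) (π : Module.End K(p, k) N) (hπ : ∀ x, π x = F^[m] x)
    (Ω : Type w) [Field Ω] [IsAlgClosed Ω] [Algebra (WittVector p k) Ω] [Algebra K(p, k) Ω]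
    [IsScalarTower (WittVector p k) K(p, k) Ω] (μ : ℚ) :
    Isoc.newtonMult F μ =
      Multiset.countP
        (fun α : Ω => IsIntegral (WittVector p k) (α ^ μ.den * (algebraMap K(p, k) Ω (p : K(p, k))) ^ (-(μ.num * (m : ℤ))))
          ∧ IsIntegral (WittVector p k) (α ^ μ.den * (algebraMap K(p, k) Ω (p : K(p, k))) ^ (-(μ.num * (m : ℤ))))⁻¹)
        ((π.charpoly.map (algebraMap K(p, k) Ω)).roots) := by
  choose χ hχ1 hχ2 hχ3 using ann_slope hτ F hF.bijective m π hπ
  set x : Ω := algebraMap K(p, k) Ω (p : K(p, k)) with hx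
  have hx0 : x ≠ 0 := by
    rw [hx, Ne, map_eq_zero]
    exact p_ne_zero
  have hinjW : Function.Injective (algebraMap (WittVector p k) Ω) := by
    rw [IsScalarTower.algebraMap_eq (WittVector p k) K(p, k) Ω]
    exact (algebraMap K(p, k) Ω).injective.comp (IsFractionRing.injective _ _)
  let Q : ℚ → Polynomial K(p, k) := fun ν => ((χ ν).map (algebraMap (WittVector p k) K(p, k))).comp
        (Polynomial.C ((p : K(p, k)) ^ (-(ν.num * (m : ℤ)))) * Polynomial.X ^ ν.den)
  have hQ : ∀ ν, ∀ y ∈ Isoc.slopePart F ν, Polynomial.aeval π (Q ν) y = 0 := hχ3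
  have hunit : ∀ (ν : ℚ) (α : Ω), Polynomial.aeval α (Q ν) = 0 → α ≠ 0 ∧
      IsIntegral (WittVector p k) (α ^ ν.den * x ^ (-(ν.num * (m : ℤ)))) ∧
      IsIntegral (WittVector p k) (α ^ ν.den * x ^ (-(ν.num * (m : ℤ))))⁻¹ := by
    intro ν α hα
    have h1 : Polynomial.aeval α (Q ν) = Polynomial.aeval (α ^ ν.den * x ^ (-(ν.num * (m : ℤ)))) (χ ν) := by
      change Polynomial.aeval α (((χ ν).map (algebraMap (WittVector p k) K(p, k))).comp
        (Polynomial.C ((p : K(p, k)) ^ (-(ν.num * (m : ℤ)))) * Polynomial.X ^ ν.den)) = _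
      rw [Polynomial.aeval_comp, map_mul, Polynomial.aeval_C, map_pow, Polynomial.aeval_X, map_zpow₀,
        Polynomial.aeval_map_algebraMap, mul_comm]
    rw [h1] at hα
    obtain ⟨h2, h3, h4⟩ := integral_of_root (χ ν) (hχ1 ν) (hχ2 ν) _ hα hinjW
    refine ⟨?_, h3, h4⟩
    rintro rfl
    apply h2
    rw [zero_pow ν.den_pos.ne', zero_mul]
  -- complement
  have hind := slope_indep hτ F hF.bijective
  have hsup := iSup_slopePart hτ _ N F hF.bijective rfl
  have hfinite : {ν | Isoc.slopePart F ν ≠ ⊥}.Finite := WellFoundedGT.finite_ne_bot_of_iSupIndep hind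
  set T : Finset ℚ := hfinite.toFinset.erase μ with hT
  set R := T.sup (Isoc.slopePart F) with hR
  have hcompl : IsCompl (Isoc.slopePart F μ) R := by
    refine ⟨slope_indep_aux hτ F hF.bijective T μ (by rw [hT]; exact Finset.notMem_erase _ _), ?_⟩
    rw [codisjoint_iff, eq_top_iff, ← hsup]
    apply iSup_le
    intro ν
    by_cases h1 : ν = μ
    · rw [h1]; exact le_sup_left
    by_cases h2 : Isoc.slopePart F ν = ⊥
    · rw [h2]; exact bot_le
    · refine le_trans ?_ le_sup_right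
      apply Finset.le_sup (f := Isoc.slopePart F)
      rw [hT, Finset.mem_erase, Set.Finite.mem_toFinset]
      exact ⟨h1, h2⟩
  have hst : ∀ ν, ∀ y ∈ Isoc.slopePart F ν, π y ∈ Isoc.slopePart F ν := by
    intro ν y hy
    rw [hπ]
    exact iterate_mem F (slopePart_spec hτ F hF.bijective.surjective ν).1 m y hy
  have hRst : ∀ y ∈ R, π y ∈ R := by
    have key : ∀ T : Finset ℚ, ∀ x ∈ T.sup (Isoc.slopePart F), π x ∈ T.sup (Isoc.slopePart F) := by
      intro T
      induction T using Finset.induction_on with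
      | empty =>
        intro x hx
        rw [Finset.sup_empty, Submodule.mem_bot] at hx ⊢
        rw [hx, map_zero]
      | insert a T _ ihT =>
        intro x hx
        rw [Finset.sup_insert, Submodule.mem_sup] at hx ⊢
        obtain ⟨y, hy, z, hz, rfl⟩ := hx
        exact ⟨π y, hst a y hy, π z, ihT z hz, (map_add _ _ _).symm⟩
    exact key T
  have hchar := conj_prod π _ _ hcompl (hst μ) hRst
  -- annihilators
  have hannμ : Polynomial.aeval (LinearMap.restrict π (hst μ)) (Q μ) = 0 := by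
    apply LinearMap.ext
    intro y
    apply Subtype.ext
    have h1 := aeval_intertwine (LinearMap.restrict π (hst μ)) π (Isoc.slopePart F μ).subtype (fun y => rfl) (Q μ) y
    have h2 : Polynomial.aeval π (Q μ) ((Isoc.slopePart F μ).subtype y) = 0 := hQ μ _ y.2
    rw [h2] at h1
    exact h1
  have hannR : Polynomial.aeval (LinearMap.restrict π hRst) (∏ ν ∈ T, Q ν) = 0 := by
    apply LinearMap.ext
    intro y
    apply Subtype.ext
    have h1 := aeval_intertwine (LinearMap.restrict π hRst) π R.subtype (fun y => rfl) (∏ ν ∈ T, Q ν) y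
    have h2 : R ≤ LinearMap.ker (Polynomial.aeval π (∏ ν ∈ T, Q ν)) := by
      rw [hR]
      apply Finset.sup_le
      intro ν hν z hz
      rw [LinearMap.mem_ker, ← Finset.prod_erase_mul T Q hν, map_mul, Module.End.mul_apply, hQ ν z hz, map_zero]
    have h3 := h2 y.2
    rw [LinearMap.mem_ker] at h3
    have h4 : Polynomial.aeval π (∏ ν ∈ T, Q ν) (R.subtype y) = 0 := h3
    rw [h4] at h1
    exact h1
  rw [hchar, Polynomial.map_mul, Polynomial.roots_mul (mul_ne_zero
    (((LinearMap.charpoly_monic _).map _).ne_zero) (((LinearMap.charpoly_monic _).map _).ne_zero)), Multiset.countP_add]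
  have hA : Multiset.countP (fun α : Ω => IsIntegral (WittVector p k) (α ^ μ.den * x ^ (-(μ.num * (m : ℤ))))
          ∧ IsIntegral (WittVector p k) (α ^ μ.den * x ^ (-(μ.num * (m : ℤ))))⁻¹)
          ((LinearMap.restrict π (hst μ)).charpoly.map (algebraMap K(p, k) Ω)).roots = Isoc.newtonMult F μ := by
    rw [Multiset.countP_eq_card.2]
    · rw [← (IsAlgClosed.splits _).natDegree_eq_card_roots, Polynomial.natDegree_map, LinearMap.charpoly_natDegree]
      rfl
    · intro α hα
      have h1 := (Polynomial.mem_roots'.1 hα).2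
      exact (hunit μ α (root_aeval _ α h1 (Q μ) hannμ)).2
  have hB : Multiset.countP (fun α : Ω => IsIntegral (WittVector p k) (α ^ μ.den * x ^ (-(μ.num * (m : ℤ))))
          ∧ IsIntegral (WittVector p k) (α ^ μ.den * x ^ (-(μ.num * (m : ℤ))))⁻¹)
          ((LinearMap.restrict π hRst).charpoly.map (algebraMap K(p, k) Ω)).roots = 0 := by
    rw [Multiset.countP_eq_zero]
    rintro α hα ⟨hγ1, hγ2⟩
    have h1 := (Polynomial.mem_roots'.1 hα).2
    have h2 := root_aeval _ α h1 _ hannR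
    rw [map_prod, Finset.prod_eq_zero_iff] at h2
    obtain ⟨ν, hν, h3⟩ := h2
    obtain ⟨hα0, hβ1, hβ2⟩ := hunit ν α h3
    have hνμ : ν ≠ μ := (Finset.mem_erase.1 hν).1
    set j : ℤ := (ν.num * μ.den - μ.num * ν.den) * m with hj
    have hj0 : j ≠ 0 := by
      apply mul_ne_zero _ (by omega)
      intro h0
      apply hνμ
      apply Rat.eq_iff_mul_eq_mul.2
      linarith
    have e1 : (α ^ μ.den * x ^ (-(μ.num * (m : ℤ)))) ^ ν.den * ((α ^ ν.den * x ^ (-(ν.num * (m : ℤ))))⁻¹) ^ μ.den = x ^ j := by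
      rw [inv_pow, mul_pow, mul_pow, ← pow_mul, ← pow_mul, mul_comm ν.den μ.den, mul_inv, ← zpow_natCast (x ^ _), ← zpow_mul,
        ← zpow_natCast (x ^ _), ← zpow_mul, ← zpow_neg]
      have h5 : α ^ (μ.den * ν.den) ≠ 0 := pow_ne_zero _ hα0
      have h6 : α ^ (μ.den * ν.den) * x ^ (-(μ.num * (m : ℤ)) * (ν.den : ℤ)) * ((α ^ (μ.den * ν.den))⁻¹ * x ^ (-(-(ν.num * (m : ℤ)) * (μ.den : ℤ)))) =
        (α ^ (μ.den * ν.den) * (α ^ (μ.den * ν.den))⁻¹) * (x ^ (-(μ.num * (m : ℤ)) * (ν.den : ℤ)) * x ^ (-(-(ν.num * (m : ℤ)) * (μ.den : ℤ)))) := by ring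
      rw [h6, mul_inv_cancel₀ h5, one_mul, ← zpow_add₀ hx0, hj]
      congr 1
      ring
    have i1 : IsIntegral (WittVector p k) (x ^ j) := by
      rw [← e1]; exact (hγ1.pow _).mul (hβ2.pow _)
    have i2 : IsIntegral (WittVector p k) (x ^ (-j)) := by
      rw [zpow_neg, ← e1, mul_inv, ← inv_pow, ← inv_pow, inv_inv]
      exact (hγ2.pow _).mul (hβ1.pow _)
    rcases lt_or_gt_of_ne hj0 with h7 | h7
    · obtain ⟨n, hn⟩ : ∃ n : ℕ, j = -((n : ℤ) + 1) := ⟨(-j - 1).toNat, by omega⟩
      rw [hn] at i1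
      exact not_integral_p n i1
    · obtain ⟨n, hn⟩ : ∃ n : ℕ, -j = -((n : ℤ) + 1) := ⟨(j - 1).toNat, by omega⟩
      rw [hn] at i2
      exact not_integral_p n i2
  rw [hA, hB, add_zero]

end fin

end Groth.Agent.H25Isoc
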