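import Groth.Agent.Lib.H25_Isoc
import Mathlib.Analysis.SpecificLimits.Basic

set_option autoImplicit false
set_option linter.unusedSectionVars false

noncomputable section

open scoped Pointwise Isocrystal
open Filter Topology

universe u v w

namespace Groth.Agent.H25Isoc

variable {p : ℕ} [Fact p.Prime] {k : Type u} [Field k] [CharP k p] [PerfectRing k p]

section basic2

variable {N : Type v} [AddCommGroup N] [Module (WittVector p k) N] [Module K(p, k) N]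
  [IsScalarTower (WittVector p k) K(p, k) N]
variable {τ : K(p, k) →+* K(p, k)}

theorem ne_bot_of_span [Nontrivial N] {M : Submodule (WittVector p k) N}
    (hM : Submodule.span K(p, k) (M : Set N) = ⊤) : M ≠ ⊥ := by
  rintro rfl
  rw [Submodule.bot_coe, Submodule.span_zero_singleton] at hM
  exact bot_ne_top hM

/-- boundedness of orders -/
theorem exists_bound [Nontrivial N] {M M' : Submodule (WittVector p k) N}
    (hM : M.IsLattice K(p, k)) (hM' : M'.IsLattice K(p, k)) :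
    ∃ c : ℤ, ∀ r : ℤ, M' ≤ Isoc.pPow r M → r ≤ c := by
  obtain ⟨c, hc⟩ := exists_le_pPow hM.fg hM'.span_eq_top
  refine ⟨c, fun r hr => ?_⟩
  by_contra hlt
  push Not at hlt
  have h1 := hc.trans (pPow_mono (-(c : ℤ)) hr)
  rw [pPow_pPow] at h1
  exact ne_bot_of_span hM.span_eq_top (eq_bot_of_le_pPow hM.fg (by omega) h1)

theorem exists_isOrd (hτ : Nice τ) [Nontrivial N] (F : N →ₛₗ[τ] N) (hF : Function.Surjective F)
    {M : Submodule (WittVector p k) N} (hM : M.IsLattice K(p, k)) (n : ℕ) :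
    ∃ r : ℤ, Isoc.IsOrd M F n r := by
  obtain ⟨c, hc⟩ := exists_bound hM (latImg_lat hτ F hF n hM)
  obtain ⟨e, he⟩ := exists_le_pPow (latImg_fg hτ F n hM.fg) hM.span_eq_top
  obtain ⟨r, hr1, hr2⟩ := Int.exists_greatest_of_bdd (P := fun r => Isoc.latImg F n M ≤ Isoc.pPow r M)
    ⟨c, hc⟩ ⟨_, he⟩
  exact ⟨r, hr1, fun h => by have := hr2 _ h; omega⟩

theorem le_of_isOrd {F : N →ₛₗ[τ] N} {M : Submodule (WittVector p k) N} {n : ℕ} {r s : ℤ}
    (h : Isoc.IsOrd M F n r) (hs : Isoc.latImg F n M ≤ Isoc.pPow s M) : s ≤ r := by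
  by_contra hlt
  push Not at hlt
  exact h.2 (hs.trans (pPow_anti (by omega) M))

theorem isOrd_add (hτ : Nice τ) {F : N →ₛₗ[τ] N} {M : Submodule (WittVector p k) N} {m n : ℕ} {r s : ℤ}
    (h : Isoc.latImg F m M ≤ Isoc.pPow r M) (h' : Isoc.latImg F n M ≤ Isoc.pPow s M) :
    Isoc.latImg F (m + n) M ≤ Isoc.pPow (r + s) M := by
  rw [← latImg_latImg hτ]
  refine (latImg_mono F m h').trans ?_
  rw [latImg_pPow hτ, add_comm r s, ← pPow_pPow]
  exact pPow_mono s h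

theorem latImg_mul_le (hτ : Nice τ) {F : N →ₛₗ[τ] N} {M : Submodule (WittVector p k) N} {m : ℕ} {r : ℤ}
    (h : Isoc.latImg F m M ≤ Isoc.pPow r M) (n : ℕ) :
    Isoc.latImg F (n * m) M ≤ Isoc.pPow (n * r) M := by
  induction n with
  | zero => rw [zero_mul, latImg_zero hτ]; simp [pPow_zero]
  | succ n ih =>
    have := isOrd_add hτ ih h
    rwa [show n * m + m = (n + 1) * m by ring, show (n : ℤ) * r + r = ((n + 1 : ℕ) : ℤ) * r by push_cast; ring] at this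

theorem le_latImg_mul (hτ : Nice τ) {F : N →ₛₗ[τ] N} {M : Submodule (WittVector p k) N} {m : ℕ} {r : ℤ}
    (h : Isoc.pPow r M ≤ Isoc.latImg F m M) (n : ℕ) :
    Isoc.pPow (n * r) M ≤ Isoc.latImg F (n * m) M := by
  induction n with
  | zero => rw [zero_mul, latImg_zero hτ]; simp [pPow_zero]
  | succ n ih =>
    have h1 := latImg_mono F (n * m) h
    rw [latImg_pPow hτ, latImg_latImg hτ] at h1
    have h2 := pPow_mono r ih
    rw [pPow_pPow] at h2
    rw [show n * m + m = (n + 1) * m by ring] at h1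
    rw [show r + (n : ℤ) * r = ((n + 1 : ℕ) : ℤ) * r by push_cast; ring] at h2
    exact h2.trans h1

/-- comparison of the orders for two lattices -/
theorem ord_compare (hτ : Nice τ) (F : N →ₛₗ[τ] N)
    {M₁ M₂ : Submodule (WittVector p k) N} (h₁ : M₁.IsLattice K(p, k)) (h₂ : M₂.IsLattice K(p, k)) :
    ∃ c : ℕ, ∀ (n : ℕ) (r : ℤ), Isoc.latImg F n M₁ ≤ Isoc.pPow r M₁ → Isoc.latImg F n M₂ ≤ Isoc.pPow (r - c) M₂ := by
  obtain ⟨c, hc⟩ := exists_le_pPow h₁.fg h₂.span_eq_top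
  obtain ⟨d, hd⟩ := exists_le_pPow h₂.fg h₁.span_eq_top
  refine ⟨c + d, fun n r h => ?_⟩
  have h3 := latImg_mono F n hd
  rw [latImg_pPow hτ] at h3
  have h4 := pPow_mono (-(d : ℤ)) (h.trans (pPow_mono r hc))
  rw [pPow_pPow, pPow_pPow] at h4
  refine (h3.trans h4).trans (le_of_eq ?_)
  congr 1
  push_cast; ring

theorem tendsto_eq_of_bounded {o₁ o₂ : ℕ → ℤ} (c : ℤ) (h12 : ∀ n, 1 ≤ n → o₁ n ≤ o₂ n + c)
    {lam₁ lam₂ : ℝ}
    (h₁ : Tendsto (fun n : ℕ => (o₁ n : ℝ) / n) atTop (𝓝 lam₁))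
    (h₂ : Tendsto (fun n : ℕ => (o₂ n : ℝ) / n) atTop (𝓝 lam₂)) : lam₁ ≤ lam₂ := by
  have h3 : Tendsto (fun n : ℕ => (o₂ n : ℝ) / n + (c : ℝ) / n) atTop (𝓝 (lam₂ + 0)) :=
    h₂.add (tendsto_const_div_atTop_nhds_zero_nat _)
  rw [add_zero] at h3
  refine le_of_tendsto_of_tendsto h₁ h3 ?_
  filter_upwards [eventually_ge_atTop 1] with n hn
  rw [← add_div]
  have hn' : (0 : ℝ) < n := by exact_mod_cast hn
  apply div_le_div_of_nonneg_right _ hn'.le
  exact_mod_cast h12 n hn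

theorem lim_unique (hτ : Nice τ) (F : N →ₛₗ[τ] N)
    {M₁ M₂ : Submodule (WittVector p k) N} (h₁ : M₁.IsLattice K(p, k)) (h₂ : M₂.IsLattice K(p, k))
    {o₁ o₂ : ℕ → ℤ} (ho₁ : ∀ n : ℕ, 1 ≤ n → Isoc.IsOrd M₁ F n (o₁ n))
    (ho₂ : ∀ n : ℕ, 1 ≤ n → Isoc.IsOrd M₂ F n (o₂ n)) {lam₁ lam₂ : ℝ}
    (hl₁ : Tendsto (fun n : ℕ => (o₁ n : ℝ) / n) atTop (𝓝 lam₁))
    (hl₂ : Tendsto (fun n : ℕ => (o₂ n : ℝ) / n) atTop (𝓝 lam₂)) : lam₁ = lam₂ := by
  apply le_antisymm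
  · obtain ⟨c, hc⟩ := ord_compare hτ F h₁ h₂
    refine tendsto_eq_of_bounded c (fun n hn => ?_) hl₁ hl₂
    have := le_of_isOrd (ho₂ n hn) (hc n _ (ho₁ n hn).1)
    omega
  · obtain ⟨c, hc⟩ := ord_compare hτ F h₂ h₁
    refine tendsto_eq_of_bounded c (fun n hn => ?_) hl₂ hl₁
    have := le_of_isOrd (ho₁ n hn) (hc n _ (ho₂ n hn).1)
    omega

/-- existence of the limit -/
theorem exists_lim (hτ : Nice τ) [Nontrivial N] (F : N →ₛₗ[τ] N) (hF : Function.Surjective F)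
    {M : Submodule (WittVector p k) N} (hM : M.IsLattice K(p, k)) :
    ∃ o : ℕ → ℤ, (∀ n : ℕ, 1 ≤ n → Isoc.IsOrd M F n (o n)) ∧
      ∃ lam : ℝ, Tendsto (fun n : ℕ => (o n : ℝ) / n) atTop (𝓝 lam) := by
  choose o ho using exists_isOrd hτ F hF hM
  refine ⟨o, fun n _ => ho n, ?_⟩
  have hsub : Subadditive (fun n : ℕ => -(o n : ℝ)) := by
    intro m n
    have h1 := isOrd_add hτ (ho m).1 (ho n).1
    have h2 := le_of_isOrd (ho (m + n)) h1
    have h3 : (o m : ℝ) + o n ≤ o (m + n) := by exact_mod_cast h2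
    simp only
    linarith
  obtain ⟨c, hc⟩ := exists_le_pPow hM.fg (latImg_span hτ F hF 1 hM.span_eq_top)
  have hc' : Isoc.pPow c M ≤ Isoc.latImg F 1 M := by
    rw [pPow_le_iff]; exact hc
  have hbound : ∀ n : ℕ, o n ≤ n * c := by
    intro n
    have h1 := le_latImg_mul hτ hc' n
    rw [mul_one] at h1
    have h2 := h1.trans (ho n).1
    by_contra hlt
    push Not at hlt
    rw [pPow_le_iff, pPow_pPow] at h2
    exact ne_bot_of_span hM.span_eq_top (eq_bot_of_le_pPow hM.fg (by omega) h2)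
  have hbdd : BddBelow (Set.range fun n : ℕ => (-(o n : ℝ)) / n) := by
    refine ⟨-(c : ℝ), ?_⟩
    rintro _ ⟨n, rfl⟩
    simp only
    rcases Nat.eq_zero_or_pos n with rfl | hn
    · simp
    · have hn' : (0 : ℝ) < n := by exact_mod_cast hn
      rw [le_div_iff₀ hn']
      have : (o n : ℝ) ≤ n * c := by exact_mod_cast hbound n
      linarith
  refine ⟨-hsub.lim, ?_⟩
  have := (hsub.tendsto_lim hbdd).neg
  refine this.congr (fun n => ?_)
  ring

end basic2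

end Groth.Agent.H25Isoc
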