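import Groth.Agent.Lib.H25_Isoc2

set_option autoImplicit false
set_option linter.unusedSectionVars false

noncomputable section

open scoped Pointwise Isocrystal
open Filter Topology

universe u v w

namespace Groth.Agent.H25Isoc

variable {p : ℕ} [Fact p.Prime] {k : Type u} [Field k] [CharP k p] [PerfectRing k p]

theorem algMap_inj {w w' : WittVector p k}
    (h : algebraMap (WittVector p k) K(p, k) w = algebraMap (WittVector p k) K(p, k) w') : w = w' :=
  IsFractionRing.injective (WittVector p k) K(p, k) h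

theorem algMap_ne_zero {w : WittVector p k} (h : w ≠ 0) : algebraMap (WittVector p k) K(p, k) w ≠ 0 := by
  intro h0
  apply h
  exact algMap_inj (by rw [h0, map_zero])

theorem ordP_mul {c d : K(p, k)} {r s : ℤ} (hc : Isoc.IsOrdP c r) (hd : Isoc.IsOrdP d s) :
    Isoc.IsOrdP (c * d) (r + s) := by
  obtain ⟨u, rfl⟩ := hc
  obtain ⟨v, rfl⟩ := hd
  refine ⟨u * v, ?_⟩
  rw [zpow_add₀ p_ne_zero, Units.val_mul, map_mul]
  ring

theorem ordP_ne_zero {c : K(p, k)} {r : ℤ} (hc : Isoc.IsOrdP c r) : c ≠ 0 := by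
  obtain ⟨u, rfl⟩ := hc
  exact mul_ne_zero (zpow_ne_zero _ p_ne_zero) (algMap_ne_zero u.ne_zero)

theorem ordP_zpow (r : ℤ) : Isoc.IsOrdP ((p : K(p, k)) ^ r) r := ⟨1, by simp⟩

theorem ordP_map {τ : K(p, k) →+* K(p, k)} (hτ : Nice τ) {c : K(p, k)} {r : ℤ} (hc : Isoc.IsOrdP c r) :
    Isoc.IsOrdP (τ c) r := by
  obtain ⟨σ, hσ⟩ := hτ
  obtain ⟨u, rfl⟩ := hc
  refine ⟨Units.map (σ : WittVector p k →* WittVector p k) u, ?_⟩
  rw [map_mul, map_p_zpow, hσ]
  rfl

theorem exists_ordP_of_ne_zero {w : WittVector p k} (h : w ≠ 0) :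
    ∃ t : ℕ, Isoc.IsOrdP (algebraMap (WittVector p k) K(p, k) w) t := by
  obtain ⟨e, u, hu⟩ := WittVector.exists_eq_pow_p_mul' w h
  refine ⟨e, u, ?_⟩
  rw [hu, map_mul, map_pow, map_natCast, zpow_natCast]

theorem exists_ordP {c : K(p, k)} (h : c ≠ 0) : ∃ r : ℤ, Isoc.IsOrdP c r := by
  obtain ⟨e, w, hw⟩ := exists_p_mul_mem c
  have hw0 : w ≠ 0 := by
    rintro rfl
    rw [map_zero, mul_eq_zero] at hw
    rcases hw with hw | hw
    · exact pow_ne_zero _ p_ne_zero hw
    · exact h hw
  obtain ⟨t, u, ht⟩ := exists_ordP_of_ne_zero hw0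
  refine ⟨t - e, u, ?_⟩
  rw [ht] at hw
  have := pow_ne_zero e (p_ne_zero (p := p) (k := k))
  rw [zpow_natCast] at hw
  rw [zpow_sub₀ p_ne_zero, zpow_natCast, zpow_natCast, div_mul_eq_mul_div, eq_div_iff this, mul_comm]
  exact hw

theorem ordP_nonneg {w : WittVector p k} {r : ℤ} (h : Isoc.IsOrdP (algebraMap (WittVector p k) K(p, k) w) r) :
    0 ≤ r := by
  obtain ⟨u, hu⟩ := h
  by_contra hr
  push Not at hr
  obtain ⟨m, hm⟩ : ∃ m : ℕ, r = -((m : ℤ) + 1) := ⟨(-r - 1).toNat, by omega⟩
  have h1 : algebraMap (WittVector p k) K(p, k) ((p : WittVector p k) ^ (m + 1) * w) =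
      algebraMap (WittVector p k) K(p, k) u := by
    rw [map_mul, map_pow, map_natCast, hu, hm, ← mul_assoc, ← zpow_natCast, ← zpow_add₀ p_ne_zero]
    simp
  have h2 := algMap_inj h1
  have h3 : IsUnit ((p : WittVector p k)) := by
    apply isUnit_of_dvd_unit _ u.isUnit
    rw [← h2, pow_succ]
    exact ⟨(p : WittVector p k) ^ m * w, by ring⟩
  exact (WittVector.irreducible p).not_isUnit h3

theorem ordP_unique {c : K(p, k)} {r s : ℤ} (hr : Isoc.IsOrdP c r) (hs : Isoc.IsOrdP c s) : r = s := by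
  obtain ⟨u, hu⟩ := hr
  obtain ⟨v, hv⟩ := hs
  have key : ∀ (u v : (WittVector p k)ˣ) (r s : ℤ), c = (p : K(p, k)) ^ r * algebraMap (WittVector p k) K(p, k) (u : WittVector p k) →
    c = (p : K(p, k)) ^ s * algebraMap (WittVector p k) K(p, k) (v : WittVector p k) → 0 ≤ r - s := by
    intro u v r s hu hv
    apply ordP_nonneg (p := p) (k := k) (w := (v : WittVector p k) * ((u⁻¹ : (WittVector p k)ˣ) : WittVector p k))
    refine ⟨1, ?_⟩
    rw [map_mul, zpow_sub₀ p_ne_zero]
    have h1 : algebraMap (WittVector p k) K(p, k) (u : WittVector p k) * algebraMap (WittVector p k) K(p, k) (↑u⁻¹ : WittVector p k) = 1 := by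
      rw [← map_mul, Units.mul_inv, map_one]
    have h2 := zpow_ne_zero s (p_ne_zero (p := p) (k := k))
    rw [Units.val_one, map_one, mul_one, eq_div_iff h2]
    calc _ = ((p : K(p, k)) ^ s * algebraMap (WittVector p k) K(p, k) (v : WittVector p k)) * algebraMap (WittVector p k) K(p, k) (↑u⁻¹ : WittVector p k) := by ring
      _ = (p : K(p, k)) ^ r * (algebraMap (WittVector p k) K(p, k) (u : WittVector p k) * algebraMap (WittVector p k) K(p, k) (↑u⁻¹ : WittVector p k)) := by rw [← hv, hu]; ring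
      _ = _ := by rw [h1, mul_one]
  have h1 := key u v r s hu hv
  have h2 := key v u s r hv hu
  omega

theorem isUnit_of_ordP_zero {w : WittVector p k} (h : Isoc.IsOrdP (algebraMap (WittVector p k) K(p, k) w) 0) :
    IsUnit w := by
  obtain ⟨u, hu⟩ := h
  rw [zpow_zero, one_mul] at hu
  rw [algMap_inj hu]
  exact u.isUnit

section vol

variable {N : Type v} [AddCommGroup N] [Module (WittVector p k) N] [Module K(p, k) N]
  [IsScalarTower (WittVector p k) K(p, k) N]
variable {τ : K(p, k) →+* K(p, k)}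

/-- the volume relation -/
def Vol {h : ℕ} (b : Module.Basis (Fin h) K(p, k) N) (M : Submodule (WittVector p k) N) (v : ℤ) : Prop :=
  ∃ x : Fin h → N, Submodule.span (WittVector p k) (Set.range x) = M ∧ Isoc.IsOrdP ((b.toMatrix x).det) v

theorem toMatrix_comb {h : ℕ} (b : Module.Basis (Fin h) K(p, k) N) (x y : Fin h → N)
    (T : Matrix (Fin h) (Fin h) K(p, k)) (hy : ∀ j, y j = ∑ i, T i j • x i) :
    b.toMatrix y = b.toMatrix x * T := by
  ext i j
  rw [Matrix.mul_apply, Module.Basis.toMatrix_apply, hy, map_sum, Finsupp.finsetSum_apply]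
  refine Finset.sum_congr rfl fun l _ => ?_
  rw [map_smul, Finsupp.smul_apply, smul_eq_mul, Module.Basis.toMatrix_apply, mul_comm]

theorem vol_exists {h : ℕ} (b : Module.Basis (Fin h) K(p, k) N) {M : Submodule (WittVector p k) N}
    (hM : M.IsLattice K(p, k)) : ∃ v, Vol b M v := by
  have : Module.finrank (WittVector p k) M = h := by
    rw [Module.finrank, Submodule.IsLattice.rank' K(p, k) M, rank_eq_card_basis b]
    simp
  let b' := Module.finBasisOfFinrankEq (WittVector p k) M this
  let b'' := b'.extendOfIsLattice K(p, k)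
  have hdet : (b.toMatrix b'').det ≠ 0 := by
    have := b.invertibleToMatrix b''
    exact (Matrix.isUnit_det_of_invertible _).ne_zero
  obtain ⟨v, hv⟩ := exists_ordP hdet
  refine ⟨v, fun i => (b' i : N), ?_, ?_⟩
  · have h1 : Submodule.span (WittVector p k) (Set.range b') = ⊤ := b'.span_eq
    have h2 := congrArg (Submodule.map M.subtype) h1
    rw [Submodule.map_span, Submodule.map_top, Submodule.range_subtype, ← Set.range_comp] at h2
    exact h2
  · have : (fun i => (b' i : N)) = b'' := by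
      ext i
      rw [Module.Basis.extendOfIsLattice_apply]
    rw [this]
    exact hv

theorem vol_le {h : ℕ} (b : Module.Basis (Fin h) K(p, k) N) {A B : Submodule (WittVector p k) N} {v v' : ℤ}
    (hAB : A ≤ B) (hA : Vol b A v) (hB : Vol b B v') : v' ≤ v ∧ (v' = v → A = B) := by
  obtain ⟨x, rfl, hx⟩ := hA
  obtain ⟨y, rfl, hy⟩ := hB
  have h1 : ∀ j, ∃ c : Fin h → WittVector p k, ∑ i, c i • y i = x j := by
    intro j
    have := hAB (Submodule.subset_span ⟨j, rfl⟩)
    rwa [Submodule.mem_span_range_iff_exists_fun] at this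
  choose c hc using h1
  let T : Matrix (Fin h) (Fin h) (WittVector p k) := Matrix.of fun i j => c j i
  have h2 : b.toMatrix x = b.toMatrix y * (T.map (algebraMap (WittVector p k) K(p, k))) := by
    apply toMatrix_comb
    intro j
    rw [← hc j]
    refine Finset.sum_congr rfl fun i _ => ?_
    rw [Matrix.map_apply, algebraMap_smul]
    rfl
  have h3 : (b.toMatrix x).det = (b.toMatrix y).det * algebraMap (WittVector p k) K(p, k) T.det := by
    rw [h2, Matrix.det_mul]
    congr 1
    exact ((algebraMap (WittVector p k) K(p, k)).map_det T).symm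
  have hT : T.det ≠ 0 := by
    intro h0
    rw [h0, map_zero, mul_zero] at h3
    exact ordP_ne_zero hx h3
  obtain ⟨t, ht⟩ := exists_ordP_of_ne_zero hT
  have h4 := ordP_mul hy ht
  rw [← h3] at h4
  have h5 := ordP_unique hx h4
  refine ⟨by omega, fun heq => ?_⟩
  have ht0 : (t : ℤ) = 0 := by omega
  rw [ht0] at ht
  have hu := isUnit_of_ordP_zero ht
  apply le_antisymm hAB
  rw [Submodule.span_le]
  rintro _ ⟨j, rfl⟩
  -- y j = sum of (T⁻¹) i j • x i
  have h6 : T * T⁻¹ = 1 := Matrix.mul_nonsing_inv T hu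
  have h7 : y j = ∑ i, (T⁻¹) i j • x i := by
    calc y j = ∑ l, (if l = j then (1 : WittVector p k) else 0) • y l := by simp
      _ = ∑ l, ((T * T⁻¹) l j) • y l := by
          rw [h6]
          refine Finset.sum_congr rfl fun l _ => ?_
          rw [Matrix.one_apply]
      _ = ∑ l, ∑ i, (T l i * (T⁻¹) i j) • y l := by
          refine Finset.sum_congr rfl fun l _ => ?_
          rw [Matrix.mul_apply, Finset.sum_smul]
      _ = ∑ i, ∑ l, (T l i * (T⁻¹) i j) • y l := Finset.sum_comm
      _ = ∑ i, (T⁻¹) i j • x i := by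
          refine Finset.sum_congr rfl fun i _ => ?_
          rw [← hc i, Finset.smul_sum]
          refine Finset.sum_congr rfl fun l _ => ?_
          rw [smul_smul, mul_comm]
          rfl
  rw [h7]
  exact Submodule.sum_mem _ fun i _ => Submodule.smul_mem _ _ (Submodule.subset_span ⟨i, rfl⟩)

theorem vol_unique {h : ℕ} (b : Module.Basis (Fin h) K(p, k) N) {A : Submodule (WittVector p k) N} {v v' : ℤ}
    (hA : Vol b A v) (hB : Vol b A v') : v = v' := by
  have h1 := (vol_le b le_rfl hA hB).1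
  have h2 := (vol_le b le_rfl hB hA).1
  omega

theorem vol_pPow {h : ℕ} (b : Module.Basis (Fin h) K(p, k) N) {A : Submodule (WittVector p k) N} {v : ℤ}
    (r : ℤ) (hA : Vol b A v) : Vol b (Isoc.pPow r A) (v + r * h) := by
  obtain ⟨x, rfl, hx⟩ := hA
  refine ⟨fun j => (p : K(p, k)) ^ r • x j, ?_, ?_⟩
  · rw [Isoc.pPow, Submodule.smul_span]
    congr 1
    rw [← Set.image_smul, ← Set.range_comp]
    rfl
  · have : b.toMatrix (fun j => (p : K(p, k)) ^ r • x j) = (p : K(p, k)) ^ r • b.toMatrix x := by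
      ext i j
      rw [Module.Basis.toMatrix_apply, map_smul, Matrix.smul_apply, Module.Basis.toMatrix_apply]
      rfl
    rw [this, Matrix.det_smul, Fintype.card_fin, mul_comm]
    have h1 : ((p : K(p, k)) ^ r) ^ h = (p : K(p, k)) ^ (r * h) := by
      rw [zpow_mul, zpow_natCast]
    rw [h1]
    exact ordP_mul hx (ordP_zpow _)

theorem det_semilin {h : ℕ} (b : Module.Basis (Fin h) K(p, k) N) (F : N →ₛₗ[τ] N) (x : Fin h → N) :
    (b.toMatrix (fun j => F (x j))).det = Isoc.detCoeff b F * τ ((b.toMatrix x).det) := by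
  have : b.toMatrix (fun j => F (x j)) = Matrix.of (fun i j => b.repr (F (b j)) i) * (b.toMatrix x).map τ := by
    have h1 : b.toMatrix (fun j => F (x j)) = b.toMatrix (fun j => F (b j)) * (b.toMatrix x).map τ := by
      apply toMatrix_comb
      intro j
      conv_lhs => rw [← b.sum_repr (x j)]
      rw [map_sum]
      refine Finset.sum_congr rfl fun i _ => ?_
      rw [map_smulₛₗ]
      rfl
    rw [h1]
    rfl
  rw [this, Matrix.det_mul, Isoc.detCoeff]
  congr 1
  exact (τ.map_det _).symm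

theorem latImg_one_span (hτ : Nice τ) (F : N →ₛₗ[τ] N) {ι : Type*} (x : ι → N) :
    Submodule.span (WittVector p k) (Set.range fun j => F (x j)) =
      Isoc.latImg F 1 (Submodule.span (WittVector p k) (Set.range x)) := by
  obtain ⟨σ, hσ⟩ := id hτ
  apply le_antisymm
  · rw [Submodule.span_le]
    rintro _ ⟨j, rfl⟩
    exact Submodule.subset_span ⟨x j, Submodule.subset_span ⟨j, rfl⟩, rfl⟩
  · intro z hz
    rw [mem_latImg hτ] at hz
    obtain ⟨y, hy, rfl⟩ := hz
    rw [Function.iterate_one]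
    induction hy using Submodule.span_induction with
    | mem y hy =>
      obtain ⟨j, rfl⟩ := hy
      exact Submodule.subset_span ⟨j, rfl⟩
    | zero => rw [map_zero]; exact Submodule.zero_mem _
    | add y z _ _ hy hz => rw [map_add]; exact Submodule.add_mem _ hy hz
    | smul w y _ hy =>
      rw [map_w_smul hσ]
      exact Submodule.smul_mem _ _ hy

theorem vol_latImg_one (hτ : Nice τ) {h : ℕ} (b : Module.Basis (Fin h) K(p, k) N) (F : N →ₛₗ[τ] N)
    {A : Submodule (WittVector p k) N} {v d : ℤ} (hd : Isoc.IsOrdP (Isoc.detCoeff b F) d)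
    (hA : Vol b A v) : Vol b (Isoc.latImg F 1 A) (v + d) := by
  obtain ⟨x, rfl, hx⟩ := hA
  refine ⟨fun j => F (x j), latImg_one_span hτ F x, ?_⟩
  rw [det_semilin, add_comm]
  exact ordP_mul hd (ordP_map hτ hx)

theorem vol_latImg (hτ : Nice τ) {h : ℕ} (b : Module.Basis (Fin h) K(p, k) N) (F : N →ₛₗ[τ] N)
    {A : Submodule (WittVector p k) N} {v d : ℤ} (hd : Isoc.IsOrdP (Isoc.detCoeff b F) d)
    (hA : Vol b A v) (s : ℕ) : Vol b (Isoc.latImg F s A) (v + s * d) := by
  induction s with
  | zero => rw [latImg_zero hτ]; simpa using hA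
  | succ s ih =>
    have := vol_latImg_one hτ b F hd ih
    rw [latImg_latImg hτ, add_comm 1 s] at this
    convert this using 1
    push_cast; ring

theorem detCoeff_ne_zero (hτ : Nice τ) {h : ℕ} (b : Module.Basis (Fin h) K(p, k) N) (F : N →ₛₗ[τ] N)
    (hF : Function.Surjective F) : Isoc.detCoeff b F ≠ 0 := by
  -- lattice spanned by b
  have hM : (Submodule.span (WittVector p k) (Set.range b)).IsLattice K(p, k) := by
    refine ⟨Submodule.fg_span (Set.finite_range b), ?_⟩
    rw [Submodule.span_span_of_tower, b.span_eq]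
  obtain ⟨v, x, hx, hv⟩ := vol_exists b (latImg_lat hτ F hF 1 hM)
  intro h0
  have h1 : ∀ j, ∃ c : Fin h → WittVector p k, ∑ i, c i • F (b i) = x j := by
    intro j
    have : x j ∈ Isoc.latImg F 1 (Submodule.span (WittVector p k) (Set.range b)) := by
      rw [← hx]; exact Submodule.subset_span ⟨j, rfl⟩
    rw [← latImg_one_span hτ F, Submodule.mem_span_range_iff_exists_fun] at this
    exact this
  choose c hc using h1
  have h2 : b.toMatrix x = b.toMatrix (fun i => F (b i)) * (Matrix.of fun i j => algebraMap (WittVector p k) K(p, k) (c j i)) := by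
    apply toMatrix_comb
    intro j
    rw [← hc j]
    refine Finset.sum_congr rfl fun i _ => ?_
    rw [Matrix.of_apply, algebraMap_smul]
  rw [h2, Matrix.det_mul] at hv
  have h3 : (b.toMatrix (fun i => F (b i))).det = Isoc.detCoeff b F := rfl
  rw [h3, h0, zero_mul] at hv
  exact ordP_ne_zero hv rfl

end vol

end Groth.Agent.H25Isoc
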