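import Groth.Agent.Lib.H25_Isoc3

set_option autoImplicit false
set_option linter.unusedSectionVars false

noncomputable section

open scoped Pointwise Isocrystal
open Filter Topology

universe u v w

namespace Groth.Agent.H25Isoc

variable {p : ℕ} [Fact p.Prime] {k : Type u} [Field k] [CharP k p] [PerfectRing k p]

section vol

variable {N : Type v} [AddCommGroup N] [Module (WittVector p k) N] [Module K(p, k) N]
  [IsScalarTower (WittVector p k) K(p, k) N]
variable {τ : K(p, k) →+* K(p, k)}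

theorem le_of_pPow_le [Nontrivial N] {M : Submodule (WittVector p k) N} (hM : M.IsLattice K(p, k)) {r s : ℤ}
    (h : Isoc.pPow r M ≤ Isoc.pPow s M) : s ≤ r := by
  by_contra hlt
  push Not at hlt
  rw [pPow_le_iff, pPow_pPow] at h
  exact ne_bot_of_span hM.span_eq_top (eq_bot_of_le_pPow hM.fg (by omega) h)

theorem latImg_mul_eq (hτ : Nice τ) {F : N →ₛₗ[τ] N} {M : Submodule (WittVector p k) N} {m : ℕ} {r : ℤ}
    (h : Isoc.latImg F m M = Isoc.pPow r M) (n : ℕ) :
    Isoc.latImg F (n * m) M = Isoc.pPow (n * r) M :=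
  le_antisymm (latImg_mul_le hτ h.le n) (le_latImg_mul hτ h.ge n)

theorem firstSlope_of_eq (hτ : Nice τ) [Nontrivial N] (F : N →ₛₗ[τ] N) (hF : Function.Surjective F)
    {M : Submodule (WittVector p k) N} (hM : M.IsLattice K(p, k)) (r : ℤ) (s : ℕ) (hs : 0 < s)
    (h : Isoc.latImg F s M = Isoc.pPow r M) : Isoc.IsFirstSlope F ((r : ℝ) / s) := by
  obtain ⟨o, ho, lam, hlam⟩ := exists_lim hτ F hF hM
  refine ⟨M, hM, o, ho, ?_⟩
  have h1 : ∀ n : ℕ, 1 ≤ n → o (n * s) = n * r := by
    intro n hn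
    have h2 := latImg_mul_eq hτ h n
    have h3 := ho (n * s) (Nat.mul_pos hn hs)
    apply le_antisymm
    · have h4 := h3.1
      rw [h2] at h4
      exact le_of_pPow_le hM h4
    · exact le_of_isOrd h3 h2.le
  have h2 : Tendsto (fun n : ℕ => (o (n * s) : ℝ) / ((n * s : ℕ) : ℝ)) atTop (𝓝 lam) :=
    hlam.comp (tendsto_id.atTop_mul_const' hs)
  have h3 : Tendsto (fun n : ℕ => (o (n * s) : ℝ) / ((n * s : ℕ) : ℝ)) atTop (𝓝 ((r : ℝ) / s)) := by
    refine tendsto_const_nhds.congr' ?_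
    filter_upwards [eventually_ge_atTop 1] with n hn
    rw [h1 n hn]
    have hn' : (n : ℝ) ≠ 0 := by positivity
    have hs' : (s : ℝ) ≠ 0 := by positivity
    push_cast
    field_simp
  rw [tendsto_nhds_unique h2 h3] at hlam
  exact hlam

/-- stable subspaces are bistable -/
theorem mem_of_map_mem [Module.Finite K(p, k) N] (F : N →ₛₗ[τ] N) (hF : Function.Surjective F)
    {P : Submodule K(p, k) N} (hP : ∀ x ∈ P, F x ∈ P) (x : N) (hx : F x ∈ P) : x ∈ P := by
  have hmono : Monotone (fun n : ℕ => P.comap (Isoc.iter F n)) := by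
    apply monotone_nat_of_le_succ
    intro n y hy
    rw [Submodule.mem_comap, Isoc.iter_apply] at hy ⊢
    rw [Function.iterate_succ_apply']
    exact hP _ hy
  obtain ⟨n, hn⟩ := monotone_stabilizes_iff_noetherian.2 (inferInstance : IsNoetherian K(p, k) N)
    ⟨_, hmono⟩
  obtain ⟨y, rfl⟩ := hF.iterate n x
  have h1 : y ∈ P.comap (Isoc.iter F (n + 1)) := by
    rw [Submodule.mem_comap, Isoc.iter_apply, Function.iterate_succ_apply']
    exact hx
  have h2 := hn (n + 1) (by omega)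
  have h3 : P.comap (Isoc.iter F n) = P.comap (Isoc.iter F (n + 1)) := h2
  rw [← h3, Submodule.mem_comap, Isoc.iter_apply] at h1
  exact h1

theorem mem_of_iterate_mem [Module.Finite K(p, k) N] (F : N →ₛₗ[τ] N) (hF : Function.Surjective F)
    {P : Submodule K(p, k) N} (hP : ∀ x ∈ P, F x ∈ P) (s : ℕ) (x : N) (hx : F^[s] x ∈ P) : x ∈ P := by
  induction s generalizing x with
  | zero => exact hx
  | succ s ih =>
    rw [Function.iterate_succ_apply] at hx
    exact mem_of_map_mem F hF hP x (ih _ hx)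

theorem iterate_mem (F : N →ₛₗ[τ] N)
    {P : Submodule K(p, k) N} (hP : ∀ x ∈ P, F x ∈ P) (s : ℕ) (x : N) (hx : x ∈ P) : F^[s] x ∈ P := by
  induction s with
  | zero => exact hx
  | succ s ih => rw [Function.iterate_succ_apply']; exact hP _ ih

theorem coe_restrict_iterate (F : N →ₛₗ[τ] N)
    {P : Submodule K(p, k) N} (hP : ∀ x ∈ P, F x ∈ P) (s : ℕ) (x : P) :
    (((F.restrict hP)^[s] x : P) : N) = F^[s] (x : N) := by
  induction s with
  | zero => rfl
  | succ s ih => rw [Function.iterate_succ_apply', Function.iterate_succ_apply', ← ih]; rfl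

/-- the lattice form of isoclinic inside the ambient space -/
def IsoOn (F : N →ₛₗ[τ] N) (P : Submodule K(p, k) N) (μ : ℚ) : Prop :=
  ∃ M : Submodule (WittVector p k) N, M.FG ∧ Submodule.span K(p, k) (M : Set N) = P ∧
    ∃ (r : ℤ) (s : ℕ), 0 < s ∧ (r : ℚ) / s = μ ∧ Isoc.latImg F s M = Isoc.pPow r M

theorem isoOn_of_isIsoclinic (hτ : Nice τ) (F : N →ₛₗ[τ] N)
    {P : Submodule K(p, k) N} (hP : ∀ x ∈ P, F x ∈ P) {μ : ℚ} (h : Isoc.IsIsoclinic (F.restrict hP) μ) :
    IsoOn F P μ := by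
  obtain ⟨M, hM, r, s, hs, hrs, hF⟩ := h
  let ι : P →ₗ[WittVector p k] N := P.subtype.restrictScalars (WittVector p k)
  refine ⟨M.map ι, hM.fg.map ι, ?_, r, s, hs, hrs, ?_⟩
  · have h1 := congrArg (Submodule.map P.subtype) hM.span_eq_top
    rw [Submodule.map_span, Submodule.map_top, Submodule.range_subtype] at h1
    exact h1
  · ext x
    rw [mem_latImg hτ, mem_pPow]
    constructor
    · rintro ⟨_, ⟨y, hy, rfl⟩, rfl⟩
      have h1 : (F.restrict hP)^[s] y ∈ Isoc.pPow r M := by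
        rw [← hF, mem_latImg hτ]; exact ⟨y, hy, rfl⟩
      rw [mem_pPow] at h1
      refine ⟨_, h1, ?_⟩
      have := coe_restrict_iterate F hP s y
      change (p : K(p, k)) ^ (-r) • (((F.restrict hP)^[s] y : P) : N) = _
      rw [this]
      rfl
    · rintro ⟨y, hy, hxy⟩
      have h1 : (p : K(p, k)) ^ r • y ∈ Isoc.latImg (F.restrict hP) s M := by
        rw [hF]; exact smul_mem_pPow hy
      rw [mem_latImg hτ] at h1
      obtain ⟨z, hz, hzy⟩ := h1
      refine ⟨ι z, ⟨z, hz, rfl⟩, ?_⟩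
      have h2 := coe_restrict_iterate F hP s z
      rw [hzy] at h2
      change F^[s] (z : N) = x
      rw [← h2]
      change (p : K(p, k)) ^ r • (ι y) = x
      rw [hxy, smul_smul, ← zpow_add₀ p_ne_zero]
      simp

theorem isIsoclinic_of_isoOn (hτ : Nice τ) [Module.Finite K(p, k) N] (F : N →ₛₗ[τ] N) (hFs : Function.Surjective F)
    {P : Submodule K(p, k) N} (hP : ∀ x ∈ P, F x ∈ P) (M : Submodule (WittVector p k) N) (hMfg : M.FG)
    (hPM : P ≤ Submodule.span K(p, k) (M : Set N)) (r : ℤ) (s : ℕ) (hF : Isoc.latImg F s M = Isoc.pPow r M) :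
    ∃ M' : Submodule (WittVector p k) P, M'.IsLattice K(p, k) ∧
      Isoc.latImg (F.restrict hP) s M' = Isoc.pPow r M' := by
  let ι : P →ₗ[WittVector p k] N := P.subtype.restrictScalars (WittVector p k)
  have hmem : ∀ x : P, x ∈ M.comap ι ↔ (x : N) ∈ M := fun x => Iff.rfl
  refine ⟨M.comap ι, ⟨?_, ?_⟩, ?_⟩
  · have : Module.Finite (WittVector p k) M := Module.Finite.iff_fg.2 hMfg
    have : IsNoetherian (WittVector p k) M := inferInstance
    let f : (M.comap ι) →ₗ[WittVector p k] M := ι.restrict (fun x hx => hx)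
    have hf : Function.Injective f := by
      intro x y hxy
      have h1 : (x : P) = (y : P) := Subtype.ext (congrArg (fun z : M => (z : N)) hxy)
      exact Subtype.ext h1
    have := isNoetherian_of_injective f hf
    exact (Module.Finite.iff_fg).1 inferInstance
  · rw [eq_top_iff]
    rintro x -
    have hx := hPM x.2
    have key : ∀ y ∈ Submodule.span K(p, k) (M : Set N), ∃ e : ℕ, (p : K(p, k)) ^ (e : ℤ) • y ∈ M := by
      intro y hy
      induction hy using Submodule.span_induction with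
      | mem y hy => exact ⟨0, by simpa using hy⟩
      | zero => exact ⟨0, by simp⟩
      | add y z _ _ hy hz =>
        obtain ⟨e, he⟩ := hy
        obtain ⟨f, hf⟩ := hz
        refine ⟨e + f, ?_⟩
        rw [smul_add]
        refine M.add_mem ?_ ?_
        · have := p_smul_mem he (n := f) (by omega)
          rw [smul_smul, ← zpow_add₀ p_ne_zero] at this
          convert this using 3
          push_cast; ring
        · have := p_smul_mem hf (n := e) (by omega)
          rw [smul_smul, ← zpow_add₀ p_ne_zero] at this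
          convert this using 3
          push_cast; ring
      | smul c y _ hy =>
        obtain ⟨e, he⟩ := hy
        obtain ⟨f, w, hf⟩ := exists_p_mul_mem c
        refine ⟨f + e, ?_⟩
        have : (p : K(p, k)) ^ ((f + e : ℕ) : ℤ) • c • y = w • (p : K(p, k)) ^ (e : ℤ) • y := by
          rw [← algebraMap_smul K(p, k) w, ← hf, smul_smul, smul_smul]
          congr 1
          rw [zpow_natCast, zpow_natCast, pow_add]; ring
        rw [this]
        exact M.smul_mem _ he
    obtain ⟨e, he⟩ := key _ hx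
    have h2 : (p : K(p, k)) ^ (e : ℤ) • x ∈ M.comap ι := he
    have h3 := Submodule.smul_mem _ ((p : K(p, k)) ^ (-(e : ℤ))) (Submodule.subset_span (R := K(p, k)) h2)
    rw [smul_smul, ← zpow_add₀ p_ne_zero] at h3
    simpa using h3
  · ext x
    rw [mem_latImg hτ, mem_pPow]
    constructor
    · rintro ⟨y, hy, rfl⟩
      have h1 : F^[s] (y : N) ∈ Isoc.pPow r M := by
        rw [← hF, mem_latImg hτ]; exact ⟨y, hy, rfl⟩
      rw [mem_pPow] at h1
      rw [hmem]
      have := coe_restrict_iterate F hP s y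
      rw [← this] at h1
      exact h1
    · intro hx
      rw [hmem] at hx
      have h1 : (x : N) ∈ Isoc.latImg F s M := by
        rw [hF, mem_pPow]; exact hx
      rw [mem_latImg hτ] at h1
      obtain ⟨y, hy, hyx⟩ := h1
      have hyP : y ∈ P := by
        apply mem_of_iterate_mem F hFs hP s
        rw [hyx]; exact x.2
      refine ⟨⟨y, hyP⟩, hy, ?_⟩
      apply Subtype.ext
      rw [coe_restrict_iterate]
      exact hyx

theorem latImg_sup (hτ : Nice τ) (F : N →ₛₗ[τ] N) (s : ℕ) (A B : Submodule (WittVector p k) N) :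
    Isoc.latImg F s (A ⊔ B) = Isoc.latImg F s A ⊔ Isoc.latImg F s B := by
  apply le_antisymm
  · intro x hx
    rw [mem_latImg hτ] at hx
    obtain ⟨y, hy, rfl⟩ := hx
    rw [Submodule.mem_sup] at hy
    obtain ⟨a, ha, b, hb, rfl⟩ := hy
    rw [← Isoc.iter_apply, map_add]
    exact Submodule.add_mem_sup ((mem_latImg hτ _ _ _ _).2 ⟨a, ha, rfl⟩) ((mem_latImg hτ _ _ _ _).2 ⟨b, hb, rfl⟩)
  · exact sup_le (latImg_mono F s le_sup_left) (latImg_mono F s le_sup_right)

theorem pPow_sup (r : ℤ) (A B : Submodule (WittVector p k) N) :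
    Isoc.pPow r (A ⊔ B) = Isoc.pPow r A ⊔ Isoc.pPow r B := by
  apply le_antisymm
  · rw [pPow_le_iff]
    apply sup_le
    · rw [← pPow_le_iff]; exact le_sup_left
    · rw [← pPow_le_iff]; exact le_sup_right
  · exact sup_le (pPow_mono r le_sup_left) (pPow_mono r le_sup_right)

theorem isoOn_bot (hτ : Nice τ) (F : N →ₛₗ[τ] N) (μ : ℚ) : IsoOn F ⊥ μ := by
  refine ⟨⊥, Submodule.fg_bot, by simp, μ.num, μ.den, μ.den_pos, Rat.num_div_den μ, ?_⟩
  ext x
  rw [mem_latImg hτ, mem_pPow]
  constructor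
  · rintro ⟨y, hy, rfl⟩
    rw [Submodule.mem_bot] at hy
    rw [hy, ← Isoc.iter_apply, map_zero, smul_zero]
    exact Submodule.zero_mem _
  · intro hx
    rw [Submodule.mem_bot, smul_eq_zero] at hx
    rcases hx with hx | hx
    · exact absurd hx (zpow_ne_zero _ p_ne_zero)
    · exact ⟨0, Submodule.zero_mem _, by rw [hx, ← Isoc.iter_apply, map_zero]⟩

theorem isoOn_sup (hτ : Nice τ) (F : N →ₛₗ[τ] N) {μ : ℚ} {P Q : Submodule K(p, k) N}
    (hP : IsoOn F P μ) (hQ : IsoOn F Q μ) : IsoOn F (P ⊔ Q) μ := by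
  obtain ⟨M, hM, hMP, r, s, hs, hrs, hF⟩ := hP
  obtain ⟨M', hM', hMP', r', s', hs', hrs', hF'⟩ := hQ
  have hs1 : (s : ℚ) ≠ 0 := by positivity
  have hs2 : (s' : ℚ) ≠ 0 := by positivity
  have heq : (s' : ℤ) * r = s * r' := by
    have h1 : (r : ℚ) / s = r' / s' := by rw [hrs, hrs']
    rw [div_eq_div_iff hs1 hs2] at h1
    have h2 : ((s' : ℤ) * r : ℚ) = (s * r' : ℚ) := by push_cast; linarith
    exact_mod_cast h2
  refine ⟨M ⊔ M', hM.sup hM', ?_, s' * r, s' * s, Nat.mul_pos hs' hs, ?_, ?_⟩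
  · rw [← hMP, ← hMP', ← Submodule.span_union]
    apply le_antisymm
    · rw [Submodule.span_le]
      intro x hx
      rw [SetLike.mem_coe, Submodule.mem_sup] at hx
      obtain ⟨a, ha, b, hb, rfl⟩ := hx
      exact Submodule.add_mem _ (Submodule.subset_span (Or.inl ha)) (Submodule.subset_span (Or.inr hb))
    · apply Submodule.span_mono
      rintro x (hx | hx)
      · exact (le_sup_left : M ≤ M ⊔ M') hx
      · exact (le_sup_right : M' ≤ M ⊔ M') hx
  · push_cast
    rw [mul_div_mul_left _ _ hs2, hrs]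
  · rw [latImg_sup hτ, pPow_sup, latImg_mul_eq hτ hF s', mul_comm s' s, latImg_mul_eq hτ hF' s, heq]

/-- the slope part as a maximal element -/
theorem slopePart_spec (hτ : Nice τ) [Module.Finite K(p, k) N] (F : N →ₛₗ[τ] N) (hFs : Function.Surjective F) (μ : ℚ) :
    (∀ x ∈ Isoc.slopePart F μ, F x ∈ Isoc.slopePart F μ) ∧ IsoOn F (Isoc.slopePart F μ) μ := by
  let S : Set (Submodule K(p, k) N) := {P | (∀ x ∈ P, F x ∈ P) ∧ IsoOn F P μ}
  have hS0 : (⊥ : Submodule K(p, k) N) ∈ S := by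
    refine ⟨fun x hx => ?_, isoOn_bot hτ F μ⟩
    rw [Submodule.mem_bot] at hx
    rw [hx, map_zero]
    exact Submodule.zero_mem _
  have hSsup : ∀ P ∈ S, ∀ Q ∈ S, P ⊔ Q ∈ S := by
    rintro P ⟨hP1, hP2⟩ Q ⟨hQ1, hQ2⟩
    refine ⟨fun x hx => ?_, isoOn_sup hτ F hP2 hQ2⟩
    rw [Submodule.mem_sup] at hx
    obtain ⟨a, ha, b, hb, rfl⟩ := hx
    rw [map_add]
    exact Submodule.add_mem_sup (hP1 a ha) (hQ1 b hb)
  obtain ⟨P0, hP0, hmax⟩ := set_has_maximal_iff_noetherian.2 (inferInstance : IsNoetherian K(p, k) N) S ⟨_, hS0⟩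
  have hle : ∀ P ∈ S, P ≤ P0 := by
    intro P hP
    have h1 := hmax _ (hSsup P0 hP0 P hP)
    by_contra hne
    apply h1
    exact lt_of_le_of_ne le_sup_left (fun h => hne (by rw [h]; exact le_sup_right))
  have heq : Isoc.slopePart F μ = P0 := by
    apply le_antisymm
    · apply sSup_le
      rintro P ⟨hP, hPμ⟩
      exact hle P ⟨hP, isoOn_of_isIsoclinic hτ F hP hPμ⟩
    · apply le_sSup
      obtain ⟨h1, M, h2, h3, r, s, hs, hrs, h4⟩ := hP0
      obtain ⟨M', hM', h5⟩ := isIsoclinic_of_isoOn hτ F hFs h1 M h2 h3.ge r s h4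
      exact ⟨h1, M', hM', r, s, hs, hrs, h5⟩
  rw [heq]
  exact hP0

end vol

end Groth.Agent.H25Isoc
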