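import Groth.Agent.Lib.H25_Isoc4

set_option autoImplicit false
set_option linter.unusedSectionVars false

noncomputable section

open scoped Pointwise Isocrystal
open Filter Topology

universe u v w

namespace Groth.Agent.H25Isoc

variable {p : ℕ} [Fact p.Prime] {k : Type u} [Field k] [CharP k p] [PerfectRing k p]

section five

variable {N : Type v} [AddCommGroup N] [Module (WittVector p k) N] [Module K(p, k) N]
  [IsScalarTower (WittVector p k) K(p, k) N]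
variable {τ : K(p, k) →+* K(p, k)}

theorem s139 (hτ : Nice τ) [Nontrivial N] (F : N →ₛₗ[τ] N) (hF : Isoc.IsIsoc F)
    (h : ℕ) (b : Module.Basis (Fin h) K(p, k) N)
    (d : ℤ) (hd : Isoc.IsOrdP (Isoc.detCoeff b F) d)
    (M : Submodule (WittVector p k) N) (hM : M.IsLattice K(p, k))
    (r : ℤ) (s : ℕ) (hs : 0 < s) (hFM : Isoc.latImg F s M = Isoc.pPow r M) :
    Isoc.IsFirstSlope F ((r : ℝ) / s) ∧ r * h = s * d := by
  refine ⟨firstSlope_of_eq hτ F hF.bijective.surjective hM r s hs hFM, ?_⟩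
  obtain ⟨v, hv⟩ := vol_exists b hM
  have h1 := vol_latImg hτ b F hd hv s
  have h2 := vol_pPow b r hv
  rw [hFM] at h1
  have := vol_unique b h1 h2
  omega

theorem s140 (hτ : Nice τ) (F : N →ₛₗ[τ] N)
    (h : ℕ) (b : Module.Basis (Fin h) K(p, k) N)
    (d : ℤ) (hd : Isoc.IsOrdP (Isoc.detCoeff b F) d)
    (M : Submodule (WittVector p k) N) (hM : M.IsLattice K(p, k))
    (n : ℕ) (r rn : ℤ) (hr : Isoc.IsOrd M F 1 r) (hrn : Isoc.IsOrd M F n rn) :
    (n : ℤ) * r ≤ rn ∧ rn * h ≤ n * d := by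
  constructor
  · have h1 := latImg_mul_le hτ hr.1 n
    rw [mul_one] at h1
    exact le_of_isOrd hrn h1
  · obtain ⟨v, hv⟩ := vol_exists b hM
    have h1 := vol_latImg hτ b F hd hv n
    have h2 := vol_pPow b rn hv
    have := (vol_le b hrn.1 h1 h2).1
    omega

theorem twist_iterate (F : N →ₛₗ[τ] N) (m : ℤ) (n j : ℕ) (x : N) :
    (⇑((p : K(p, k)) ^ m • Isoc.iter F n))^[j] x = (p : K(p, k)) ^ (m * j) • F^[n * j] x := by
  induction j with
  | zero => simp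
  | succ j ih =>
    rw [Function.iterate_succ_apply', ih]
    change (p : K(p, k)) ^ m • F^[n] ((p : K(p, k)) ^ (m * (j : ℤ)) • F^[n * j] x) = _
    rw [iterate_p_smul, smul_smul, ← zpow_add₀ p_ne_zero, ← Function.iterate_add_apply,
      show n + n * j = n * (j + 1) by ring, show m + m * (j : ℤ) = m * ((j + 1 : ℕ) : ℤ) by push_cast; ring]

theorem latImg_twist (hτ : Nice τ) (F : N →ₛₗ[τ] N) (m : ℤ) (n j : ℕ) (M : Submodule (WittVector p k) N) :
    Isoc.latImg ((p : K(p, k)) ^ m • Isoc.iter F n) j M = Isoc.pPow (m * j) (Isoc.latImg F (n * j) M) := by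
  ext x
  rw [mem_latImg (hτ.pow n), mem_pPow, mem_latImg hτ]
  constructor
  · rintro ⟨y, hy, rfl⟩
    refine ⟨y, hy, ?_⟩
    rw [twist_iterate, smul_smul, ← zpow_add₀ p_ne_zero]
    simp
  · rintro ⟨y, hy, h⟩
    refine ⟨y, hy, ?_⟩
    rw [twist_iterate, h, smul_smul, ← zpow_add₀ p_ne_zero]
    simp

theorem isOrd_twist (hτ : Nice τ) (F : N →ₛₗ[τ] N) (m : ℤ) (n j : ℕ) (M : Submodule (WittVector p k) N)
    (r : ℤ) (h : Isoc.IsOrd M F (n * j) r) : Isoc.IsOrd M ((p : K(p, k)) ^ m • Isoc.iter F n) j (r + m * j) := by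
  obtain ⟨h1, h2⟩ := h
  constructor
  · rw [latImg_twist hτ, pPow_le_iff, pPow_pPow]
    convert h1 using 2
    ring
  · rw [latImg_twist hτ, pPow_le_iff, pPow_pPow]
    convert h2 using 3
    ring

theorem s143 (hτ : Nice τ) (F : N →ₛₗ[τ] N) (lam : ℝ) (hlam : Isoc.IsFirstSlope F lam) (m : ℤ) (n : ℕ) :
    Isoc.IsFirstSlope ((p : K(p, k)) ^ m • Isoc.iter F n) (n * lam + m) := by
  obtain ⟨M, hM, o, ho, hlim⟩ := hlam
  have hne : M ≠ ⊥ := by
    rintro rfl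
    apply (ho 1 le_rfl).2
    intro x hx
    rw [mem_latImg hτ] at hx
    obtain ⟨y, hy, rfl⟩ := hx
    rw [Submodule.mem_bot] at hy
    rw [hy, ← Isoc.iter_apply, map_zero]
    exact Submodule.zero_mem _
  have h0 : Isoc.IsOrd M F 0 0 := by
    constructor
    · rw [latImg_zero hτ, pPow_zero]
    · rw [latImg_zero hτ]
      intro h
      exact hne (eq_bot_of_le_pPow hM.fg (by omega) h)
  rcases Nat.eq_zero_or_pos n with rfl | hn
  · refine ⟨M, hM, fun j => 0 + m * j, fun j hj => isOrd_twist hτ F m 0 j M 0 (by rw [zero_mul]; exact h0), ?_⟩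
    have : (((0 : ℕ) : ℝ) * lam + m) = m := by simp
    rw [this]
    refine tendsto_const_nhds.congr' ?_
    filter_upwards [eventually_ge_atTop 1] with j hj
    have hj' : (j : ℝ) ≠ 0 := by positivity
    push_cast
    field_simp
    ring
  · refine ⟨M, hM, fun j => o (n * j) + m * j, fun j hj => isOrd_twist hτ F m n j M _ (ho _ (Nat.mul_pos hn hj)), ?_⟩
    have h1 : Tendsto (fun j : ℕ => (o (n * j) : ℝ) / ((n * j : ℕ) : ℝ)) atTop (𝓝 lam) :=
      hlim.comp (tendsto_id.const_mul_atTop' hn)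
    have h2 : Tendsto (fun j : ℕ => (n : ℝ) * ((o (n * j) : ℝ) / ((n * j : ℕ) : ℝ)) + m) atTop (𝓝 (n * lam + m)) :=
      (h1.const_mul _).add_const _
    refine h2.congr' ?_
    filter_upwards [eventually_ge_atTop 1] with j hj
    have hj' : (j : ℝ) ≠ 0 := by positivity
    have hn' : (n : ℝ) ≠ 0 := by positivity
    push_cast
    field_simp

theorem s148 (hτ : Nice τ) (F : N →ₛₗ[τ] N) (hF : Isoc.IsIsoc F) (μ : ℚ) (hμ : Isoc.IsIsoclinic F μ)
    (P : Submodule K(p, k) N) (hP : ∀ x ∈ P, F x ∈ P) :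
    Isoc.IsIsoclinic (F.restrict hP) μ := by
  have := hF.finite
  obtain ⟨M, hM, r, s, hs, hrs, h⟩ := hμ
  obtain ⟨M', hM', h'⟩ := isIsoclinic_of_isoOn hτ F hF.bijective.surjective hP M hM.fg
    (by rw [hM.span_eq_top]; exact le_top) r s h
  exact ⟨M', hM', r, s, hs, hrs, h'⟩

theorem mapQ_iterate (F : N →ₛₗ[τ] N) (P : Submodule K(p, k) N) (hP : P ≤ P.comap F) (s : ℕ) (x : N) :
    (P.mapQ P F hP)^[s] (P.mkQ x) = P.mkQ (F^[s] x) := by
  induction s with
  | zero => rfl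
  | succ s ih => rw [Function.iterate_succ_apply', ih, Function.iterate_succ_apply']; rfl

theorem s149 (hτ : Nice τ) (F : N →ₛₗ[τ] N) (μ : ℚ) (hμ : Isoc.IsIsoclinic F μ)
    (P : Submodule K(p, k) N) (hP : P ≤ P.comap F) :
    Isoc.IsIsoclinic (P.mapQ P F hP) μ := by
  obtain ⟨M, hM, r, s, hs, hrs, h⟩ := hμ
  let π : N →ₗ[WittVector p k] (N ⧸ P) := P.mkQ.restrictScalars (WittVector p k)
  refine ⟨M.map π, ⟨hM.fg.map π, ?_⟩, r, s, hs, hrs, ?_⟩
  · have h1 := congrArg (Submodule.map P.mkQ) hM.span_eq_top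
    rw [Submodule.map_span, Submodule.map_top, Submodule.range_mkQ] at h1
    exact h1
  · ext x
    rw [mem_latImg hτ, mem_pPow]
    constructor
    · rintro ⟨_, ⟨y, hy, rfl⟩, rfl⟩
      have h1 : F^[s] y ∈ Isoc.pPow r M := by
        rw [← h, mem_latImg hτ]; exact ⟨y, hy, rfl⟩
      rw [mem_pPow] at h1
      refine ⟨_, h1, ?_⟩
      change P.mkQ ((p : K(p, k)) ^ (-r) • F^[s] y) = (p : K(p, k)) ^ (-r) • (P.mapQ P F hP)^[s] (P.mkQ y)
      rw [mapQ_iterate, map_smul]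
    · rintro ⟨y, hy, hyx⟩
      have h1 : (p : K(p, k)) ^ r • y ∈ Isoc.latImg F s M := by
        rw [h]; exact smul_mem_pPow hy
      rw [mem_latImg hτ] at h1
      obtain ⟨z, hz, hzy⟩ := h1
      refine ⟨π z, ⟨z, hz, rfl⟩, ?_⟩
      change (P.mapQ P F hP)^[s] (P.mkQ z) = x
      rw [mapQ_iterate, hzy, map_smul]
      change (p : K(p, k)) ^ r • π y = x
      rw [hyx, smul_smul, ← zpow_add₀ p_ne_zero]
      simp

theorem eq_zero_of_forall_mem_pPow {M : Submodule (WittVector p k) N} (hM : M.FG) {x : N}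
    (hx : ∀ n : ℕ, x ∈ Isoc.pPow n M) : x = 0 := by
  have : Module.Finite (WittVector p k) M := Module.Finite.iff_fg.2 hM
  have hxM : x ∈ M := by simpa [pPow_zero] using hx 0
  have hI : (Ideal.span {(p : WittVector p k)}) ≠ ⊤ := by
    rw [Ne, Ideal.span_singleton_eq_top]
    exact (WittVector.irreducible p).not_isUnit
  have h1 := Ideal.iInf_pow_smul_eq_bot_of_isLocalRing (M := M) (Ideal.span {(p : WittVector p k)}) hI
  have h2 : (⟨x, hxM⟩ : M) ∈ (⨅ i : ℕ, (Ideal.span {(p : WittVector p k)}) ^ i • (⊤ : Submodule (WittVector p k) M)) := by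
    rw [Submodule.mem_iInf]
    intro i
    have h3 := hx i
    rw [mem_pPow] at h3
    have h4 : (⟨x, hxM⟩ : M) = ((p : WittVector p k) ^ i) • (⟨_, h3⟩ : M) := by
      apply Subtype.ext
      rw [Submodule.coe_smul]
      simp only
      rw [← algebraMap_smul K(p, k) ((p : WittVector p k) ^ i), map_pow, map_natCast, smul_smul, ← zpow_natCast,
        ← zpow_add₀ p_ne_zero]
      simp
    rw [h4]
    exact Submodule.smul_mem_smul (Ideal.pow_mem_pow (Ideal.mem_span_singleton_self _) i) Submodule.mem_top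
  rw [h1, Submodule.mem_bot] at h2
  exact congrArg (fun z : M => (z : N)) h2

end five

section hom

variable {N₁ : Type v} [AddCommGroup N₁] [Module (WittVector p k) N₁] [Module K(p, k) N₁]
  [IsScalarTower (WittVector p k) K(p, k) N₁]
variable {N₂ : Type w} [AddCommGroup N₂] [Module (WittVector p k) N₂] [Module K(p, k) N₂]
  [IsScalarTower (WittVector p k) K(p, k) N₂]
variable {τ : K(p, k) →+* K(p, k)}

theorem hom_iterate (F₁ : N₁ →ₛₗ[τ] N₁) (F₂ : N₂ →ₛₗ[τ] N₂)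
    (f : N₁ →ₗ[K(p, k)] N₂) (hf : ∀ x : N₁, f (F₁ x) = F₂ (f x)) (s : ℕ) (x : N₁) :
    f (F₁^[s] x) = F₂^[s] (f x) := by
  induction s with
  | zero => rfl
  | succ s ih => rw [Function.iterate_succ_apply', hf, ih, Function.iterate_succ_apply']

theorem s150 (hτ : Nice τ) (F₁ : N₁ →ₛₗ[τ] N₁) (F₂ : N₂ →ₛₗ[τ] N₂)
    (h₂ : Isoc.IsIsoc F₂)
    (μ₁ μ₂ : ℚ) (hμ₁ : Isoc.IsIsoclinic F₁ μ₁) (hμ₂ : Isoc.IsIsoclinic F₂ μ₂) (hne : μ₁ ≠ μ₂)
    (f : N₁ →ₗ[K(p, k)] N₂) (hf : ∀ x : N₁, f (F₁ x) = F₂ (f x)) : f = 0 := by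
  obtain ⟨M₁, hM₁, r₁, s₁, hs₁, hrs₁, h1⟩ := hμ₁
  obtain ⟨M₂, hM₂, r₂, s₂, hs₂, hrs₂, h2⟩ := hμ₂
  have hs1 : (s₁ : ℚ) ≠ 0 := by positivity
  have hs2 : (s₂ : ℚ) ≠ 0 := by positivity
  have hne' : (s₂ : ℤ) * r₁ ≠ s₁ * r₂ := by
    intro heq
    apply hne
    rw [← hrs₁, ← hrs₂, div_eq_div_iff hs1 hs2]
    have : ((s₂ : ℤ) * r₁ : ℚ) = (s₁ * r₂ : ℚ) := by exact_mod_cast heq
    push_cast at this
    linarith
  have h1' := latImg_mul_eq hτ h1 s₂
  have h2' := latImg_mul_eq hτ h2 s₁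
  rw [mul_comm s₁ s₂] at h2'
  set S := s₂ * s₁ with hS
  set A := (s₂ : ℤ) * r₁ with hA
  set B := (s₁ : ℤ) * r₂ with hB
  let ff : N₁ →ₗ[WittVector p k] N₂ := f.restrictScalars (WittVector p k)
  obtain ⟨c, hc⟩ := exists_le_pPow (hM₁.fg.map ff) hM₂.span_eq_top
  have hfp : ∀ (r : ℤ) (x : N₁), f ((p : K(p, k)) ^ r • x) = (p : K(p, k)) ^ r • f x := fun r x => map_smul _ _ _
  -- it suffices to show f vanishes on M₁
  suffices hz : ∀ x ∈ M₁, f x = 0 by
    ext x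
    obtain ⟨e, he⟩ := exists_p_smul_mem hM₁.span_eq_top x
    have := hz _ he
    rw [hfp, smul_eq_zero] at this
    rcases this with h | h
    · exact absurd h (zpow_ne_zero _ p_ne_zero)
    · exact h
  intro x hx
  apply eq_zero_of_forall_mem_pPow hM₂.fg
  intro n
  -- choose m with m * |A - B| ≥ n + c
  have hnat : (n : ℤ) + c = ((n + c : ℕ) : ℤ) := by push_cast; ring
  rcases lt_or_gt_of_ne hne' with hlt | hgt
  · -- A < B
    have h3 := latImg_mul_eq hτ h1' (n + c)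
    have h4 := latImg_mul_eq hτ h2' (n + c)
    set m := n + c with hm
    have h5 : (p : K(p, k)) ^ ((m : ℤ) * A) • x ∈ Isoc.latImg F₁ (m * S) M₁ := by
      rw [h3]; exact smul_mem_pPow hx
    rw [mem_latImg hτ] at h5
    obtain ⟨y, hy, hyx⟩ := h5
    have h6 : f y ∈ Isoc.pPow (-(c : ℤ)) M₂ := hc ⟨y, hy, rfl⟩
    have h7 : F₂^[m * S] (f y) ∈ Isoc.pPow (-(c : ℤ)) (Isoc.latImg F₂ (m * S) M₂) := by
      rw [← latImg_pPow hτ, mem_latImg hτ]; exact ⟨_, h6, rfl⟩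
    rw [h4, pPow_pPow, ← hom_iterate F₁ F₂ f hf, hyx, hfp] at h7
    have h8 := smul_mem_pPow' (r := -((m : ℤ) * A)) h7
    rw [smul_smul, ← zpow_add₀ p_ne_zero, neg_add_cancel, zpow_zero, one_smul] at h8
    refine pPow_anti ?_ M₂ h8
    have : (m : ℤ) * (B - A) ≥ m * 1 := by
      apply mul_le_mul_of_nonneg_left (by omega) (by omega)
    have h9 : (m : ℤ) = n + c := by rw [hm]; push_cast; ring
    nlinarith
  · have h3 := latImg_mul_eq hτ h1' (n + c)
    have h4 := latImg_mul_eq hτ h2' (n + c)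
    set m := n + c with hm
    have h5 : F₁^[m * S] x ∈ Isoc.pPow ((m : ℤ) * A) M₁ := by
      rw [← h3, mem_latImg hτ]; exact ⟨x, hx, rfl⟩
    rw [mem_pPow] at h5
    have h6 : f ((p : K(p, k)) ^ (-((m : ℤ) * A)) • F₁^[m * S] x) ∈ Isoc.pPow (-(c : ℤ)) M₂ := hc ⟨_, h5, rfl⟩
    rw [hfp, hom_iterate F₁ F₂ f hf] at h6
    have h7 := smul_mem_pPow' (r := ((m : ℤ) * A)) h6
    rw [smul_smul, ← zpow_add₀ p_ne_zero, add_neg_cancel, zpow_zero, one_smul] at h7
    have h8 : Isoc.pPow ((m : ℤ) * A + -(c : ℤ)) M₂ = Isoc.pPow ((m : ℤ) * A + -(c : ℤ) - m * B) (Isoc.latImg F₂ (m * S) M₂) := by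
      rw [h4, pPow_pPow]; congr 1; ring
    rw [h8, ← latImg_pPow hτ, mem_latImg hτ] at h7
    obtain ⟨y, hy, hyx⟩ := h7
    have h9 := h₂.bijective.injective.iterate _ hyx
    rw [← h9]
    refine pPow_anti ?_ M₂ hy
    have : (m : ℤ) * (A - B) ≥ m * 1 := by
      apply mul_le_mul_of_nonneg_left (by omega) (by omega)
    have h9 : (m : ℤ) = n + c := by rw [hm]; push_cast; ring
    nlinarith

end hom

end Groth.Agent.H25Isoc
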