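import Groth.Agent.Lib.H25_Isoc5

set_option autoImplicit false
set_option linter.unusedSectionVars false

noncomputable section

open scoped Pointwise Isocrystal
open Filter Topology

universe u v w

namespace Groth.Agent.H25Isoc

variable {p : ℕ} [Fact p.Prime] {k : Type u} [Field k] [CharP k p] [PerfectRing k p]

section six

variable {N : Type v} [AddCommGroup N] [Module (WittVector p k) N] [Module K(p, k) N]
  [IsScalarTower (WittVector p k) K(p, k) N]
variable {τ : K(p, k) →+* K(p, k)}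

/-- partial sums of the images -/
def SS (F : N →ₛₗ[τ] N) (M : Submodule (WittVector p k) N) : ℕ → Submodule (WittVector p k) N
  | 0 => M
  | (j + 1) => SS F M j ⊔ Isoc.latImg F (j + 1) M

theorem SS_mono (F : N →ₛₗ[τ] N) (M : Submodule (WittVector p k) N) : Monotone (SS F M) :=
  monotone_nat_of_le_succ fun _ => le_sup_left

theorem latImg_le_SS (hτ : Nice τ) (F : N →ₛₗ[τ] N) (M : Submodule (WittVector p k) N) {i j : ℕ} (hij : i ≤ j) :
    Isoc.latImg F i M ≤ SS F M j := by
  refine le_trans ?_ (SS_mono F M hij)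
  cases i with
  | zero => rw [latImg_zero hτ]; exact le_rfl
  | succ i => exact le_sup_right

theorem SS_le_iff (hτ : Nice τ) (F : N →ₛₗ[τ] N) (M B : Submodule (WittVector p k) N) (j : ℕ) :
    SS F M j ≤ B ↔ ∀ i ≤ j, Isoc.latImg F i M ≤ B := by
  constructor
  · intro h i hi
    exact (latImg_le_SS hτ F M hi).trans h
  · intro h
    induction j with
    | zero => have := h 0 le_rfl; rwa [latImg_zero hτ] at this
    | succ j ih => exact sup_le (ih fun i hi => h i (by omega)) (h _ le_rfl)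

theorem latImg_SS_le (hτ : Nice τ) (F : N →ₛₗ[τ] N) (M : Submodule (WittVector p k) N) (j : ℕ) :
    Isoc.latImg F 1 (SS F M j) ≤ SS F M (j + 1) := by
  induction j with
  | zero => exact latImg_le_SS hτ F M (i := 1) (j := 1) le_rfl
  | succ j ih =>
    rw [SS, latImg_sup hτ, latImg_latImg hτ]
    refine sup_le (ih.trans (SS_mono F M (by omega))) (latImg_le_SS hτ F M (by omega))

theorem SS_lat (hτ : Nice τ) (F : N →ₛₗ[τ] N) {M : Submodule (WittVector p k) N} (hM : M.IsLattice K(p, k)) (j : ℕ) :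
    (SS F M j).IsLattice K(p, k) := by
  constructor
  · induction j with
    | zero => exact hM.fg
    | succ j ih => exact ih.sup (latImg_fg hτ F _ hM.fg)
  · rw [eq_top_iff, ← hM.span_eq_top]
    exact Submodule.span_mono (SS_mono F M (Nat.zero_le j))

theorem effective_of (hτ : Nice τ) [Module.Finite K(p, k) N] (F : N →ₛₗ[τ] N) (h : ℕ)
    (hh : Module.finrank K(p, k) N = h)
    {M : Submodule (WittVector p k) N} (hM : M.IsLattice K(p, k))
    (hFM : Isoc.latImg F (h + 1) M ≤ Isoc.pPow (-1) M) :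
    ∃ M' : Submodule (WittVector p k) N, M'.IsLattice K(p, k) ∧ Isoc.latImg F 1 M' ≤ M' := by
  by_contra hcon
  push Not at hcon
  let b := Module.finBasisOfFinrankEq K(p, k) N hh
  -- bound
  have hbound : SS F M (2 * h + 1) ≤ Isoc.pPow (-1) (SS F M h) := by
    rw [SS_le_iff hτ]
    intro i hi
    rcases Nat.lt_or_ge i (h + 1) with h1 | h1
    · have h2 := latImg_le_SS hτ F M (i := i) (j := h) (by omega)
      refine h2.trans ?_
      have := pPow_anti (r := -1) (s := 0) (by omega) (SS F M h)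
      rwa [pPow_zero] at this
    · obtain ⟨t, rfl⟩ : ∃ t, i = t + (h + 1) := ⟨i - (h + 1), by omega⟩
      rw [← latImg_latImg hτ]
      refine (latImg_mono F t hFM).trans ?_
      rw [latImg_pPow hτ]
      exact pPow_mono _ (latImg_le_SS hτ F M (by omega))
  have hstrict : ∀ j, SS F M j ≠ SS F M (j + 1) := by
    intro j hj
    apply hcon (SS F M j) (SS_lat hτ F hM j)
    conv_rhs => rw [hj]
    exact latImg_SS_le hτ F M j
  choose vol hvol using fun j => vol_exists b (SS_lat hτ F hM j)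
  have hdec : ∀ j, vol (j + 1) + 1 ≤ vol j := by
    intro j
    obtain ⟨h1, h2⟩ := vol_le b (SS_mono F M (Nat.le_succ j)) (hvol j) (hvol (j + 1))
    rcases lt_or_eq_of_le h1 with h3 | h3
    · omega
    · exact absurd (h2 h3) (hstrict j)
  have hdec2 : ∀ n, vol (h + n) + n ≤ vol h := by
    intro n
    induction n with
    | zero => simp
    | succ n ih =>
      have := hdec (h + n)
      rw [← add_assoc]
      push_cast
      omega
  have h3 := hdec2 (h + 1)
  have h4 := (vol_le b hbound (hvol _) (vol_pPow b (-1) (hvol h))).1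
  rw [show h + (h + 1) = 2 * h + 1 by ring] at h3
  push_cast at h3
  omega

/-- slope `≥ 0` implies effective -/
theorem effective_of_slope (hτ : Nice τ) [Module.Finite K(p, k) N] (F : N →ₛₗ[τ] N) (lam : ℝ) (hlam : Isoc.IsFirstSlope F lam)
    (h0 : 0 ≤ lam) : ∃ M' : Submodule (WittVector p k) N, M'.IsLattice K(p, k) ∧ Isoc.latImg F 1 M' ≤ M' := by
  set h := Module.finrank K(p, k) N with hh
  -- H = p F^(h+1)
  have hs := s143 hτ F lam hlam 1 (h + 1)
  obtain ⟨M, hM, o, ho, hlim⟩ := hs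
  have hpos : (0 : ℝ) < ((h + 1 : ℕ) : ℝ) * lam + ((1 : ℤ) : ℝ) := by
    have : (0 : ℝ) ≤ ((h + 1 : ℕ) : ℝ) * lam := by positivity
    push_cast at this ⊢
    linarith
  have hev := hlim.eventually (lt_mem_nhds hpos)
  obtain ⟨n, hn1, hn2⟩ := (hev.and (eventually_ge_atTop 1)).exists
  have hn3 : 0 < o n := by
    have : (0 : ℝ) < n := by exact_mod_cast hn2
    have h2 := (div_pos_iff_of_pos_right this).1 hn1
    exact_mod_cast h2
  set H := ((p : K(p, k)) ^ (1 : ℤ) • Isoc.iter F (h + 1)) with hH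
  have hHn : Isoc.latImg H n M ≤ M := by
    have := (ho n hn2).1.trans (pPow_anti hn3.le M)
    rwa [pPow_zero] at this
  have hτ' := hτ.pow (h + 1)
  obtain ⟨m, rfl⟩ : ∃ m, n = m + 1 := ⟨n - 1, by omega⟩
  have hSS : SS H M (m + 1) ≤ SS H M m := by
    rw [SS_le_iff hτ']
    intro i hi
    rcases Nat.lt_or_ge i (m + 1) with h1 | h1
    · exact latImg_le_SS hτ' H M (by omega)
    · have : i = m + 1 := by omega
      subst this
      exact hHn.trans (SS_mono H M (Nat.zero_le m))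
  have hfin : Isoc.latImg H 1 (SS H M m) ≤ SS H M m := (latImg_SS_le hτ' H M m).trans hSS
  apply effective_of hτ F h rfl (SS_lat hτ' H hM m)
  have htw : Isoc.latImg H 1 (SS H M m) = Isoc.pPow (1 * ((1 : ℕ) : ℤ)) (Isoc.latImg F ((h + 1) * 1) (SS H M m)) :=
    latImg_twist hτ F 1 (h + 1) 1 _
  rw [htw, pPow_le_iff, mul_one, Nat.cast_one, mul_one] at hfin
  exact hfin

theorem s145 (hτ : Nice τ) [Module.Finite K(p, k) N] (F : N →ₛₗ[τ] N) (lam : ℝ) (hlam : Isoc.IsFirstSlope F lam)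
    (r : ℤ) (s : ℕ) (hs : 0 < s) (hrs : (r : ℝ) / s ≤ lam) :
    ∃ M : Submodule (WittVector p k) N, M.IsLattice K(p, k) ∧ Isoc.latImg F s M ≤ Isoc.pPow r M := by
  have h1 := s143 hτ F lam hlam (-r) s
  have h2 : (0 : ℝ) ≤ s * lam + ((-r : ℤ) : ℝ) := by
    have hs' : (0 : ℝ) < s := by exact_mod_cast hs
    rw [div_le_iff₀ hs'] at hrs
    push_cast
    linarith
  obtain ⟨M, hM, h3⟩ := effective_of_slope (hτ.pow s) _ _ h1 h2
  refine ⟨M, hM, ?_⟩
  rw [latImg_twist hτ, pPow_le_iff] at h3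
  simpa using h3

theorem firstSlope_unique (hτ : Nice τ) (F : N →ₛₗ[τ] N) {lam mu : ℝ} (h1 : Isoc.IsFirstSlope F lam)
    (h2 : Isoc.IsFirstSlope F mu) : lam = mu := by
  obtain ⟨M, hM, o, ho, hlim⟩ := h1
  obtain ⟨M', hM', o', ho', hlim'⟩ := h2
  exact lim_unique hτ F hM hM' ho ho' hlim hlim'

theorem le_slope_of (hτ : Nice τ) (F : N →ₛₗ[τ] N) {lam : ℝ} (h1 : Isoc.IsFirstSlope F lam)
    {M : Submodule (WittVector p k) N} (hM : M.IsLattice K(p, k)) (r : ℤ) (s : ℕ) (hs : 0 < s)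
    (hF : Isoc.latImg F s M ≤ Isoc.pPow r M) : (r : ℝ) / s ≤ lam := by
  obtain ⟨M', hM', o, ho, hlim⟩ := h1
  obtain ⟨c, hc⟩ := ord_compare hτ F hM hM'
  have h3 : ∀ n : ℕ, 1 ≤ n → (n : ℤ) * r - c ≤ o (n * s) := by
    intro n hn
    exact le_of_isOrd (ho (n * s) (Nat.mul_pos hn hs)) (hc _ _ (latImg_mul_le hτ hF n))
  have h2 : Tendsto (fun n : ℕ => (o (n * s) : ℝ) / ((n * s : ℕ) : ℝ)) atTop (𝓝 lam) :=
    hlim.comp (tendsto_id.atTop_mul_const' hs)
  have hs' : (s : ℝ) ≠ 0 := by positivity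
  have h4 : Tendsto (fun n : ℕ => (r : ℝ) / s - ((c : ℝ) / s) / n) atTop (𝓝 ((r : ℝ) / s - 0)) :=
    tendsto_const_nhds.sub (tendsto_const_div_atTop_nhds_zero_nat _)
  rw [sub_zero] at h4
  refine le_of_tendsto_of_tendsto h4 h2 ?_
  filter_upwards [eventually_ge_atTop 1] with n hn
  have hn' : (0 : ℝ) < n := by exact_mod_cast hn
  have hs'' : (0 : ℝ) < s := by exact_mod_cast hs
  rw [div_div, div_sub_div _ _ hs' (by positivity), div_le_div_iff₀ (by positivity) (by push_cast; positivity)]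
  have h5 : (n : ℝ) * r - c ≤ o (n * s) := by exact_mod_cast h3 n hn
  push_cast
  have h6 : 0 < (s : ℝ) * s * n * s := by positivity
  nlinarith [mul_le_mul_of_nonneg_left h5 (show (0 : ℝ) ≤ s * s * n by positivity)]

end six

end Groth.Agent.H25Isoc
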