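import Groth.Agent.Lib.H25_Isoc6

set_option autoImplicit false
set_option linter.unusedSectionVars false

noncomputable section

open scoped Pointwise Isocrystal
open Filter Topology

universe u v w

namespace Groth.Agent.H25Isoc

variable {p : ℕ} [Fact p.Prime] {k : Type u} [Field k] [CharP k p] [PerfectRing k p]

section seven

variable {N : Type v} [AddCommGroup N] [Module (WittVector p k) N] [Module K(p, k) N]
  [IsScalarTower (WittVector p k) K(p, k) N]
variable {τ : K(p, k) →+* K(p, k)}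

theorem ne_bot_of_isOrd (hτ : Nice τ) {F : N →ₛₗ[τ] N} {M : Submodule (WittVector p k) N} {n : ℕ} {r : ℤ}
    (h : Isoc.IsOrd M F n r) : M ≠ ⊥ := by
  rintro rfl
  apply h.2
  intro x hx
  rw [mem_latImg hτ] at hx
  obtain ⟨y, hy, rfl⟩ := hx
  rw [Submodule.mem_bot] at hy
  rw [hy, ← Isoc.iter_apply, map_zero]
  exact Submodule.zero_mem _

theorem nontrivial_of_firstSlope (hτ : Nice τ) {F : N →ₛₗ[τ] N} {lam : ℝ} (h : Isoc.IsFirstSlope F lam) :
    Nontrivial N := by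
  obtain ⟨M, hM, o, ho, -⟩ := h
  have h1 := ne_bot_of_isOrd hτ (ho 1 le_rfl)
  obtain ⟨x, -, hx⟩ := Submodule.exists_mem_ne_zero_of_ne_bot h1
  exact ⟨x, 0, hx⟩

/-- images plus `pM` -/
def CC (F : N →ₛₗ[τ] N) (M : Submodule (WittVector p k) N) (i : ℕ) : Submodule (WittVector p k) N :=
  Isoc.latImg F i M ⊔ Isoc.pPow 1 M

theorem CC_succ (hτ : Nice τ) (F : N →ₛₗ[τ] N) {M : Submodule (WittVector p k) N} (hFM : Isoc.latImg F 1 M ≤ M) (i : ℕ) :
    CC F M (i + 1) = Isoc.latImg F 1 (CC F M i) ⊔ Isoc.pPow 1 M := by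
  rw [CC, CC, latImg_sup hτ, latImg_latImg hτ, latImg_pPow hτ, sup_assoc, add_comm 1 i]
  congr 1
  exact (sup_eq_right.2 (pPow_mono 1 hFM)).symm

theorem CC_anti (hτ : Nice τ) (F : N →ₛₗ[τ] N) {M : Submodule (WittVector p k) N} (hFM : Isoc.latImg F 1 M ≤ M) (i : ℕ) :
    CC F M (i + 1) ≤ CC F M i := by
  refine sup_le_sup_right ?_ _
  rw [← latImg_latImg hτ]
  exact latImg_mono F i hFM

theorem nilpotent_bound (hτ : Nice τ) [Nontrivial N] {h : ℕ} (b : Module.Basis (Fin h) K(p, k) N) (F : N →ₛₗ[τ] N)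
    {M : Submodule (WittVector p k) N} (hM : M.IsLattice K(p, k))
    (hFM : Isoc.latImg F 1 M ≤ M) (n : ℕ) (hn : Isoc.latImg F n M ≤ Isoc.pPow 1 M) :
    Isoc.latImg F h M ≤ Isoc.pPow 1 M := by
  by_contra hcon
  have hconst : ∀ i, CC F M i = CC F M (i + 1) → ∀ j, CC F M (i + j) = CC F M i := by
    intro i hi j
    induction j with
    | zero => rfl
    | succ j ih => rw [← add_assoc, CC_succ hτ F hFM, ih, ← CC_succ hτ F hFM, ← hi]
  have hanti : Antitone (CC F M) := antitone_nat_of_succ_le (CC_anti hτ F hFM)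
  have hCn : CC F M n ≤ Isoc.pPow 1 M := sup_le hn le_rfl
  have hlat : ∀ i, (CC F M i).IsLattice K(p, k) := by
    intro i
    refine ⟨(latImg_fg hτ F i hM.fg).sup (pPow_fg 1 hM.fg), ?_⟩
    rw [eq_top_iff, ← pPow_span 1 hM.span_eq_top]
    exact Submodule.span_mono (le_sup_right : Isoc.pPow 1 M ≤ CC F M i)
  have hne : ∀ i ≤ h, CC F M i ≠ CC F M (i + 1) := by
    intro i hi heq
    apply hcon
    have h1 := hconst i heq n
    have h2 : CC F M (i + n) ≤ CC F M n := hanti (by omega)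
    have h3 : Isoc.latImg F h M ≤ CC F M h := le_sup_left
    refine h3.trans ((hanti hi).trans ?_)
    rw [← h1]
    exact h2.trans hCn
  choose vol hvol using fun j => vol_exists b (hlat j)
  have hinc : ∀ j ≤ h, vol j + 1 ≤ vol (j + 1) := by
    intro j hj
    obtain ⟨h1, h2⟩ := vol_le b (CC_anti hτ F hFM j) (hvol (j + 1)) (hvol j)
    rcases lt_or_eq_of_le h1 with h3 | h3
    · omega
    · exact absurd (h2 h3).symm (hne j hj)
  have hinc2 : ∀ j ≤ h + 1, vol 0 + j ≤ vol j := by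
    intro j
    induction j with
    | zero => simp
    | succ j ih =>
      intro hj
      have h1 := ih (by omega)
      have h2 := hinc j (by omega)
      push_cast
      omega
  have hC0 : CC F M 0 = M := by
    rw [CC, latImg_zero hτ, sup_eq_left]
    have := pPow_anti (r := 0) (s := 1) (by omega) M
    rwa [pPow_zero] at this
  have h0 := hvol 0
  rw [hC0] at h0
  have h4 := (vol_le b (le_sup_right : Isoc.pPow 1 M ≤ CC F M (h + 1)) (vol_pPow b 1 h0) (hvol (h + 1))).1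
  have h5 := hinc2 (h + 1) le_rfl
  push_cast at h5
  omega

theorem exists_pos_ord (hτ : Nice τ) [Nontrivial N] (F : N →ₛₗ[τ] N) (hF : Function.Surjective F)
    {lam : ℝ} (hlam : Isoc.IsFirstSlope F lam) (hpos : 0 < lam)
    {M : Submodule (WittVector p k) N} (hM : M.IsLattice K(p, k)) : ∃ n : ℕ, 1 ≤ n ∧ Isoc.latImg F n M ≤ Isoc.pPow 1 M := by
  obtain ⟨o, ho, mu, hlim⟩ := exists_lim hτ F hF hM
  have : mu = lam := firstSlope_unique hτ F ⟨M, hM, o, ho, hlim⟩ hlam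
  subst this
  have hev := hlim.eventually (lt_mem_nhds hpos)
  obtain ⟨n, hn1, hn2⟩ := (hev.and (eventually_ge_atTop 1)).exists
  have hn3 : 0 < o n := by
    have : (0 : ℝ) < n := by exact_mod_cast hn2
    have h2 := (div_pos_iff_of_pos_right this).1 hn1
    exact_mod_cast h2
  exact ⟨n, hn2, (ho n hn2).1.trans (pPow_anti (by omega) M)⟩

theorem twist_surjective (F : N →ₛₗ[τ] N) (hF : Function.Surjective F) (m : ℤ) (n : ℕ) :
    Function.Surjective ((p : K(p, k)) ^ m • Isoc.iter F n) := by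
  intro x
  obtain ⟨y, hy⟩ := hF.iterate n ((p : K(p, k)) ^ (-m) • x)
  refine ⟨y, ?_⟩
  change (p : K(p, k)) ^ m • F^[n] y = x
  rw [hy, smul_smul, ← zpow_add₀ p_ne_zero]
  simp

theorem slope_rational (hτ : Nice τ) [Module.Finite K(p, k) N] (F : N →ₛₗ[τ] N) (hF : Function.Surjective F)
    (h : ℕ) (hh : Module.finrank K(p, k) N = h)
    (lam : ℝ) (hlam : Isoc.IsFirstSlope F lam) :
    ∃ (r : ℤ) (s : ℕ) (M : Submodule (WittVector p k) N), 0 < s ∧ s ≤ h ∧ lam = (r : ℝ) / s ∧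
      M.IsLattice K(p, k) ∧ Isoc.IsOrd M F s r := by
  have hnt := nontrivial_of_firstSlope hτ hlam
  have hpos : 0 < h := by rw [← hh]; exact Module.finrank_pos
  let b := Module.finBasisOfFinrankEq K(p, k) N hh
  obtain ⟨r, s', hs0, hsh, habs⟩ := Real.exists_int_int_abs_mul_sub_le lam hpos
  obtain ⟨s, rfl⟩ := Int.eq_ofNat_of_zero_le hs0.le
  have hs : 0 < s := by exact_mod_cast hs0
  have hsh' : s ≤ h := by exact_mod_cast hsh
  rw [Int.cast_natCast] at habs
  rw [abs_le] at habs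
  have hh' : (0 : ℝ) < h := by exact_mod_cast hpos
  set G := ((p : K(p, k)) ^ (-r) • Isoc.iter F s) with hG
  have hτG := hτ.pow s
  have hGs : Function.Surjective G := twist_surjective F hF (-r) s
  have hGslope : Isoc.IsFirstSlope G (s * lam + ((-r : ℤ) : ℝ)) := s143 hτ F lam hlam (-r) s
  -- effective
  have hHslope := s143 hτG G _ hGslope 1 (h + 1)
  have h1 : (0 : ℝ) ≤ ((h + 1 : ℕ) : ℝ) * (s * lam + ((-r : ℤ) : ℝ)) + ((1 : ℤ) : ℝ) := by
    have h2 := habs.1
    have h3 : (0 : ℝ) < (h : ℝ) + 1 := by positivity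
    have h4 : -(1 : ℝ) ≤ ((h : ℝ) + 1) * (s * lam - r) := by
      have := mul_le_mul_of_nonneg_left h2 h3.le
      rw [mul_neg, mul_one_div_cancel h3.ne'] at this
      exact this
    push_cast
    linarith
  obtain ⟨M₁, hM₁, hHM⟩ := effective_of_slope (hτG.pow (h + 1)) _ _ hHslope h1
  have htw : Isoc.latImg ((p : K(p, k)) ^ (1 : ℤ) • Isoc.iter G (h + 1)) 1 M₁ = Isoc.pPow (1 * ((1 : ℕ) : ℤ)) (Isoc.latImg G ((h + 1) * 1) M₁) :=
    latImg_twist hτG G 1 (h + 1) 1 _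
  rw [htw, pPow_le_iff, mul_one, Nat.cast_one, mul_one] at hHM
  obtain ⟨M, hM, hGM⟩ := effective_of hτG G h hh hM₁ hHM
  have h2 := le_slope_of hτG G hGslope hM 0 1 one_pos (by rw [pPow_zero]; exact hGM)
  have h3 : (0 : ℝ) ≤ s * lam + ((-r : ℤ) : ℝ) := by simpa using h2
  have h4 : (s : ℝ) * lam + ((-r : ℤ) : ℝ) = 0 := by
    by_contra hne
    have hpos' : (0 : ℝ) < s * lam + ((-r : ℤ) : ℝ) := lt_of_le_of_ne h3 (Ne.symm hne)
    obtain ⟨n, hn1, hn2⟩ := exists_pos_ord hτG G hGs hGslope hpos' hM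
    have h5 := nilpotent_bound hτG b G hM hGM n hn2
    have h6 := le_slope_of hτG G hGslope hM 1 h hpos h5
    have h7 := habs.2
    have h8 : (1 : ℝ) / (h + 1) < 1 / h := by
      apply one_div_lt_one_div_of_lt hh'
      linarith
    push_cast at h6
    linarith
  have hs' : (0 : ℝ) < s := by exact_mod_cast hs
  have hlam_eq : lam = (r : ℝ) / s := by
    rw [eq_div_iff hs'.ne']
    push_cast at h4
    linarith
  refine ⟨r, s, M, hs, hsh', hlam_eq, hM, ?_, ?_⟩
  · have htw2 : Isoc.latImg G 1 M = Isoc.pPow (-r * ((1 : ℕ) : ℤ)) (Isoc.latImg F (s * 1) M) :=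
      latImg_twist hτ F (-r) s 1 _
    rw [htw2, pPow_le_iff, mul_one, Nat.cast_one, mul_one, neg_neg] at hGM
    exact hGM
  · intro hcon
    have h9 := le_slope_of hτ F hlam hM (r + 1) s hs hcon
    rw [hlam_eq, div_le_div_iff_of_pos_right hs'] at h9
    push_cast at h9
    linarith

theorem s146 (hτ : Nice τ) (F : N →ₛₗ[τ] N) (hF : Isoc.IsIsoc F)
    (h : ℕ) (b : Module.Basis (Fin h) K(p, k) N)
    (d : ℤ) (hd : Isoc.IsOrdP (Isoc.detCoeff b F) d)
    (lam : ℝ) (hlam : Isoc.IsFirstSlope F lam) :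
    ∃ (r : ℤ) (s : ℕ) (M : Submodule (WittVector p k) N), 0 < s ∧ s ≤ h ∧ lam = (r : ℝ) / s ∧
      M.IsLattice K(p, k) ∧ Isoc.IsOrd M F s r ∧ r * h ≤ s * d := by
  have := hF.finite
  obtain ⟨r, s, M, hs, hsh, hl, hM, ho⟩ := slope_rational hτ F hF.bijective.surjective h
    (by rw [Module.finrank_eq_card_basis b, Fintype.card_fin]) lam hlam
  refine ⟨r, s, M, hs, hsh, hl, hM, ho, ?_⟩
  obtain ⟨v, hv⟩ := vol_exists b hM
  have := (vol_le b ho.1 (vol_latImg hτ b F hd hv s) (vol_pPow b r hv)).1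
  omega

theorem s147 (hτ : Nice τ) (F : N →ₛₗ[τ] N) (hF : Isoc.IsIsoc F)
    (h : ℕ) (b : Module.Basis (Fin h) K(p, k) N)
    (d : ℤ) (hd : Isoc.IsOrdP (Isoc.detCoeff b F) d)
    (hlam : Isoc.IsFirstSlope F ((d : ℝ) / h)) :
    ∃ M : Submodule (WittVector p k) N, M.IsLattice K(p, k) ∧ Isoc.latImg F h M = Isoc.pPow d M := by
  have := hF.finite
  have hnt := nontrivial_of_firstSlope hτ hlam
  have hpos : 0 < h := by
    have := Module.finrank_pos (R := K(p, k)) (M := N)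
    rwa [Module.finrank_eq_card_basis b, Fintype.card_fin] at this
  obtain ⟨M, hM, h1⟩ := s145 hτ F _ hlam d h hpos le_rfl
  refine ⟨M, hM, ?_⟩
  obtain ⟨v, hv⟩ := vol_exists b hM
  refine (vol_le b h1 (vol_latImg hτ b F hd hv h) (vol_pPow b d hv)).2 ?_
  ring

end seven

end Groth.Agent.H25Isoc
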