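import Groth.Agent.Lib.H25_Isoc7

set_option autoImplicit false
set_option linter.unusedSectionVars false

noncomputable section

open scoped Pointwise Isocrystal
open Filter Topology

universe u v w

namespace Groth.Agent.H25Isoc

variable {p : ℕ} [Fact p.Prime] {k : Type u} [Field k] [CharP k p] [PerfectRing k p]

theorem wcharZero : CharZero (WittVector p k) := by
  apply charZero_of_inj_zero
  intro n hn
  by_contra hne
  obtain ⟨e, m, hm, rfl⟩ := Nat.exists_eq_pow_mul_and_not_dvd hne p (Fact.out : p.Prime).ne_one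
  rw [Nat.cast_mul, Nat.cast_pow, mul_eq_zero] at hn
  rcases hn with h | h
  · exact pow_ne_zero _ (WittVector.irreducible p).ne_zero h
  · have h2 : (m : k) = 0 := by
      have := congrArg (WittVector.constantCoeff : WittVector p k →+* k) h
      rwa [map_natCast, map_zero] at this
    rw [CharP.cast_eq_zero_iff k p] at h2
    exact hm h2

section std

variable {τ : K(p, k) →+* K(p, k)}

theorem std_e_succ (d : ℤ) (h : ℕ) (i : Fin h) (hi : i.val + 1 < h) :
    Isoc.stdIsoc τ d h (Pi.single i 1) = Pi.single ⟨i.val + 1, hi⟩ 1 := by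
  cases h with
  | zero => exact i.elim0
  | succ h =>
  ext j
  rw [Isoc.stdIsoc_apply]
  have hrot : finRotate (h + 1) i = ⟨i.val + 1, hi⟩ := by
    apply Fin.ext
    rw [coe_finRotate_of_ne_last]
    intro hl
    rw [hl, Fin.val_last] at hi
    omega
  by_cases hj : (finRotate (h + 1)).symm j = i
  · have hj2 : j = ⟨i.val + 1, hi⟩ := by
      rw [← hrot, ← hj, Equiv.apply_symm_apply]
    rw [hj, hj2, if_neg (by simp), Pi.single_eq_same, Pi.single_eq_same, map_one, one_mul]
  · have hj2 : j ≠ ⟨i.val + 1, hi⟩ := by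
      intro h2
      apply hj
      rw [h2, ← hrot, Equiv.symm_apply_apply]
    rw [Pi.single_eq_of_ne hj, Pi.single_eq_of_ne hj2, map_zero, mul_zero]

theorem std_e_last (d : ℤ) (h : ℕ) :
    Isoc.stdIsoc τ d (h + 1) (Pi.single (Fin.last h) 1) = (p : K(p, k)) ^ d • Pi.single 0 1 := by
  ext j
  rw [Isoc.stdIsoc_apply]
  have hrot : finRotate (h + 1) (Fin.last h) = 0 := finRotate_last
  by_cases hj : (finRotate (h + 1)).symm j = Fin.last h
  · have hj2 : j = 0 := by
      rw [← hrot, ← hj, Equiv.apply_symm_apply]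
    rw [hj, hj2, if_pos (by simp), Pi.single_eq_same, Pi.smul_apply, Pi.single_eq_same, map_one, smul_eq_mul]
  · have hj2 : j ≠ 0 := by
      intro h2
      apply hj
      rw [h2, ← hrot, Equiv.symm_apply_apply]
    rw [Pi.single_eq_of_ne hj, Pi.smul_apply, Pi.single_eq_of_ne hj2, map_zero, mul_zero, smul_zero]

theorem std_iter_zero (d : ℤ) (h : ℕ) (i : ℕ) (hi : i < h + 1) :
    (Isoc.stdIsoc τ d (h + 1))^[i] (Pi.single 0 1) = Pi.single ⟨i, hi⟩ 1 := by
  induction i with
  | zero => rfl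
  | succ i ih =>
    rw [Function.iterate_succ_apply', ih (by omega), std_e_succ d (h + 1) ⟨i, by omega⟩ hi]

theorem std_iter_h (d : ℤ) (h : ℕ) (i : Fin (h + 1)) :
    (Isoc.stdIsoc τ d (h + 1))^[h + 1] (Pi.single i 1) = (p : K(p, k)) ^ d • Pi.single i 1 := by
  have h1 := std_iter_zero (τ := τ) d h i.val i.2
  have h2 := std_iter_zero (τ := τ) d h h (by omega)
  have h3 : (⟨i.val, i.2⟩ : Fin (h + 1)) = i := rfl
  rw [h3] at h1
  conv_lhs => rw [← h1, ← Function.iterate_add_apply, add_comm (h + 1) i.val, Function.iterate_add_apply,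
    Function.iterate_succ_apply', h2]
  have h4 : (⟨h, by omega⟩ : Fin (h + 1)) = Fin.last h := rfl
  rw [h4, std_e_last, iterate_p_smul, h1]

theorem std_surj (hτ : Function.Surjective τ) (d : ℤ) (h : ℕ) : Function.Surjective (Isoc.stdIsoc τ d h) := by
  intro x
  choose g hg using hτ
  refine ⟨fun i => g ((if (finRotate h i).val = 0 then (p : K(p, k)) ^ (-d) else 1) * x (finRotate h i)), ?_⟩
  ext i
  rw [Isoc.stdIsoc_apply]
  simp only [Equiv.apply_symm_apply]
  rw [hg, ← mul_assoc]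
  split_ifs
  · rw [← zpow_add₀ p_ne_zero]; simp
  · simp

theorem nice_surj (hτ : Nice τ) : Function.Surjective τ := by
  intro c
  obtain ⟨σ, hσ⟩ := hτ
  obtain ⟨a, b, hb, rfl⟩ := IsFractionRing.div_surjective (A := WittVector p k) c
  refine ⟨algebraMap (WittVector p k) K(p, k) (σ.symm a) / algebraMap (WittVector p k) K(p, k) (σ.symm b), ?_⟩
  rw [map_div₀, hσ, hσ, RingEquiv.apply_symm_apply, RingEquiv.apply_symm_apply]

/-- the standard lattice -/
theorem std_latImg (hτ : Nice τ) (d : ℤ) (h : ℕ) :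
    Isoc.latImg (Isoc.stdIsoc τ d (h + 1)) (h + 1)
      (Submodule.span (WittVector p k) (Set.range fun i : Fin (h + 1) => (Pi.single i 1 : Fin (h + 1) → K(p, k)))) =
    Isoc.pPow d (Submodule.span (WittVector p k) (Set.range fun i : Fin (h + 1) => (Pi.single i 1 : Fin (h + 1) → K(p, k)))) := by
  have h1 : Isoc.latImg (Isoc.iter (Isoc.stdIsoc τ d (h + 1)) (h + 1)) 1
      (Submodule.span (WittVector p k) (Set.range fun i : Fin (h + 1) => (Pi.single i 1 : Fin (h + 1) → K(p, k)))) =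
      Isoc.latImg (Isoc.stdIsoc τ d (h + 1)) (h + 1)
      (Submodule.span (WittVector p k) (Set.range fun i : Fin (h + 1) => (Pi.single i 1 : Fin (h + 1) → K(p, k)))) := rfl
  rw [← h1, ← latImg_one_span (hτ.pow (h + 1)), Isoc.pPow, Submodule.smul_span]
  congr 1
  rw [← Set.image_smul, ← Set.range_comp]
  congr 1
  ext1 i
  change (Isoc.stdIsoc τ d (h + 1))^[h + 1] (Pi.single i 1) = _
  rw [std_iter_h]
  rfl

theorem s153 (hτ : Nice τ) (d : ℤ) (h : ℕ) (hh : 0 < h) (hdh : Int.gcd d h = 1)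
    (P : Submodule K(p, k) (Fin h → K(p, k)))
    (hP : ∀ x ∈ P, Isoc.stdIsoc τ d h x ∈ P) : P = ⊥ ∨ P = ⊤ := by
  obtain ⟨h, rfl⟩ : ∃ m, h = m + 1 := ⟨h - 1, by omega⟩
  set F := Isoc.stdIsoc τ d (h + 1) with hF
  set M := Submodule.span (WittVector p k) (Set.range fun i : Fin (h + 1) => (Pi.single i 1 : Fin (h + 1) → K(p, k))) with hM
  have hFs : Function.Surjective F := std_surj (nice_surj hτ) d (h + 1)
  have hspan : Submodule.span K(p, k) (M : Set (Fin (h + 1) → K(p, k))) = ⊤ := by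
    rw [hM, Submodule.span_span_of_tower]
    have := (Pi.basisFun K(p, k) (Fin (h + 1))).span_eq
    convert this using 3
    ext1 i
    simp
  obtain ⟨M', hM', h1⟩ := isIsoclinic_of_isoOn hτ F hFs hP M (Submodule.fg_span (Set.finite_range _))
    (by rw [hspan]; exact le_top) d (h + 1) (std_latImg hτ d h)
  set h' := Module.finrank K(p, k) P with hh'
  let b := Module.finBasisOfFinrankEq K(p, k) P hh'.symm
  have hFPs : Function.Surjective (F.restrict hP) := by
    rintro ⟨x, hx⟩
    obtain ⟨y, rfl⟩ := hFs x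
    exact ⟨⟨y, mem_of_map_mem F hFs hP y hx⟩, rfl⟩
  obtain ⟨d', hd'⟩ := exists_ordP (detCoeff_ne_zero hτ b (F.restrict hP) hFPs)
  obtain ⟨v, hv⟩ := vol_exists b hM'
  have h2 := vol_latImg hτ b _ hd' hv (h + 1)
  rw [h1] at h2
  have h3 := vol_unique b h2 (vol_pPow b d hv)
  have h4 : ((h + 1 : ℕ) : ℤ) * d' = d * h' := by
    have : ((h' : ℕ) : ℤ) = (Module.finrank K(p, k) P : ℤ) := rfl
    omega
  have h5 : ((h + 1 : ℕ) : ℤ) ∣ h' := by
    have h6 : ((h + 1 : ℕ) : ℤ) ∣ d * h' := ⟨d', h4.symm⟩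
    have h7 : IsCoprime (((h + 1 : ℕ) : ℤ)) d := by
      rw [Int.isCoprime_iff_gcd_eq_one, Int.gcd_comm]; exact hdh
    exact h7.dvd_of_dvd_mul_left h6
  rw [Int.natCast_dvd_natCast] at h5
  rcases Nat.eq_zero_or_pos h' with h8 | h8
  · left
    exact Submodule.finrank_eq_zero.1 h8
  · right
    have h9 := Nat.le_of_dvd h8 h5
    apply Submodule.eq_top_of_finrank_eq
    rw [Module.finrank_fin_fun]
    apply le_antisymm
    · have := Submodule.finrank_le P
      rwa [Module.finrank_fin_fun] at this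
    · exact h9

end std

end Groth.Agent.H25Isoc
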