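import Groth.Agent.Lib.H25_Isoc8
import Mathlib.RingTheory.WittVector.Complete

set_option autoImplicit false
set_option linter.unusedSectionVars false

noncomputable section

open scoped Pointwise Isocrystal
open Filter Topology

universe u v w

namespace Groth.Agent.H25Isoc

variable {p : ℕ} [Fact p.Prime] {k : Type u} [Field k] [CharP k p] [PerfectRing k p]

theorem w_complete (c : ℕ → WittVector p k) : ∃ L : WittVector p k, ∀ n : ℕ, ∃ e : WittVector p k,
    L = ∑ j ∈ Finset.range n, (p : WittVector p k) ^ j * c j + (p : WittVector p k) ^ n * e := by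
  have hpre : IsPrecomplete (Ideal.span {(p : WittVector p k)}) (WittVector p k) := inferInstance
  obtain ⟨L, hL⟩ := hpre.prec' (fun n => ∑ j ∈ Finset.range n, (p : WittVector p k) ^ j * c j) (by
    intro m n hmn
    rw [SModEq.sub_mem, smul_eq_mul, Ideal.mul_top, Ideal.span_singleton_pow, Ideal.mem_span_singleton,
      ← neg_sub, dvd_neg]
    have := Finset.sum_range_add_sum_Ico (fun j => (p : WittVector p k) ^ j * c j) hmn
    rw [← this, add_sub_cancel_left]
    apply Finset.dvd_sum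
    intro j hj
    rw [Finset.mem_Ico] at hj
    exact (pow_dvd_pow _ hj.1).mul_right _)
  refine ⟨L, fun n => ?_⟩
  have h1 := hL n
  rw [SModEq.sub_mem, smul_eq_mul, Ideal.mul_top, Ideal.span_singleton_pow, Ideal.mem_span_singleton] at h1
  obtain ⟨e, he⟩ := h1
  exact ⟨-e, by linear_combination -he⟩

section nine

variable {N : Type v} [AddCommGroup N] [Module (WittVector p k) N] [Module K(p, k) N]
  [IsScalarTower (WittVector p k) K(p, k) N]
variable {τ : K(p, k) →+* K(p, k)}

theorem w_p_smul (n : ℕ) (x : N) : ((p : WittVector p k) ^ n) • x = (p : K(p, k)) ^ (n : ℤ) • x := by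
  rw [← algebraMap_smul K(p, k) ((p : WittVector p k) ^ n), map_pow, map_natCast, zpow_natCast]

theorem latt_complete {M : Submodule (WittVector p k) N} (hM : M.FG) (d : ℕ → N)
    (hd : ∀ j : ℕ, d (j + 1) - d j ∈ Isoc.pPow j M) : ∃ L : N, ∀ n : ℕ, L - d n ∈ Isoc.pPow n M := by
  obtain ⟨m, x, hx⟩ := Submodule.fg_iff_exists_fin_generating_family.1 hM
  have h1 : ∀ j : ℕ, ∃ c : Fin m → WittVector p k, (p : K(p, k)) ^ (j : ℤ) • ∑ i, c i • x i = d (j + 1) - d j := by
    intro j
    have := hd j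
    rw [mem_pPow, ← hx, Submodule.mem_span_range_iff_exists_fun] at this
    obtain ⟨c, hc⟩ := this
    refine ⟨c, ?_⟩
    rw [hc, smul_smul, ← zpow_add₀ p_ne_zero]
    simp
  choose c hc using h1
  have h2 : ∀ i : Fin m, ∃ L : WittVector p k, ∀ n : ℕ, ∃ e : WittVector p k,
    L = ∑ j ∈ Finset.range n, (p : WittVector p k) ^ j * c j i + (p : WittVector p k) ^ n * e :=
    fun i => w_complete fun j => c j i
  choose L e hL using h2
  refine ⟨d 0 + ∑ i, L i • x i, fun n => ?_⟩
  have h3 : d n - d 0 = ∑ i, (∑ j ∈ Finset.range n, (p : WittVector p k) ^ j * c j i) • x i := by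
    rw [← Finset.sum_range_sub]
    have : ∀ j ∈ Finset.range n, d (j + 1) - d j = ∑ i, ((p : WittVector p k) ^ j * c j i) • x i := by
      intro j _
      rw [← hc j, Finset.smul_sum]
      refine Finset.sum_congr rfl fun i _ => ?_
      rw [← w_p_smul, smul_smul]
    rw [Finset.sum_congr rfl this, Finset.sum_comm]
    refine Finset.sum_congr rfl fun i _ => ?_
    rw [Finset.sum_smul]
  have h4 : d 0 + ∑ i, L i • x i - d n = (p : K(p, k)) ^ (n : ℤ) • ∑ i, e i n • x i := by
    have : d 0 + ∑ i, L i • x i - d n = ∑ i, L i • x i - (d n - d 0) := by abel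
    rw [this, h3, ← Finset.sum_sub_distrib, Finset.smul_sum]
    refine Finset.sum_congr rfl fun i _ => ?_
    rw [← sub_smul, ← w_p_smul, smul_smul]
    congr 1
    rw [hL i n]
    ring
  rw [h4]
  apply smul_mem_pPow
  rw [← hx]
  exact Submodule.sum_mem _ fun i _ => Submodule.smul_mem _ _ (Submodule.subset_span ⟨i, rfl⟩)

theorem iterate_mem_pPow (hτ : Nice τ) {G : N →ₛₗ[τ] N} {M : Submodule (WittVector p k) N}
    (hGM : Isoc.latImg G 1 M ≤ M) {j : ℤ} {x : N} (hx : x ∈ Isoc.pPow j M) (n : ℕ) :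
    G^[n] x ∈ Isoc.pPow j M := by
  induction n with
  | zero => exact hx
  | succ n ih =>
    rw [Function.iterate_succ_apply']
    have h1 : G (G^[n] x) ∈ Isoc.latImg G 1 (Isoc.pPow j M) := by
      rw [mem_latImg hτ]; exact ⟨_, ih, rfl⟩
    rw [latImg_pPow hτ] at h1
    exact pPow_mono j hGM h1

/-- stabilisation of a decreasing chain of lattices above `B` -/
theorem lat_stabilize {h : ℕ} (b : Module.Basis (Fin h) K(p, k) N) {C : ℕ → Submodule (WittVector p k) N}
    (hC : ∀ i, (C i).IsLattice K(p, k)) (hanti : Antitone C) {B : Submodule (WittVector p k) N}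
    (hB : B.IsLattice K(p, k)) (hBC : ∀ i, B ≤ C i) : ∃ i₀, ∀ i ≥ i₀, C i = C i₀ := by
  choose vol hvol using fun j => vol_exists b (hC j)
  obtain ⟨vB, hvB⟩ := vol_exists b hB
  have hbd : ∀ i, vol i ≤ vB := fun i => (vol_le b (hBC i) hvB (hvol i)).1
  obtain ⟨r, ⟨i₀, hr1⟩, hr2⟩ := Int.exists_greatest_of_bdd (P := fun r => ∃ i, vol i = r)
    ⟨vB, by rintro z ⟨i, rfl⟩; exact hbd i⟩ ⟨_, 0, rfl⟩
  refine ⟨i₀, fun i hi => ?_⟩
  obtain ⟨h1, h2⟩ := vol_le b (hanti hi) (hvol i) (hvol i₀)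
  have h3 := hr2 (vol i) ⟨i, rfl⟩
  exact h2 (by omega)

theorem fitting (hτ : Nice τ) [Module.Finite K(p, k) N] (G : N →ₛₗ[τ] N) (hG : Function.Bijective G)
    {M : Submodule (WittVector p k) N} (hM : M.IsLattice K(p, k)) (hGM : Isoc.latImg G 1 M ≤ M) :
    ∀ x ∈ M, ∃ y ∈ (⨅ n : ℕ, Isoc.latImg G n M), ∀ j : ℕ, ∃ n : ℕ, G^[n] (x - y) ∈ Isoc.pPow j M := by
  let b := Module.finBasisOfFinrankEq K(p, k) N rfl
  have hanti0 : Antitone (fun n : ℕ => Isoc.latImg G n M) := by
    apply antitone_nat_of_succ_le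
    intro n
    rw [← latImg_latImg hτ]
    exact latImg_mono G n hGM
  have hMle : ∀ n : ℕ, Isoc.latImg G n M ≤ M := by
    intro n
    have := hanti0 (Nat.zero_le n)
    simp only [latImg_zero hτ] at this
    exact this
  have hpM : ∀ j : ℕ, Isoc.pPow j M ≤ M := by
    intro j
    have := pPow_anti (r := 0) (s := j) (by omega) M
    rwa [pPow_zero] at this
  -- F1
  have F1 : ∀ (j n : ℕ), ∀ x ∈ M, ∃ y ∈ Isoc.latImg G n M, ∃ l : ℕ, G^[l] (x - y) ∈ Isoc.pPow j M := by
    intro j n x hx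
    obtain ⟨i₀, hi₀⟩ := lat_stabilize b (C := fun i => Isoc.latImg G i M ⊔ Isoc.pPow j M)
      (fun i => ⟨(latImg_fg hτ G i hM.fg).sup (pPow_fg j hM.fg), by
        rw [eq_top_iff, ← pPow_span j hM.span_eq_top]
        exact Submodule.span_mono (le_sup_right : Isoc.pPow j M ≤ Isoc.latImg G i M ⊔ Isoc.pPow j M)⟩)
      (fun a c hac => sup_le_sup_right (hanti0 hac) _) (pPow_lat j hM) (fun i => le_sup_right)
    set i := max i₀ n with hi
    have h1 : G^[i] x ∈ Isoc.latImg G i M ⊔ Isoc.pPow j M :=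
      (le_sup_left : Isoc.latImg G i M ≤ _) ((mem_latImg hτ _ _ _ _).2 ⟨x, hx, rfl⟩)
    have h2 : Isoc.latImg G i M ⊔ Isoc.pPow j M = Isoc.latImg G (i + i) M ⊔ Isoc.pPow j M :=
      (hi₀ i (le_max_left _ _)).trans (hi₀ (i + i) (by omega)).symm
    rw [h2, Submodule.mem_sup] at h1
    obtain ⟨a, ha, z, hz, haz⟩ := h1
    rw [mem_latImg hτ] at ha
    obtain ⟨y, hy, rfl⟩ := ha
    refine ⟨G^[i] y, hanti0 (le_max_right i₀ n) ((mem_latImg hτ _ _ _ _).2 ⟨y, hy, rfl⟩), i, ?_⟩
    rw [← Isoc.iter_apply, map_sub, Isoc.iter_apply, Isoc.iter_apply, ← haz, Function.iterate_add_apply,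
      add_sub_cancel_left]
    exact hz
  -- F2
  have F2 : ∀ (j : ℕ), ∀ x, (∀ n : ℕ, x ∈ Isoc.latImg G n M ⊔ Isoc.pPow j M) → (∃ l : ℕ, G^[l] x ∈ Isoc.pPow j M) →
      x ∈ Isoc.pPow j M := by
    intro j x hx ⟨l, hl⟩
    obtain ⟨σ, hσ⟩ := id hτ
    -- kernels
    let Kn : ℕ →o Submodule (WittVector p k) M :=
      { toFun := fun n =>
          { carrier := {y | G^[n] (y : N) ∈ Isoc.pPow j M}
            add_mem' := by
              intro a c ha hc
              simp only [Set.mem_setOf_eq] at ha hc ⊢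
              rw [Submodule.coe_add, ← Isoc.iter_apply, map_add]
              exact Submodule.add_mem _ ha hc
            zero_mem' := by
              simp only [Set.mem_setOf_eq]
              rw [Submodule.coe_zero, ← Isoc.iter_apply, map_zero]
              exact Submodule.zero_mem _
            smul_mem' := by
              intro w a ha
              simp only [Set.mem_setOf_eq] at ha ⊢
              obtain ⟨σ', hσ'⟩ := hτ.pow n
              rw [Submodule.coe_smul, ← Isoc.iter_apply, map_w_smul hσ']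
              exact Submodule.smul_mem _ _ ha }
        monotone' := by
          intro a c hac y hy
          obtain ⟨t, rfl⟩ := Nat.exists_eq_add_of_le hac
          change G^[a + t] (y : N) ∈ Isoc.pPow j M
          rw [add_comm, Function.iterate_add_apply]
          exact iterate_mem_pPow hτ hGM hy t }
    have : Module.Finite (WittVector p k) M := Module.Finite.iff_fg.2 hM.fg
    obtain ⟨m, hm⟩ := monotone_stabilizes_iff_noetherian.2 (inferInstance : IsNoetherian (WittVector p k) M) Kn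
    have h1 := hx m
    rw [Submodule.mem_sup] at h1
    obtain ⟨a, ha, z, hz, haz⟩ := h1
    rw [mem_latImg hτ] at ha
    obtain ⟨y, hy, rfl⟩ := ha
    have h2 : G^[l] (G^[m] y) ∈ Isoc.pPow j M := by
      have h3 : G^[l] (G^[m] y) = G^[l] x - G^[l] z := by
        rw [← haz, ← Isoc.iter_apply G l (_ + z), map_add, Isoc.iter_apply, Isoc.iter_apply, add_sub_cancel_right]
      rw [h3]
      exact Submodule.sub_mem _ hl (iterate_mem_pPow hτ hGM hz l)
    have h4 : (⟨y, hy⟩ : M) ∈ Kn (l + m) := by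
      change G^[l + m] y ∈ Isoc.pPow j M
      rw [Function.iterate_add_apply]; exact h2
    rw [← hm (l + m) (by omega)] at h4
    have h5 : G^[m] y ∈ Isoc.pPow j M := h4
    rw [← haz]
    exact Submodule.add_mem _ h5 hz
  intro x hx
  -- choose d_j in all images modulo p^j
  have F3 : ∀ j : ℕ, ∃ dj ∈ M, (∀ n : ℕ, dj ∈ Isoc.latImg G n M ⊔ Isoc.pPow j M) ∧ ∃ l : ℕ, G^[l] (x - dj) ∈ Isoc.pPow j M := by
    intro j
    obtain ⟨i₀, hi₀⟩ := lat_stabilize b (C := fun i => Isoc.latImg G i M ⊔ Isoc.pPow j M)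
      (fun i => ⟨(latImg_fg hτ G i hM.fg).sup (pPow_fg j hM.fg), by
        rw [eq_top_iff, ← pPow_span j hM.span_eq_top]
        exact Submodule.span_mono (le_sup_right : Isoc.pPow j M ≤ Isoc.latImg G i M ⊔ Isoc.pPow j M)⟩)
      (fun a c hac => sup_le_sup_right (hanti0 hac) _) (pPow_lat j hM) (fun i => le_sup_right)
    obtain ⟨y, hy, l, hl⟩ := F1 j i₀ x hx
    refine ⟨y, hMle _ hy, fun n => ?_, l, hl⟩
    rcases le_total n i₀ with h | h
    · exact (le_sup_left : Isoc.latImg G n M ≤ _) (hanti0 h hy)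
    · have h1 : Isoc.latImg G n M ⊔ Isoc.pPow j M = Isoc.latImg G i₀ M ⊔ Isoc.pPow j M := hi₀ n h
      rw [h1]
      exact (le_sup_left : Isoc.latImg G i₀ M ≤ _) hy
  choose d hdM hdD hdE using F3
  have hdiff : ∀ j : ℕ, d (j + 1) - d j ∈ Isoc.pPow j M := by
    intro j
    apply F2 j
    · intro n
      refine Submodule.sub_mem _ ?_ (hdD j n)
      exact sup_le_sup_left (pPow_anti (by omega) M) _ (hdD (j + 1) n)
    · obtain ⟨l, hl⟩ := hdE j
      obtain ⟨l', hl'⟩ := hdE (j + 1)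
      refine ⟨l + l', ?_⟩
      have h1 : d (j + 1) - d j = (x - d j) - (x - d (j + 1)) := by abel
      rw [h1, ← Isoc.iter_apply, map_sub, Isoc.iter_apply, Isoc.iter_apply]
      refine Submodule.sub_mem _ ?_ ?_
      · rw [add_comm, Function.iterate_add_apply]
        exact iterate_mem_pPow hτ hGM hl l'
      · rw [Function.iterate_add_apply]
        refine iterate_mem_pPow hτ hGM (pPow_anti (by omega) M hl') l
  obtain ⟨L, hL⟩ := latt_complete hM.fg d hdiff
  refine ⟨L, ?_, fun j => ?_⟩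
  · rw [Submodule.mem_iInf]
    intro n
    obtain ⟨c, hc⟩ := exists_le_pPow hM.fg (latImg_span hτ G hG.surjective n hM.span_eq_top)
    have hc' : Isoc.pPow c M ≤ Isoc.latImg G n M := by rw [pPow_le_iff]; exact hc
    have h1 : L = (L - d c) + d c := by abel
    rw [h1]
    refine Submodule.add_mem _ (hc' (hL c)) ?_
    have h2 := hdD c n
    rwa [sup_eq_left.2 hc'] at h2
  · obtain ⟨l, hl⟩ := hdE j
    refine ⟨l, ?_⟩
    have h1 : x - L = (x - d j) - (L - d j) := by abel
    rw [h1, ← Isoc.iter_apply, map_sub, Isoc.iter_apply, Isoc.iter_apply]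
    exact Submodule.sub_mem _ hl (iterate_mem_pPow hτ hGM (hL j) l)

/-- topologically nilpotent part -/
def NilPart (hτ : Nice τ) (G : N →ₛₗ[τ] N) (M : Submodule (WittVector p k) N) (hGM : Isoc.latImg G 1 M ≤ M) :
    Submodule K(p, k) N where
  carrier := {x | ∀ j : ℕ, ∃ n : ℕ, G^[n] x ∈ Isoc.pPow j M}
  add_mem' := by
    intro a c ha hc j
    obtain ⟨n, hn⟩ := ha j
    obtain ⟨m, hm⟩ := hc j
    refine ⟨n + m, ?_⟩
    rw [← Isoc.iter_apply, map_add, Isoc.iter_apply, Isoc.iter_apply]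
    refine Submodule.add_mem _ ?_ ?_
    · rw [add_comm, Function.iterate_add_apply]
      exact iterate_mem_pPow hτ hGM hn m
    · rw [Function.iterate_add_apply]
      exact iterate_mem_pPow hτ hGM hm n
  zero_mem' := fun j => ⟨0, Submodule.zero_mem _⟩
  smul_mem' := by
    intro c x hx j
    obtain ⟨e, w, hw⟩ := exists_p_mul_mem c
    obtain ⟨n, hn⟩ := hx (j + e)
    refine ⟨n, ?_⟩
    obtain ⟨σ, hσ⟩ := hτ.pow n
    have hc : c • x = (p : K(p, k)) ^ (-(e : ℤ)) • (w • x) := by
      rw [← algebraMap_smul K(p, k) w, ← hw, smul_smul, ← mul_assoc, ← zpow_natCast, ← zpow_add₀ p_ne_zero]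
      simp
    rw [hc, iterate_p_smul, ← Isoc.iter_apply, map_w_smul hσ, Isoc.iter_apply]
    have h1 := smul_mem_pPow' (r := -(e : ℤ)) (Submodule.smul_mem _ (σ w) hn)
    convert h1 using 2
    push_cast
    ring

theorem mem_NilPart (hτ : Nice τ) (G : N →ₛₗ[τ] N) (M : Submodule (WittVector p k) N) (hGM : Isoc.latImg G 1 M ≤ M)
    (x : N) : x ∈ NilPart hτ G M hGM ↔ ∀ j : ℕ, ∃ n : ℕ, G^[n] x ∈ Isoc.pPow j M := Iff.rfl

end nine

end Groth.Agent.H25Isoc
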