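import Groth.Agent.Lib.H25_Isoc9
import Mathlib.FieldTheory.IsAlgClosed.Basic
import Mathlib.LinearAlgebra.Determinant
import Mathlib.LinearAlgebra.Basis.VectorSpace

set_option autoImplicit false
set_option linter.unusedSectionVars false

noncomputable section

universe u v w

namespace Groth.Agent.H25Isoc

section field

variable {k : Type u} [Field k] [IsAlgClosed k] {q : ℕ} (hq : 2 ≤ q)

include hq in
theorem solve_as (c : k) : ∃ d : k, d ^ q - d = c := by
  have h1 : (Polynomial.X ^ q - (Polynomial.X + Polynomial.C c) : Polynomial k).degree ≠ 0 := by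
    rw [Polynomial.degree_sub_eq_left_of_degree_lt]
    · rw [Polynomial.degree_X_pow]
      have : q ≠ 0 := by omega
      exact_mod_cast this
    · rw [Polynomial.degree_X_pow, Polynomial.degree_X_add_C]
      exact_mod_cast (show 1 < q by omega)
  obtain ⟨d, hd⟩ := IsAlgClosed.exists_root _ h1
  refine ⟨d, ?_⟩
  rw [Polynomial.IsRoot.def] at hd
  simp only [Polynomial.eval_sub, Polynomial.eval_pow, Polynomial.eval_X, Polynomial.eval_add, Polynomial.eval_C] at hd
  linear_combination hd

/-- the recursive polynomials -/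
def XX (q : ℕ) (a : ℕ → k) : ℕ → Polynomial k
  | 0 => Polynomial.C (a 0) * Polynomial.X ^ q
  | (i + 1) => XX q a i ^ q + Polynomial.C (a (i + 1)) * Polynomial.X ^ q

include hq in
theorem XX_dvd (a : ℕ → k) (i : ℕ) : (Polynomial.X ^ q : Polynomial k) ∣ XX q a i := by
  induction i with
  | zero => exact Dvd.intro_left _ rfl
  | succ i ih =>
    refine dvd_add ?_ (Dvd.intro_left _ rfl)
    exact ih.trans (dvd_pow_self _ (by omega))

include hq in
theorem XX_ne_zero (a : ℕ → k) (i : ℕ) (h : ∃ j ≤ i, a j ≠ 0) : XX q a i ≠ 0 := by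
  induction i with
  | zero =>
    obtain ⟨j, hj, hj2⟩ := h
    have : j = 0 := by omega
    subst this
    exact mul_ne_zero (by rwa [Ne, Polynomial.C_eq_zero]) (pow_ne_zero _ Polynomial.X_ne_zero)
  | succ i ih =>
    intro h0
    by_cases hi : ∃ j ≤ i, a j ≠ 0
    · have h1 := ih hi
      obtain ⟨Z, hZ⟩ := XX_dvd hq a i
      have hZ0 : Z ≠ 0 := by rintro rfl; rw [mul_zero] at hZ; exact h1 hZ
      have h2 : (XX q a i).natDegree ≥ q := by
        rw [hZ, Polynomial.natDegree_mul (pow_ne_zero _ Polynomial.X_ne_zero) hZ0, Polynomial.natDegree_X_pow]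
        omega
      have h3 : (XX q a i ^ q).natDegree = (Polynomial.C (-(a (i + 1))) * Polynomial.X ^ q).natDegree := by
        congr 1
        have h0' : XX q a i ^ q + Polynomial.C (a (i + 1)) * Polynomial.X ^ q = 0 := h0
        rw [Polynomial.C_neg]
        linear_combination h0'
      rw [Polynomial.natDegree_pow] at h3
      have h4 := Polynomial.natDegree_C_mul_X_pow_le (-(a (i + 1))) q
      rw [← h3] at h4
      nlinarith
    · push Not at hi
      have hXi : XX q a i = 0 := by
        have key : ∀ m ≤ i, XX q a m = 0 := by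
          intro m
          induction m with
          | zero => intro hm; rw [XX, hi 0 hm, Polynomial.C_0, zero_mul]
          | succ m ihm =>
            intro hm
            rw [XX, ihm (by omega), hi (m + 1) hm, Polynomial.C_0, zero_mul, zero_pow (by omega), add_zero]
        exact key i le_rfl
      have h0' : XX q a i ^ q + Polynomial.C (a (i + 1)) * Polynomial.X ^ q = 0 := h0
      rw [hXi, zero_pow (by omega), zero_add, mul_eq_zero, Polynomial.C_eq_zero] at h0'
      obtain ⟨j, hj, hj2⟩ := h
      rcases h0' with h5 | h5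
      · rcases Nat.lt_or_ge j (i + 1) with h6 | h6
        · exact hj2 (hi j (by omega))
        · have : j = i + 1 := by omega
          rw [this] at hj2
          exact hj2 h5
      · exact pow_ne_zero _ Polynomial.X_ne_zero h5

include hq in
theorem exists_t (a : ℕ → k) (i : ℕ) (h : ∃ j ≤ i, a j ≠ 0) : ∃ t : k, t ≠ 0 ∧ (XX q a i).eval t = t := by
  have h1 := XX_ne_zero hq a i h
  obtain ⟨Z', hZ'⟩ := XX_dvd hq a i
  have h2 : (Polynomial.X ^ 2 : Polynomial k) ∣ XX q a i := (pow_dvd_pow _ hq).trans ⟨Z', hZ'⟩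
  obtain ⟨Z, hZ⟩ := h2
  have hZ0 : Z ≠ 0 := by rintro rfl; rw [mul_zero] at hZ; exact h1 hZ
  have h3 : (Polynomial.X * Z - 1).degree ≠ 0 := by
    have h4 : (1 : Polynomial k).degree < (Polynomial.X * Z).degree := by
      rw [Polynomial.degree_mul, Polynomial.degree_X, Polynomial.degree_one, Polynomial.degree_eq_natDegree hZ0]
      exact_mod_cast (show 0 < 1 + Z.natDegree by omega)
    rw [Polynomial.degree_sub_eq_left_of_degree_lt h4]
    rw [Polynomial.degree_one] at h4
    exact h4.ne'
  obtain ⟨t, ht⟩ := IsAlgClosed.exists_root _ h3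
  rw [Polynomial.IsRoot.def] at ht
  simp only [Polynomial.eval_sub, Polynomial.eval_mul, Polynomial.eval_X, Polynomial.eval_one] at ht
  refine ⟨t, ?_, ?_⟩
  · rintro rfl
    simp at ht
  · rw [hZ]
    simp only [Polynomial.eval_mul, Polynomial.eval_pow, Polynomial.eval_X]
    linear_combination t * ht

variable {V : Type v} [AddCommGroup V] [Module k V]

theorem iterate_add (φ : V →+ V) (n : ℕ) (x y : V) : φ^[n] (x + y) = φ^[n] x + φ^[n] y := by
  induction n generalizing x y with
  | zero => rfl
  | succ n ih => rw [Function.iterate_succ_apply, Function.iterate_succ_apply, Function.iterate_succ_apply, map_add, ih]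

include hq in
theorem exists_fixed [FiniteDimensional k V] [Nontrivial V] (φ : V →+ V)
    (hφ : ∀ (a : k) (v : V), φ (a • v) = a ^ q • φ v) (hinj : Function.Injective φ) :
    ∃ x : V, x ≠ 0 ∧ φ x = x := by
  classical
  obtain ⟨v, hv⟩ := exists_ne (0 : V)
  -- span chain
  let S : ℕ → Submodule k V := fun n => Submodule.span k (Set.range fun i : Fin n => φ^[i.val] v)
  have hSmono : Monotone S := by
    apply monotone_nat_of_le_succ
    intro n
    apply Submodule.span_mono
    rintro _ ⟨i, rfl⟩
    exact ⟨i.castSucc, rfl⟩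
  have hex : ∃ n, φ^[n] v ∈ S n := by
    obtain ⟨n, hn⟩ := monotone_stabilizes_iff_noetherian.2 (inferInstance : IsNoetherian k V) ⟨S, hSmono⟩
    refine ⟨n, ?_⟩
    have h1 : S n = S (n + 1) := hn (n + 1) (by omega)
    rw [h1]
    exact Submodule.subset_span ⟨Fin.last n, rfl⟩
  let n := Nat.find hex
  have hn : φ^[n] v ∈ S n := Nat.find_spec hex
  have hmin : ∀ m < n, φ^[m] v ∉ S m := fun m hm => Nat.find_min hex hm
  have hli : ∀ m ≤ n, LinearIndependent k (fun i : Fin m => φ^[i.val] v) := by
    intro m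
    induction m with
    | zero => intro _; exact linearIndependent_empty_type
    | succ m ih =>
      intro hm
      rw [linearIndependent_finSucc']
      exact ⟨ih (by omega), hmin m (by omega)⟩
  have hn0 : n ≠ 0 := by
    intro h0
    rw [h0] at hn
    have : S 0 = ⊥ := by simp [S]
    rw [this, Submodule.mem_bot] at hn
    exact hv hn
  obtain ⟨m, hm⟩ : ∃ m, n = m + 1 := ⟨n - 1, by omega⟩
  rw [hm] at hn
  obtain ⟨a', ha'⟩ := (Submodule.mem_span_range_iff_exists_fun k).1 hn
  let a : ℕ → k := fun i => if h : i < m + 1 then a' ⟨i, h⟩ else 0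
  have ha : φ^[m + 1] v = ∑ i ∈ Finset.range (m + 1), a i • φ^[i] v := by
    rw [← ha', Finset.sum_range]
    refine Finset.sum_congr rfl fun i _ => ?_
    simp only [a]
    rw [dif_pos i.2]
  have hane : ∃ j ≤ m, a j ≠ 0 := by
    by_contra hcon
    push Not at hcon
    have h1 : φ^[m + 1] v = 0 := by
      rw [ha]
      apply Finset.sum_eq_zero
      intro i hi
      rw [hcon i (by rw [Finset.mem_range] at hi; omega), zero_smul]
    have h2 : ∀ j, φ^[j] (0 : V) = 0 := by
      intro j
      induction j with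
      | zero => rfl
      | succ j ih => rw [Function.iterate_succ_apply, map_zero, ih]
    rw [← h2 (m + 1)] at h1
    exact hv (hinj.iterate (m + 1) h1)
  obtain ⟨t, ht0, ht⟩ := exists_t hq a m hane
  let x : ℕ → k := fun i => (XX q a i).eval t
  have hx0 : x 0 = a 0 * t ^ q := by simp [x, XX]
  have hxs : ∀ i, x (i + 1) = x i ^ q + a (i + 1) * t ^ q := by intro i; simp [x, XX]
  have hxm : x m = t := ht
  refine ⟨∑ i ∈ Finset.range (m + 1), x i • φ^[i] v, ?_, ?_⟩
  · intro h0
    have h1 := hli (m + 1) (by omega)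
    rw [Finset.sum_range] at h0
    have h2 := (Fintype.linearIndependent_iff.1 h1) (fun i => x i.val) h0 (Fin.last m)
    simp only [Fin.val_last] at h2
    rw [hxm] at h2
    exact ht0 h2
  · have h1 : φ (∑ i ∈ Finset.range (m + 1), x i • φ^[i] v) = ∑ i ∈ Finset.range (m + 1), x i ^ q • φ^[i + 1] v := by
      rw [map_sum]
      refine Finset.sum_congr rfl fun i _ => ?_
      rw [hφ, Function.iterate_succ_apply']
    rw [h1, Finset.sum_range_succ, hxm, ha, Finset.smul_sum]
    rw [Finset.sum_range_succ' (fun i => t ^ q • a i • φ^[i] v), Finset.sum_range_succ' (fun i => x i • φ^[i] v),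
      ← add_assoc, ← Finset.sum_add_distrib]
    congr 1
    · refine Finset.sum_congr rfl fun i _ => ?_
      rw [hxs, smul_smul, ← add_smul]
      congr 1
      ring
    · rw [hx0, smul_smul]
      congr 1
      ring

include hq in
theorem span_fixed [FiniteDimensional k V] (φ : V →+ V)
    (hφ : ∀ (a : k) (v : V), φ (a • v) = a ^ q • φ v) (hinj : Function.Injective φ) :
    Submodule.span k {v : V | φ v = v} = ⊤ := by
  by_contra hne
  set V' := Submodule.span k {v : V | φ v = v} with hV'
  have hstab : ∀ x ∈ V', φ x ∈ V' := by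
    intro x hx
    induction hx using Submodule.span_induction with
    | mem y hy => rw [show φ y = y from hy]; exact Submodule.subset_span hy
    | zero => rw [map_zero]; exact Submodule.zero_mem _
    | add y z _ _ hy hz => rw [map_add]; exact Submodule.add_mem _ hy hz
    | smul c y _ hy => rw [hφ]; exact Submodule.smul_mem _ _ hy
  have hsurj : ∀ x ∈ V', ∀ c : k, ∃ y ∈ V', φ y = c • x := by
    intro x hx
    induction hx using Submodule.span_induction with
    | mem y hy =>
      intro c
      obtain ⟨d, hd⟩ := IsAlgClosed.exists_pow_nat_eq c (show 0 < q by omega)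
      refine ⟨d • y, Submodule.smul_mem _ _ (Submodule.subset_span hy), ?_⟩
      rw [hφ, hd, show φ y = y from hy]
    | zero => intro c; exact ⟨0, Submodule.zero_mem _, by simp⟩
    | add y z _ _ hy hz =>
      intro c
      obtain ⟨y', hy', h1⟩ := hy c
      obtain ⟨z', hz', h2⟩ := hz c
      exact ⟨y' + z', Submodule.add_mem _ hy' hz', by rw [map_add, h1, h2, smul_add]⟩
    | smul a y _ hy =>
      intro c
      obtain ⟨y', hy', h1⟩ := hy (c * a)
      exact ⟨y', hy', by rw [h1, smul_smul]⟩
  have hsolve : ∀ x ∈ V', ∀ c : k, ∃ y ∈ V', φ y - y = c • x := by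
    intro x hx
    induction hx using Submodule.span_induction with
    | mem y hy =>
      intro c
      obtain ⟨d, hd⟩ := solve_as hq c
      refine ⟨d • y, Submodule.smul_mem _ _ (Submodule.subset_span hy), ?_⟩
      rw [hφ, show φ y = y from hy, ← sub_smul, hd]
    | zero => intro c; exact ⟨0, Submodule.zero_mem _, by simp⟩
    | add y z _ _ hy hz =>
      intro c
      obtain ⟨y', hy', h1⟩ := hy c
      obtain ⟨z', hz', h2⟩ := hz c
      exact ⟨y' + z', Submodule.add_mem _ hy' hz', by rw [map_add, smul_add, ← h1, ← h2]; abel⟩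
    | smul a y _ hy =>
      intro c
      obtain ⟨y', hy', h1⟩ := hy (c * a)
      exact ⟨y', hy', by rw [h1, smul_smul]⟩
  have hinj' : ∀ x, φ x ∈ V' → x ∈ V' := by
    intro x hx
    obtain ⟨y, hy, h1⟩ := hsurj _ hx 1
    rw [one_smul] at h1
    rw [← hinj h1]
    exact hy
  have hnt : Nontrivial (V ⧸ V') := Submodule.Quotient.nontrivial_iff.2 hne
  let φb : (V ⧸ V') →+ (V ⧸ V') := QuotientAddGroup.map V'.toAddSubgroup V'.toAddSubgroup φ (fun x hx => hstab x hx)
  have hφb : ∀ x : V, φb (V'.mkQ x) = V'.mkQ (φ x) := fun x => rfl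
  obtain ⟨xb, hxb, hfix⟩ := exists_fixed (k := k) hq φb (by
    intro a y
    obtain ⟨y, rfl⟩ := V'.mkQ_surjective y
    rw [← map_smul, hφb, hφb, hφ, map_smul]) (by
    rw [injective_iff_map_eq_zero]
    intro y hy
    obtain ⟨y, rfl⟩ := V'.mkQ_surjective y
    rw [hφb, Submodule.mkQ_apply, Submodule.Quotient.mk_eq_zero] at hy
    rw [Submodule.mkQ_apply, Submodule.Quotient.mk_eq_zero]
    exact hinj' y hy)
  obtain ⟨x, rfl⟩ := V'.mkQ_surjective xb
  rw [hφb, ← sub_eq_zero, ← map_sub, Submodule.mkQ_apply, Submodule.Quotient.mk_eq_zero] at hfix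
  obtain ⟨y, hy, hy2⟩ := hsolve _ hfix (-1)
  have h1 : φ (x + y) = x + y := by
    rw [map_add]
    have : φ y = y + -(φ x - x) := by rw [← sub_eq_iff_eq_add', hy2]; simp
    rw [this]
    abel
  have h2 : x + y ∈ V' := Submodule.subset_span h1
  apply hxb
  rw [Submodule.mkQ_apply, Submodule.Quotient.mk_eq_zero]
  have := Submodule.sub_mem _ h2 hy
  rwa [add_sub_cancel_right] at this

include hq in
theorem exists_basis_fixed [FiniteDimensional k V] (φ : V →+ V)
    (hφ : ∀ (a : k) (v : V), φ (a • v) = a ^ q • φ v) (hinj : Function.Injective φ) :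
    ∃ (ι : Type v) (b : Module.Basis ι k V), ∀ i, φ (b i) = b i := by
  have h := span_fixed hq φ hφ hinj
  refine ⟨_, Module.Basis.ofSpan h.ge, fun i => ?_⟩
  exact Module.Basis.ofSpan_subset h.ge ⟨i, rfl⟩

end field

end Groth.Agent.H25Isoc
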