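import Groth.Prelude.Def_KRR
import Mathlib
set_option autoImplicit false
universe v u
open CategoryTheory CategoryTheory.Limits AlgebraicGeometry
open KRR

namespace Groth.Agent.H6KRR

variable {K : Type v} [CommRing K] [LambdaRing.LambdaOps K]

theorem sigma_mul (e : K) : PowerSeries.rescale (-1 : K) (LambdaRing.lamSeries e) * KRR.sigmaSeries e = 1 := by
  apply PowerSeries.mul_invOfUnit
  rw [← PowerSeries.coeff_zero_eq_constantCoeff_apply, PowerSeries.coeff_rescale]
  simp [LambdaRing.lamSeries, LambdaRing.LambdaOps.lam_zero]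

theorem sigma_rec (e : K) (n : ℕ) (hn : 1 ≤ n) :
    ∑ j ∈ Finset.range (n + 1), ((-1 : K) ^ j * LambdaRing.LambdaOps.lam j e) * KRR.sigma (n - j) e = 0 := by
  have h := congrArg (PowerSeries.coeff n) (sigma_mul e)
  rw [PowerSeries.coeff_mul, Finset.Nat.sum_antidiagonal_eq_sum_range_succ_mk] at h
  rw [PowerSeries.coeff_one, if_neg (by omega)] at h
  rw [← h]
  apply Finset.sum_congr rfl
  intro j hj
  rw [PowerSeries.coeff_rescale]
  simp [LambdaRing.lamSeries, KRR.sigma]

theorem sigma_zero (e : K) : KRR.sigma 0 e = 1 := by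
  have h := congrArg (PowerSeries.coeff 0) (sigma_mul e)
  rw [PowerSeries.coeff_mul, Finset.Nat.sum_antidiagonal_eq_sum_range_succ_mk] at h
  simpa [LambdaRing.lamSeries, KRR.sigma, PowerSeries.coeff_rescale, LambdaRing.LambdaOps.lam_zero] using h

theorem root_eq (P : LambdaRing.PosStructure K) (e : K) (r : ℕ) (hr : P.aug e = r + 1) :
    ∑ j ∈ Finset.range (r + 2), AdjoinRoot.of (KRR.extPoly P e) ((-1 : K) ^ j * LambdaRing.LambdaOps.lam j e) *
      AdjoinRoot.root (KRR.extPoly P e) ^ (r + 1 - j) = 0 := by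
  have h := AdjoinRoot.eval₂_root (KRR.extPoly P e)
  have hm : (P.aug e).toNat = r + 1 := by rw [hr]; omega
  have h0 : ∀ (q : Polynomial K), q = KRR.extPoly P e → Polynomial.eval₂ (AdjoinRoot.of (KRR.extPoly P e)) (AdjoinRoot.root (KRR.extPoly P e)) q = 0 := by
    rintro _ rfl; exact h
  have h1 := h0 (∑ i ∈ Finset.range ((P.aug e).toNat + 1),
    Polynomial.C ((-1 : K) ^ i * LambdaRing.LambdaOps.lam i e) * Polynomial.X ^ ((P.aug e).toNat - i)) rfl
  rw [hm, Polynomial.eval₂_finsetSum] at h1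
  rw [← h1]
  apply Finset.sum_congr rfl
  intro j hj
  rw [Polynomial.eval₂_mul, Polynomial.eval₂_C, Polynomial.eval₂_pow, Polynomial.eval₂_X]

theorem f_rec (P : LambdaRing.PosStructure K) (e : K) (r : ℕ) (hr : P.aug e = r + 1)
    (f : AdjoinRoot (KRR.extPoly P e) →ₗ[K] K) (y : AdjoinRoot (KRR.extPoly P e)) :
    ∑ j ∈ Finset.range (r + 2), ((-1 : K) ^ j * LambdaRing.LambdaOps.lam j e) *
      f (AdjoinRoot.root (KRR.extPoly P e) ^ (r + 1 - j) * y) = 0 := by
  have h := congrArg (fun z => f (z * y)) (root_eq P e r hr)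
  simp only [Finset.sum_mul, map_sum, zero_mul, map_zero] at h
  rw [← h]
  apply Finset.sum_congr rfl
  intro j hj
  have : AdjoinRoot.of (KRR.extPoly P e) ((-1 : K) ^ j * LambdaRing.LambdaOps.lam j e) *
      AdjoinRoot.root (KRR.extPoly P e) ^ (r + 1 - j) * y = ((-1 : K) ^ j * LambdaRing.LambdaOps.lam j e) •
      (AdjoinRoot.root (KRR.extPoly P e) ^ (r + 1 - j) * y) := by
    rw [Algebra.smul_def, AdjoinRoot.algebraMap_eq, mul_assoc]
  rw [this, map_smul, smul_eq_mul]

theorem f_root_pow (P : LambdaRing.PosStructure K) (e : K) (he : e ∈ P.pos) (r : ℕ) (hr : P.aug e = r + 1)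
    (f : AdjoinRoot (KRR.extPoly P e) →ₗ[K] K)
    (hf : ∀ i : ℕ, i ≤ r → f (AdjoinRoot.root (KRR.extPoly P e) ^ i) = KRR.sigma i e) (i : ℕ) :
    f (AdjoinRoot.root (KRR.extPoly P e) ^ i) = KRR.sigma i e := by
  induction i using Nat.strong_induction_on with
  | _ i ih =>
    by_cases hi : i ≤ r
    · exact hf i hi
    · obtain ⟨k, rfl⟩ : ∃ k, i = r + 1 + k := ⟨i - (r + 1), by omega⟩
      have h1 := f_rec P e r hr f (AdjoinRoot.root (KRR.extPoly P e) ^ k)
      have h2 := sigma_rec e (r + 1 + k) (by omega)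
      have h3 : ∑ j ∈ Finset.range (r + 1 + k + 1), ((-1 : K) ^ j * LambdaRing.LambdaOps.lam j e) * KRR.sigma (r + 1 + k - j) e =
         ∑ j ∈ Finset.range (r + 2), ((-1 : K) ^ j * LambdaRing.LambdaOps.lam j e) * KRR.sigma (r + 1 + k - j) e := by
        symm
        apply Finset.sum_subset
        · intro x hx
          simp only [Finset.mem_range] at hx ⊢
          omega
        · intro x _ hx
          simp only [Finset.mem_range, not_lt] at hx
          rw [P.lam_eq_zero e he x (by rw [hr]; omega), mul_zero, zero_mul]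
      rw [h3, Finset.sum_range_succ'] at h2
      rw [Finset.sum_range_succ'] at h1
      have h4 : ∑ k_1 ∈ Finset.range (r + 1), ((-1 : K) ^ (k_1 + 1) * LambdaRing.LambdaOps.lam (k_1 + 1) e) *
          f (AdjoinRoot.root (KRR.extPoly P e) ^ (r + 1 - (k_1 + 1)) * AdjoinRoot.root (KRR.extPoly P e) ^ k) =
          ∑ k_1 ∈ Finset.range (r + 1), ((-1 : K) ^ (k_1 + 1) * LambdaRing.LambdaOps.lam (k_1 + 1) e) * KRR.sigma (r + 1 + k - (k_1 + 1)) e := by
        apply Finset.sum_congr rfl
        intro j hj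
        rw [Finset.mem_range] at hj
        rw [← pow_add, ← ih (r + 1 + k - (j + 1)) (by omega)]
        congr 3
        omega
      rw [h4] at h1
      have h5 := h1.trans h2.symm
      have h6 := add_left_cancel h5
      simpa [LambdaRing.LambdaOps.lam_zero, ← pow_add] using h6


theorem result3779 (K : Type v) [CommRing K] [LambdaRing.LambdaOps K] (P : LambdaRing.PosStructure K) (hK : LambdaRing.HasSplitting K P) (e : K) (he : e ∈ P.pos) (r : ℕ) (hr : P.aug e = r + 1)
    (f : AdjoinRoot (KRR.extPoly P e) →ₗ[K] K)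
    (hf : ∀ i : ℕ, i ≤ r → f (AdjoinRoot.root (KRR.extPoly P e) ^ i) = KRR.sigma i e)
    (linv : AdjoinRoot (KRR.extPoly P e)) (hlinv : linv * AdjoinRoot.root (KRR.extPoly P e) = 1) :
    (∀ i : ℕ, f (AdjoinRoot.root (KRR.extPoly P e) ^ i) = KRR.sigma i e) ∧
    ∀ n : ℕ, 1 ≤ n → n ≤ r → f (linv ^ n) = 0 := by
  have hfi := f_root_pow P e he r hr f hf
  refine ⟨hfi, ?_⟩
  intro n
  induction n using Nat.strong_induction_on with
  | _ n ih =>
    intro hn1 hnr
    have h1 := f_rec P e r hr f (linv ^ n)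
    have hsplit : r + 2 = (r + 2 - n) + n := by omega
    rw [hsplit, Finset.sum_range_add] at h1
    have h2 := sigma_rec e (r + 1 - n) (by omega)
    have hpow : ∀ a b : ℕ, AdjoinRoot.root (KRR.extPoly P e) ^ (a + b) * linv ^ b = AdjoinRoot.root (KRR.extPoly P e) ^ a := by
      intro a b
      rw [pow_add, mul_assoc, ← mul_pow, mul_comm _ linv, hlinv, one_pow, mul_one]
    have hpow2 : ∀ a b : ℕ, AdjoinRoot.root (KRR.extPoly P e) ^ a * linv ^ (a + b) = linv ^ b := by
      intro a b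
      rw [pow_add, ← mul_assoc, ← mul_pow, mul_comm _ linv, hlinv, one_pow, one_mul]
    have h3 : ∑ j ∈ Finset.range (r + 2 - n), ((-1 : K) ^ j * LambdaRing.LambdaOps.lam j e) *
      f (AdjoinRoot.root (KRR.extPoly P e) ^ (r + 1 - j) * linv ^ n) = 0 := by
      rw [← h2]
      have : r + 2 - n = r + 1 - n + 1 := by omega
      rw [this]
      apply Finset.sum_congr rfl
      intro j hj
      rw [Finset.mem_range] at hj
      rw [← hfi]
      have h4 : r + 1 - j = (r + 1 - n - j) + n := by omega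
      rw [h4, hpow]
    rw [h3, zero_add] at h1
    obtain ⟨n', rfl⟩ : ∃ n', n = n' + 1 := ⟨n - 1, by omega⟩
    rw [Finset.sum_range_succ, Finset.sum_eq_zero, zero_add] at h1
    · have h5 : r + 2 - (n' + 1) + n' = r + 1 := by omega
      rw [h5, Nat.sub_self, pow_zero, one_mul] at h1
      have hu : IsUnit ((-1 : K) ^ (r + 1) * LambdaRing.LambdaOps.lam (r + 1) e) := by
        apply IsUnit.mul
        · exact (isUnit_one.neg).pow _
        · have := P.isUnit_lam e he
          rwa [show (P.aug e).toNat = r + 1 by rw [hr]; omega] at this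
      exact (hu.mul_right_eq_zero).mp h1
    · intro x hx
      rw [Finset.mem_range] at hx
      have h6 : r + 1 - (r + 2 - (n' + 1) + x) + (x + 1) = n' + 1 := by omega
      have h7 := hpow2 (r + 1 - (r + 2 - (n' + 1) + x)) (x + 1)
      rw [h6] at h7
      rw [h7, ih (x + 1) (by omega) (by omega) (by omega), mul_zero]


theorem lam_sub_root {K : Type v} [CommRing K] [LambdaRing.LambdaOps K] (P : LambdaRing.PosStructure K) (e : K)
    (inst : LambdaRing.LambdaOps (AdjoinRoot (KRR.extPoly P e)))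
    (hext : ∀ (i : ℕ) (x : K), @LambdaRing.LambdaOps.lam _ _ inst i (AdjoinRoot.of (KRR.extPoly P e) x) =
      AdjoinRoot.of (KRR.extPoly P e) (LambdaRing.LambdaOps.lam i x))
    (hroot : ∀ i : ℕ, 2 ≤ i → @LambdaRing.LambdaOps.lam _ _ inst i (AdjoinRoot.root (KRR.extPoly P e)) = 0) (k : ℕ) :
    @LambdaRing.LambdaOps.lam _ _ inst k (AdjoinRoot.of (KRR.extPoly P e) e - AdjoinRoot.root (KRR.extPoly P e)) =
      ∑ j ∈ Finset.range (k+1), AdjoinRoot.of (KRR.extPoly P e) ((-1)^(k-j) * LambdaRing.LambdaOps.lam j e) * AdjoinRoot.root (KRR.extPoly P e) ^ (k - j) := by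
  have hrec : ∀ k : ℕ, AdjoinRoot.of (KRR.extPoly P e) (LambdaRing.LambdaOps.lam (k+1) e) =
     @LambdaRing.LambdaOps.lam _ _ inst (k+1) (AdjoinRoot.of (KRR.extPoly P e) e - AdjoinRoot.root (KRR.extPoly P e)) +
     @LambdaRing.LambdaOps.lam _ _ inst k (AdjoinRoot.of (KRR.extPoly P e) e - AdjoinRoot.root (KRR.extPoly P e)) * AdjoinRoot.root (KRR.extPoly P e) := by
    intro k
    have h := LambdaRing.LambdaOps.lam_add (k+1) (AdjoinRoot.of (KRR.extPoly P e) e - AdjoinRoot.root (KRR.extPoly P e)) (AdjoinRoot.root (KRR.extPoly P e))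
    rw [sub_add_cancel, hext, Finset.sum_range_succ, Finset.sum_range_succ, Nat.sub_self, LambdaRing.LambdaOps.lam_zero, mul_one] at h
    rw [h, Finset.sum_eq_zero, zero_add, add_comm]
    · congr 2
      rw [show k + 1 - k = 1 by omega, LambdaRing.LambdaOps.lam_one]
    · intro x hx
      rw [Finset.mem_range] at hx
      rw [hroot _ (by omega), mul_zero]
  induction k with
  | zero => simp [LambdaRing.LambdaOps.lam_zero]
  | succ k ih =>
    have h := hrec k
    rw [ih] at h
    have h2 : (∑ j ∈ Finset.range (k+1), AdjoinRoot.of (KRR.extPoly P e) ((-1)^(k-j) * LambdaRing.LambdaOps.lam j e) * AdjoinRoot.root (KRR.extPoly P e) ^ (k - j)) * AdjoinRoot.root (KRR.extPoly P e) =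
      - ∑ j ∈ Finset.range (k+1), AdjoinRoot.of (KRR.extPoly P e) ((-1)^(k+1-j) * LambdaRing.LambdaOps.lam j e) * AdjoinRoot.root (KRR.extPoly P e) ^ (k + 1 - j) := by
      rw [Finset.sum_mul, ← Finset.sum_neg_distrib]
      apply Finset.sum_congr rfl
      intro j hj
      rw [Finset.mem_range] at hj
      rw [show k + 1 - j = (k - j) + 1 by omega, pow_succ, pow_succ]
      simp only [map_mul, map_pow, map_neg, map_one]
      ring
    rw [h2] at h
    rw [Finset.sum_range_succ _ (k+1), Nat.sub_self, pow_zero, pow_zero, one_mul, mul_one, h]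
    ring

theorem result3780 (K : Type v) [CommRing K] [LambdaRing.LambdaOps K] (P : LambdaRing.PosStructure K) (hK : LambdaRing.HasSplitting K P) (e : K) (he : e ∈ P.pos) (r : ℕ) (hr : P.aug e = r + 1)
    (inst : LambdaRing.LambdaOps (AdjoinRoot (KRR.extPoly P e)))
    (hext : ∀ (i : ℕ) (x : K), @LambdaRing.LambdaOps.lam _ _ inst i (AdjoinRoot.of (KRR.extPoly P e) x) =
      AdjoinRoot.of (KRR.extPoly P e) (LambdaRing.LambdaOps.lam i x))
    (hroot : ∀ i : ℕ, 2 ≤ i → @LambdaRing.LambdaOps.lam _ _ inst i (AdjoinRoot.root (KRR.extPoly P e)) = 0)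
    (f : AdjoinRoot (KRR.extPoly P e) →ₗ[K] K)
    (hf : ∀ i : ℕ, i ≤ r → f (AdjoinRoot.root (KRR.extPoly P e) ^ i) = KRR.sigma i e) (i : ℕ) :
    f (@LambdaRing.LambdaOps.lam _ _ inst i (AdjoinRoot.of (KRR.extPoly P e) e - AdjoinRoot.root (KRR.extPoly P e))) =
      if i = 0 then 1 else 0 := by
  have hfi := f_root_pow P e he r hr f hf
  by_cases hi : i = 0
  · subst hi
    rw [if_pos rfl, LambdaRing.LambdaOps.lam_zero, ← pow_zero (AdjoinRoot.root (KRR.extPoly P e)), hfi, sigma_zero]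
  · rw [if_neg hi, lam_sub_root P e inst hext hroot, map_sum]
    have h := sigma_rec e i (by omega)
    have h3 := congrArg (fun z => (-1 : K) ^ i * z) h
    simp only [mul_zero, Finset.mul_sum] at h3
    rw [← h3]
    apply Finset.sum_congr rfl
    intro j hj
    rw [Finset.mem_range] at hj
    rw [← AdjoinRoot.algebraMap_eq, ← Algebra.smul_def, map_smul, smul_eq_mul, hfi]
    obtain ⟨k, rfl⟩ : ∃ k, i = j + k := ⟨i - j, by omega⟩
    rw [Nat.add_sub_cancel_left, pow_add]
    have : ((-1 : K)^j * (-1)^j) = 1 := by rw [← mul_pow]; simp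
    linear_combination (- (-1 : K)^k * LambdaRing.LambdaOps.lam j e * sigma k e) * this

theorem lamSeries_add' {K : Type v} [CommRing K] [LambdaRing.LambdaOps K] (x y : K) :
    LambdaRing.lamSeries (x + y) = LambdaRing.lamSeries x * LambdaRing.lamSeries y := by
  ext n
  rw [PowerSeries.coeff_mul, Finset.Nat.sum_antidiagonal_eq_sum_range_succ_mk]
  simp [LambdaRing.lamSeries, LambdaRing.LambdaOps.lam_add]

theorem lamSeries_line {K : Type v} [CommRing K] [LambdaRing.LambdaOps K] (P : LambdaRing.PosStructure K) (L : K)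
    (hL : P.IsLine L) : LambdaRing.lamSeries L = 1 + PowerSeries.C L * PowerSeries.X := by
  ext n
  rcases n with _ | _ | n
  · simp [LambdaRing.lamSeries, LambdaRing.LambdaOps.lam_zero]
  · simp [LambdaRing.lamSeries, LambdaRing.LambdaOps.lam_one, PowerSeries.coeff_one]
  · have h1 := P.lam_eq_zero L hL.1 (n + 1 + 1) (by rw [hL.2]; omega)
    have h2 : PowerSeries.coeff (n+1+1) (PowerSeries.C L * (PowerSeries.X : PowerSeries K)) = 0 := by
      rw [PowerSeries.coeff_C_mul, PowerSeries.coeff_X, if_neg (by omega), mul_zero]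
    rw [map_add, h2, PowerSeries.coeff_one, if_neg (by omega), add_zero]
    simpa [LambdaRing.lamSeries] using h1

theorem isLine_one {K : Type v} [CommRing K] [LambdaRing.LambdaOps K] (P : LambdaRing.PosStructure K) : P.IsLine (1 : K) := by
  refine ⟨?_, map_one _⟩
  have := P.natCast_mem 1 one_pos
  rwa [Nat.cast_one] at this

theorem lamSeries_natCast' {K : Type v} [CommRing K] [LambdaRing.LambdaOps K] (P : LambdaRing.PosStructure K) (m : ℕ) :
    LambdaRing.lamSeries ((m + 1 : ℕ) : K) = (1 + PowerSeries.X) ^ (m + 1) := by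
  have h1 : LambdaRing.lamSeries (1 : K) = 1 + PowerSeries.X := by
    rw [lamSeries_line P 1 (isLine_one P)]; simp
  induction m with
  | zero => simp [h1]
  | succ m ih => rw [Nat.cast_succ, lamSeries_add', ih, h1, ← pow_succ]

theorem line_unit {K : Type v} [CommRing K] [LambdaRing.LambdaOps K] (P : LambdaRing.PosStructure K) (L : K)
    (hL : P.IsLine L) : IsUnit L := by
  have := P.isUnit_lam L hL.1
  rwa [hL.2, show (1 : ℤ).toNat = 1 from rfl, LambdaRing.LambdaOps.lam_one] at this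

theorem line_nilp {K : Type v} [CommRing K] [LambdaRing.LambdaOps K] (P : LambdaRing.PosStructure K) (L : K)
    (hL : P.IsLine L) (e : K) (he : e ∈ P.pos) (m : ℕ) (h : (m : K) = e + L) : IsNilpotent (L - 1) := by
  obtain ⟨L', hL'⟩ := (line_unit P L hL).exists_right_inv
  have hm : 1 ≤ m := by
    have h1 := congrArg P.aug h
    rw [map_natCast, map_add, hL.2] at h1
    have h2 := P.aug_pos e he
    omega
  obtain ⟨m, rfl⟩ : ∃ m', m = m' + 1 := ⟨m - 1, by omega⟩
  have h1 := lamSeries_natCast' P m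
  rw [h, lamSeries_add', lamSeries_line P L hL] at h1
  let q : Polynomial K := ∑ i ∈ Finset.range ((P.aug e).toNat + 1), Polynomial.C (LambdaRing.LambdaOps.lam i e) * Polynomial.X ^ i
  have hq : (q : PowerSeries K) = LambdaRing.lamSeries e := by
    ext n
    rw [Polynomial.coeff_coe]
    simp only [q, Polynomial.finsetSum_coeff, Polynomial.coeff_C_mul, Polynomial.coeff_X_pow, mul_ite, mul_one, mul_zero]
    rw [Finset.sum_ite_eq]
    split_ifs with hn
    · simp [LambdaRing.lamSeries]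
    · rw [Finset.mem_range, not_lt] at hn
      have := P.aug_pos e he
      rw [LambdaRing.lamSeries, PowerSeries.coeff_mk, P.lam_eq_zero e he n (by omega)]
  have h2 : q * (1 + Polynomial.C L * Polynomial.X) = (1 + Polynomial.X) ^ (m + 1) := by
    apply Polynomial.coe_injective
    rw [Polynomial.coe_mul, hq, Polynomial.coe_pow]
    simpa using h1
  have h3 := congrArg (Polynomial.eval (-L')) h2
  simp only [Polynomial.eval_mul, Polynomial.eval_add, Polynomial.eval_one, Polynomial.eval_C, Polynomial.eval_X, Polynomial.eval_pow] at h3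
  have h4 : 1 + L * -L' = 0 := by rw [mul_neg, hL']; ring
  rw [h4, mul_zero] at h3
  refine ⟨m + 1, ?_⟩
  have h5 : L - 1 = L * (1 + -L') := by
    linear_combination hL'
  rw [h5, mul_pow, ← h3, mul_zero]

theorem line_mul {K : Type v} [CommRing K] [LambdaRing.LambdaOps K] (P : LambdaRing.PosStructure K) (L M : K)
    (hL : P.IsLine L) (hM : P.IsLine M) : P.IsLine (L * M) :=
  ⟨P.mul_mem _ _ hL.1 hM.1, by rw [map_mul, hL.2, hM.2, one_mul]⟩

theorem line_pow {K : Type v} [CommRing K] [LambdaRing.LambdaOps K] (P : LambdaRing.PosStructure K) (L : K)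
    (hL : P.IsLine L) (n : ℕ) : P.IsLine (L ^ n) := by
  induction n with
  | zero => rw [pow_zero]; exact isLine_one P
  | succ n ih => rw [pow_succ]; exact line_mul P _ _ ih hL

theorem result3791 (K : Type v) [CommRing K] [LambdaRing.LambdaOps K] (P : LambdaRing.PosStructure K)
    (u : K) (hu : KRR.IsAmpleElt P u) (w : K) (hw : P.IsLine w) : IsNilpotent (w - 1) := by
  obtain ⟨hul, hamp⟩ := hu
  obtain ⟨n1, hn1⟩ := hamp (-w)
  obtain ⟨n2, hn2⟩ := hamp (-1)
  obtain ⟨e1, m1, he1, h1⟩ := hn1 (n1 + n2) (by omega)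
  obtain ⟨e2, m2, he2, h2⟩ := hn2 (n1 + n2) (by omega)
  have hL := line_pow P u hul (n1 + n2)
  have k1 := line_nilp P (u ^ (n1 + n2) * w) (line_mul P _ _ hL hw) e1 he1 m1 (by linear_combination h1)
  have k2 := line_nilp P (u ^ (n1 + n2)) hL e2 he2 m2 (by linear_combination h2)
  have k3 : IsNilpotent (u ^ (n1 + n2) * (w - 1)) := by
    have : u ^ (n1 + n2) * (w - 1) = (u ^ (n1 + n2) * w - 1) - (u ^ (n1 + n2) - 1) := by ring
    rw [this]
    exact (Commute.all _ _).isNilpotent_sub k1 k2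
  obtain ⟨L', hL'⟩ := (line_unit P _ hL).exists_left_inv
  have : w - 1 = L' * (u ^ (n1 + n2) * (w - 1)) := by rw [← mul_assoc, hL', one_mul]
  rw [this]
  exact (Commute.all _ _).isNilpotent_mul_left k3


theorem lamAlt_eq {K : Type v} [CommRing K] [LambdaRing.LambdaOps K] (P : LambdaRing.PosStructure K) (e : K)
    (inst : LambdaRing.LambdaOps (AdjoinRoot (KRR.extPoly P e)))
    (hext : ∀ (i : ℕ) (x : K), @LambdaRing.LambdaOps.lam _ _ inst i (AdjoinRoot.of (KRR.extPoly P e) x) =
      AdjoinRoot.of (KRR.extPoly P e) (LambdaRing.LambdaOps.lam i x))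
    (hroot : ∀ i : ℕ, 2 ≤ i → @LambdaRing.LambdaOps.lam _ _ inst i (AdjoinRoot.root (KRR.extPoly P e)) = 0) (r : ℕ) :
    ∑ i ∈ Finset.range (r + 1), (-1) ^ i * @LambdaRing.LambdaOps.lam _ _ inst i (AdjoinRoot.of (KRR.extPoly P e) e - AdjoinRoot.root (KRR.extPoly P e)) =
     AdjoinRoot.mk (KRR.extPoly P e) (∑ i ∈ Finset.range (r + 1), ∑ j ∈ Finset.range (i + 1), 
      Polynomial.C ((-1) ^ j * LambdaRing.LambdaOps.lam j e) * Polynomial.X ^ (i - j)) := by
  rw [map_sum]
  apply Finset.sum_congr rfl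
  intro i hi
  rw [lam_sub_root P e inst hext hroot, map_sum, Finset.mul_sum]
  apply Finset.sum_congr rfl
  intro j hj
  rw [Finset.mem_range] at hj
  obtain ⟨k, rfl⟩ : ∃ k, i = j + k := ⟨i - j, by omega⟩
  simp only [Nat.add_sub_cancel_left, map_mul, map_pow, map_neg, map_one, AdjoinRoot.mk_X, AdjoinRoot.mk_C]
  have : ((-1 : AdjoinRoot (KRR.extPoly P e))^k * (-1)^k) = 1 := by rw [← mul_pow]; simp
  rw [pow_add]
  linear_combination ((-1)^j * (AdjoinRoot.of (KRR.extPoly P e)) (LambdaRing.LambdaOps.lam j e) * AdjoinRoot.root (KRR.extPoly P e) ^ k) * this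

theorem tele {K : Type v} [CommRing K] (a : ℕ → K) (r : ℕ) :
    (Polynomial.X - 1) * (∑ i ∈ Finset.range (r + 1), ∑ j ∈ Finset.range (i + 1), 
      Polynomial.C (a j) * Polynomial.X ^ (i - j)) + Polynomial.C (∑ j ∈ Finset.range (r + 2), a j) =
      ∑ j ∈ Finset.range (r + 2), Polynomial.C (a j) * Polynomial.X ^ (r + 1 - j) := by
  have hX : ∀ i, Polynomial.X * (∑ j ∈ Finset.range (i + 1), Polynomial.C (a j) * Polynomial.X ^ (i - j)) =
     (∑ j ∈ Finset.range (i + 2), Polynomial.C (a j) * Polynomial.X ^ (i + 1 - j)) - Polynomial.C (a (i+1)) := by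
    intro i
    rw [Finset.sum_range_succ _ (i+1), Nat.sub_self, pow_zero, mul_one, add_sub_cancel_right, Finset.mul_sum]
    apply Finset.sum_congr rfl
    intro j hj
    rw [Finset.mem_range] at hj
    rw [show i + 1 - j = (i - j) + 1 by omega, pow_succ]
    ring
  induction r with
  | zero =>
    simp [Finset.sum_range_succ]
    ring
  | succ r ih =>
    have hA : (Polynomial.C (∑ j ∈ Finset.range (r + 1 + 2), a j) : Polynomial K) = Polynomial.C (∑ j ∈ Finset.range (r + 2), a j) + Polynomial.C (a (r + 2)) := by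
      rw [Finset.sum_range_succ, map_add]
    rw [Finset.sum_range_succ _ (r+1), mul_add, sub_mul _ _ (∑ j ∈ Finset.range (r + 1 + 1), _), hX, one_mul, hA]
    linear_combination ih

theorem result3802 (K : Type v) [CommRing K] [LambdaRing.LambdaOps K] (P : LambdaRing.PosStructure K) (hK : LambdaRing.HasSplitting K P) (c : K) (hc : c ∈ P.pos) (r : ℕ) (hr : P.aug c = r + 1)
    (inst : LambdaRing.LambdaOps (AdjoinRoot (KRR.extPoly P c))) (Pc : @LambdaRing.PosStructure _ _ inst)
    (hext : @LambdaRing.IsExtension K _ _ _ _ inst P Pc (AdjoinRoot.of (KRR.extPoly P c)))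
    (hroot : ∀ i : ℕ, 2 ≤ i → @LambdaRing.LambdaOps.lam _ _ inst i (AdjoinRoot.root (KRR.extPoly P c)) = 0)
    (hline : @LambdaRing.PosStructure.IsLine _ _ inst Pc (AdjoinRoot.root (KRR.extPoly P c)))
    (hpos : 1 ≤ r → AdjoinRoot.of (KRR.extPoly P c) c - AdjoinRoot.root (KRR.extPoly P c) ∈ (@LambdaRing.PosStructure.pos _ _ inst Pc))
    (hsplit : @LambdaRing.HasSplitting _ _ inst Pc)
    (f : AdjoinRoot (KRR.extPoly P c) →ₗ[K] K)
    (hf : ∀ i : ℕ, i ≤ r → f (AdjoinRoot.root (KRR.extPoly P c) ^ i) = KRR.sigma i c)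
    (z : AdjoinRoot (KRR.extPoly P c)) (hz : z * (1 - AdjoinRoot.root (KRR.extPoly P c)) = 0) :
    z = AdjoinRoot.of (KRR.extPoly P c) (f z) *
      @KRR.lamAlt _ _ inst Pc (AdjoinRoot.of (KRR.extPoly P c) c - AdjoinRoot.root (KRR.extPoly P c)) := by
  have hext' : ∀ (i : ℕ) (x : K), @LambdaRing.LambdaOps.lam _ _ inst i (AdjoinRoot.of (KRR.extPoly P c) x) =
      AdjoinRoot.of (KRR.extPoly P c) (LambdaRing.LambdaOps.lam i x) := fun i x => (hext.isLambdaHom i x).symm
  have hm : (P.aug c).toNat = r + 1 := by rw [hr]; omega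
  have haug : (Pc.aug (AdjoinRoot.of (KRR.extPoly P c) c - AdjoinRoot.root (KRR.extPoly P c))).toNat = r := by
    rw [map_sub, hext.aug_comp, hline.2, hr]; omega
  have hL : @KRR.lamAlt _ _ inst Pc (AdjoinRoot.of (KRR.extPoly P c) c - AdjoinRoot.root (KRR.extPoly P c)) =
      ∑ i ∈ Finset.range (r + 1), (-1) ^ i * @LambdaRing.LambdaOps.lam _ _ inst i (AdjoinRoot.of (KRR.extPoly P c) c - AdjoinRoot.root (KRR.extPoly P c)) := by
    rw [KRR.lamAlt, haug]
  have hfL : f (∑ i ∈ Finset.range (r + 1), (-1) ^ i * @LambdaRing.LambdaOps.lam _ _ inst i (AdjoinRoot.of (KRR.extPoly P c) c - AdjoinRoot.root (KRR.extPoly P c))) = 1 := by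
    rw [map_sum, Finset.sum_range_succ', Finset.sum_eq_zero, zero_add, pow_zero, one_mul,
      result3780 K P hK c hc r hr inst hext' hroot f hf 0, if_pos rfl]
    intro i hi
    have : ((-1) ^ (i+1) * @LambdaRing.LambdaOps.lam _ _ inst (i+1) (AdjoinRoot.of (KRR.extPoly P c) c - AdjoinRoot.root (KRR.extPoly P c))) =
       ((-1 : K) ^ (i+1)) • @LambdaRing.LambdaOps.lam _ _ inst (i+1) (AdjoinRoot.of (KRR.extPoly P c) c - AdjoinRoot.root (KRR.extPoly P c)) := by
      rw [Algebra.smul_def, map_pow, map_neg, map_one]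
    rw [this, map_smul, result3780 K P hK c hc r hr inst hext' hroot f hf (i+1), if_neg (by omega), smul_zero]
  have hp : KRR.extPoly P c = (Polynomial.X - 1) * (∑ i ∈ Finset.range (r + 1), ∑ j ∈ Finset.range (i + 1), 
      Polynomial.C ((-1) ^ j * LambdaRing.LambdaOps.lam j c) * Polynomial.X ^ (i - j)) + Polynomial.C (∑ j ∈ Finset.range (r + 2), ((-1) ^ j * LambdaRing.LambdaOps.lam j c)) := by
    rw [tele (fun j => (-1) ^ j * LambdaRing.LambdaOps.lam j c) r]
    unfold KRR.extPoly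
    rw [hm]
  rw [hL]
  rw [lamAlt_eq P c inst hext' hroot r] at hfL ⊢
  generalize (∑ i ∈ Finset.range (r + 1), ∑ j ∈ Finset.range (i + 1), 
      Polynomial.C ((-1) ^ j * LambdaRing.LambdaOps.lam j c) * Polynomial.X ^ (i - j)) = Q at *
  generalize (∑ j ∈ Finset.range (r + 2), ((-1) ^ j * LambdaRing.LambdaOps.lam j c)) = A at *
  have hnt : Nontrivial K := P.aug_surjective.nontrivial
  have hpX : KRR.extPoly P c = Polynomial.X ^ (r + 1) + ∑ j ∈ Finset.range (r + 1), Polynomial.C ((-1) ^ (j + 1) * LambdaRing.LambdaOps.lam (j + 1) c) * Polynomial.X ^ (r + 1 - (j + 1)) := by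
    unfold KRR.extPoly
    rw [hm, Finset.sum_range_succ', add_comm]
    simp [LambdaRing.LambdaOps.lam_zero]
  have hlt : (∑ j ∈ Finset.range (r + 1), Polynomial.C ((-1) ^ (j + 1) * LambdaRing.LambdaOps.lam (j + 1) c) * Polynomial.X ^ (r + 1 - (j + 1))).degree < ((r + 1 : ℕ) : WithBot ℕ) := by
    rw [← Polynomial.mem_degreeLT]
    apply Submodule.sum_mem
    intro j hj
    rw [Polynomial.mem_degreeLT]
    refine lt_of_le_of_lt (Polynomial.degree_C_mul_X_pow_le _ _) ?_
    rw [Nat.cast_lt]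
    omega
  have hmonic : (KRR.extPoly P c).Monic := by
    rw [hpX]
    exact Polynomial.monic_X_pow_add hlt
  have hdeg : (KRR.extPoly P c).natDegree = r + 1 := by
    rw [hpX]
    apply Polynomial.natDegree_eq_of_degree_eq_some
    rw [Polynomial.degree_add_eq_left_of_degree_lt]
    · simp
    · simpa using hlt
  obtain ⟨g0, rfl⟩ := AdjoinRoot.mk_surjective z
  let g := g0 %ₘ (KRR.extPoly P c)
  have hg : AdjoinRoot.mk (KRR.extPoly P c) g0 = AdjoinRoot.mk (KRR.extPoly P c) g := by
    rw [AdjoinRoot.mk_eq_mk]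
    exact ⟨g0 /ₘ (KRR.extPoly P c), by rw [sub_eq_iff_eq_add, add_comm]; exact (Polynomial.modByMonic_add_div g0 _).symm⟩
  have hgd : g.natDegree ≤ r := by
    have := Polynomial.natDegree_modByMonic_lt g0 hmonic (by intro h; rw [h, Polynomial.natDegree_one] at hdeg; omega)
    rw [hdeg] at this
    exact Nat.lt_succ_iff.mp this
  rw [hg] at hz ⊢
  have hz2 : AdjoinRoot.mk (KRR.extPoly P c) (g * (1 - Polynomial.X)) = 0 := by
    rw [map_mul, map_sub, map_one, AdjoinRoot.mk_X]; exact hz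
  rw [AdjoinRoot.mk_eq_zero] at hz2
  obtain ⟨s, hs⟩ := hz2
  have hs0 : s.natDegree = 0 := by
    by_cases hs' : s = 0
    · rw [hs']; simp
    · have h1 := hmonic.natDegree_mul' hs'
      rw [← hs, hdeg] at h1
      have h2 : (g * (1 - Polynomial.X)).natDegree ≤ r + 1 := by
        refine le_trans Polynomial.natDegree_mul_le ?_
        have : (1 - Polynomial.X : Polynomial K).natDegree ≤ 1 := by
          refine le_trans (Polynomial.natDegree_sub_le _ _) ?_
          simp
        omega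
      omega
  obtain ⟨b, rfl⟩ : ∃ b, s = Polynomial.C b := ⟨_, Polynomial.eq_C_of_natDegree_eq_zero hs0⟩
  have hs2 : g * (1 - Polynomial.X) = ((Polynomial.X - 1) * Q + Polynomial.C A) * Polynomial.C b := by
    rw [hs, ← hp]
  have hAb : A * b = 0 := by
    have := congrArg (Polynomial.eval 1) hs2
    simpa using this.symm
  have hAb' : (Polynomial.C A : Polynomial K) * Polynomial.C b = 0 := by rw [← map_mul, hAb, map_zero]
  have h3 : (Polynomial.X - Polynomial.C 1) * (g + Q * Polynomial.C b) = 0 := by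
    rw [map_one]
    linear_combination -hs2 - hAb'
  have h4 := ((Polynomial.monic_X_sub_C (1 : K)).mul_right_eq_zero_iff).mp h3
  have h5 : g = - (Q * Polynomial.C b) := eq_neg_of_add_eq_zero_left h4
  have h6 : AdjoinRoot.mk (KRR.extPoly P c) g = (-b) • AdjoinRoot.mk (KRR.extPoly P c) Q := by
    rw [h5, Algebra.smul_def, AdjoinRoot.algebraMap_eq, map_neg, map_mul, AdjoinRoot.mk_C, map_neg]
    ring
  have h7 : f (AdjoinRoot.mk (KRR.extPoly P c) g) = -b := by
    rw [h6, map_smul, hfL, smul_eq_mul, mul_one]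
  rw [h7, h6, Algebra.smul_def, AdjoinRoot.algebraMap_eq]

end Groth.Agent.H6KRR
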