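import Groth.Agent.Lib.H6_KRR
set_option autoImplicit false
universe v u
open CategoryTheory CategoryTheory.Limits AlgebraicGeometry
open KRR

namespace Groth.Agent.H6KRR

section adams
variable {K : Type v} [CommRing K] [LambdaRing.LambdaOps K]

theorem coe_neg_Lam (x : K) : PowerSeries.constantCoeff (PowerSeries.rescale (-1 : K) (LambdaRing.lamSeries x)) = 1 := by
  rw [← PowerSeries.coeff_zero_eq_constantCoeff_apply, PowerSeries.coeff_rescale]
  simp [LambdaRing.lamSeries, LambdaRing.LambdaOps.lam_zero]

theorem adamsSeries_add (P : LambdaRing.PosStructure K) (x y : K) :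
    LambdaRing.adamsSeries P (x + y) = LambdaRing.adamsSeries P x + LambdaRing.adamsSeries P y := by
  have hx := sigma_mul x
  have hy := sigma_mul y
  have hxy := sigma_mul (x + y)
  unfold KRR.sigmaSeries at hx hy hxy
  unfold LambdaRing.adamsSeries
  rw [lamSeries_add', map_mul] at hxy ⊢
  generalize PowerSeries.rescale (-1 : K) (LambdaRing.lamSeries x) = a at *
  generalize PowerSeries.rescale (-1 : K) (LambdaRing.lamSeries y) = b at *
  generalize a.invOfUnit 1 = a' at *
  generalize b.invOfUnit 1 = b' at *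
  generalize (a * b).invOfUnit 1 = c at *
  have hc : c = a' * b' := by
    linear_combination (a' * b') * hxy - (c * b * b') * hx - c * hy
  rw [hc, Derivation.leibniz, map_add P.aug, Int.cast_add, map_add PowerSeries.C, smul_eq_mul, smul_eq_mul]
  linear_combination (-(PowerSeries.X * (PowerSeries.derivative K b) * b')) * hx + (-(PowerSeries.X * (PowerSeries.derivative K a) * a')) * hy

theorem adams_add (P : LambdaRing.PosStructure K) (j : ℕ) (x y : K) :
    LambdaRing.adams P j (x + y) = LambdaRing.adams P j x + LambdaRing.adams P j y := by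
  rw [LambdaRing.adams, adamsSeries_add, map_add]; rfl

/-- additive version -/
noncomputable def psi (P : LambdaRing.PosStructure K) (j : ℕ) : K →+ K := AddMonoidHom.mk' (LambdaRing.adams P j) (adams_add P j)

theorem psi_line (P : LambdaRing.PosStructure K) (j : ℕ) (hj : 1 ≤ j) (w : K) (hw : P.IsLine w) : psi P j w = w ^ j := by
  change LambdaRing.adams P j w = w ^ j
  have h1 := sigma_mul w
  unfold KRR.sigmaSeries at h1
  unfold LambdaRing.adams LambdaRing.adamsSeries
  have h2 : PowerSeries.rescale (-1 : K) (LambdaRing.lamSeries w) = 1 - PowerSeries.C w * PowerSeries.X := by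
    rw [lamSeries_line P w hw]
    have hC : PowerSeries.rescale (-1 : K) (PowerSeries.C w) = PowerSeries.C w := by
      ext n
      rw [PowerSeries.coeff_rescale, PowerSeries.coeff_C]
      split_ifs with h
      · rw [h, pow_zero, one_mul]
      · rw [mul_zero]
    simp [sub_eq_add_neg, hC]
  rw [h2] at h1 ⊢
  have h3 : (1 - PowerSeries.C w * PowerSeries.X) * (PowerSeries.mk (fun n => w ^ n)) = 1 := by
    ext n
    rw [sub_mul, one_mul, map_sub, mul_assoc, PowerSeries.coeff_C_mul, PowerSeries.coeff_mk]
    cases n with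
    | zero => simp
    | succ n =>
      rw [PowerSeries.coeff_succ_X_mul, PowerSeries.coeff_mk, PowerSeries.coeff_one, if_neg (by omega), pow_succ]
      ring
  generalize (1 - PowerSeries.C w * PowerSeries.X).invOfUnit 1 = c at *
  have hc : c = PowerSeries.mk (fun n => w ^ n) := by
    linear_combination (PowerSeries.mk (fun n => w ^ n)) * h1 - c * h3
  rw [hc]
  obtain ⟨j, rfl⟩ : ∃ j', j = j' + 1 := ⟨j - 1, by omega⟩
  have hD : PowerSeries.derivative K (1 - PowerSeries.C w * PowerSeries.X) = - PowerSeries.C w := by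
    rw [map_sub, Derivation.leibniz]
    simp
  rw [hD, map_sub, PowerSeries.coeff_C, if_neg (by omega), zero_sub, mul_assoc, PowerSeries.coeff_succ_X_mul, neg_mul, map_neg, PowerSeries.coeff_C_mul,
    PowerSeries.coeff_mk, neg_neg, pow_succ]
  ring

end adams

theorem adams_map {K K' : Type v} [CommRing K] [LambdaRing.LambdaOps K] [CommRing K'] [LambdaRing.LambdaOps K'] (P : LambdaRing.PosStructure K)
    (P' : LambdaRing.PosStructure K') (f : K →+* K') (hf : LambdaRing.IsExtension P P' f) (j : ℕ) (x : K) :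
    f (LambdaRing.adams P j x) = LambdaRing.adams P' j (f x) := by
  have h1 := sigma_mul x
  have h2 := sigma_mul (f x)
  unfold KRR.sigmaSeries at h1 h2
  have h3 : PowerSeries.map f (PowerSeries.rescale (-1 : K) (LambdaRing.lamSeries x)) = PowerSeries.rescale (-1 : K') (LambdaRing.lamSeries (f x)) := by
    ext n
    rw [PowerSeries.coeff_map, PowerSeries.coeff_rescale, PowerSeries.coeff_rescale, map_mul, map_pow, map_neg, map_one]
    congr 1
    simp only [LambdaRing.lamSeries, PowerSeries.coeff_mk]
    exact hf.isLambdaHom n x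
  have h4 := congrArg (PowerSeries.map f) h1
  rw [map_mul, map_one, h3] at h4
  have h5 : PowerSeries.map f ((PowerSeries.rescale (-1 : K) (LambdaRing.lamSeries x)).invOfUnit 1) = (PowerSeries.rescale (-1 : K') (LambdaRing.lamSeries (f x))).invOfUnit 1 := by
    linear_combination ((PowerSeries.rescale (-1 : K') (LambdaRing.lamSeries (f x))).invOfUnit 1) * h4 - (PowerSeries.map f ((PowerSeries.rescale (-1 : K) (LambdaRing.lamSeries x)).invOfUnit 1)) * h2
  have h6 : PowerSeries.map f (LambdaRing.adamsSeries P x) = LambdaRing.adamsSeries P' (f x) := by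
    unfold LambdaRing.adamsSeries
    rw [map_sub, map_mul, map_mul, h5, PowerSeries.map_X, ← h3, PowerSeries.map_C, map_intCast, hf.aug_comp]
    congr 3
    ext n
    simp [PowerSeries.coeff_derivative]
  rw [LambdaRing.adams, LambdaRing.adams, ← h6, PowerSeries.coeff_map]

theorem lamAlt_fin {K : Type v} [CommRing K] (m : ℕ) (y : Fin m → K) :
    ∑ k ∈ Finset.range (m + 1), (-1 : K) ^ k * (∑ t ∈ Finset.powersetCard k Finset.univ, ∏ i ∈ t, y i) = ∏ i, (1 - y i) := by
  have h1 : ∏ i, (1 - y i) = ∏ i, (1 + (- y i)) := by simp [sub_eq_add_neg]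
  rw [h1, Finset.prod_one_add, Finset.sum_powerset, Finset.card_univ, Fintype.card_fin]
  apply Finset.sum_congr rfl
  intro k hk
  rw [Finset.mul_sum]
  apply Finset.sum_congr rfl
  intro t ht
  rw [Finset.prod_neg, (Finset.mem_powersetCard.mp ht).2]

theorem line_prod {K : Type v} [CommRing K] [LambdaRing.LambdaOps K] (P : LambdaRing.PosStructure K) {m : ℕ} (y : Fin m → K) (hy : ∀ i, P.IsLine (y i))
   (t : Finset (Fin m)) : P.IsLine (∏ i ∈ t, y i) := by
  induction t using Finset.induction_on with
  | empty => rw [Finset.prod_empty]; exact isLine_one P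
  | insert a s ha ih => rw [Finset.prod_insert ha]; exact line_mul P _ _ (hy a) ih

theorem lamSeries_sum {K : Type v} [CommRing K] [LambdaRing.LambdaOps K] (P : LambdaRing.PosStructure K) {m : ℕ} (y : Fin m → K) (hy : ∀ i, P.IsLine (y i))
   (hm : 0 < m) : LambdaRing.lamSeries (∑ i, y i) = ∏ i, (1 + PowerSeries.C (y i) * PowerSeries.X) := by
  have h0 : LambdaRing.lamSeries (0 : K) = 1 := by
    have h := lamSeries_add' (1 : K) 0
    rw [add_zero] at h
    have h1 := lamSeries_line P 1 (isLine_one P)
    have h2 : IsUnit (LambdaRing.lamSeries (1 : K)) := by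
      rw [PowerSeries.isUnit_iff_constantCoeff, h1]; simp
    exact (h2.mul_left_cancel (by rw [mul_one]; exact h)).symm
  have : ∀ s : Finset (Fin m), LambdaRing.lamSeries (∑ i ∈ s, y i) = ∏ i ∈ s, (1 + PowerSeries.C (y i) * PowerSeries.X) := by
    intro s
    induction s using Finset.induction_on with
    | empty => rw [Finset.sum_empty, Finset.prod_empty, h0]
    | insert a s ha ih => rw [Finset.sum_insert ha, Finset.prod_insert ha, lamSeries_add', ih, lamSeries_line P _ (hy a)]
  exact this _

theorem lam_sum {K : Type v} [CommRing K] [LambdaRing.LambdaOps K] (P : LambdaRing.PosStructure K) {m : ℕ} (y : Fin m → K) (hy : ∀ i, P.IsLine (y i))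
   (hm : 0 < m) (k : ℕ) : LambdaRing.LambdaOps.lam k (∑ i, y i) = ∑ t ∈ Finset.powersetCard k Finset.univ, ∏ i ∈ t, y i := by
  have h1 := congrArg (PowerSeries.coeff k) (lamSeries_sum P y hy hm)
  rw [LambdaRing.lamSeries, PowerSeries.coeff_mk] at h1
  rw [h1, Finset.prod_one_add, map_sum]
  have h2 : ∀ t : Finset (Fin m), PowerSeries.coeff k (∏ i ∈ t, PowerSeries.C (y i) * (PowerSeries.X : PowerSeries K)) = if t.card = k then ∏ i ∈ t, y i else 0 := by
    intro t
    rw [Finset.prod_mul_distrib, Finset.prod_const, ← map_prod, PowerSeries.coeff_C_mul, PowerSeries.coeff_X_pow]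
    simp [eq_comm]
  simp only [h2]
  rw [← Finset.sum_filter]
  apply Finset.sum_congr
  · ext t; simp [Finset.mem_powersetCard]
  · intros; rfl

theorem result3792 (K : Type v) [CommRing K] [LambdaRing.LambdaOps K] (P : LambdaRing.PosStructure K) (hK : LambdaRing.HasSplitting K P) (e : K) (he : e ∈ P.pos) (j : ℕ) (hj : 1 ≤ j) :
    LambdaRing.adams P j (KRR.lamAlt P e) = KRR.lamAlt P e * KRR.bott P j e := by
  obtain ⟨C, hC, hCs⟩ := hK
  obtain ⟨L', hL', f, hf, s, hs, hsum⟩ := hCs _ hC e he
  obtain ⟨l, rfl⟩ := Quot.exists_rep s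
  let m := l.length
  let y : Fin m → L'.carrier := l.get
  have hy : ∀ i, L'.posStr.IsLine (y i) := fun i => hs _ (by exact List.get_mem l i)
  have hsum' : ∑ i, y i = f e := by
    rw [← hsum]
    change ∑ i, y i = l.sum
    rw [← List.sum_ofFn]
    simp [y]
  have haug : P.aug e = m := by
    rw [← hf.aug_comp, ← hsum', map_sum]
    simp [(hy _).2]
  have haug' : (P.aug e).toNat = m := by rw [haug]; simp
  have hm : 0 < m := by have := P.aug_pos e he; omega
  have hlam : ∀ k, f (LambdaRing.LambdaOps.lam k e) = ∑ t ∈ Finset.powersetCard k Finset.univ, ∏ i ∈ t, y i := by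
    intro k
    rw [hf.isLambdaHom k e, ← hsum']
    exact lam_sum L'.posStr y hy hm k
  have hfl : f (KRR.lamAlt P e) = ∏ i, (1 - y i) := by
    rw [← lamAlt_fin, KRR.lamAlt, haug', map_sum]
    apply Finset.sum_congr rfl
    intro k hk
    rw [map_mul, map_pow, map_neg, map_one, hlam]
  have hpsi : f (LambdaRing.adams P j (KRR.lamAlt P e)) = ∏ i, (1 - y i ^ j) := by
    rw [adams_map P L'.posStr f hf, hfl, ← lamAlt_fin, ← lamAlt_fin]
    change psi L'.posStr j _ = _
    rw [map_sum]
    apply Finset.sum_congr rfl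
    intro k hk
    have h1 : ∀ x, psi L'.posStr j ((-1) ^ k * x) = (-1)^k * psi L'.posStr j x := by
      intro x
      rcases neg_one_pow_eq_or L'.carrier k with h | h <;> simp [h]
    rw [h1, map_sum]
    congr 1
    apply Finset.sum_congr rfl
    intro t ht
    rw [psi_line L'.posStr j hj _ (line_prod _ y hy t), Finset.prod_pow]
  have hbott : f (KRR.bott P j e) = ∏ i, (∑ k ∈ Finset.range j, y i ^ k) := by
    have h1 : f (MvPolynomial.aeval (fun i : Fin m => LambdaRing.LambdaOps.lam (i.1 + 1) e) (KRR.bottPoly j m)) = ∏ i, (∑ k ∈ Finset.range j, y i ^ k) := by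
      have h2 := DFunLike.congr_fun (MvPolynomial.comp_aeval (fun i : Fin m => LambdaRing.LambdaOps.lam (i.1 + 1) e) f.toIntAlgHom) (KRR.bottPoly j m)
      refine Eq.trans h2 ?_
      have h3 : (fun i : Fin m => f.toIntAlgHom (LambdaRing.LambdaOps.lam (i.1 + 1) e)) = fun i : Fin m => MvPolynomial.aeval y (MvPolynomial.esymm (Fin m) ℤ (i.1 + 1)) := by
        funext i
        refine Eq.trans (hlam (i.1+1)) ?_
        rw [MvPolynomial.esymm, map_sum]
        apply Finset.sum_congr rfl
        intro t ht
        rw [map_prod]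
        simp
      rw [h3]
      have h4 := DFunLike.congr_fun (MvPolynomial.comp_aeval (fun i : Fin m => MvPolynomial.esymm (Fin m) ℤ (i.1 + 1)) (MvPolynomial.aeval (R := ℤ) y)) (KRR.bottPoly j m)
      refine Eq.trans h4.symm ?_
      have h5 : MvPolynomial.aeval (fun i : Fin m => MvPolynomial.esymm (Fin m) ℤ (i.1 + 1)) (KRR.bottPoly j m) = KRR.bottSym j m := by
        have h6 := AlgEquiv.apply_symm_apply (MvPolynomial.esymmAlgEquiv (Fin m) ℤ (Fintype.card_fin m)) ⟨KRR.bottSym j m, KRR.bottSym_isSymmetric j m⟩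
        have h7 := congrArg Subtype.val h6
        refine Eq.trans ?_ h7
        exact (MvPolynomial.esymmAlgHom_apply (KRR.bottPoly j m)).symm
      rw [AlgHom.comp_apply, h5, KRR.bottSym, map_prod]
      simp
    have h8 : ∀ n, n = m → f (MvPolynomial.aeval (fun i : Fin n => LambdaRing.LambdaOps.lam (i.1 + 1) e) (KRR.bottPoly j n)) = ∏ i, (∑ k ∈ Finset.range j, y i ^ k) := by
      rintro _ rfl; exact h1
    exact h8 _ haug'
  apply hf.injective
  rw [map_mul, hpsi, hfl, hbott, ← Finset.prod_mul_distrib]
  apply Finset.prod_congr rfl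
  intro i _
  rw [mul_comm]
  exact (geom_sum_mul_neg (y i) j).symm

end Groth.Agent.H6KRR
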