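import Mathlib.CategoryTheory.EffectiveEpi.Comp
import Mathlib.CategoryTheory.MorphismProperty.Limits
import Mathlib.CategoryTheory.Limits.Shapes.Pullback.HasPullback
import Mathlib.CategoryTheory.Comma.Over.Pullback
import Mathlib.CategoryTheory.EquivalenceRelation

set_option autoImplicit false

namespace Groth.Agent.H8Desc

open CategoryTheory CategoryTheory.Limits

universe w v₁ u₁
variable {C : Type u₁} [Category.{v₁} C]

/-- universal effective epimorphisms -/
abbrev UEE (C : Type u₁) [Category.{v₁} C] : MorphismProperty C :=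
  MorphismProperty.universally (fun (A B : C) (p : A ⟶ B) => EffectiveEpi p)

lemma effEpi_mk {X Y : C} (f : Y ⟶ X) [Epi f]
    (H : ∀ {W : C} (e : Y ⟶ W), (∀ {Z : C} (g₁ g₂ : Z ⟶ Y), g₁ ≫ f = g₂ ≫ f → g₁ ≫ e = g₂ ≫ e) →
      ∃ d : X ⟶ W, f ≫ d = e) : EffectiveEpi f := by
  refine ⟨⟨⟨fun e h => (H e h).choose, fun e h => (H e h).choose_spec, ?_⟩⟩⟩
  intro W e h m hm
  rw [← cancel_epi f, hm, (H e h).choose_spec]

lemma effEpi_desc {X Y : C} (f : Y ⟶ X) [hf : EffectiveEpi f] {W : C} (e : Y ⟶ W)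
    (h : ∀ {Z : C} (g₁ g₂ : Z ⟶ Y), g₁ ≫ f = g₂ ≫ f → g₁ ≫ e = g₂ ≫ e) : ∃ d : X ⟶ W, f ≫ d = e := by
  obtain ⟨⟨s⟩⟩ := hf
  exact ⟨s.desc e h, s.fac e h⟩

lemma UEE.effectiveEpi {X Y : C} {f : X ⟶ Y} (hf : UEE C f) : EffectiveEpi f :=
  MorphismProperty.universally_le _ _ hf

lemma UEE.epi {X Y : C} {f : X ⟶ Y} (hf : UEE C f) : Epi f := by
  have := hf.effectiveEpi
  infer_instance

lemma UEE.baseChange {X Y X' Y' : C} {f : X ⟶ Y} (hf : UEE C f) {i₁ : X' ⟶ X} {i₂ : Y' ⟶ Y} {f' : X' ⟶ Y'}
    (h : IsPullback f' i₁ i₂ f) : UEE C f' :=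
  MorphismProperty.of_isPullback h.flip hf

lemma UEE.baseChange' {X Y X' Y' : C} {f : X ⟶ Y} (hf : UEE C f) {i₁ : X' ⟶ X} {i₂ : Y' ⟶ Y} {f' : X' ⟶ Y'}
    (h : IsPullback i₁ f' f i₂) : UEE C f' :=
  MorphismProperty.of_isPullback h hf

lemma UEE.univEpi {X Y : C} {f : X ⟶ Y} (hf : UEE C f) :
    MorphismProperty.universally (MorphismProperty.epimorphisms C) f := by
  intro X' Y' i₁ i₂ f' h
  have := hf i₁ i₂ f' h
  change Epi f'
  infer_instance

variable [HasPullbacks C]

/-- S5204 -/
lemma effectiveEpi_comp {U T S : C} (v : U ⟶ T) (u : T ⟶ S) [EffectiveEpi u] [EffectiveEpi v]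
    (hv : MorphismProperty.universally (MorphismProperty.epimorphisms C) v) :
    EffectiveEpi (v ≫ u) := by
  refine effEpi_mk _ ?_
  intro W e he
  obtain ⟨e', rfl⟩ := effEpi_desc v e (fun g₁ g₂ h => he g₁ g₂ (by
    rw [← Category.assoc, h, Category.assoc]))
  obtain ⟨d, rfl⟩ := effEpi_desc u e' (by
    intro Z g₁ g₂ h
    have e1 : Epi (pullback.snd v g₁) := hv _ _ _ (IsPullback.of_hasPullback v g₁).flip
    have e2 : Epi (pullback.snd v (pullback.snd v g₁ ≫ g₂)) :=
      hv _ _ _ (IsPullback.of_hasPullback v (pullback.snd v g₁ ≫ g₂)).flip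
    rw [← cancel_epi (pullback.snd v g₁), ← cancel_epi (pullback.snd v (pullback.snd v g₁ ≫ g₂))]
    have c1 : pullback.fst v g₁ ≫ v = pullback.snd v g₁ ≫ g₁ := pullback.condition
    have c2 : pullback.fst v (pullback.snd v g₁ ≫ g₂) ≫ v =
      pullback.snd v (pullback.snd v g₁ ≫ g₂) ≫ pullback.snd v g₁ ≫ g₂ := pullback.condition
    have := he (pullback.snd v (pullback.snd v g₁ ≫ g₂) ≫ pullback.fst v g₁)
      (pullback.fst v (pullback.snd v g₁ ≫ g₂)) (by
        rw [Category.assoc, reassoc_of% c1, reassoc_of% c2, h])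
    rw [Category.assoc, reassoc_of% c1, reassoc_of% c2] at this
    exact this)
  exact ⟨d, by rw [Category.assoc]⟩

/-- S5205 -/
lemma UEE.comp {U T S : C} {v : U ⟶ T} {u : T ⟶ S} (hu : UEE C u) (hv : UEE C v) : UEE C (v ≫ u) := by
  intro X' Z' i₁ i₂ f' H
  have hw := H.w.trans (Category.assoc _ _ _).symm
  have h1 : UEE C (pullback.fst i₂ u) := hu.baseChange (IsPullback.of_hasPullback i₂ u)
  have h2 : UEE C (pullback.lift f' (i₁ ≫ v) hw) := by
    have e := pullback.lift_fst _ _ hw
    rw [← e] at H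
    exact hv.baseChange (H.of_right (pullback.lift_snd _ _ _) (IsPullback.of_hasPullback i₂ u))
  have e := pullback.lift_fst _ _ hw
  rw [← e]
  have := h1.effectiveEpi
  have := h2.effectiveEpi
  exact effectiveEpi_comp _ _ h2.univEpi

lemma effectiveEpi_of_comp {U T S : C} (v : U ⟶ T) (u : T ⟶ S) (h : UEE C (v ≫ u)) :
    EffectiveEpi u := by
  have := h.epi
  have : Epi u := epi_of_epi v u
  refine effEpi_mk _ ?_
  intro W e he
  have := h.effectiveEpi
  obtain ⟨d, hd⟩ := effEpi_desc (v ≫ u) (v ≫ e) (by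
    intro Z g₁ g₂ h
    have := he (g₁ ≫ v) (g₂ ≫ v) (by simpa using h)
    simpa using this)
  refine ⟨d, ?_⟩
  have e1 : Epi (pullback.snd (v ≫ u) u) := (h.baseChange (IsPullback.of_hasPullback (v ≫ u) u).flip).epi
  rw [← cancel_epi (pullback.snd (v ≫ u) u)]
  have c : pullback.fst (v ≫ u) u ≫ v ≫ u = pullback.snd (v ≫ u) u ≫ u := pullback.condition
  have h2 := he (pullback.fst (v ≫ u) u ≫ v) (pullback.snd (v ≫ u) u) (by rw [Category.assoc, c])
  rw [← reassoc_of% c, ← h2, Category.assoc, ← hd]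
  simp

/-- S5206 -/
lemma UEE.of_comp {U T S : C} {v : U ⟶ T} {u : T ⟶ S} (h : UEE C (v ≫ u)) : UEE C u := by
  intro X' Y' i₁ i₂ f' H
  have h1 : IsPullback (pullback.snd v i₁) (pullback.fst v i₁) i₁ v := (IsPullback.of_hasPullback v i₁).flip
  have h2 := h1.paste_horiz H
  exact effectiveEpi_of_comp _ _ (h.baseChange h2)

/-- S5207 -/
lemma UEE.iff_baseChange {S' S T : C} (g : S' ⟶ S) (hg : UEE C g) (u : T ⟶ S) :
    UEE C u ↔ UEE C (pullback.snd u g) := by
  constructor
  · intro h
    exact h.baseChange (IsPullback.of_hasPullback u g).flip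
  · intro h
    have : UEE C (pullback.snd u g ≫ g) := hg.comp h
    rw [← pullback.condition] at this
    exact this.of_comp

lemma UEE.isIso_of_mono {X Y : C} {f : X ⟶ Y} (hf : EffectiveEpi f) [Mono f] : IsIso f := by
  obtain ⟨d, hd⟩ := effEpi_desc f (𝟙 X) (by
    intro Z g₁ g₂ h
    rw [cancel_mono] at h
    rw [h])
  exact ⟨d, hd, by rw [← cancel_epi f, reassoc_of% hd, Category.comp_id]⟩

/-- kernel pair test for mono -/
lemma mono_of_kernel {X B Z : C} {π : X ⟶ B} (hπ : UEE C π) (g : B ⟶ Z)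
    (h : ∀ {W : C} (a b : W ⟶ X), a ≫ π ≫ g = b ≫ π ≫ g → a ≫ π = b ≫ π) : Mono g := by
  constructor
  intro W a b hab
  have e1 : Epi (pullback.snd π a) := (hπ.baseChange (IsPullback.of_hasPullback π a).flip).epi
  have e2 : Epi (pullback.snd π (pullback.snd π a ≫ b)) :=
      (hπ.baseChange (IsPullback.of_hasPullback π (pullback.snd π a ≫ b)).flip).epi
  rw [← cancel_epi (pullback.snd π a), ← cancel_epi (pullback.snd π (pullback.snd π a ≫ b))]
  have c1 : pullback.fst π a ≫ π = pullback.snd π a ≫ a := pullback.condition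
  have c2 : pullback.fst π (pullback.snd π a ≫ b) ≫ π =
      pullback.snd π (pullback.snd π a ≫ b) ≫ pullback.snd π a ≫ b := pullback.condition
  have := h (pullback.snd π (pullback.snd π a ≫ b) ≫ pullback.fst π a) (pullback.fst π (pullback.snd π a ≫ b)) (by
    rw [Category.assoc, reassoc_of% c1, reassoc_of% c2, hab])
  rw [Category.assoc, c1, c2] at this
  exact this

/-- S5211 -/
lemma mono_of_isIso_mapDesc {S' S T : C} (f : S' ⟶ S) (hf : UEE C f) (g : S ⟶ T)
    [IsIso (pullback.mapDesc f f g)] : Mono g := by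
  apply mono_of_kernel hf g
  intro W a b h
  let c : W ⟶ pullback (f ≫ g) (f ≫ g) := pullback.lift a b h
  have h1 : (c ≫ inv (pullback.mapDesc f f g)) ≫ pullback.fst f f = a := by
    have : pullback.mapDesc f f g ≫ pullback.fst (f ≫ g) (f ≫ g) = pullback.fst f f :=
      (pullback.lift_fst _ _ _).trans (Category.comp_id _)
    rw [← this, Category.assoc, IsIso.inv_hom_id_assoc]
    exact pullback.lift_fst _ _ _
  have h2 : (c ≫ inv (pullback.mapDesc f f g)) ≫ pullback.snd f f = b := by
    have : pullback.mapDesc f f g ≫ pullback.snd (f ≫ g) (f ≫ g) = pullback.snd f f :=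
      (pullback.lift_snd _ _ _).trans (Category.comp_id _)
    rw [← this, Category.assoc, IsIso.inv_hom_id_assoc]
    exact pullback.lift_snd _ _ _
  rw [← h1, ← h2, Category.assoc, Category.assoc, pullback.condition]
  simp

/-- S5215 -/
lemma mono_iff_isKernelPair {R X Z : C} {p₁ p₂ : R ⟶ X} (e : UniversallyEffectiveEquivalenceRelation p₁ p₂)
    (f : X ⟶ Z) (g : e.B ⟶ Z) (hg : e.π ≫ g = f) :
    Mono g ↔ IsKernelPair f p₁ p₂ := by
  subst hg
  constructor
  · intro _
    exact e.isKernelPair.comp_of_mono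
  · intro h
    apply mono_of_kernel e.universally_effectiveEpi_π g
    intro W a b hab
    obtain ⟨l, rfl, rfl⟩ := h.exists_lift a b hab
    rw [Category.assoc, Category.assoc, e.isKernelPair.w]

/-- S5208 -/
lemma presheaf_exact {C : Type u₁} [Category.{v₁} C]
    {T S : C} (u : T ⟶ S) [IsSplitEpi u] [HasPullback u u] (F : Cᵒᵖ ⥤ Type w) :
    Function.Injective (F.map u.op) ∧
      ∀ y : F.obj (Opposite.op T),
        F.map (pullback.fst u u).op y = F.map (pullback.snd u u).op y →
          y ∈ Set.range (F.map u.op) := by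
  have hs : section_ u ≫ u = 𝟙 S := IsSplitEpi.id u
  constructor
  · intro x y h
    have : ∀ x, F.map (section_ u).op (F.map u.op x) = x := by
      intro x
      rw [← Functor.map_comp_apply, ← op_comp, hs]; simp
    rw [← this x, h, this]
  · intro y hy
    refine ⟨F.map (section_ u).op y, ?_⟩
    have h1 := congrArg (F.map (pullback.lift (u ≫ section_ u) (𝟙 T) (by simp) : T ⟶ pullback u u).op) hy
    rw [← Functor.map_comp_apply, ← Functor.map_comp_apply, ← op_comp, ← op_comp, pullback.lift_fst, pullback.lift_snd] at h1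
    rw [← Functor.map_comp_apply, ← op_comp, h1]; simp

/-- S5210 -/
lemma nonempty_hom_iff {S' S : C} (f : S' ⟶ S) (hf : UEE C f) (X Y : Over S) [Mono Y.hom] :
    Nonempty (X ⟶ Y) ↔ Nonempty ((Over.pullback f).obj X ⟶ (Over.pullback f).obj Y) := by
  constructor
  · rintro ⟨g⟩; exact ⟨(Over.pullback f).map g⟩
  · rintro ⟨g⟩
    have hp : UEE C (pullback.fst X.hom f) := hf.baseChange (IsPullback.of_hasPullback X.hom f)
    have := hp.effectiveEpi
    let e : pullback X.hom f ⟶ Y.left := g.left ≫ pullback.fst Y.hom f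
    have he : e ≫ Y.hom = pullback.fst X.hom f ≫ X.hom := by
      have h1 : g.left ≫ pullback.snd Y.hom f = pullback.snd X.hom f := Over.w g
      rw [Category.assoc, pullback.condition, ← Category.assoc, h1, pullback.condition]
    obtain ⟨d, hd⟩ := effEpi_desc (pullback.fst X.hom f) e (by
      intro Z g₁ g₂ h
      rw [← cancel_mono Y.hom, Category.assoc, he, Category.assoc, he, reassoc_of% h])
    refine ⟨Over.homMk d ?_⟩
    have : Epi (pullback.fst X.hom f) := hp.epi
    rw [← cancel_epi (pullback.fst X.hom f), reassoc_of% hd, he]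

/-- S5209 -/
lemma isIso_iff_mono_iff {S' S : C} (f : S' ⟶ S) (hf : UEE C f) {X Y : Over S} (g : X ⟶ Y) :
    (IsIso g ↔ IsIso ((Over.pullback f).map g)) ∧ (Mono g ↔ Mono ((Over.pullback f).map g)) := by
  have hX : UEE C (pullback.fst X.hom f) := hf.baseChange (IsPullback.of_hasPullback X.hom f)
  have hY : UEE C (pullback.fst Y.hom f) := hf.baseChange (IsPullback.of_hasPullback Y.hom f)
  have hl : ((Over.pullback f).map g).left ≫ pullback.fst Y.hom f = pullback.fst X.hom f ≫ g.left := by
    exact pullback.lift_fst _ _ _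
  have : (Over.pullback f).Faithful := by
    constructor
    intro A B a b hab
    have hA : UEE C (pullback.fst A.hom f) := hf.baseChange (IsPullback.of_hasPullback A.hom f)
    have := hA.epi
    have h1 : ((Over.pullback f).map a).left ≫ pullback.fst B.hom f = pullback.fst A.hom f ≫ a.left := by
      exact pullback.lift_fst _ _ _
    have h2 : ((Over.pullback f).map b).left ≫ pullback.fst B.hom f = pullback.fst A.hom f ≫ b.left := by
      exact pullback.lift_fst _ _ _
    apply Over.OverMorphism.ext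
    rw [← cancel_epi (pullback.fst A.hom f), ← h1, ← h2, hab]
  have hpm : (Over.pullback f).PreservesMonomorphisms :=
    Functor.preservesMonomorphisms_of_adjunction (Over.mapPullbackAdj f)
  have hmono : Mono ((Over.pullback f).map g) → Mono g := fun h =>
    (Over.pullback f).mono_of_mono_map h
  refine ⟨⟨fun _ => inferInstance, ?_⟩, ⟨fun _ => (Over.pullback f).map_mono g, hmono⟩⟩
  intro h
  have hm := hmono inferInstance
  have : IsIso ((Over.forget _).map ((Over.pullback f).map g)) := inferInstance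
  have h0 : IsIso ((Over.pullback f).map g).left := this
  have h1 : UEE C (((Over.pullback f).map g).left ≫ pullback.fst Y.hom f) :=
    (MorphismProperty.cancel_left_of_respectsIso (UEE C) _ _).mpr hY
  rw [hl] at h1
  have h2 := (h1.of_comp).effectiveEpi
  have h5 : Mono g.left := by
    constructor
    intro W a b hab
    have hw : b ≫ X.hom = a ≫ X.hom := by
      rw [← Over.w g, ← Category.assoc, ← Category.assoc, hab]
    let a' : Over.mk (a ≫ X.hom) ⟶ X := Over.homMk a rfl
    let b' : Over.mk (a ≫ X.hom) ⟶ X := Over.homMk b hw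
    have : a' = b' := by
      rw [← cancel_mono g]
      apply Over.OverMorphism.ext
      exact hab
    exact congrArg (fun k => k.left) this
  have h3 : IsIso g.left := UEE.isIso_of_mono h2
  have : IsIso ((Over.forget _).map g) := h3
  exact isIso_of_reflects_iso g (Over.forget _)

/-- S5214 -/
lemma UEE.prodMap [HasBinaryProducts C] {X Y X' Y' : C} {u : X ⟶ Y} {u' : X' ⟶ Y'}
    (hu : UEE C u) (hu' : UEE C u') : UEE C (prod.map u u') := by
  have h : prod.map u u' = prod.map u (𝟙 X') ≫ prod.map (𝟙 Y) u' := by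
    rw [prod.map_map, Category.comp_id, Category.id_comp]
  rw [h]
  refine UEE.comp (hu'.baseChange (i₁ := prod.snd) (i₂ := prod.snd) ?_) (hu.baseChange (i₁ := prod.fst) (i₂ := prod.fst) ?_)
  · refine ⟨⟨prod.map_snd _ _⟩, ⟨PullbackCone.IsLimit.mk _ (fun s => prod.lift (s.fst ≫ prod.fst) s.snd) ?_ ?_ ?_⟩⟩
    · intro s
      have := s.condition
      apply Limits.prod.hom_ext
      · rw [Category.assoc, prod.map_fst, ← Category.assoc, prod.lift_fst, Category.comp_id]
      · rw [Category.assoc, prod.map_snd, ← Category.assoc, prod.lift_snd, ← this]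
    · intro s; rw [prod.lift_snd]
    · intro s m h1 h2
      apply Limits.prod.hom_ext
      · rw [prod.lift_fst, ← h1, Category.assoc, prod.map_fst, Category.comp_id]
      · rw [prod.lift_snd, h2]
  · refine ⟨⟨prod.map_fst _ _⟩, ⟨PullbackCone.IsLimit.mk _ (fun s => prod.lift s.snd (s.fst ≫ prod.snd)) ?_ ?_ ?_⟩⟩
    · intro s
      have := s.condition
      apply Limits.prod.hom_ext
      · rw [Category.assoc, prod.map_fst, ← Category.assoc, prod.lift_fst, ← this]
      · rw [Category.assoc, prod.map_snd, ← Category.assoc, prod.lift_snd, Category.comp_id]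
    · intro s; rw [prod.lift_fst]
    · intro s m h1 h2
      apply Limits.prod.hom_ext
      · rw [prod.lift_fst, h2]
      · rw [prod.lift_snd, ← h1, Category.assoc, prod.map_snd, Category.comp_id]

/-- S5229 -/
lemma isKernelPair_prodMap [HasBinaryProducts C]
    {R X Q R' X' Q' : C} {p₁ p₂ : R ⟶ X} {p₁' p₂' : R' ⟶ X'} {π : X ⟶ Q} {π' : X' ⟶ Q'}
    (h : IsKernelPair π p₁ p₂) (h' : IsKernelPair π' p₁' p₂') :
    IsKernelPair (prod.map π π') (prod.map p₁ p₁') (prod.map p₂ p₂') := by
  refine ⟨⟨by rw [prod.map_map, prod.map_map, h.w, h'.w]⟩, ⟨PullbackCone.IsLimit.mk _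
    (fun s => prod.lift (h.lift (s.fst ≫ prod.fst) (s.snd ≫ prod.fst) ?_)
      (h'.lift (s.fst ≫ prod.snd) (s.snd ≫ prod.snd) ?_)) ?_ ?_ ?_⟩⟩
  · have := congrArg (· ≫ prod.fst) s.condition
    simpa only [Category.assoc, prod.map_fst] using this
  · have := congrArg (· ≫ prod.snd) s.condition
    simpa only [Category.assoc, prod.map_snd] using this
  · intro s
    apply Limits.prod.hom_ext
    · rw [prod.lift_map, prod.lift_fst, h.lift_fst]
    · rw [prod.lift_map, prod.lift_snd, h'.lift_fst]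
  · intro s
    apply Limits.prod.hom_ext
    · rw [prod.lift_map, prod.lift_fst, h.lift_snd]
    · rw [prod.lift_map, prod.lift_snd, h'.lift_snd]
  · intro s m h1 h2
    apply Limits.prod.hom_ext
    · rw [prod.lift_fst]
      apply h.hom_ext
      · rw [h.lift_fst, ← h1, Category.assoc, Category.assoc, prod.map_fst]
      · rw [h.lift_snd, ← h2, Category.assoc, Category.assoc, prod.map_fst]
    · rw [prod.lift_snd]
      apply h'.hom_ext
      · rw [h'.lift_fst, ← h1, Category.assoc, Category.assoc, prod.map_snd]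
      · rw [h'.lift_snd, ← h2, Category.assoc, Category.assoc, prod.map_snd]

end Groth.Agent.H8Desc
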