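import Mathlib.CategoryTheory.Monoidal.Cartesian.Grp
import Mathlib.CategoryTheory.Monoidal.Grp
import Mathlib.CategoryTheory.Monoidal.Cartesian.Basic
import Mathlib.CategoryTheory.Limits.Shapes.Pullback.HasPullback
import Mathlib.CategoryTheory.Limits.Shapes.KernelPair

set_option autoImplicit false

namespace Groth.Agent.H8Grp

open CategoryTheory CategoryTheory.Limits MonoidalCategory
open MonObj CartesianMonoidalCategory SemiCartesianMonoidalCategory

universe v₁ u₁

lemma kernelPair {C : Type u₁} [Category.{v₁} C]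
    [CartesianMonoidalCategory C] [HasPullbacks C]
    {G G' : C} [GrpObj G] [GrpObj G'] (f : G ⟶ G') [IsMonHom f] :
    IsKernelPair f (fst G (pullback f η[G']))
      ((G ◁ pullback.fst f η[G']) ≫ μ[G]) := by
  have e1 : (G ◁ pullback.fst f η[G']) ≫ μ[G] =
      fst G (pullback f η[G']) * (snd G (pullback f η[G']) ≫ pullback.fst f η[G']) := by
    rw [Hom.mul_def]
    congr 1
    apply CartesianMonoidalCategory.hom_ext
    · rw [whiskerLeft_fst, lift_fst]
    · rw [whiskerLeft_snd, lift_snd]
  have hc : ∀ {W : C} (k : W ⟶ pullback f η[G']), (k ≫ pullback.fst f η[G']) ≫ f = 1 := by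
    intro W k
    rw [Category.assoc, pullback.condition, ← Category.assoc, Hom.one_def]
    congr 1
    exact toUnit_unique _ _
  rw [e1]
  refine ⟨⟨?_⟩, ⟨PullbackCone.IsLimit.mk _ 
    (fun s => lift s.fst (pullback.lift (s.fst⁻¹ * s.snd) (toUnit _) ?_)) ?_ ?_ ?_⟩⟩
  · rw [MonObj.mul_comp, hc, _root_.mul_one]
  · rw [MonObj.mul_comp, GrpObj.inv_comp, s.condition, inv_mul_cancel, Hom.one_def]
  · intro s; rw [lift_fst]
  · intro s
    rw [comp_mul, lift_fst, lift_snd_assoc, pullback.lift_fst, mul_inv_cancel_left]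
  · intro s m h1 h2
    apply CartesianMonoidalCategory.hom_ext
    · rw [lift_fst, h1]
    · rw [lift_snd]
      apply pullback.hom_ext
      · rw [pullback.lift_fst]
        rw [comp_mul, h1, ← eq_inv_mul_iff_mul_eq] at h2
        rw [Category.assoc, h2]
      · exact toUnit_unique _ _

end Groth.Agent.H8Grp
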