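import Mathlib.Algebra.Category.ModuleCat.Presheaf.Abelian
import Mathlib.Algebra.Category.ModuleCat.Presheaf.Generator
import Mathlib.Algebra.Category.ModuleCat.Presheaf.Colimits
import Mathlib.Algebra.Category.ModuleCat.Presheaf.Limits
import Mathlib.CategoryTheory.Abelian.Injective.Basic
import Mathlib.CategoryTheory.Abelian.GrothendieckCategory.EnoughInjectives
import Mathlib.CategoryTheory.Abelian.GrothendieckAxioms.FunctorCategory
import Mathlib.Algebra.Category.Grp.AB
import Mathlib.CategoryTheory.Functor.ReflectsIso.Balanced

set_option autoImplicit false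

namespace Groth.Agent.H8PMod

open CategoryTheory CategoryTheory.Limits

universe u

lemma enoughInj (C : Type u) [SmallCategory C] (O : Cᵒᵖ ⥤ RingCat.{u}) :
    EnoughInjectives (PresheafOfModules.{u} O) := by
  have hsep : HasSeparator (PresheafOfModules.{u} O) :=
    ⟨⟨_, (PresheafOfModules.freeYoneda.isSeparating (R := O)).isSeparator_coproduct⟩⟩
  have hcol : HasColimitsOfSize.{u, u} (PresheafOfModules.{u} O) := inferInstance
  have : (PresheafOfModules.toPresheaf.{u} O).ReflectsIsomorphisms :=
    inferInstance
  have hgr : IsGrothendieckAbelian.{u} (PresheafOfModules.{u} O) :=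
    { locallySmall := inferInstance
      hasFilteredColimitsOfSize := inferInstance
      ab5OfSize := ⟨fun J _ _ => by
        have : HasExactColimitsOfShape J (Cᵒᵖ ⥤ Ab.{u}) := inferInstance
        have : ReflectsFiniteLimits (PresheafOfModules.toPresheaf O) :=
          ⟨fun K _ _ => reflectsLimitsOfShape_of_reflectsIsomorphisms⟩
        exact HasExactColimitsOfShape.domain_of_functor J (PresheafOfModules.toPresheaf O)⟩
      hasSeparator := hsep }
  infer_instance

end Groth.Agent.H8PMod
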