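import Groth.Agent.Lib.H8RootDA

set_option autoImplicit false
set_option linter.unusedSectionVars false

namespace Groth.Agent.H8RootD

open RootPairing Set RootD

variable {ι M N : Type*} [AddCommGroup M] [AddCommGroup N] (P : RootPairing ι ℤ M N)

section form
variable [Fintype ι]

lemma two_mul_rootForm (x : M) (j : ι) :
    2 * P.RootForm x (P.root j) = P.RootForm (P.root j) (P.root j) * P.coroot' j x := by
  have h := P.rootForm_self_smul_coroot j
  have h2 := congrArg (fun n => P.toLinearMap x n) h
  simp only [map_smul, map_nsmul, smul_eq_mul] at h2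
  rw [P.toLinearMap_apply_apply_Polarization] at h2
  have h3 : P.RootForm (P.root j) x = P.RootForm x (P.root j) := by
    rw [P.rootForm_apply_apply, P.rootForm_apply_apply]
    exact Finset.sum_congr rfl fun i _ => mul_comm _ _
  rw [h3] at h2
  simp only [nsmul_eq_mul, Nat.cast_ofNat] at h2
  rw [← h2]; rfl

lemma rootForm_symm (x y : M) : P.RootForm x y = P.RootForm y x := by
  rw [P.rootForm_apply_apply, P.rootForm_apply_apply]
  exact Finset.sum_congr rfl fun i _ => mul_comm _ _

lemma rootForm_root_pos (j : ι) : 0 < P.RootForm (P.root j) (P.root j) := by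
  rw [P.rootForm_root_self]
  exact Finset.sum_pos' (fun i _ => mul_self_nonneg _) ⟨j, Finset.mem_univ _, by simp⟩

lemma rootForm_self_nonneg (x : M) : 0 ≤ P.RootForm x x := by
  rw [P.rootForm_apply_apply]
  exact Finset.sum_nonneg fun i _ => mul_self_nonneg _

lemma eq_zero_of_rootForm_self {x : M} (hx : x ∈ Submodule.span ℤ (range P.root))
    (h : P.RootForm x x = 0) : x = 0 := by
  by_contra hne
  have hpd := P.posRootForm_rootFormIn_posDef ℤ
  have := hpd ⟨x, hx⟩ (by simpa [Subtype.ext_iff] using hne)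
  have h2 : (P.RootFormIn ℤ ⟨x, hx⟩ ⟨x, hx⟩) = P.RootForm x x := by
    have := P.algebraMap_rootFormIn ℤ ⟨x, hx⟩ ⟨x, hx⟩
    simpa using this
  simp only [LinearMap.BilinMap.toQuadraticMap_apply] at this
  omega

lemma rootForm_le_zero {i j : ι} (h : P.pairing i j ≤ 0) :
    P.RootForm (P.root i) (P.root j) ≤ 0 := by
  have h1 := two_mul_rootForm P (P.root i) j
  have h2 := rootForm_root_pos P j
  have h3 : P.coroot' j (P.root i) = P.pairing i j := rfl
  rw [h3] at h1
  nlinarith

end form

section fin
variable [Finite ι]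

/-- indecomposable elements -/
def Indec (S : Set ι) : Set ι := {k | k ∈ S ∧ ∀ i ∈ S, ∀ j ∈ S, P.root k ≠ P.root i + P.root j}

lemma indec_subset (S : Set ι) : Indec P S ⊆ S := fun _ h => h.1

lemma root_mem_natSpan_indec {S : Set ι} (h1 : ∀ i ∈ S, P.reflectionPerm i i ∉ S)
    (hcl : IsClosedSub P S) :
    ∀ k ∈ S, P.root k ∈ natSpan P (Indec P S) := by
  let r : ι → ι → Prop := fun i k => ∃ j ∈ S, ∃ y ∈ natSpan P S,
    P.root k = P.root i + (P.root j + y)
  have hwf : WellFounded r := by
    have : IsTrans ι r := ⟨by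
      rintro a b c ⟨j, hj, y, hy, e⟩ ⟨j', hj', y', hy', e'⟩
      exact ⟨j, hj, y + (P.root j' + y'),
        add_mem hy (add_mem (root_mem_natSpan P hj') hy'), by rw [e', e]; abel⟩⟩
    have : Std.Irrefl r := ⟨by
      rintro a ⟨j, hj, y, hy, e⟩
      exact nonneg_sum_ne_zero P h1 hcl hj hy (by simpa using e)⟩
    exact Finite.wellFounded_of_trans_of_irrefl r
  intro k
  induction k using hwf.induction with
  | _ k ih =>
    intro hk
    by_cases hind : k ∈ Indec P S
    · exact root_mem_natSpan P hind
    · simp only [Indec, mem_ofPred_eq, hk, true_and] at hind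
      push Not at hind
      obtain ⟨i, hi, j, hj, e⟩ := hind
      rw [e]
      exact add_mem (ih i ⟨j, hj, 0, zero_mem _, by simpa using e⟩ hi)
        (ih j ⟨i, hi, 0, zero_mem _, by rw [e]; abel⟩ hj)

lemma indec_pairing_le_zero {S : Set ι} (h2 : ∀ i, i ∈ S ∨ P.reflectionPerm i i ∈ S) {i j : ι}
    (hi : i ∈ Indec P S) (hj : j ∈ Indec P S) (hne : i ≠ j) : P.pairing i j ≤ 0 := by
  by_contra hcon
  push Not at hcon
  obtain ⟨k, hk⟩ := exists_sub P hcon hne
  rcases h2 k with h | h
  · exact hi.2 j hj.1 k h (by rw [hk]; abel)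
  · exact hj.2 i hi.1 _ h (by rw [root_neg, hk]; abel)

lemma sum_mem_natSpan {Δ : Set ι} [Fintype Δ] (p : Δ → ℤ) (hp : ∀ i, 0 ≤ p i) :
    ∑ i, p i • P.root i ∈ natSpan P Δ := by
  apply sum_mem
  intro i _
  obtain ⟨n, hn⟩ := Int.eq_ofNat_of_zero_le (hp i)
  rw [hn, natCast_zsmul]
  exact AddSubmonoid.nsmul_mem _ (root_mem_natSpan P i.2) _

/-- a pairwise-obtuse set of roots with no nontrivial nonnegative relation is independent -/
lemma linearIndepOn_of_obtuse {Δ : Set ι}
    (hob : ∀ i ∈ Δ, ∀ j ∈ Δ, i ≠ j → P.pairing i j ≤ 0)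
    (hpos : ∀ i ∈ Δ, ∀ y ∈ natSpan P Δ, P.root i + y ≠ 0) :
    LinearIndepOn ℤ P.root Δ := by
  classical
  have : Fintype ι := Fintype.ofFinite ι
  have : Fintype Δ := Fintype.ofFinite Δ
  have key : ∀ p : Δ → ℤ, (∀ i, 0 ≤ p i) → ∑ i, p i • P.root i = 0 → ∀ i, p i = 0 := by
    intro p hp h0 i
    by_contra hne
    have hpi : 0 < p i := lt_of_le_of_ne (hp i) (Ne.symm hne)
    let p' : Δ → ℤ := fun j => p j - if j = i then 1 else 0
    have hp' : ∀ j, 0 ≤ p' j := by
      intro j
      simp only [p']
      split_ifs with h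
      · subst h; omega
      · have := hp j; omega
    refine hpos i i.2 _ (sum_mem_natSpan P p' hp') ?_
    have : ∑ j, p' j • P.root j = ∑ j, p j • P.root j - P.root i := by
      simp only [p', sub_smul, Finset.sum_sub_distrib, ite_smul, one_smul, zero_smul,
        Finset.sum_ite_eq', Finset.mem_univ, if_true]
    rw [this, h0]; abel
  rw [LinearIndepOn, Fintype.linearIndependent_iff]
  intro g hg
  let p : Δ → ℤ := fun i => max (g i) 0
  let q : Δ → ℤ := fun i => max (-g i) 0
  have hp : ∀ i, 0 ≤ p i := fun i => le_max_right _ _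
  have hq : ∀ i, 0 ≤ q i := fun i => le_max_right _ _
  have hpq : ∀ i, g i = p i - q i := by
    intro i; simp only [p, q]; omega
  have hpq0 : ∀ i, p i * q i = 0 := by
    intro i
    simp only [p, q]
    rcases le_total (g i) 0 with h | h
    · rw [max_eq_right h, zero_mul]
    · rw [max_eq_right (by omega : -g i ≤ 0), mul_zero]
  have hsum : ∑ i, p i • P.root i = ∑ i, q i • P.root i := by
    have : ∑ i, (p i - q i) • P.root i = 0 := by
      rw [← hg]; exact Finset.sum_congr rfl fun i _ => by rw [hpq i]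
    simp only [sub_smul, Finset.sum_sub_distrib] at this
    exact sub_eq_zero.mp this
  have hx : P.RootForm (∑ i, p i • P.root i) (∑ i, p i • P.root i) ≤ 0 := by
    conv_lhs => rw [hsum]
    rw [← hsum]
    conv_lhs => arg 2; rw [hsum]
    simp only [map_sum, map_smul, LinearMap.sum_apply, LinearMap.smul_apply, smul_eq_mul]
    apply Finset.sum_nonpos
    intro i _
    rw [Finset.mul_sum]
    apply Finset.sum_nonpos
    intro j _
    by_cases hij : i = j
    · subst hij
      have h0 := hpq0 i
      have h9 : ∀ X : ℤ, q i * (p i * X) ≤ 0 := by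
        intro X
        rw [show q i * (p i * X) = (p i * q i) * X by ring, h0, zero_mul]
      exact h9 _
    · have h1 : P.RootForm (P.root j) (P.root i) ≤ 0 :=
        rootForm_le_zero P (hob j j.2 i i.2 (fun h => hij (Subtype.ext h.symm)))
      have h2 := hp i
      have h3 := hq j
      have h4 := hp j
      have h5 := hq i
      have h6 := mul_nonneg h2 h3
      have h7 := mul_nonneg h4 h5
      nlinarith
  have hx0 : (∑ i, p i • P.root i) = 0 := by
    apply eq_zero_of_rootForm_self P
    · apply Submodule.sum_mem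
      intro i _
      exact Submodule.smul_mem _ _ (Submodule.subset_span ⟨i, rfl⟩)
    · exact le_antisymm hx (rootForm_self_nonneg P _)
  intro i
  have h1 := key p hp hx0 i
  have h2 := key q hq (by rw [← hsum]; exact hx0) i
  rw [hpq i, h1, h2]; rfl

lemma isSimpleSys_indec {S : Set ι} (h1 : ∀ i ∈ S, P.reflectionPerm i i ∉ S)
    (h2 : ∀ i, i ∈ S ∨ P.reflectionPerm i i ∈ S) (hcl : IsClosedSub P S) :
    IsSimpleSys P (Indec P S) := by
  constructor
  · apply linearIndepOn_of_obtuse
    · intro i hi j hj hne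
      exact indec_pairing_le_zero P h2 hi hj hne
    · intro i hi y hy
      exact nonneg_sum_ne_zero P h1 hcl hi.1 (natSpan_mono P (indec_subset P S) hy)
  · intro i
    rcases h2 i with h | h
    · left; exact root_mem_natSpan_indec P h1 hcl i h
    · right
      have := root_mem_natSpan_indec P h1 hcl _ h
      rwa [root_neg] at this

end fin

end Groth.Agent.H8RootD
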