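import Groth.Agent.Lib.H8RootDB
import Mathlib.Algebra.Category.Grp.Injective
import Mathlib.Algebra.Module.Injective

set_option autoImplicit false
set_option linter.unusedSectionVars false

namespace Groth.Agent.H8RootD

open RootPairing Set RootD

variable {ι M N : Type*} [AddCommGroup M] [AddCommGroup N] (P : RootPairing ι ℤ M N)

lemma exists_hom {Δ : Set ι} (hli : LinearIndepOn ℤ P.root Δ) (c : ι → ℚ) :
    ∃ f : M →+ ℚ, ∀ i ∈ Δ, f (P.root i) = c i := by
  have hli' : LinearIndependent ℤ (fun i : Δ => P.root i) := hli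
  let g0 : Submodule.span ℤ (range (fun i : Δ => P.root i)) →ₗ[ℤ] ℚ :=
    (Finsupp.linearCombination ℤ (fun i : Δ => c i)) ∘ₗ hli'.repr
  obtain ⟨f, hf⟩ := (Module.Baer.of_divisible ℚ).extension_property_addMonoidHom
    (Submodule.span ℤ (range (fun i : Δ => P.root i))).subtype.toAddMonoidHom
    (Submodule.injective_subtype _) g0.toAddMonoidHom
  refine ⟨f, fun i hi => ?_⟩
  have h1 : P.root i ∈ Submodule.span ℤ (range (fun i : Δ => P.root i)) :=
    Submodule.subset_span ⟨⟨i, hi⟩, rfl⟩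
  have h2 := DFunLike.congr_fun hf ⟨P.root i, h1⟩
  have h3 : g0 ⟨P.root i, h1⟩ = c i := by
    simp only [g0, LinearMap.comp_apply]
    have : hli'.repr ⟨P.root i, h1⟩ = Finsupp.single ⟨i, hi⟩ 1 :=
      hli'.repr_eq_single ⟨i, hi⟩ ⟨P.root i, h1⟩ rfl
    change Finsupp.linearCombination ℤ (fun i : Δ => c i) (hli'.repr ⟨P.root i, h1⟩) = c i
    rw [this]
    simp
  rw [← h3]
  exact h2

lemma hom_multiset {G : Type*} [AddCommMonoid G] (f : M →+ G) (s : Multiset ι) :
    f ((s.map P.root).sum) = (s.map (fun i => f (P.root i))).sum := by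
  rw [map_multiset_sum, Multiset.map_map]; rfl

lemma hom_natSpan_nonneg {G : Type*} [AddCommMonoid G] [PartialOrder G] [IsOrderedAddMonoid G]
    {Δ : Set ι} {f : M →+ G} (hf : ∀ i ∈ Δ, 0 ≤ f (P.root i)) {y : M}
    (hy : y ∈ natSpan P Δ) : 0 ≤ f y := by
  obtain ⟨s, hs, rfl⟩ := (mem_natSpan_iff P).mp hy
  rw [hom_multiset]
  apply Multiset.sum_nonneg
  intro x hx
  obtain ⟨j, hj, rfl⟩ := Multiset.mem_map.mp hx
  exact hf j (hs j hj)

lemma mem_natSpan_sub {Δ Δ' : Set ι} {g : M →+ ℚ}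
    (hg : ∀ i ∈ Δ, i ∉ Δ' → 0 < g (P.root i)) (hg' : ∀ i ∈ Δ', g (P.root i) = 0)
    {y : M} (hy : y ∈ natSpan P Δ) (h0 : g y = 0) : y ∈ natSpan P Δ' := by
  obtain ⟨s, hs, rfl⟩ := (mem_natSpan_iff P).mp hy
  rw [mem_natSpan_iff]
  refine ⟨s, ?_, rfl⟩
  rw [hom_multiset] at h0
  have h1 : ∀ x ∈ s.map (fun i => g (P.root i)), x = 0 := by
    apply Multiset.all_zero_of_le_zero_le_of_sum_eq_zero _ h0
    intro x hx
    obtain ⟨j, hj, rfl⟩ := Multiset.mem_map.mp hx
    by_cases hj' : j ∈ Δ'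
    · rw [hg' j hj']
    · exact (hg j (hs j hj) hj').le
  intro j hj
  by_contra hj'
  have := hg j (hs j hj) hj'
  rw [h1 _ (Multiset.mem_map_of_mem _ hj)] at this
  exact lt_irrefl _ this

lemma natSpan_eq_zero_or {Δ : Set ι} {f : M →+ ℚ} (hf : ∀ i ∈ Δ, f (P.root i) = 1) {y : M}
    (hy : y ∈ natSpan P Δ) : y = 0 ∨ 1 ≤ f y := by
  obtain ⟨s, hs, rfl⟩ := (mem_natSpan_iff P).mp hy
  rcases Multiset.empty_or_exists_mem s with h | ⟨j, hj⟩
  · left; rw [h]; simp
  · right
    classical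
    rw [← Multiset.cons_erase hj, Multiset.map_cons, Multiset.sum_cons, map_add,
      hf j (hs j hj)]
    have : 0 ≤ f (((s.erase j).map P.root).sum) := by
      apply hom_natSpan_nonneg P (Δ := Δ) (fun i hi => by rw [hf i hi]; norm_num)
      rw [mem_natSpan_iff]
      exact ⟨_, fun i hi => hs i (Multiset.mem_of_mem_erase hi), rfl⟩
    linarith

lemma natSpan_hom_pos {Δ : Set ι} {f : M →+ ℚ} (hf : ∀ i ∈ Δ, f (P.root i) = 1) {y : M}
    (hy : y ∈ natSpan P Δ) (h0 : y ≠ 0) : 1 ≤ f y :=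
  (natSpan_eq_zero_or P hf hy).resolve_left h0

lemma hom_span_zero {Δ' : Set ι} {g : M →+ ℚ} (hg' : ∀ i ∈ Δ', g (P.root i) = 0)
    {y : M} (hy : y ∈ Submodule.span ℤ (P.root '' Δ')) : g y = 0 := by
  induction hy using Submodule.span_induction with
  | mem x hx => obtain ⟨i, hi, rfl⟩ := hx; exact hg' i hi
  | zero => simp
  | add x y _ _ hx hy => rw [map_add, hx, hy, add_zero]
  | smul a x _ hx => rw [map_zsmul, hx, smul_zero]

section fin
variable [Finite ι]

/-- S5457 -/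
lemma isPosSys_of_hom {G : Type*} [AddCommGroup G] [PartialOrder G]
    [IsOrderedAddMonoid G] (φ : M →+ G) (hφ : ∀ i : ι, 0 < φ (P.root i) ∨ φ (P.root i) < 0) :
    IsPosSys P {i : ι | 0 < φ (P.root i)} := by
  refine ⟨?_, ?_, ?_⟩
  · intro i hi hi'
    simp only [mem_ofPred_eq, root_neg, map_neg] at hi hi'
    have : φ (P.root i) < 0 := by simpa using hi'
    exact lt_asymm hi this
  · intro i
    rcases hφ i with h | h
    · left; exact h
    · right
      simp only [mem_ofPred_eq, root_neg, map_neg]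
      simpa using h
  · intro k n hn hk
    rcases hφ k with h | h
    · exact h
    · exfalso
      have h1 : 0 ≤ φ (n • P.root k) := by
        exact hom_natSpan_nonneg P (Δ := {i : ι | 0 < φ (P.root i)}) (fun i hi => le_of_lt hi) hk
      rw [map_nsmul] at h1
      have h2 : n • φ (P.root k) < 0 := nsmul_neg h (by omega)
      exact absurd h1 (not_le_of_gt h2)

variable {P}

lemma exists_height {Δ : Set ι} (hΔ : IsSimpleSys P Δ) :
    ∃ f : M →+ ℚ, (∀ i ∈ Δ, f (P.root i) = 1) := exists_hom P hΔ.linInd _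

lemma mem_posOf {Δ : Set ι} {k : ι} : k ∈ posOf P Δ ↔ P.root k ∈ natSpan P Δ := Iff.rfl

lemma posOf_eq {Δ : Set ι} (hΔ : IsSimpleSys P Δ) {f : M →+ ℚ} (hf : ∀ i ∈ Δ, f (P.root i) = 1) :
    posOf P Δ = {i : ι | 0 < f (P.root i)} := by
  ext k
  rw [mem_posOf]
  constructor
  · intro hk
    have := natSpan_hom_pos P hf hk (root_ne_zero P k)
    simp only [mem_ofPred_eq]; linarith
  · intro hk
    rcases hΔ.mem_or_neg_mem k with h | h
    · exact h
    · exfalso
      have := natSpan_hom_pos P hf h (by simpa using root_ne_zero P k)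
      simp only [mem_ofPred_eq] at hk
      rw [map_neg] at this
      linarith

lemma isPosSys_posOf {Δ : Set ι} (hΔ : IsSimpleSys P Δ) : IsPosSys P (posOf P Δ) := by
  obtain ⟨f, hf⟩ := exists_height hΔ
  rw [posOf_eq hΔ hf]
  apply isPosSys_of_hom
  intro i
  rcases hΔ.mem_or_neg_mem i with h | h
  · left
    have := natSpan_hom_pos P hf h (root_ne_zero P i)
    linarith
  · right
    have := natSpan_hom_pos P hf h (by simpa using root_ne_zero P i)
    rw [map_neg] at this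
    linarith

lemma subset_posOf {Δ : Set ι} : Δ ⊆ posOf P Δ := fun _ hi => root_mem_natSpan P hi

lemma isPosSys_closed {S : Set ι} (hS : IsPosSys P S) : IsClosedSub P S :=
  ((isPosSys_iff P S).mp hS).2.2

lemma eq_posOf {Δ S : Set ι} (hΔ : IsSimpleSys P Δ) (hS : IsPosSys P S) (hsub : Δ ⊆ S) :
    S = posOf P Δ := by
  have h1 : posOf P Δ ⊆ S := by
    intro k hk
    apply (isClosedSub_iff P S).mp (isPosSys_closed hS)
    exact natSpan_mono P hsub hk
  apply Subset.antisymm _ h1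
  intro k hk
  rcases hΔ.mem_or_neg_mem k with h | h
  · exact h
  · exfalso
    rw [← root_neg] at h
    exact hS.disjoint hk (h1 h)

lemma eq_indec {Δ S : Set ι} (hΔ : IsSimpleSys P Δ) (hS : IsPosSys P S) (hsub : Δ ⊆ S) :
    Δ = Indec P S := by
  have hSe := eq_posOf hΔ hS hsub
  obtain ⟨f, hf⟩ := exists_height hΔ
  apply Subset.antisymm
  · intro i hi
    refine ⟨hsub hi, ?_⟩
    intro j hj k hk e
    have h1 := natSpan_hom_pos P hf (by rw [hSe] at hj; exact hj) (root_ne_zero P j)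
    have h2 := natSpan_hom_pos P hf (by rw [hSe] at hk; exact hk) (root_ne_zero P k)
    have h3 := hf i hi
    rw [e, map_add] at h3
    linarith
  · intro k hk
    have hk1 : P.root k ∈ natSpan P Δ := by
      have := hk.1; rw [hSe] at this; exact this
    have h2 : k ∈ Δ ∨ ∃ i ∈ S, ∃ j ∈ S, P.root k = P.root i + P.root j := by
      refine chain_induction P (S := Δ)
        (p := fun k => k ∈ Δ ∨ ∃ i ∈ S, ∃ j ∈ S, P.root k = P.root i + P.root j) ?_ ?_ k hk1
      · intro j hj; exact Or.inl hj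
      · intro i j k hi _ hj e
        right
        exact ⟨i, by rw [hSe]; exact hi, j, hsub hj, e⟩
    rcases h2 with h | ⟨i, hi, j, hj, e⟩
    · exact h
    · exact absurd e (hk.2 i hi j hj)

lemma isSimpleSys_indec' {S : Set ι} (hS : IsPosSys P S) : IsSimpleSys P (Indec P S) := by
  obtain ⟨h1, h2, h3⟩ := (isPosSys_iff P S).mp hS
  exact isSimpleSys_indec P h1 h2 h3

/-- S5445 -/
lemma existsUnique_simple {S : Set ι} (hS : IsPosSys P S) :
    ∃! Δ : Set ι, IsSimpleSys P Δ ∧ Δ ⊆ S := by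
  refine ⟨Indec P S, ⟨isSimpleSys_indec' hS, indec_subset P S⟩, ?_⟩
  rintro Δ ⟨h1, h2⟩
  exact eq_indec h1 hS h2

lemma posOf_inj {Δ Δ' : Set ι} (hΔ : IsSimpleSys P Δ) (hΔ' : IsSimpleSys P Δ')
    (h : posOf P Δ = posOf P Δ') : Δ = Δ' := by
  rw [eq_indec hΔ (isPosSys_posOf hΔ) subset_posOf, eq_indec hΔ' (isPosSys_posOf hΔ') subset_posOf, h]

lemma simple_pairing_le_zero {Δ : Set ι} (hΔ : IsSimpleSys P Δ) {i j : ι} (hi : i ∈ Δ) (hj : j ∈ Δ)
    (hne : i ≠ j) : P.pairing i j ≤ 0 := by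
  have hS := isPosSys_posOf hΔ
  rw [eq_indec hΔ hS subset_posOf] at hi hj
  exact indec_pairing_le_zero P hS.cover hi hj hne

lemma exists_hom_ne_zero_aux {A : Type*} [AddCommGroup A] (x : A) (hx : ∀ n : ℤ, n • x = 0 → n = 0) :
    ∃ f : A →ₗ[ℤ] ℚ, f x ≠ 0 := by
  obtain ⟨f, hf⟩ := (Module.Baer.of_divisible ℚ).extension_property_addMonoidHom
    (zmultiplesHom A x) (by
      rw [injective_iff_map_eq_zero]
      intro n hn
      exact hx n (by simpa using hn)) (Int.castAddHom ℚ)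
  refine ⟨f.toIntLinearMap, ?_⟩
  have := DFunLike.congr_fun hf 1
  simp only [AddMonoidHom.comp_apply, zmultiplesHom_apply, one_smul] at this
  simp [this]

lemma exists_hom_ne_zero {A κ : Type*} [Finite κ] [AddCommGroup A] (x : κ → A)
    (hx : ∀ i, ∀ n : ℤ, n • x i = 0 → n = 0) :
    ∃ f : A →+ ℚ, ∀ i, f (x i) ≠ 0 := by
  let ev : κ → Module.Dual ℚ (A →ₗ[ℤ] ℚ) := fun i =>
    { toFun := fun f => f (x i)
      map_add' := fun f g => rfl
      map_smul' := fun c f => rfl }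
  obtain ⟨f, hf⟩ := Module.Dual.exists_forall_ne_zero_of_forall_exists ev
    (fun i => exists_hom_ne_zero_aux (x i) (hx i))
  exact ⟨f.toAddMonoidHom, hf⟩

lemma exists_hom_vanishing (L : Submodule ℤ M) (T : Set ι)
    (hT : ∀ i ∈ T, ∀ n : ℕ, 0 < n → n • P.root i ∉ L) :
    ∃ f : M →+ ℚ, (∀ x ∈ L, f x = 0) ∧ ∀ i ∈ T, f (P.root i) ≠ 0 := by
  obtain ⟨f, hf⟩ := exists_hom_ne_zero (A := M ⧸ L) (fun i : T => L.mkQ (P.root i)) (by
    rintro ⟨i, hi⟩ n hn
    have hn' : n • P.root i ∈ L := by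
      rw [← map_smul] at hn
      exact (Submodule.Quotient.mk_eq_zero L).mp hn
    by_contra hne
    have h1 : (n.natAbs) • P.root i ∈ L := by
      rcases Int.natAbs_eq n with h | h
      · rw [h, natCast_zsmul] at hn'; exact hn'
      · rw [h, neg_smul, natCast_zsmul] at hn'; exact (neg_mem_iff).mp hn'
    exact hT i hi n.natAbs (Int.natAbs_pos.mpr hne) h1)
  refine ⟨f.comp L.mkQ.toAddMonoidHom, ?_, ?_⟩
  · intro x hx
    have : L.mkQ x = 0 := by simpa using hx
    simp only [AddMonoidHom.comp_apply, LinearMap.toAddMonoidHom_coe, this, map_zero]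
  · intro i hi
    exact hf ⟨i, hi⟩

lemma nsmul_root_ne_zero (i : ι) (n : ℕ) (hn : 0 < n) : n • P.root i ≠ 0 := by
  intro h
  have := congrArg (P.coroot' i) h
  simp at this
  omega

lemma exists_posSys : ∃ S : Set ι, IsPosSys P S := by
  obtain ⟨f, -, hf⟩ := exists_hom_vanishing (P := P) ⊥ Set.univ (by
    intro i _ n hn h
    exact nsmul_root_ne_zero i n hn (by simpa using h))
  refine ⟨_, isPosSys_of_hom P f (fun i => ?_)⟩
  rcases lt_trichotomy (f (P.root i)) 0 with h | h | h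
  · exact Or.inr h
  · exact absurd h (hf i (mem_univ _))
  · exact Or.inl h

variable (P) in
lemma exists_simple : ∃ Δ : Set ι, IsSimpleSys P Δ := by
  obtain ⟨S, hS⟩ := exists_posSys (P := P)
  exact ⟨_, isSimpleSys_indec' hS⟩

end fin

end Groth.Agent.H8RootD
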