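import Groth.Agent.Lib.H8RootDC

set_option autoImplicit false
set_option linter.unusedSectionVars false

namespace Groth.Agent.H8RootD

open RootPairing Set RootD

variable {ι M N : Type*} [AddCommGroup M] [AddCommGroup N] {P : RootPairing ι ℤ M N}

lemma root_smul (u : P.Aut) (i : ι) : P.root (u • i) = u • P.root i :=
  Equiv.root_indexEquiv_eq_smul P i u

lemma aut_ext {u v : P.Aut} (h : ∀ x : M, u • x = v • x) : u = v :=
  Equiv.weightHom_injective P (LinearEquiv.ext h)

lemma coroot'_smul (u : P.Aut) (i : ι) (x : M) : P.coroot' (u • i) (u • x) = P.coroot' i x := by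
  have h1 := RootPairing.Hom.weight_coweight_transpose_apply P P (P.coroot (u • i)) u.toHom
  have h2 := LinearMap.congr_fun h1 x
  have h3 : u.toHom.coweightMap (P.coroot (u • i)) = P.coroot i := by
    rw [RootPairing.Hom.coroot_coweightMap_apply]
    congr 1
    exact u.toHom.indexEquiv.symm_apply_apply i
  rw [h3] at h2
  exact h2

lemma pairing_smul (u : P.Aut) (i j : ι) : P.pairing (u • i) (u • j) = P.pairing i j := by
  have := coroot'_smul u j (P.root i)
  rw [← root_smul] at this
  exact this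

lemma smul_reflection (u : P.Aut) (i : ι) (x : M) :
    u • (P.reflection i x) = P.reflection (u • i) (u • x) := by
  rw [P.reflection_apply, P.reflection_apply, coroot'_smul, root_smul, smul_sub, smul_comm]

/-- S5503 -/
lemma conj_reflection (u : P.Aut) (i : ι) :
    u * Equiv.reflection P i * u⁻¹ = Equiv.reflection P (u • i) := by
  apply aut_ext
  intro x
  rw [mul_smul, mul_smul, Equiv.reflection_smul, smul_reflection, smul_inv_smul,
    Equiv.reflection_smul]

lemma smul_reflectionPerm (u : P.Aut) (i j : ι) :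
    u • (P.reflectionPerm i j) = P.reflectionPerm (u • i) (u • j) := by
  apply P.root.injective
  rw [root_smul, P.root_reflectionPerm, P.root_reflectionPerm, smul_reflection, root_smul]

lemma reflection_smul_idx (i j : ι) : Equiv.reflection P i • j = P.reflectionPerm i j := rfl

lemma reflection_mul_self (i : ι) : Equiv.reflection P i * Equiv.reflection P i = 1 := by
  rw [mul_eq_one_iff_eq_inv, Equiv.reflection_inv]

lemma smul_neg_idx (u : P.Aut) (i : ι) :
    u • (P.reflectionPerm i i) = P.reflectionPerm (u • i) (u • i) := smul_reflectionPerm u i i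

lemma rootForm_smul [Fintype ι] (u : P.Aut) (x y : M) :
    P.RootForm (u • x) (u • y) = P.RootForm x y := by
  rw [P.rootForm_apply_apply, P.rootForm_apply_apply]
  symm
  apply Fintype.sum_equiv (MulAction.toPerm u)
  intro i
  rw [MulAction.toPerm_apply, coroot'_smul, coroot'_smul]

lemma smul_mem_span (u : P.Aut) {x : M} (hx : x ∈ Submodule.span ℤ (range P.root)) :
    u • x ∈ Submodule.span ℤ (range P.root) := by
  induction hx using Submodule.span_induction with
  | mem x hx => obtain ⟨i, rfl⟩ := hx; rw [← root_smul]; exact Submodule.subset_span ⟨_, rfl⟩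
  | zero => rw [smul_zero]; exact zero_mem _
  | add x y _ _ hx hy => rw [smul_add]; exact add_mem hx hy
  | smul a x _ hx => rw [smul_comm]; exact Submodule.smul_mem _ _ hx

lemma weyl_smul_sub_mem {w : P.Aut} (hw : w ∈ P.weylGroup) (x : M) :
    w • x - x ∈ Submodule.span ℤ (range P.root) := by
  induction hw using weylGroup.induction generalizing x with
  | mem i =>
    rw [Equiv.reflection_smul, P.reflection_apply]
    have : x - (P.coroot' i) x • P.root i - x = (-(P.coroot' i x)) • P.root i := by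
      rw [neg_smul]; abel
    rw [this]
    exact Submodule.smul_mem _ _ (Submodule.subset_span ⟨i, rfl⟩)
  | one => simp
  | mul g₁ g₂ hg₁ hg₂ h₁ h₂ =>
    rw [mul_smul]
    have : g₁ • g₂ • x - x = (g₁ • g₂ • x - g₂ • x) + (g₂ • x - x) := by abel
    rw [this]
    exact add_mem (h₁ _) (h₂ _)

lemma smul_mem_natSpan (u : P.Aut) {S : Set ι} {x : M} (hx : x ∈ natSpan P S) :
    u • x ∈ natSpan P ((fun i : ι => u • i) '' S) := by
  induction hx using AddSubmonoid.closure_induction with
  | mem x hx =>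
    obtain ⟨i, hi, rfl⟩ := hx
    rw [← root_smul]; exact root_mem_natSpan P ⟨i, hi, rfl⟩
  | zero => rw [smul_zero]; exact zero_mem _
  | add x y _ _ hx hy => rw [smul_add]; exact add_mem hx hy

lemma mem_image_iff (u : P.Aut) (S : Set ι) (k : ι) :
    k ∈ (fun i : ι => u • i) '' S ↔ u⁻¹ • k ∈ S := by
  constructor
  · rintro ⟨i, hi, rfl⟩; simpa using hi
  · intro h; exact ⟨_, h, by simp⟩

lemma mem_natSpan_image_iff (u : P.Aut) (S : Set ι) (x : M) :
    x ∈ natSpan P ((fun i : ι => u • i) '' S) ↔ u⁻¹ • x ∈ natSpan P S := by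
  constructor
  · intro h
    have := smul_mem_natSpan u⁻¹ h
    have h2 : (fun i : ι => u⁻¹ • i) '' ((fun i : ι => u • i) '' S) = S := by
      rw [← image_comp]; simp [Function.comp_def]
    rwa [h2] at this
  · intro h
    have := smul_mem_natSpan u h
    rwa [smul_inv_smul] at this

section fin
variable [Finite ι]

lemma eq_zero_of_span_of_nsmul {z : M} {n : ℕ} (hn : 0 < n)
    (hz : n • z ∈ Submodule.span ℤ (range P.root)) (h : ∀ i, P.coroot' i z = 0) : z = 0 := by
  have : Fintype ι := Fintype.ofFinite ι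
  have h1 : n • z = 0 := by
    apply eq_zero_of_rootForm_self P hz
    rw [P.rootForm_apply_apply]
    apply Finset.sum_eq_zero
    intro i _
    rw [map_nsmul, h i]; simp
  have := Module.IsReflexive.of_isPerfPair P.toLinearMap
  have : Module.IsTorsionFree ℤ M := inferInstance
  have h2 : (n : ℤ) • z = 0 := by rw [natCast_zsmul]; exact h1
  rcases smul_eq_zero.mp h2 with h | h
  · omega
  · exact h

lemma aut_eq_one {u : P.Aut}
    (hs : ∀ m : M, ∃ n : ℕ, 0 < n ∧ n • (u • m - m) ∈ Submodule.span ℤ (range P.root))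
    (hfix : ∀ i : ι, u • i = i) : u = 1 := by
  apply aut_ext
  intro m
  rw [one_smul]
  obtain ⟨n, hn, h⟩ := hs m
  have := eq_zero_of_span_of_nsmul hn h (fun i => by
    rw [map_sub]
    conv_lhs => enter [1, 1]; rw [← hfix i]
    rw [coroot'_smul, sub_self])
  exact sub_eq_zero.mp this

lemma weyl_eq_one {u : P.Aut} (hu : u ∈ P.weylGroup) (hfix : ∀ i : ι, u • i = i) : u = 1 :=
  aut_eq_one (fun m => ⟨1, one_pos, by simpa using weyl_smul_sub_mem hu m⟩) hfix

lemma isPosSys_image (u : P.Aut) {S : Set ι} (hS : IsPosSys P S) :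
    IsPosSys P ((fun i : ι => u • i) '' S) := by
  refine ⟨?_, ?_, ?_⟩
  · intro i hi hi'
    rw [mem_image_iff] at hi hi'
    rw [smul_neg_idx] at hi'
    exact hS.disjoint hi hi'
  · intro i
    rw [mem_image_iff, mem_image_iff, smul_neg_idx]
    exact hS.cover _
  · intro k n hn hk
    rw [mem_natSpan_image_iff] at hk
    rw [mem_image_iff]
    apply hS.sat n hn
    rw [root_smul, smul_comm] 
    exact hk

lemma isSimpleSys_image (u : P.Aut) {Δ : Set ι} (hΔ : IsSimpleSys P Δ) :
    IsSimpleSys P ((fun i : ι => u • i) '' Δ) := by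
  constructor
  · have h1 := hΔ.linInd
    have hinj : Function.Injective (Equiv.weightHom P u).toLinearMap := (Equiv.weightHom P u).injective
    have h2 : LinearIndepOn ℤ (P.root ∘ (fun i : ι => u • i)) Δ := by
      have h3 := LinearIndependent.map' (v := fun i : Δ => P.root i) h1
        (Equiv.weightHom P u).toLinearMap (LinearMap.ker_eq_bot.mpr hinj)
      have h4 : (P.root ∘ (fun i : ι => u • i)) = fun i => (Equiv.weightHom P u) (P.root i) := by
        ext i; exact root_smul u i
      rw [h4]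
      exact h3
    exact LinearIndepOn.image_of_comp _ _ h2
  · intro i
    rw [mem_natSpan_image_iff, mem_natSpan_image_iff, smul_neg, ← root_smul]
    exact hΔ.mem_or_neg_mem _

lemma posOf_image (u : P.Aut) (Δ : Set ι) :
    posOf P ((fun i : ι => u • i) '' Δ) = (fun i : ι => u • i) '' (posOf P Δ) := by
  ext k
  rw [mem_image_iff, mem_posOf, mem_posOf, mem_natSpan_image_iff, root_smul]

lemma isIndiv_smul (u : P.Aut) {k : ι} (h : IsIndiv P k) : IsIndiv P (u • k) := by
  intro j hj
  apply h (u⁻¹ • j)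
  rw [root_smul, smul_comm, hj, root_smul, inv_smul_smul]

lemma isIndiv_neg {k : ι} (h : IsIndiv P k) : IsIndiv P (P.reflectionPerm k k) := by
  intro j hj
  apply h (P.reflectionPerm j j)
  rw [root_neg, smul_neg, hj, root_neg, neg_neg]

lemma nsmul_root {k i : ι} {n : ℕ} (h : P.root k = n • P.root i) : n = 1 ∨ n = 2 := by
  have h1 := congrArg (P.coroot' k) h
  rw [map_nsmul] at h1
  have h2 : P.coroot' k (P.root k) = 2 := by simp
  rw [h2, nsmul_eq_mul] at h1
  have h3 : (n : ℤ) ∣ 2 := ⟨_, h1⟩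
  have h4 : n ∣ 2 := by exact_mod_cast h3
  exact (Nat.dvd_prime Nat.prime_two).mp h4

lemma isIndiv_of_simple {Δ : Set ι} (hΔ : IsSimpleSys P Δ) {i : ι} (hi : i ∈ Δ) : IsIndiv P i := by
  intro j hj
  obtain ⟨f, hf⟩ := exists_height hΔ
  have h1 := hf i hi
  rw [← hj, map_zsmul] at h1
  rcases hΔ.mem_or_neg_mem j with h | h
  · have := natSpan_hom_pos P hf h (root_ne_zero P j)
    simp at h1
    linarith
  · have := natSpan_hom_pos P hf h (by simpa using root_ne_zero P j)
    rw [map_neg] at this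
    simp at h1
    linarith

lemma exists_zero_one {Δ : Set ι} (hΔ : IsSimpleSys P Δ) (Δ' : Set ι) :
    ∃ g : M →+ ℚ, (∀ i ∈ Δ, i ∈ Δ' → g (P.root i) = 0) ∧ (∀ i ∈ Δ, i ∉ Δ' → g (P.root i) = 1) := by
  classical
  obtain ⟨g, hg⟩ := exists_hom P hΔ.linInd (fun i => if i ∈ Δ' then 0 else 1)
  exact ⟨g, fun i hi hi' => by rw [hg i hi, if_pos hi'], fun i hi hi' => by rw [hg i hi, if_neg hi']⟩

lemma mem_natSpan_singleton {i : ι} {x : M} :
    x ∈ natSpan P {i} ↔ ∃ n : ℕ, n • P.root i = x := by
  rw [natSpan, image_singleton, AddSubmonoid.mem_closure_singleton]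

/-- reflection in a simple root preserves positive roots not proportional to it. -/
lemma reflectionPerm_mem_posOf {Δ : Set ι} (hΔ : IsSimpleSys P Δ) {k i : ι}
    (hk : k ∈ posOf P Δ) (hi : i ∈ Δ) (hne : ∀ n : ℕ, P.root k ≠ n • P.root i) :
    P.reflectionPerm i k ∈ posOf P Δ := by
  obtain ⟨g, hg0, hg1⟩ := exists_zero_one hΔ {i}
  have hgnn : ∀ j ∈ Δ, 0 ≤ g (P.root j) := by
    intro j hj
    by_cases h : j ∈ ({i} : Set ι)
    · rw [hg0 j hj h]
    · rw [hg1 j hj h]; norm_num
  have hgi : g (P.root i) = 0 := hg0 i hi rfl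
  rcases hΔ.mem_or_neg_mem (P.reflectionPerm i k) with h | h
  · exact h
  · exfalso
    have h1 := hom_natSpan_nonneg P hgnn h
    have h2 := hom_natSpan_nonneg P hgnn hk
    rw [map_neg, P.root_reflectionPerm, P.reflection_apply_root, map_sub, map_zsmul, hgi] at h1
    have h3 : g (P.root k) = 0 := by
      simp at h1
      linarith
    have h4 := mem_natSpan_sub P (Δ' := {i}) (fun j hj hj' => by rw [hg1 j hj hj']; norm_num)
      (fun j hj => by rw [hj]; exact hgi) hk h3
    obtain ⟨n, hn⟩ := mem_natSpan_singleton.mp h4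
    exact hne n hn.symm

lemma natSpan_exists_pairing_pos {S : Set ι} {k : ι} {c : ℤ} (hc : 0 < c)
    (hk : c • P.root k ∈ natSpan P S) : ∃ i ∈ S, 0 < P.pairing i k := by
  obtain ⟨s, hs, hsum⟩ := (mem_natSpan_iff P).mp hk
  obtain ⟨j, hj, h⟩ := exists_pairing_pos_of_sum P s k c hc hsum.symm
  exact ⟨j, hs j hj, h⟩

variable (P) in
/-- the group generated by reflections in `Δ` -/
noncomputable def WG (Δ : Set ι) : Subgroup P.Aut := Subgroup.closure ((fun i : ι => Equiv.reflection P i) '' Δ)

lemma WG_le (Δ : Set ι) : WG P Δ ≤ P.weylGroup := by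
  rw [WG, Subgroup.closure_le]
  rintro _ ⟨i, _, rfl⟩
  exact P.reflection_mem_weylGroup i

lemma refl_mem_WG {Δ : Set ι} {i : ι} (hi : i ∈ Δ) : Equiv.reflection P i ∈ WG P Δ :=
  Subgroup.subset_closure ⟨i, hi, rfl⟩

lemma exists_simple_conj_pos {Δ : Set ι} (hΔ : IsSimpleSys P Δ) {k : ι} (hk : k ∈ posOf P Δ)
    (hind : IsIndiv P k) : ∃ g ∈ WG P Δ, ∃ i ∈ Δ, g • i = k := by
  obtain ⟨f, hf⟩ := exists_height hΔ
  let T : Set ι := {j | j ∈ posOf P Δ ∧ ∃ g ∈ WG P Δ, g • j = k}
  obtain ⟨j, ⟨hjpos, g, hg, hgj⟩, hmin⟩ := Set.exists_min_image T (fun j => f (P.root j))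
    (Set.toFinite T) ⟨k, hk, 1, one_mem _, one_smul _ _⟩
  have hjind : IsIndiv P j := by
    have := isIndiv_smul g⁻¹ hind
    rwa [← hgj, inv_smul_smul] at this
  obtain ⟨i, hi, hij⟩ := natSpan_exists_pairing_pos (P := P) (S := Δ) (k := j) (c := 1) one_pos
    (by rw [one_smul]; exact hjpos)
  have hji := pairing_pos_symm P hij
  by_cases hprop : ∃ n : ℕ, P.root j = n • P.root i
  · obtain ⟨n, hn⟩ := hprop
    rcases nsmul_root hn with rfl | rfl
    · have : j = i := P.root.injective (by simpa using hn)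
      subst this
      exact ⟨g, hg, j, hi, hgj⟩
    · exfalso
      apply hjind i
      rw [hn]; norm_cast
  · exfalso
    push Not at hprop
    have h1 := reflectionPerm_mem_posOf hΔ hjpos hi hprop
    have h2 := hmin (P.reflectionPerm i j) ⟨h1, g * Equiv.reflection P i,
      mul_mem hg (refl_mem_WG hi), by
        rw [mul_smul, reflection_smul_idx, P.reflectionPerm_self, hgj]⟩
    rw [P.root_reflectionPerm, P.reflection_apply_root, map_sub, map_zsmul, hf i hi] at h2
    have h3 : (0 : ℚ) < P.pairing j i := by exact_mod_cast hji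
    simp at h2
    linarith

lemma exists_simple_conj {Δ : Set ι} (hΔ : IsSimpleSys P Δ) {k : ι}
    (hind : IsIndiv P k) : ∃ g ∈ WG P Δ, ∃ i ∈ Δ, g • i = k := by
  rcases hΔ.mem_or_neg_mem k with h | h
  · exact exists_simple_conj_pos hΔ h hind
  · obtain ⟨g, hg, i, hi, e⟩ := exists_simple_conj_pos (k := P.reflectionPerm k k) hΔ
      (by rw [mem_posOf, root_neg]; exact h) (isIndiv_neg hind)
    refine ⟨g * Equiv.reflection P i, mul_mem hg (refl_mem_WG hi), i, hi, ?_⟩
    rw [mul_smul, reflection_smul_idx, smul_neg_idx, e, neg_neg']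

lemma reflection_eq_of_two {i j : ι} (h : (2 : ℤ) • P.root j = P.root i) :
    Equiv.reflection P i = Equiv.reflection P j := by
  apply aut_ext
  intro x
  have := Module.IsReflexive.of_isPerfPair P.toLinearMap
  have := Module.IsReflexive.of_isPerfPair P.flip.toLinearMap
  have : IsAddTorsionFree N := .of_isTorsionFree ℤ N
  rw [Equiv.reflection_smul, Equiv.reflection_smul, P.reflection_apply, P.reflection_apply]
  have h1 : (2 : ℤ) • P.coroot i = P.coroot j :=
    P.smul_coroot_eq_of_root_eq_smul j i 2 h.symm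
  have h2 : P.coroot' j x = 2 * P.coroot' i x := by
    have : P.coroot' j x = P.toLinearMap x ((2 : ℤ) • P.coroot i) := by rw [h1]; rfl
    rw [this, map_smul]; rfl
  rw [h2, ← h, smul_smul, mul_comm]

lemma isIndiv_half {i j : ι} (h : (2 : ℤ) • P.root j = P.root i) : IsIndiv P j := by
  intro l hl
  have : P.root i = (4 : ℕ) • P.root l := by
    rw [← h, ← hl, smul_smul, ← natCast_zsmul]; norm_num
  rcases nsmul_root this with h | h <;> omega

lemma exists_indiv_reflection (i : ι) :
    ∃ j, IsIndiv P j ∧ Equiv.reflection P i = Equiv.reflection P j := by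
  by_cases h : IsIndiv P i
  · exact ⟨i, h, rfl⟩
  · unfold IsIndiv at h
    push Not at h
    obtain ⟨j, hj⟩ := h
    exact ⟨j, isIndiv_half hj, reflection_eq_of_two hj⟩

lemma WG_eq {Δ : Set ι} (hΔ : IsSimpleSys P Δ) : WG P Δ = P.weylGroup := by
  apply le_antisymm (WG_le Δ)
  rw [weylGroup, Subgroup.closure_le]
  rintro _ ⟨k, rfl⟩
  obtain ⟨k', hk', e⟩ := exists_indiv_reflection (P := P) k
  rw [e]
  obtain ⟨g, hg, i, hi, rfl⟩ := exists_simple_conj hΔ hk'
  rw [← conj_reflection]
  exact mul_mem (mul_mem hg (refl_mem_WG hi)) (inv_mem hg)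

/-- S5453 -/
lemma exists_weyl_image_subset {S : Set ι} (hS : IsPosSys P S) {P' : Set ι}
    (hP2 : ∀ i : ι, i ∈ P' ∨ P.reflectionPerm i i ∈ P') (hcl : IsClosedSub P P') :
    ∃ g : P.Aut, g ∈ P.weylGroup ∧ (fun i : ι => g • i) '' S ⊆ P' := by
  let 𝒯 : Set (Set ι) := {T | ∃ g : P.Aut, g ∈ P.weylGroup ∧ T = (fun i : ι => g • i) '' S}
  let c : Set ι → ℕ := fun T => ({k | k ∈ T ∧ k ∈ P' ∧ IsIndiv P k} : Set ι).ncard
  obtain ⟨T, ⟨g, hg, hT⟩, hmax⟩ := Set.exists_max_image 𝒯 c (Set.toFinite 𝒯)
    ⟨S, 1, one_mem _, by simp⟩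
  refine ⟨g, hg, ?_⟩
  rw [← hT]
  have hTpos : IsPosSys P T := by rw [hT]; exact isPosSys_image g hS
  have hsimp := isSimpleSys_indec' hTpos
  have hTe := eq_posOf hsimp hTpos (indec_subset P T)
  by_contra hcon
  have h1 : ¬ (Indec P T ⊆ P') := by
    intro h
    apply hcon
    intro k hk
    apply (isClosedSub_iff P P').mp hcl
    rw [hTe] at hk
    exact natSpan_mono P h hk
  rw [Set.not_subset] at h1
  obtain ⟨i, hi, hiP⟩ := h1
  have hnegi := (hP2 i).resolve_left hiP
  have hiind := isIndiv_of_simple hsimp hi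
  have h2 := hmax ((fun j : ι => Equiv.reflection P i • j) '' T)
    ⟨Equiv.reflection P i * g, mul_mem (P.reflection_mem_weylGroup i) hg, by
      rw [hT, ← image_comp]
      apply image_congr
      intro a _
      exact (mul_smul _ _ _).symm⟩
  apply absurd h2
  rw [not_le]
  apply Set.ncard_lt_ncard _ (Set.toFinite _)
  rw [Set.ssubset_iff_exists]
  refine ⟨?_, P.reflectionPerm i i, ?_, ?_⟩
  · rintro k ⟨hk, hkP, hkI⟩
    refine ⟨?_, hkP, hkI⟩
    rw [mem_image_iff, Equiv.reflection_inv, reflection_smul_idx]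
    rw [hTe] at hk ⊢
    apply reflectionPerm_mem_posOf hsimp hk hi
    intro n hn
    rcases nsmul_root hn with rfl | rfl
    · have : k = i := P.root.injective (by simpa using hn)
      subst this
      exact hiP hkP
    · apply hkI i
      rw [hn]; norm_cast
  · refine ⟨⟨i, indec_subset P T hi, rfl⟩, hnegi, isIndiv_neg hiind⟩
  · rintro ⟨h, -⟩
    exact hTpos.disjoint (indec_subset P T hi) h

/-- S5454 -/
lemma exists_weyl_image_eq {S S' : Set ι} (hS : IsPosSys P S) (hS' : IsPosSys P S') :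
    ∃ g : P.Aut, g ∈ P.weylGroup ∧ (fun i : ι => g • i) '' S = S' := by
  obtain ⟨g, hg, h⟩ := exists_weyl_image_subset hS hS'.cover (isPosSys_closed hS')
  refine ⟨g, hg, Subset.antisymm h ?_⟩
  intro k hk
  have hgS := isPosSys_image g hS
  rcases hgS.cover k with h1 | h1
  · exact h1
  · exact absurd (h h1) (hS'.disjoint hk)

/-- S5455 -/
lemma exists_weyl_simple_eq {Δ Δ' : Set ι} (hΔ : IsSimpleSys P Δ) (hΔ' : IsSimpleSys P Δ') :
    ∃ g : P.Aut, g ∈ P.weylGroup ∧ (fun i : ι => g • i) '' Δ = Δ' := by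
  obtain ⟨g, hg, h⟩ := exists_weyl_image_eq (isPosSys_posOf hΔ) (isPosSys_posOf hΔ')
  refine ⟨g, hg, ?_⟩
  apply posOf_inj (isSimpleSys_image g hΔ) hΔ'
  rw [posOf_image, h]

/-- exchange lemma -/
lemma exchange {Δ : Set ι} (hΔ : IsSimpleSys P Δ) {k : ι} (hk : k ∈ posOf P Δ) (hind : IsIndiv P k) :
    ∀ l : List ι, (∀ a ∈ l, a ∈ Δ) →
      (l.map fun a => Equiv.reflection P a).prod • k ∉ posOf P Δ →
      ∃ (l₁ : List ι) (t : ι) (l₂ : List ι), l = l₁ ++ t :: l₂ ∧
        (l₂.map fun a => Equiv.reflection P a).prod • k = t := by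
  intro l
  induction l with
  | nil =>
    intro _ h
    simp only [List.map_nil, List.prod_nil, one_smul] at h
    exact absurd hk h
  | cons t l ih =>
    intro hl h
    by_cases hk' : (l.map fun a => Equiv.reflection P a).prod • k ∈ posOf P Δ
    · refine ⟨[], t, l, rfl, ?_⟩
      rw [List.map_cons, List.prod_cons, mul_smul, reflection_smul_idx] at h
      by_contra hne
      apply h
      apply reflectionPerm_mem_posOf hΔ hk' (hl t (by simp))
      intro n hn
      rcases nsmul_root hn with rfl | rfl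
      · exact hne (P.root.injective (by simpa using hn))
      · apply isIndiv_smul _ hind t
        rw [hn]; norm_cast
    · obtain ⟨l₁, t', l₂, e, h'⟩ := ih (fun a ha => hl a (by simp [ha])) hk'
      exact ⟨t :: l₁, t', l₂, by rw [e]; rfl, h'⟩

lemma exchange' {Δ : Set ι} (hΔ : IsSimpleSys P Δ) {a : ι} (ha : a ∈ Δ) (l : List ι)
    (hl : ∀ a ∈ l, a ∈ Δ)
    (hneg : (l.map fun a => Equiv.reflection P a).prod • a ∉ posOf P Δ) :
    ∃ l' : List ι, (∀ a ∈ l', a ∈ Δ) ∧ l'.length < l.length ∧
      (l'.map fun a => Equiv.reflection P a).prod =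
        (l.map fun a => Equiv.reflection P a).prod * Equiv.reflection P a := by
  obtain ⟨l₁, t, l₂, e, h⟩ := exchange hΔ (subset_posOf ha) (isIndiv_of_simple hΔ ha) l hl hneg
  refine ⟨l₁ ++ l₂, ?_, ?_, ?_⟩
  · intro b hb
    apply hl
    rw [e]
    simp only [List.mem_append, List.mem_cons] at hb ⊢
    tauto
  · rw [e]; simp
  · rw [e]
    simp only [List.map_append, List.prod_append, List.map_cons, List.prod_cons]
    rw [← h, ← conj_reflection]
    group
    rw [mul_assoc, reflection_mul_self, mul_one]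

end fin

end Groth.Agent.H8RootD
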