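import Groth.Agent.Lib.H8RootDD

set_option autoImplicit false
set_option linter.unusedSectionVars false

namespace Groth.Agent.H8RootD

open RootPairing Set RootD

variable {ι M N : Type*} [AddCommGroup M] [AddCommGroup N] {P : RootPairing ι ℤ M N}

variable [Finite ι]

variable (P) in
/-- product of reflections along a word -/
noncomputable abbrev wd (l : List ι) : P.Aut := (l.map fun a => Equiv.reflection P a).prod

lemma mem_WG_iff_word {Δ : Set ι} {g : P.Aut} :
    g ∈ WG P Δ ↔ ∃ l : List ι, (∀ a ∈ l, a ∈ Δ) ∧ wd P l = g := by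
  constructor
  · intro hg
    have h1 : g ∈ Submonoid.closure ((fun i : ι => Equiv.reflection P i) '' Δ) := by
      have h2 : ((fun i : ι => Equiv.reflection P i) '' Δ)
          = ((fun i : ι => Equiv.reflection P i) '' Δ)⁻¹ := by
        ext x
        simp only [Set.mem_inv, mem_image]
        constructor
        · rintro ⟨i, hi, rfl⟩; exact ⟨i, hi, by rw [Equiv.reflection_inv]⟩
        · rintro ⟨i, hi, e⟩; exact ⟨i, hi, by rw [← inv_inv x, ← e, Equiv.reflection_inv]⟩
      have h3 : g ∈ (WG P Δ).toSubmonoid := hg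
      rw [WG, Subgroup.closure_toSubmonoid, ← h2, union_self] at h3
      exact h3
    induction h1 using Submonoid.closure_induction with
    | mem x hx => obtain ⟨i, hi, rfl⟩ := hx; exact ⟨[i], by simpa using hi, by simp [wd]⟩
    | one => exact ⟨[], by simp, by simp [wd]⟩
    | mul x y hx0 hy0 hx hy =>
      have aux : ∀ z, z ∈ Submonoid.closure ((fun i : ι => Equiv.reflection P i) '' Δ) →
          z ∈ WG P Δ := by
        intro z hz
        exact (Submonoid.closure_le (S := (WG P Δ).toSubmonoid)).mpr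
          (Subgroup.subset_closure) hz
      obtain ⟨l, hl, rfl⟩ := hx (aux _ hx0)
      obtain ⟨l', hl', rfl⟩ := hy (aux _ hy0)
      refine ⟨l ++ l', ?_, ?_⟩
      · intro a ha
        rcases List.mem_append.mp ha with h | h
        · exact hl a h
        · exact hl' a h
      · simp only [wd, List.map_append, List.prod_append]
  · rintro ⟨l, hl, rfl⟩
    apply Subgroup.list_prod_mem
    intro x hx
    obtain ⟨i, hi, rfl⟩ := List.mem_map.mp hx
    exact refl_mem_WG (hl i hi)

lemma exists_min_word {Δ : Set ι} {g : P.Aut} (hg : g ∈ WG P Δ) :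
    ∃ l : List ι, (∀ a ∈ l, a ∈ Δ) ∧ wd P l = g ∧
      ∀ l' : List ι, (∀ a ∈ l', a ∈ Δ) → wd P l' = g → l.length ≤ l'.length := by
  classical
  obtain ⟨l0, hl0, e0⟩ := mem_WG_iff_word.mp hg
  have hex : ∃ n : ℕ, ∃ l : List ι, (∀ a ∈ l, a ∈ Δ) ∧ wd P l = g ∧ l.length = n :=
    ⟨_, l0, hl0, e0, rfl⟩
  obtain ⟨l, hl, e, hn⟩ := Nat.find_spec hex
  refine ⟨l, hl, e, ?_⟩
  intro l' hl' e'
  rw [hn]
  exact Nat.find_min' hex ⟨l', hl', e', rfl⟩

section fin

/-- S5504 -/
lemma neg_last_of_min {Δ : Set ι} (hΔ : IsSimpleSys P Δ)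
    (l : List ι) (hl : ∀ a ∈ l, a ∈ Δ) (hne : l ≠ [])
    (hmin : ∀ l' : List ι, (∀ a ∈ l', a ∈ Δ) → wd P l' = wd P l → l.length ≤ l'.length) :
    -P.root (wd P l • l.getLast hne) ∈ natSpan P Δ := by
  rcases hΔ.mem_or_neg_mem (wd P l • l.getLast hne) with h | h
  swap
  · exact h
  exfalso
  have ha : l.getLast hne ∈ Δ := hl _ (List.getLast_mem hne)
  have hsplit : wd P l = wd P l.dropLast * Equiv.reflection P (l.getLast hne) := by
    conv_lhs => rw [← List.dropLast_append_getLast hne]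
    simp [wd]
  have hdl : ∀ a ∈ l.dropLast, a ∈ Δ := fun a h => hl a (List.dropLast_subset l h)
  have hneg : wd P l.dropLast • l.getLast hne ∉ posOf P Δ := by
    intro h'
    apply (isPosSys_posOf hΔ).disjoint h'
    rw [mem_posOf]
    rw [hsplit, mul_smul, reflection_smul_idx, smul_neg_idx] at h
    exact h
  obtain ⟨l', hl', hlen, e'⟩ := exchange' hΔ ha l.dropLast hdl hneg
  have h5 := hmin l' hl' (by
    change wd P l' = wd P l.dropLast * Equiv.reflection P (l.getLast hne) at e'
    rw [e', ← hsplit])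
  rw [List.length_dropLast] at hlen
  omega

lemma weyl_pos_eq_one {Δ : Set ι} (hΔ : IsSimpleSys P Δ) {w : P.Aut} (hw : w ∈ P.weylGroup)
    (h : ∀ k ∈ Δ, w • k ∈ posOf P Δ) : w = 1 := by
  rw [← WG_eq hΔ] at hw
  obtain ⟨l, hl, e, hmin⟩ := exists_min_word hw
  by_cases hne : l = []
  · subst hne; rw [← e]; simp [wd]
  · exfalso
    have h1 := neg_last_of_min hΔ l hl hne (fun l' h1 h2 => hmin l' h1 (h2.trans e))
    have h2 := h _ (hl _ (List.getLast_mem hne))
    rw [← e] at h2
    apply (isPosSys_posOf hΔ).disjoint h2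
    rw [mem_posOf, root_neg]
    exact h1

/-- S5479 -/
lemma aut_existsUnique {Δ : Set ι} (hΔ : IsSimpleSys P Δ) (u : P.Aut) :
    ∃! w : P.weylGroup, (fun i : ι => ((w : P.Aut)⁻¹ * u) • i) '' Δ = Δ := by
  obtain ⟨g, hg, h⟩ := exists_weyl_simple_eq hΔ (isSimpleSys_image u hΔ)
  refine ⟨⟨g, hg⟩, ?_, ?_⟩
  · change (fun i : ι => (g⁻¹ * u) • i) '' Δ = Δ
    have : (fun i : ι => (g⁻¹ * u) • i) = (fun i : ι => g⁻¹ • i) ∘ (fun i : ι => u • i) := by
      ext i; exact mul_smul _ _ _
    rw [this, image_comp, ← h, ← image_comp]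
    ext k; simp
  · rintro ⟨w, hw⟩ hw'
    change (fun i : ι => (w⁻¹ * u) • i) '' Δ = Δ at hw'
    have h1 : (fun i : ι => (w⁻¹ * u) • i) = (fun i : ι => w⁻¹ • i) ∘ (fun i : ι => u • i) := by
      ext i; exact mul_smul _ _ _
    rw [h1, image_comp, ← h] at hw'
    have h2 : w⁻¹ * g = 1 := by
      apply weyl_pos_eq_one hΔ (mul_mem (inv_mem hw) hg)
      intro k hk
      apply subset_posOf
      have hmem : (w⁻¹ * g) • k ∈ (fun i : ι => w⁻¹ • i) '' ((fun i : ι => g • i) '' Δ) :=
        ⟨g • k, ⟨k, hk, rfl⟩, (mul_smul _ _ _).symm⟩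
      rw [hw'] at hmem
      exact hmem
    apply Subtype.ext
    change w = g
    exact (inv_mul_eq_one.mp h2)

/-- elements of span(Δ') vs functional -/
lemma mem_inSpan_iff {Δ Δ' : Set ι} (hΔ : IsSimpleSys P Δ) (hsub : Δ' ⊆ Δ) {g : M →+ ℚ}
    (hg0 : ∀ i ∈ Δ, i ∈ Δ' → g (P.root i) = 0) (hg1 : ∀ i ∈ Δ, i ∉ Δ' → g (P.root i) = 1) (k : ι) :
    k ∈ inSpan P Δ' ↔ g (P.root k) = 0 := by
  constructor
  · intro h
    exact hom_span_zero P (Δ' := Δ') (fun i hi => hg0 i (hsub hi) hi) h
  · intro h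
    have aux : ∀ y ∈ natSpan P Δ, g y = 0 → y ∈ natSpan P Δ' := fun y hy h0 =>
      mem_natSpan_sub P (Δ' := Δ') (fun i hi hi' => by rw [hg1 i hi hi']; norm_num)
        (fun i hi => hg0 i (hsub hi) hi) hy h0
    rcases hΔ.mem_or_neg_mem k with h1 | h1
    · exact natSpan_le_span P (aux _ h1 h)
    · have := natSpan_le_span P (aux _ h1 (by rw [map_neg, h, neg_zero]))
      exact (Submodule.neg_mem_iff _).mp this

lemma mem_natSpan_or_of_inSpan {Δ Δ' : Set ι} (hΔ : IsSimpleSys P Δ) (hsub : Δ' ⊆ Δ) {k : ι}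
    (hk : k ∈ inSpan P Δ') : P.root k ∈ natSpan P Δ' ∨ -P.root k ∈ natSpan P Δ' := by
  obtain ⟨g, hg0, hg1⟩ := exists_zero_one hΔ Δ'
  have h := (mem_inSpan_iff hΔ hsub hg0 hg1 k).mp hk
  have aux : ∀ y ∈ natSpan P Δ, g y = 0 → y ∈ natSpan P Δ' := fun y hy h0 =>
      mem_natSpan_sub P (Δ' := Δ') (fun i hi hi' => by rw [hg1 i hi hi']; norm_num)
        (fun i hi => hg0 i (hsub hi) hi) hy h0
  rcases hΔ.mem_or_neg_mem k with h1 | h1
  · exact Or.inl (aux _ h1 h)
  · exact Or.inr (aux _ h1 (by rw [map_neg, h, neg_zero]))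

lemma WG_smul_sub_mem {Δ' : Set ι} {w : P.Aut} (hw : w ∈ WG P Δ') (x : M) :
    w • x - x ∈ Submodule.span ℤ (P.root '' Δ') := by
  obtain ⟨l, hl, rfl⟩ := mem_WG_iff_word.mp hw
  induction l generalizing x with
  | nil => simp [wd]
  | cons a l ih =>
    have hl' : ∀ a ∈ l, a ∈ Δ' := fun b hb => hl b (by simp [hb])
    have e : wd P (a :: l) • x - x = (P.reflection a (wd P l • x) - wd P l • x)
        + (wd P l • x - x) := by
      have : wd P (a :: l) • x = P.reflection a (wd P l • x) := by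
        simp only [wd, List.map_cons, List.prod_cons]
        rw [mul_smul]; rfl
      rw [this]; abel
    rw [e]
    apply add_mem
    · rw [P.reflection_apply]
      have : wd P l • x - (P.coroot' a) (wd P l • x) • P.root a - wd P l • x
          = (-(P.coroot' a (wd P l • x))) • P.root a := by rw [neg_smul]; abel
      rw [this]
      exact Submodule.smul_mem _ _ (Submodule.subset_span ⟨a, hl a (by simp), rfl⟩)
    · exact ih x hl' (mem_WG_iff_word.mpr ⟨l, hl', rfl⟩)

/-- S5462 -/
lemma WG_mapsTo {Δ Δ' : Set ι} (hΔ : IsSimpleSys P Δ) (hsub : Δ' ⊆ Δ)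
    {w : P.Aut} (h : ∀ k : ι, ∃ n : ℕ, 0 < n ∧
      n • (P.root (w • k) - P.root k) ∈ Submodule.span ℤ (P.root '' Δ'))
    (k : ι) (hk : k ∈ posOf P Δ) (hk' : k ∉ inSpan P Δ') :
    w • k ∈ posOf P Δ ∧ w • k ∉ inSpan P Δ' := by
  obtain ⟨g, hg0, hg1⟩ := exists_zero_one hΔ Δ'
  have hgnn : ∀ j ∈ Δ, 0 ≤ g (P.root j) := by
    intro j hj
    by_cases h : j ∈ Δ'
    · rw [hg0 j hj h]
    · rw [hg1 j hj h]; norm_num
  have h1 : g (P.root (w • k)) = g (P.root k) := by
    obtain ⟨n, hn, h2⟩ := h k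
    have h3 := hom_span_zero P (Δ' := Δ') (fun i hi => hg0 i (hsub hi) hi) h2
    rw [map_nsmul, map_sub, nsmul_eq_mul] at h3
    have h4 : (n : ℚ) ≠ 0 := by exact_mod_cast (by omega : n ≠ 0)
    have := (mul_eq_zero.mp h3).resolve_left h4
    linarith
  have h2 : g (P.root k) ≠ 0 := fun h0 => hk' ((mem_inSpan_iff hΔ hsub hg0 hg1 k).mpr h0)
  have h3 : 0 ≤ g (P.root k) := hom_natSpan_nonneg P hgnn hk
  constructor
  · rcases hΔ.mem_or_neg_mem (w • k) with h4 | h4
    · exact h4
    · exfalso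
      have := hom_natSpan_nonneg P hgnn h4
      rw [map_neg, h1] at this
      exact h2 (by linarith)
  · intro h4
    apply h2
    rw [← h1]
    exact (mem_inSpan_iff hΔ hsub hg0 hg1 _).mp h4

lemma WG_cond {Δ' : Set ι} {w : P.Aut} (hw : w ∈ WG P Δ') (k : ι) :
    ∃ n : ℕ, 0 < n ∧ n • (P.root (w • k) - P.root k) ∈ Submodule.span ℤ (P.root '' Δ') :=
  ⟨1, one_pos, by rw [one_smul, root_smul]; exact WG_smul_sub_mem hw _⟩

/-- S5463 -/
lemma mem_WG_iff {Δ Δ' : Set ι} (hΔ : IsSimpleSys P Δ) (hsub : Δ' ⊆ Δ)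
    {w : P.Aut} (hw : w ∈ P.weylGroup) :
    w ∈ WG P Δ' ↔ ∀ k : ι, ∃ n : ℕ, 0 < n ∧
      n • (P.root (w • k) - P.root k) ∈ Submodule.span ℤ (P.root '' Δ') := by
  constructor
  · intro hw k; exact WG_cond hw k
  · intro h
    rw [← WG_eq hΔ] at hw
    obtain ⟨l, hl, e, hmin⟩ := exists_min_word hw
    clear hw
    induction hn : l.length generalizing l w with
    | zero =>
      have : l = [] := List.length_eq_zero_iff.mp hn
      subst this
      rw [← e]; simp [wd, one_mem]
    | succ n ih =>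
      have hne : l ≠ [] := by rintro rfl; simp at hn
      have ha : l.getLast hne ∈ Δ := hl _ (List.getLast_mem hne)
      have h1 := neg_last_of_min hΔ l hl hne (fun l' h1 h2 => hmin l' h1 (h2.trans e))
      rw [e] at h1
      have haΔ' : l.getLast hne ∈ Δ' := by
        by_contra hcon
        have h2 := WG_mapsTo hΔ hsub h (l.getLast hne) (subset_posOf ha) (by
          obtain ⟨g, hg0, hg1⟩ := exists_zero_one hΔ Δ'
          rw [mem_inSpan_iff hΔ hsub hg0 hg1, hg1 _ ha hcon]
          norm_num)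
        apply (isPosSys_posOf hΔ).disjoint h2.1
        rw [mem_posOf, root_neg]
        exact h1
      have hsplit : wd P l = wd P l.dropLast * Equiv.reflection P (l.getLast hne) := by
        conv_lhs => rw [← List.dropLast_append_getLast hne]
        simp [wd]
      have hdl : ∀ a ∈ l.dropLast, a ∈ Δ := fun a h => hl a (List.dropLast_subset l h)
      have h3 : wd P l.dropLast ∈ WG P Δ' := by
        apply ih (w := wd P l.dropLast) _ l.dropLast hdl rfl
        · intro l' hl' e'
          have h5 : l.length ≤ (l' ++ [l.getLast hne]).length := by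
            apply hmin
            · intro b hb
              rcases List.mem_append.mp hb with h | h
              · exact hl' b h
              · simp at h; rw [h]; exact ha
            · rw [← e, hsplit, ← e']
              simp [wd]
          rw [List.length_dropLast]
          simp at h5
          omega
        · rw [List.length_dropLast, hn]; rfl
        · intro k
          obtain ⟨n1, hn1, h6⟩ := h (Equiv.reflection P (l.getLast hne) • k)
          obtain ⟨n2, hn2, h7⟩ := WG_cond (P := P) (refl_mem_WG (P := P) haΔ') k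
          refine ⟨n1 * n2, Nat.mul_pos hn1 hn2, ?_⟩
          have h8 : w • (Equiv.reflection P (l.getLast hne) • k) = wd P l.dropLast • k := by
            rw [← e, hsplit, mul_smul, ← mul_smul _ _ k, reflection_mul_self, one_smul]
          rw [h8] at h6
          have h9 : (n1 * n2) • (P.root (wd P l.dropLast • k) - P.root k) =
            n2 • (n1 • (P.root (wd P l.dropLast • k) - P.root (Equiv.reflection P (l.getLast hne) • k)))
            + n1 • (n2 • (P.root (Equiv.reflection P (l.getLast hne) • k) - P.root k)) := by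
            module
          rw [h9]
          exact add_mem (nsmul_mem h6 _) (nsmul_mem h7 _)
      rw [← e, hsplit]
      exact mul_mem h3 (refl_mem_WG haΔ')

end fin

end Groth.Agent.H8RootD
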