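import Groth.Agent.Lib.H8RootDE

set_option autoImplicit false
set_option linter.unusedSectionVars false
set_option linter.unusedSimpArgs false

namespace Groth.Agent.H8RootD

open RootPairing Set RootD

variable {ι M N : Type*} [AddCommGroup M] [AddCommGroup N] {P : RootPairing ι ℤ M N} [Finite ι]

lemma natSpan_empty : natSpan P (∅ : Set ι) = ⊥ := by
  rw [natSpan, image_empty, AddSubmonoid.closure_empty]

lemma multiset_pos {S : Set ι} {f : M →+ ℚ} (hf : ∀ i ∈ S, 0 < f (P.root i)) {y : M}
    (hy : y ∈ natSpan P S) (h0 : y ≠ 0) : 0 < f y := by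
  have h1 := hom_natSpan_nonneg P (fun i hi => (hf i hi).le) hy
  rcases h1.lt_or_eq with h | h
  · exact h
  · exfalso
    have := mem_natSpan_sub P (Δ := S) (Δ' := ∅) (g := f) (fun i hi _ => hf i hi) (by simp) hy h.symm
    rw [natSpan_empty] at this
    exact h0 this

/-- S5446 -/
lemma isSimpleSys_of_rat {Δ : Set ι}
    (hind : ∀ i ∈ Δ, IsIndiv P i) (hli : LinearIndepOn ℤ P.root Δ)
    (hcone : ∀ k : ι, ∃ n : ℕ, 0 < n ∧
      (n • P.root k ∈ natSpan P Δ ∨ n • (-P.root k) ∈ natSpan P Δ)) :
    IsSimpleSys P Δ := by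
  classical
  obtain ⟨f, hf⟩ := exists_hom P hli (fun _ => 1)
  have hsgn : ∀ k, 0 < f (P.root k) ∨ f (P.root k) < 0 := by
    intro k
    obtain ⟨n, hn, h⟩ := hcone k
    have hn' : (0 : ℚ) < n := by exact_mod_cast hn
    rcases h with h | h
    · left
      have := multiset_pos (fun i hi => by rw [hf i hi]; norm_num) h (nsmul_root_ne_zero k n hn)
      rw [map_nsmul, nsmul_eq_mul] at this
      exact pos_of_mul_pos_right this hn'.le
    · right
      have := multiset_pos (fun i hi => by rw [hf i hi]; norm_num) h (by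
        rw [smul_neg, neg_ne_zero]; exact nsmul_root_ne_zero k n hn)
      rw [map_nsmul, nsmul_eq_mul, map_neg] at this
      have := pos_of_mul_pos_right this hn'.le
      linarith
  have hS := isPosSys_of_hom P f hsgn
  set S : Set ι := {i : ι | 0 < f (P.root i)} with hSdef
  have hsim := isSimpleSys_indec' hS
  have hΔS : Δ ⊆ S := fun i hi => by rw [hSdef, mem_ofPred_eq, hf i hi]; norm_num
  have hSe := eq_posOf hsim hS (indec_subset P S)
  have hsub : Indec P S ⊆ Δ := by
    intro β hβ
    obtain ⟨n, hn, h⟩ := hcone β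
    have hβpos : 0 < f (P.root β) := hβ.1
    have hn' : (0 : ℚ) < n := by exact_mod_cast hn
    have h1 : n • P.root β ∈ natSpan P Δ := by
      rcases h with h | h
      · exact h
      · exfalso
        have := hom_natSpan_nonneg P (f := f) (fun i hi => by rw [hf i hi]; norm_num) h
        rw [map_nsmul, nsmul_eq_mul, map_neg] at this
        have := mul_pos hn' hβpos
        linarith
    obtain ⟨g, hg0, hg1⟩ := exists_zero_one hsim {β}
    obtain ⟨s, hs, hsum⟩ := (mem_natSpan_iff P).mp h1
    have hgnn : ∀ j ∈ Indec P S, 0 ≤ g (P.root j) := by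
      intro j hj
      by_cases h : j ∈ ({β} : Set ι)
      · rw [hg0 j hj h]
      · rw [hg1 j hj h]; norm_num
    have hgS : ∀ j ∈ S, 0 ≤ g (P.root j) := fun j hj => by
      rw [hSe] at hj; exact hom_natSpan_nonneg P hgnn hj
    have h2 : g ((s.map P.root).sum) = 0 := by
      rw [hsum, map_nsmul, hg0 β hβ rfl, smul_zero]
    rw [hom_multiset] at h2
    have h3 : ∀ x ∈ s.map (fun i => g (P.root i)), x = 0 := by
      apply Multiset.all_zero_of_le_zero_le_of_sum_eq_zero _ h2
      intro x hx
      obtain ⟨j, hj, rfl⟩ := Multiset.mem_map.mp hx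
      exact hgS j (hΔS (hs j hj))
    rcases Multiset.empty_or_exists_mem s with h | ⟨j, hj⟩
    · exfalso
      rw [h] at hsum
      exact nsmul_root_ne_zero β n hn (by simpa using hsum.symm)
    · have h4 : g (P.root j) = 0 := h3 _ (Multiset.mem_map_of_mem _ hj)
      have hjS := hΔS (hs j hj)
      rw [hSe] at hjS
      have h5 := mem_natSpan_sub P (Δ' := {β}) (fun i hi hi' => by rw [hg1 i hi hi']; norm_num)
        (fun i hi => by rw [hi]; exact hg0 β hβ rfl) hjS h4
      obtain ⟨m, hm⟩ := mem_natSpan_singleton.mp h5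
      rcases nsmul_root hm.symm with rfl | rfl
      · have : β = j := P.root.injective (by simpa using hm)
        rw [this]; exact hs j hj
      · exfalso
        apply hind j (hs j hj) β
        rw [← hm]; norm_cast
  have : Δ = Indec P S := by
    apply Subset.antisymm _ hsub
    intro α hα
    by_contra hcon
    obtain ⟨g, hg⟩ := exists_hom P hli (fun i => if i = α then 0 else 1)
    have h1 : P.root α ∈ natSpan P (Indec P S) := by
      have := hΔS hα; rw [hSe] at this; exact this
    have hgp : ∀ i ∈ Indec P S, 0 < g (P.root i) := by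
      intro i hi
      have hne : i ≠ α := by rintro rfl; exact hcon hi
      rw [hg i (hsub hi), if_neg hne]; norm_num
    have h2 := multiset_pos (f := g) hgp h1 (root_ne_zero P α)
    rw [hg α hα, if_pos rfl] at h2
    exact lt_irrefl _ h2
  rw [this]
  exact hsim

lemma natSpan_finsupp {Δ : Set ι} {y : M} (hy : y ∈ natSpan P Δ) :
    ∃ c : ι →₀ ℤ, ↑c.support ⊆ Δ ∧ (∀ j, 0 ≤ c j) ∧ Finsupp.linearCombination ℤ P.root c = y := by
  classical
  induction hy using AddSubmonoid.closure_induction with
  | mem x hx =>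
    obtain ⟨i, hi, rfl⟩ := hx
    refine ⟨Finsupp.single i 1, ?_, ?_, by simp⟩
    · intro j hj
      have := Finsupp.support_single_subset hj
      simp at this
      rw [this]; exact hi
    · intro j
      rw [Finsupp.single_apply]; split_ifs <;> norm_num
  | zero => exact ⟨0, by simp, by simp, by simp⟩
  | add x y _ _ hx hy =>
    obtain ⟨c, hc1, hc2, hc3⟩ := hx
    obtain ⟨d, hd1, hd2, hd3⟩ := hy
    refine ⟨c + d, ?_, fun j => add_nonneg (hc2 j) (hd2 j), by rw [map_add, hc3, hd3]⟩
    intro j hj
    have := Finsupp.support_add hj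
    rcases Finset.mem_union.mp this with h | h
    · exact hc1 h
    · exact hd1 h

lemma finsupp_natSpan {Δ : Set ι} {c : ι →₀ ℤ} (h1 : ↑c.support ⊆ Δ) (h2 : ∀ j, 0 ≤ c j) :
    Finsupp.linearCombination ℤ P.root c ∈ natSpan P Δ := by
  rw [Finsupp.linearCombination_apply, Finsupp.sum]
  apply sum_mem
  intro i hi
  obtain ⟨n, hn⟩ := Int.eq_ofNat_of_zero_le (h2 i)
  rw [hn, natCast_zsmul]
  exact AddSubmonoid.nsmul_mem _ (root_mem_natSpan P (h1 hi)) _

/-- S5447 -/
lemma isSimpleSys_of_unique {Δ : Set ι}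
    (h : ∀ k : ι, ∃! c : ι →₀ ℤ, (↑c.support ⊆ Δ ∧ ((∀ j, 0 ≤ c j) ∨ (∀ j, c j ≤ 0)) ∧
      Finsupp.linearCombination ℤ P.root c = P.root k)) :
    IsSimpleSys P Δ := by
  classical
  have hno : ∀ i ∈ Δ, ∀ y ∈ natSpan P Δ, P.root i + y ≠ 0 := by
    intro i hi y hy h0
    obtain ⟨c, hc1, hc2, hc3⟩ := natSpan_finsupp hy
    have hs1 : ∀ j, 0 ≤ (Finsupp.single i (1 : ℤ)) j := by
      intro j; rw [Finsupp.single_apply]; split_ifs <;> norm_num
    have hs2 : (↑(Finsupp.single i (1 : ℤ)).support : Set ι) ⊆ Δ := by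
      intro j hj
      have := Finsupp.support_single_subset hj
      simp at this
      rw [this]; exact hi
    have h1 := (h i).unique (y₁ := Finsupp.single i 1)
      (y₂ := Finsupp.single i 1 + (Finsupp.single i 1 + c)) ⟨hs2, Or.inl hs1, by simp⟩
      ⟨by
        intro j hj
        rcases Finset.mem_union.mp (Finsupp.support_add hj) with h | h
        · exact hs2 h
        · rcases Finset.mem_union.mp (Finsupp.support_add h) with h | h
          · exact hs2 h
          · exact hc1 h, Or.inl (fun j => add_nonneg (hs1 j) (add_nonneg (hs1 j) (hc2 j))), by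
        rw [map_add, map_add, hc3]; simp [h0]⟩
    have h2 := DFunLike.congr_fun h1 i
    have h3 := hc2 i
    simp at h2
    omega
  have hyz : ∀ y ∈ natSpan P Δ, ∀ z ∈ natSpan P Δ, y + z = 0 → y = 0 := by
    intro y hy z hz h0
    obtain ⟨s, hs, rfl⟩ := (mem_natSpan_iff P).mp hy
    rcases Multiset.empty_or_exists_mem s with h | ⟨j, hj⟩
    · rw [h]; simp
    · exfalso
      apply hno j (hs j hj) (((s.erase j).map P.root).sum + z)
      · apply add_mem _ hz
        rw [mem_natSpan_iff]
        exact ⟨_, fun i hi => hs i (Multiset.mem_of_mem_erase hi), rfl⟩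
      · rw [← h0]
        conv_rhs => rw [← Multiset.cons_erase hj, Multiset.map_cons, Multiset.sum_cons]
        abel
  have hcov : ∀ i, P.root i ∈ natSpan P Δ ∨ -P.root i ∈ natSpan P Δ := by
    intro i
    obtain ⟨c, ⟨h1, h2, h3⟩, -⟩ := h i
    rcases h2 with h2 | h2
    · left; rw [← h3]; exact finsupp_natSpan h1 h2
    · right
      have : -P.root i = Finsupp.linearCombination ℤ P.root (-c) := by rw [map_neg, h3]
      rw [this]
      exact finsupp_natSpan (by simpa using h1) (fun j => by simpa using h2 j)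
  have hS : IsPosSys P (posOf P Δ) := by
    rw [isPosSys_iff]
    refine ⟨?_, ?_, ?_⟩
    · intro i hi hi'
      rw [mem_posOf] at hi hi'
      rw [root_neg] at hi'
      exact root_ne_zero P i (hyz _ hi _ hi' (by abel))
    · intro i
      rw [mem_posOf, mem_posOf, root_neg]
      exact hcov i
    · intro i j k hi hj hk
      rw [mem_posOf, hk]
      exact add_mem hi hj
  have hsub : Δ ⊆ Indec P (posOf P Δ) := by
    intro i hi
    refine ⟨subset_posOf hi, ?_⟩
    intro j hj k hk e
    obtain ⟨c, hc1, hc2, hc3⟩ := natSpan_finsupp hj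
    obtain ⟨d, hd1, hd2, hd3⟩ := natSpan_finsupp hk
    have hs1 : ∀ j, 0 ≤ (Finsupp.single i (1 : ℤ)) j := by
      intro j; rw [Finsupp.single_apply]; split_ifs <;> norm_num
    have hs2 : (↑(Finsupp.single i (1 : ℤ)).support : Set ι) ⊆ Δ := by
      intro j hj
      have := Finsupp.support_single_subset hj
      simp at this
      rw [this]; exact hi
    have h1 := (h i).unique (y₁ := Finsupp.single i 1) (y₂ := c + d) ⟨hs2, Or.inl hs1, by simp⟩
      ⟨by
        intro j hj
        rcases Finset.mem_union.mp (Finsupp.support_add hj) with h | h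
        · exact hc1 h
        · exact hd1 h, Or.inl (fun j => add_nonneg (hc2 j) (hd2 j)), by
        rw [map_add, hc3, hd3, e]⟩
    have hother : ∀ l, l ≠ i → c l = 0 ∧ d l = 0 := by
      intro l hl
      have h2 := DFunLike.congr_fun h1 l
      rw [Finsupp.single_apply, if_neg (Ne.symm hl), Finsupp.add_apply] at h2
      have := hc2 l
      have := hd2 l
      constructor <;> omega
    have hi' := DFunLike.congr_fun h1 i
    rw [Finsupp.single_apply, if_pos rfl, Finsupp.add_apply] at hi'
    have h5 := hc2 i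
    have h6 := hd2 i
    have h7 : c i = 0 ∨ d i = 0 := by omega
    rcases h7 with h7 | h7
    · have : c = 0 := by
        ext l
        by_cases hl : l = i
        · rw [hl, h7]; rfl
        · rw [(hother l hl).1]; rfl
      rw [this, map_zero] at hc3
      exact root_ne_zero P j hc3.symm
    · have : d = 0 := by
        ext l
        by_cases hl : l = i
        · rw [hl, h7]; rfl
        · rw [(hother l hl).2]; rfl
      rw [this, map_zero] at hd3
      exact root_ne_zero P k hd3.symm
  exact ⟨(isSimpleSys_indec' hS).linInd.mono hsub, hcov⟩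

/-- S5458 -/
lemma closed_superset {Δ : Set ι} (hΔ : IsSimpleSys P Δ) {P' : Set ι} (hcl : IsClosedSub P P')
    (hSP : posOf P Δ ⊆ P') :
    P' = posOf P Δ ∪ {k : ι | -P.root k ∈ natSpan P {i : ι | i ∈ Δ ∧ P.reflectionPerm i i ∈ P'}} := by
  apply Subset.antisymm
  · intro k hk
    by_cases hkS : k ∈ posOf P Δ
    · exact Or.inl hkS
    · right
      have h1 := (hΔ.mem_or_neg_mem k).resolve_left hkS
      have key : ∀ j, P.root j ∈ natSpan P Δ →
          (P.reflectionPerm j j ∈ P' → P.root j ∈ natSpan P {i : ι | i ∈ Δ ∧ P.reflectionPerm i i ∈ P'}) := by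
        refine chain_induction P (S := Δ) (p := fun j => (P.reflectionPerm j j ∈ P' →
          P.root j ∈ natSpan P {i : ι | i ∈ Δ ∧ P.reflectionPerm i i ∈ P'})) ?_ ?_
        · intro j hj hj'
          exact root_mem_natSpan P ⟨hj, hj'⟩
        · intro i j k hi ih hj e hk'
          have hiS : i ∈ P' := hSP hi
          have hjP : j ∈ P' := hSP (subset_posOf hj)
          have h2 : P.reflectionPerm j j ∈ P' := hcl hk' hiS (by
            rw [root_neg, root_neg, e]; abel)
          have h3 : P.reflectionPerm i i ∈ P' := hcl hk' hjP (by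
            rw [root_neg, root_neg, e]; abel)
          rw [e]
          exact add_mem (ih h3) (root_mem_natSpan P ⟨hj, h2⟩)
      have h2 := key (P.reflectionPerm k k) (by rw [root_neg]; exact h1) (by rw [neg_neg']; exact hk)
      rw [root_neg] at h2
      exact h2
  · intro k hk
    rcases hk with hk | hk
    · exact hSP hk
    · have key : ∀ j, P.root j ∈ natSpan P {i : ι | i ∈ Δ ∧ P.reflectionPerm i i ∈ P'} →
          P.reflectionPerm j j ∈ P' := by
        refine chain_induction P (S := {i : ι | i ∈ Δ ∧ P.reflectionPerm i i ∈ P'})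
          (p := fun j => P.reflectionPerm j j ∈ P') ?_ ?_
        · intro j hj; exact hj.2
        · intro i j k hi ih hj e
          exact hcl ih hj.2 (by rw [root_neg, root_neg, root_neg, e]; abel)
      have := key (P.reflectionPerm k k) (by rw [root_neg]; exact hk)
      rwa [neg_neg'] at this

lemma lexPos (f0 f1 : M →+ ℚ) (h : ∀ i, f0 (P.root i) = 0 → f1 (P.root i) ≠ 0) :
    IsPosSys P {k | 0 < f0 (P.root k) ∨ (f0 (P.root k) = 0 ∧ 0 < f1 (P.root k))} := by
  rw [isPosSys_iff]
  refine ⟨?_, ?_, ?_⟩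
  · intro i hi hi'
    simp only [mem_ofPred_eq, root_neg, map_neg] at hi hi'
    rcases hi with hi | ⟨hi, hi2⟩ <;> rcases hi' with hi' | ⟨hi', hi2'⟩ <;> linarith
  · intro i
    simp only [mem_ofPred_eq, root_neg, map_neg]
    rcases lt_trichotomy (f0 (P.root i)) 0 with h1 | h1 | h1
    · right; left; linarith
    · rcases lt_trichotomy (f1 (P.root i)) 0 with h2 | h2 | h2
      · right; right; constructor <;> linarith
      · exact absurd h2 (h i h1)
      · left; right; exact ⟨h1, h2⟩
    · left; left; exact h1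
  · intro i j k hi hj e
    simp only [mem_ofPred_eq, e, map_add] at hi hj ⊢
    rcases hi with hi | ⟨hi, hi2⟩ <;> rcases hj with hj | ⟨hj, hj2⟩
    · left; linarith
    · left; linarith
    · left; linarith
    · right; constructor <;> linarith

/-- S5461 -/
lemma simple_extends {R' : Set ι}
    (hsat : ∀ k : ι, (∃ n : ℕ, 0 < n ∧ n • P.root k ∈ Submodule.span ℤ (P.root '' R')) → k ∈ R')
    {Δ' : Set ι} (hΔ'R : Δ' ⊆ R') (hli : LinearIndepOn ℤ P.root Δ')
    (hgen : ∀ k ∈ R', P.root k ∈ natSpan P Δ' ∨ -P.root k ∈ natSpan P Δ') :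
    ∃ Δ : Set ι, IsSimpleSys P Δ ∧ Δ' ⊆ Δ ∧ R' = inSpan P Δ' := by
  obtain ⟨f0, hf0, hf0'⟩ := exists_hom_vanishing (P := P) (Submodule.span ℤ (P.root '' R')) R'ᶜ
    (fun i hi n hn h => hi (hsat i ⟨n, hn, h⟩))
  obtain ⟨f1, hf1⟩ := exists_hom P hli (fun _ => 1)
  have hf0R : ∀ k, k ∈ R' ↔ f0 (P.root k) = 0 := by
    intro k
    constructor
    · intro hk; exact hf0 _ (Submodule.subset_span ⟨k, hk, rfl⟩)
    · intro h0; by_contra hk; exact hf0' k hk h0
  have hne : ∀ i, f0 (P.root i) = 0 → f1 (P.root i) ≠ 0 := by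
    intro i hi
    rcases hgen i ((hf0R i).mpr hi) with h | h
    · have := natSpan_hom_pos P hf1 h (root_ne_zero P i)
      intro h0; linarith
    · have := natSpan_hom_pos P hf1 h (by simpa using root_ne_zero P i)
      rw [map_neg] at this
      intro h0; linarith
  have hS := lexPos f0 f1 hne
  refine ⟨_, isSimpleSys_indec' hS, ?_, ?_⟩
  · intro i hi
    refine ⟨?_, ?_⟩
    · right
      exact ⟨(hf0R i).mp (hΔ'R hi), by rw [hf1 i hi]; norm_num⟩
    · intro j hj k hk e
      simp only [mem_ofPred_eq] at hj hk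
      have h0 : f0 (P.root i) = 0 := (hf0R i).mp (hΔ'R hi)
      have h1 : f1 (P.root i) = 1 := hf1 i hi
      rw [e, map_add] at h0 h1
      have hj0 : 0 ≤ f0 (P.root j) := by rcases hj with h | ⟨h, -⟩ <;> linarith
      have hk0 : 0 ≤ f0 (P.root k) := by rcases hk with h | ⟨h, -⟩ <;> linarith
      have hj1 : f0 (P.root j) = 0 := by linarith
      have hk1 : f0 (P.root k) = 0 := by linarith
      have hj2 : 0 < f1 (P.root j) := by rcases hj with h | ⟨-, h⟩ <;> linarith
      have hk2 : 0 < f1 (P.root k) := by rcases hk with h | ⟨-, h⟩ <;> linarith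
      have aux : ∀ l, f0 (P.root l) = 0 → 0 < f1 (P.root l) → 1 ≤ f1 (P.root l) := by
        intro l hl0 hl1
        rcases hgen l ((hf0R l).mpr hl0) with h | h
        · exact natSpan_hom_pos P hf1 h (root_ne_zero P l)
        · exfalso
          have := natSpan_hom_pos P hf1 h (by simpa using root_ne_zero P l)
          rw [map_neg] at this
          linarith
      have := aux j hj1 hj2
      have := aux k hk1 hk2
      linarith
  · apply Subset.antisymm
    · intro k hk
      rcases hgen k hk with h | h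
      · exact natSpan_le_span P h
      · exact (Submodule.neg_mem_iff _).mp (natSpan_le_span P h)
    · intro k hk
      apply hsat k
      refine ⟨1, one_pos, ?_⟩
      rw [one_smul]
      exact Submodule.span_mono (image_mono hΔ'R) hk

/-- S5460 forward -/
lemma sat_exists {R' : Set ι}
    (hsat : ∀ k : ι, (∃ n : ℕ, 0 < n ∧ n • P.root k ∈ Submodule.span ℤ (P.root '' R')) → k ∈ R') :
    ∃ Δ Δ' : Set ι, IsSimpleSys P Δ ∧ Δ' ⊆ Δ ∧ R' = inSpan P Δ' := by
  obtain ⟨f0, hf0, hf0'⟩ := exists_hom_vanishing (P := P) (Submodule.span ℤ (P.root '' R')) R'ᶜ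
    (fun i hi n hn h => hi (hsat i ⟨n, hn, h⟩))
  obtain ⟨f1, -, hf1⟩ := exists_hom_vanishing (P := P) ⊥ Set.univ (by
    intro i _ n hn h
    exact nsmul_root_ne_zero i n hn (by simpa using h))
  have hf0R : ∀ k, k ∈ R' ↔ f0 (P.root k) = 0 := by
    intro k
    constructor
    · intro hk; exact hf0 _ (Submodule.subset_span ⟨k, hk, rfl⟩)
    · intro h0; by_contra hk; exact hf0' k hk h0
  have hS := lexPos f0 f1 (fun i _ => hf1 i (mem_univ _))
  set S := {k | 0 < f0 (P.root k) ∨ (f0 (P.root k) = 0 ∧ 0 < f1 (P.root k))} with hSdef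
  have hsim := isSimpleSys_indec' hS
  have hSnn : ∀ k ∈ S, 0 ≤ f0 (P.root k) := by
    intro k hk
    rcases hk with h | ⟨h, -⟩ <;> linarith
  refine ⟨_, Indec P S ∩ R', hsim, inter_subset_left, ?_⟩
  apply Subset.antisymm
  · intro k hk
    have aux : ∀ y ∈ natSpan P (Indec P S), f0 y = 0 → y ∈ natSpan P (Indec P S ∩ R') := by
      intro y hy h0
      apply mem_natSpan_sub P (Δ := Indec P S) (g := f0) _ _ hy h0
      · intro i hi hi'
        have h1 := hSnn i hi.1
        rcases h1.lt_or_eq with h2 | h2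
        · exact h2
        · exact absurd ⟨hi, (hf0R i).mpr h2.symm⟩ hi'
      · intro i hi
        exact (hf0R i).mp hi.2
    have h0 := (hf0R k).mp hk
    rcases hsim.mem_or_neg_mem k with h | h
    · exact natSpan_le_span P (aux _ h h0)
    · exact (Submodule.neg_mem_iff _).mp (natSpan_le_span P (aux _ h (by rw [map_neg, h0, neg_zero])))
  · intro k hk
    apply hsat k
    refine ⟨1, one_pos, ?_⟩
    rw [one_smul]
    exact Submodule.span_mono (image_mono inter_subset_right) hk

end Groth.Agent.H8RootD
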