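import Groth.Agent.Lib.H8RootDF

set_option autoImplicit false
set_option linter.unusedSectionVars false
set_option linter.unusedSimpArgs false

namespace Groth.Agent.H8RootD

open RootPairing Set RootD

variable {ι M N : Type*} [AddCommGroup M] [AddCommGroup N] {P : RootPairing ι ℤ M N} [Finite ι]

/-- S5495 -/
lemma dvd_of_smul_eq {i j : ι} (hind : IsIndiv P i) {a b : ℤ} (hb : b ≠ 0)
    (h : b • P.root j = a • P.root i) : b ∣ a := by
  have hM := Module.IsReflexive.of_isPerfPair P.toLinearMap
  have h1 := congrArg (P.coroot' j) h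
  have h2 := congrArg (P.coroot' i) h
  rw [map_smul, map_smul] at h1 h2
  have e1 : P.coroot' j (P.root j) = 2 := by simp
  have e2 : P.coroot' i (P.root i) = 2 := by simp
  have e3 : P.coroot' j (P.root i) = P.pairing i j := rfl
  have e4 : P.coroot' i (P.root j) = P.pairing j i := rfl
  rw [e1, e3] at h1
  rw [e2, e4] at h2
  simp only [smul_eq_mul] at h1 h2
  have ha : a ≠ 0 := by
    rintro rfl
    rw [zero_mul] at h1
    apply hb; linarith
  have hpq : P.pairing i j * P.pairing j i = 4 := by
    have : (a * b) * (P.pairing i j * P.pairing j i) = (a * b) * 4 := by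
      calc (a * b) * (P.pairing i j * P.pairing j i) = (a * P.pairing i j) * (b * P.pairing j i) := by ring
        _ = (b * 2) * (a * 2) := by rw [← h1, h2]
        _ = (a * b) * 4 := by ring
    exact mul_left_cancel₀ (mul_ne_zero ha hb) this
  have hmem := P.pairingIn_pairingIn_mem_set_of_isCrystallographic i j
  simp only [pairingIn_eq] at hmem
  simp only [mem_insert_iff, mem_singleton_iff, Prod.mk.injEq] at hmem
  have hcancel : ∀ {c : ℤ} {x y : M}, c ≠ 0 → c • x = c • y → x = y := by
    intro c x y hc h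
    exact smul_right_injective M hc h
  rcases hmem with ⟨h3, h4⟩ | ⟨h3, h4⟩ | ⟨h3, h4⟩ | ⟨h3, h4⟩ | ⟨h3, h4⟩ | ⟨h3, h4⟩ | ⟨h3, h4⟩ |
    ⟨h3, h4⟩ | ⟨h3, h4⟩ | ⟨h3, h4⟩ | ⟨h3, h4⟩ | ⟨h3, h4⟩ | ⟨h3, h4⟩ | ⟨h3, h4⟩ | ⟨h3, h4⟩ |
    ⟨h3, h4⟩ | ⟨h3, h4⟩ <;> rw [h3, h4] at hpq <;> rw [h3] at h1 <;> rw [h4] at h2 <;>
    try (exfalso; omega)
  · -- (4,1): b = 2a
    exfalso
    have hb2 : b = 2 * a := by linarith
    rw [hb2, mul_comm, mul_smul] at h
    exact hind j (hcancel ha h)
  · -- (1,4): a = 2 b
    exact ⟨2, by linarith⟩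
  · -- (-4,-1): b = -2a
    exfalso
    have hb2 : b = a * (-2) := by linarith
    rw [hb2, mul_smul] at h
    have h5 := hcancel ha h
    apply hind (P.reflectionPerm j j)
    rw [root_neg, smul_neg, ← neg_smul, h5]
  · exact ⟨-2, by linarith⟩
  · exact ⟨1, by linarith⟩
  · exact ⟨-1, by linarith⟩

/-- S5505 -/
lemma part_nonorth {R' : Set ι} (hc : IsClosedSub P R')
    (hs : IsSymmSub P R') (hc' : IsClosedSub P R'ᶜ) (hs' : IsSymmSub P R'ᶜ)
    {i j : ι} (hi : i ∈ R') (hij : P.pairing i j ≠ 0) : j ∈ R' := by
  -- if root i - root j or root i + root j is a root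
  have sym : ∀ k, P.reflectionPerm k k ∈ R' → k ∈ R' := by
    intro k hk
    have := hs hk
    rwa [neg_neg'] at this
  have sym' : ∀ k, P.reflectionPerm k k ∈ R'ᶜ → k ∈ R'ᶜ := by
    intro k hk
    have := hs' hk
    rwa [neg_neg'] at this
  have key : ∀ i j, i ∈ R' → 0 < P.pairing i j → j ∈ R' := by
    intro i j hi hpos
    by_contra hj
    by_cases hne : i = j
    · exact hj (hne ▸ hi)
    obtain ⟨k, hk⟩ := exists_sub P hpos hne
    by_cases hkR : k ∈ R'
    · -- root j = root i - root k = root i + root (neg k)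
      exact hj (hc hi (hs hkR) (by rw [root_neg, hk]; abel))
    · -- root i = root k + root j
      exact (hc' hkR hj (k := i) (by rw [hk]; abel)) hi
  rcases lt_or_gt_of_ne hij with h | h
  · have h2 : 0 < P.pairing i (P.reflectionPerm j j) := by
      rw [P.pairing_reflectionPerm_self_right]; linarith
    exact sym j (key i _ hi h2)
  · exact key i j hi h

/-- S5497 -/
lemma part_add {R' : Set ι} (hc : IsClosedSub P R')
    (hs : IsSymmSub P R') (hc' : IsClosedSub P R'ᶜ) (hs' : IsSymmSub P R'ᶜ)
    {i j k : ι} (h : P.root k = P.root i + P.root j) :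
    (i ∈ R' ∧ j ∈ R' ∧ k ∈ R') ∨ (i ∉ R' ∧ j ∉ R' ∧ k ∉ R') := by
  -- pairing k i or pairing k j nonzero
  have h1 : P.pairing i k + P.pairing j k = 2 := by
    have := congrArg (P.coroot' k) h
    rw [map_add] at this
    have e : P.coroot' k (P.root k) = 2 := by simp
    rw [e] at this
    exact this.symm
  have hsub : ∀ (Q : Set ι), IsClosedSub P Q → IsSymmSub P Q → IsClosedSub P Qᶜ → IsSymmSub P Qᶜ →
      k ∈ Q → i ∈ Q ∧ j ∈ Q := by
    intro Q q1 q2 q3 q4 hk
    by_cases hi0 : P.pairing i k = 0
    · have hj0 : P.pairing j k ≠ 0 := by omega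
      have hkj : P.pairing k j ≠ 0 := fun h0 => hj0 (pairing_zero_symm P h0)
      have hj := part_nonorth q1 q2 q3 q4 hk hkj
      refine ⟨?_, hj⟩
      exact q1 hk (q2 hj) (by rw [root_neg, h]; abel)
    · have hki : P.pairing k i ≠ 0 := fun h0 => hi0 (pairing_zero_symm P h0)
      have hi := part_nonorth q1 q2 q3 q4 hk hki
      refine ⟨hi, ?_⟩
      exact q1 hk (q2 hi) (by rw [root_neg, h]; abel)
  by_cases hk : k ∈ R'
  · left
    have := hsub R' hc hs hc' hs' hk
    exact ⟨this.1, this.2, hk⟩
  · right
    have := hsub R'ᶜ hc' hs' (by rwa [compl_compl]) (by rwa [compl_compl]) hk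
    exact ⟨this.1, this.2, hk⟩

/-- S5506 -/
lemma component (i : ι) :
    IsClosedSub P {j : ι | Relation.ReflTransGen (fun a b : ι => ¬ P.IsOrthogonal a b) i j} ∧
    IsSymmSub P {j : ι | Relation.ReflTransGen (fun a b : ι => ¬ P.IsOrthogonal a b) i j} ∧
    IsClosedSub P {j : ι | Relation.ReflTransGen (fun a b : ι => ¬ P.IsOrthogonal a b) i j}ᶜ ∧
    IsSymmSub P {j : ι | Relation.ReflTransGen (fun a b : ι => ¬ P.IsOrthogonal a b) i j}ᶜ := by
  have horth : ∀ a b, P.IsOrthogonal a b ↔ P.pairing a b = 0 := by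
    intro a b
    constructor
    · intro h; exact h.1
    · intro h; exact ⟨h, pairing_zero_symm P h⟩
  have hnegno : ∀ a b, ¬ P.IsOrthogonal a b → ¬ P.IsOrthogonal a (P.reflectionPerm b b) := by
    intro a b h h'
    rw [horth] at h h'
    rw [P.pairing_reflectionPerm_self_right] at h'
    exact h (by linarith)
  have hself : ∀ a, ¬ P.IsOrthogonal a (P.reflectionPerm a a) := by
    intro a h'
    rw [horth, P.pairing_reflectionPerm_self_right] at h'
    simp at h'
  have hself' : ∀ a, ¬ P.IsOrthogonal (P.reflectionPerm a a) a := by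
    intro a h'
    rw [horth, P.pairing_reflectionPerm_self_left] at h'
    simp at h'
  have hsymC : IsSymmSub P {j : ι | Relation.ReflTransGen (fun a b : ι => ¬ P.IsOrthogonal a b) i j} := by
    intro j hj
    exact Relation.ReflTransGen.tail hj (hself j)
  have hsymC' : IsSymmSub P {j : ι | Relation.ReflTransGen (fun a b : ι => ¬ P.IsOrthogonal a b) i j}ᶜ := by
    intro j hj hj'
    exact hj (Relation.ReflTransGen.tail hj' (hself' j))
  have hsum : ∀ a b k, P.root k = P.root a + P.root b →
      P.pairing a k + P.pairing b k = 2 := by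
    intro a b k h
    have := congrArg (P.coroot' k) h
    rw [map_add] at this
    have e : P.coroot' k (P.root k) = 2 := by simp
    rw [e] at this
    exact this.symm
  refine ⟨?_, hsymC, ?_, hsymC'⟩
  · intro a b k ha hb hk
    have h1 := hsum a b k hk
    by_cases h0 : P.pairing a k = 0
    · have h2 : P.pairing b k ≠ 0 := by omega
      exact Relation.ReflTransGen.tail hb (by rw [horth]; exact h2)
    · exact Relation.ReflTransGen.tail ha (by rw [horth]; exact h0)
  · intro a b k ha hb hk hkC
    have h1 := hsum a b k hk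
    by_cases h0 : P.pairing a k = 0
    · have h2 : P.pairing b k ≠ 0 := by omega
      exact hb (Relation.ReflTransGen.tail hkC (by
        rw [horth]; exact fun h => h2 (pairing_zero_symm P h)))
    · exact ha (Relation.ReflTransGen.tail hkC (by
        rw [horth]; exact fun h => h0 (pairing_zero_symm P h)))

/-- S5468 -/
lemma orth_of_commute {i j : ι}
    (hne : P.reflection i ≠ P.reflection j) (hc : Commute (P.reflection i) (P.reflection j)) :
    P.IsOrthogonal i j := by
  have hM := Module.IsReflexive.of_isPerfPair P.toLinearMap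
  have hcancel : ∀ {c : ℤ} {x y : M}, c ≠ 0 → c • x = c • y → x = y := by
    intro c x y hc h
    exact smul_right_injective M hc h
  by_cases hp : P.pairing i j = 0
  · exact ⟨hp, pairing_zero_symm P hp⟩
  exfalso
  have h1 : P.reflection i (P.reflection j (P.root i)) = P.reflection j (P.reflection i (P.root i)) := by
    have := congrArg (fun e => e (P.root i)) hc.eq
    exact this
  rw [P.reflection_apply_self, map_neg, P.reflection_apply_root, map_sub, map_smul,
    P.reflection_apply_self, P.reflection_apply_root] at h1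
  have h2 : (P.pairing i j * P.pairing j i) • P.root i = (2 * P.pairing i j) • P.root j := by
    have : (P.pairing i j * P.pairing j i) • P.root i - (2 * P.pairing i j) • P.root j
       = (-P.root i - P.pairing i j • (P.root j - P.pairing j i • P.root i)) -
        -(P.root i - P.pairing i j • P.root j) := by module
    rw [h1, sub_self] at this
    exact sub_eq_zero.mp this
  have h3 : P.pairing j i • P.root i = (2 : ℤ) • P.root j := by
    apply hcancel hp
    rw [smul_smul, h2, smul_smul, mul_comm 2]
  have hq : P.pairing j i ≠ 0 := fun h => hp (pairing_zero_symm P h)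
  have h4 := congrArg (P.coroot' j) h3
  rw [map_smul, map_smul] at h4
  have e1 : P.coroot' j (P.root j) = 2 := by simp
  have e3 : P.coroot' j (P.root i) = P.pairing i j := rfl
  rw [e1, e3] at h4
  simp only [smul_eq_mul] at h4
  apply hne
  have hrefl : ∀ {a b : ι}, Equiv.reflection P a = Equiv.reflection P b →
      P.reflection a = P.reflection b := by
    intro a b h
    rw [← Equiv.reflection_weightEquiv, h, Equiv.reflection_weightEquiv]
  have hneg : ∀ a : ι, Equiv.reflection P (P.reflectionPerm a a) = Equiv.reflection P a := by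
    intro a
    rw [← reflection_smul_idx, ← conj_reflection, Equiv.reflection_inv, reflection_mul_self, one_mul]
  have hmem := P.pairingIn_pairingIn_mem_set_of_isCrystallographic i j
  simp only [pairingIn_eq] at hmem
  simp only [mem_insert_iff, mem_singleton_iff, Prod.mk.injEq] at hmem
  rcases hmem with ⟨h5, h6⟩ | ⟨h5, h6⟩ | ⟨h5, h6⟩ | ⟨h5, h6⟩ | ⟨h5, h6⟩ | ⟨h5, h6⟩ | ⟨h5, h6⟩ |
    ⟨h5, h6⟩ | ⟨h5, h6⟩ | ⟨h5, h6⟩ | ⟨h5, h6⟩ | ⟨h5, h6⟩ | ⟨h5, h6⟩ | ⟨h5, h6⟩ | ⟨h5, h6⟩ |
    ⟨h5, h6⟩ | ⟨h5, h6⟩ <;> rw [h5, h6] at h4 <;> rw [h6] at h3 <;>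
    try (exfalso; omega)
  · -- (4,1) : root i = 2 root j
    rw [one_smul] at h3
    exact hrefl (reflection_eq_of_two h3.symm)
  · -- (1,4) : 4 root i = 2 root j
    have : (2 : ℤ) • P.root i = P.root j := by
      apply hcancel (c := 2) two_ne_zero
      rw [smul_smul, ← h3]; norm_num
    exact (hrefl (reflection_eq_of_two this)).symm
  · -- (-4,-1)
    have : (2 : ℤ) • P.root j = P.root (P.reflectionPerm i i) := by
      rw [root_neg, ← h3, neg_smul, one_smul]
    have h7 := hrefl (reflection_eq_of_two this)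
    rw [hrefl (hneg i)] at h7
    exact h7
  · have : (2 : ℤ) • P.root i = P.root (P.reflectionPerm j j) := by
      apply hcancel (c := 2) two_ne_zero
      rw [smul_smul, root_neg, smul_neg, ← h3, ← neg_smul]; norm_num
    have h7 := hrefl (reflection_eq_of_two this)
    rw [hrefl (hneg j)] at h7
    exact h7.symm
  · have : P.root i = P.root j := hcancel two_ne_zero h3
    rw [P.root.injective this]
  · have : P.root i = P.root (P.reflectionPerm j j) := by
      apply hcancel (c := 2) two_ne_zero
      rw [root_neg, smul_neg, ← h3, neg_smul, neg_neg]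
    rw [P.root.injective this]
    exact hrefl (hneg j)

lemma length_rel [Fintype ι] (i j : ι) :
    P.pairing i j * P.RootForm (P.root j) (P.root j) = P.pairing j i * P.RootForm (P.root i) (P.root i) := by
  have h1 := two_mul_rootForm P (P.root i) j
  have h2 := two_mul_rootForm P (P.root j) i
  rw [rootForm_symm] at h2
  have e1 : P.coroot' j (P.root i) = P.pairing i j := rfl
  have e2 : P.coroot' i (P.root j) = P.pairing j i := rfl
  rw [e1] at h1
  rw [e2] at h2
  rw [h1] at h2
  linarith

lemma pairing_refl (l a b : ι) :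
    P.pairing (P.reflectionPerm l a) b = P.pairing a b - P.pairing a l * P.pairing l b := by
  have e : P.pairing (P.reflectionPerm l a) b =
    P.coroot' b (P.root (P.reflectionPerm l a)) := rfl
  rw [e, P.root_reflectionPerm, P.reflection_apply_root, map_sub, LinearMap.map_smul]
  rfl

/-- S5469 -/
lemma conj_of_length [Fintype ι] {i j : ι} (hno : P.pairing i j ≠ 0)
    (hl : P.RootForm (P.root i) (P.root i) = P.RootForm (P.root j) (P.root j)) :
    ∃ g : P.Aut, g ∈ P.weylGroup ∧ g • i = j := by
  have := Module.IsReflexive.of_isPerfPair P.toLinearMap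
  have := Module.IsReflexive.of_isPerfPair P.flip.toLinearMap
  have h1 := length_rel (P := P) i j
  rw [hl] at h1
  have h2 : P.pairing i j = P.pairing j i :=
    mul_right_cancel₀ (rootForm_root_pos P j).ne' h1
  have hmem := P.pairingIn_pairingIn_mem_set_of_isCrystallographic i j
  simp only [pairingIn_eq] at hmem
  simp only [mem_insert_iff, mem_singleton_iff, Prod.mk.injEq] at hmem
  have hcases : P.pairing i j = 1 ∨ P.pairing i j = -1 ∨ P.pairing i j = 2 ∨ P.pairing i j = -2 := by
    omega
  have hi := P.reflection_mem_weylGroup i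
  have hj := P.reflection_mem_weylGroup j
  rcases hcases with h | h | h | h
  · refine ⟨Equiv.reflection P j * Equiv.reflection P i * Equiv.reflection P j,
      mul_mem (mul_mem hj hi) hj, ?_⟩
    apply P.root.injective
    rw [root_smul, mul_smul, mul_smul, Equiv.reflection_smul, Equiv.reflection_smul,
      Equiv.reflection_smul, P.reflection_apply_root, h, one_smul, map_sub,
      P.reflection_apply_self, P.reflection_apply_root, ← h2, h, one_smul, map_sub, map_neg, map_sub,
      P.reflection_apply_self, P.reflection_apply_root, h, one_smul]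
    abel
  · refine ⟨Equiv.reflection P i * Equiv.reflection P j, mul_mem hi hj, ?_⟩
    apply P.root.injective
    rw [root_smul, mul_smul, Equiv.reflection_smul, Equiv.reflection_smul,
      P.reflection_apply_root, h, map_sub, map_smul, P.reflection_apply_self,
      P.reflection_apply_root, ← h2, h]
    module
  · refine ⟨1, one_mem _, ?_⟩
    rw [one_smul]
    have := (P.pairingIn_two_two_iff ℤ i j).mp ⟨by rw [pairingIn_eq, h], by rw [pairingIn_eq, ← h2, h]⟩
    exact this
  · refine ⟨Equiv.reflection P j, hj, ?_⟩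
    have h3 : P.pairing i (P.reflectionPerm j j) = 2 := by
      rw [P.pairing_reflectionPerm_self_right, h]; norm_num
    have h4 : P.pairing (P.reflectionPerm j j) i = 2 := by
      rw [P.pairing_reflectionPerm_self_left, ← h2, h]; norm_num
    have := (P.pairingIn_two_two_iff ℤ i (P.reflectionPerm j j)).mp
      ⟨by rw [pairingIn_eq, h3], by rw [pairingIn_eq, h4]⟩
    rw [this, reflection_smul_idx, P.reflectionPerm_self]

/-- in the irreducible case, any orbit meets the non-orthogonal set of any root -/
lemma exists_nonorth_of_chain {j l : ι}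
    (h : Relation.ReflTransGen (fun a b : ι => ¬ P.IsOrthogonal a b) j l) :
    ∃ g : P.Aut, g ∈ P.weylGroup ∧ P.pairing l (g • j) ≠ 0 := by
  induction h with
  | refl => exact ⟨1, one_mem _, by rw [one_smul]; simp⟩
  | @tail l l' _ hll' ih =>
    obtain ⟨g, hg, h1⟩ := ih
    have hll : P.pairing l' l ≠ 0 := by
      intro h0
      exact hll' ⟨pairing_zero_symm P h0, h0⟩
    by_cases h2 : P.pairing l' (g • j) = 0
    · refine ⟨Equiv.reflection P l * g, mul_mem (P.reflection_mem_weylGroup l) hg, ?_⟩
      rw [mul_smul, reflection_smul_idx]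
      intro h3
      have h4 := pairing_zero_symm P h3
      have h5 := pairing_zero_symm P h2
      -- pairing (s_l (g j)) l' = pairing (g j) l' - pairing (g j) l * pairing l l'
      have h6 : P.pairing (P.reflectionPerm l (g • j)) l' =
          P.pairing (g • j) l' - P.pairing (g • j) l * P.pairing l l' := pairing_refl _ _ _
      rw [h4, h5] at h6
      have h7 : P.pairing (g • j) l ≠ 0 := fun h0 => h1 (pairing_zero_symm P h0)
      have h8 : P.pairing l l' ≠ 0 := fun h0 => hll (pairing_zero_symm P h0)
      apply mul_ne_zero h7 h8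
      linarith
    · exact ⟨g, hg, h2⟩

lemma chain_of_irred
    (hirr : ∀ R' : Set ι, IsClosedSub P R' → IsSymmSub P R' → IsClosedSub P R'ᶜ →
      IsSymmSub P R'ᶜ → R' = ∅ ∨ R' = Set.univ) (i j : ι) :
    Relation.ReflTransGen (fun a b : ι => ¬ P.IsOrthogonal a b) i j := by
  obtain ⟨h1, h2, h3, h4⟩ := component (P := P) i
  rcases hirr _ h1 h2 h3 h4 with h | h
  · exfalso
    have : i ∈ {j : ι | Relation.ReflTransGen (fun a b : ι => ¬ P.IsOrthogonal a b) i j} :=
      Relation.ReflTransGen.refl
    rw [h] at this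
    exact this
  · have : j ∈ {j : ι | Relation.ReflTransGen (fun a b : ι => ¬ P.IsOrthogonal a b) i j} := by
      rw [h]; trivial
    exact this

lemma exists_nonorth_of_irred
    (hirr : ∀ R' : Set ι, IsClosedSub P R' → IsSymmSub P R' → IsClosedSub P R'ᶜ →
      IsSymmSub P R'ᶜ → R' = ∅ ∨ R' = Set.univ) (l j : ι) :
    ∃ g : P.Aut, g ∈ P.weylGroup ∧ P.pairing l (g • j) ≠ 0 :=
  exists_nonorth_of_chain (chain_of_irred hirr j l)

lemma length_smul [Fintype ι] (g : P.Aut) (j : ι) :
    P.RootForm (P.root (g • j)) (P.root (g • j)) = P.RootForm (P.root j) (P.root j) := by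
  rw [root_smul, rootForm_smul]

end Groth.Agent.H8RootD
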