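import Groth.Agent.Lib.H8RootDG

set_option autoImplicit false
set_option linter.unusedSectionVars false
set_option linter.unusedSimpArgs false

namespace Groth.Agent.H8RootD

open RootPairing Set RootD

variable {ι M N : Type*} [AddCommGroup M] [AddCommGroup N] {P : RootPairing ι ℤ M N} [Finite ι]

lemma exists_simple_containing {i : ι} (hi : IsIndiv P i) :
    ∃ Δ : Set ι, IsSimpleSys P Δ ∧ i ∈ Δ := by
  obtain ⟨Δ, hΔ⟩ := exists_simple P
  obtain ⟨g, hg, j, hj, e⟩ := exists_simple_conj hΔ hi
  exact ⟨_, isSimpleSys_image g hΔ, ⟨j, hj, e⟩⟩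

/-- S5464 -/
lemma exists_pair {i k : ι} (hα : IsIndiv P i)
    (hli : LinearIndependent ℤ ![P.root i, P.root k]) :
    ∃ Δ : Set ι, IsSimpleSys P Δ ∧ i ∈ Δ ∧
      ∃ j ∈ Δ, ∃ a b : ℕ, P.root k = a • P.root i + b • P.root j := by
  classical
  have hM := Module.IsReflexive.of_isPerfPair P.toLinearMap
  rw [LinearIndependent.pair_iff] at hli
  have hik : i ≠ k := by
    rintro rfl
    have := hli 1 (-1) (by simp)
    omega
  have hliOn : LinearIndepOn ℤ P.root ({i, k} : Set ι) := by
    rw [LinearIndepOn.pair_iff _ hik]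
    exact hli
  let L : Submodule ℤ M := Submodule.span ℤ {P.root i, P.root k}
  let T : Set ι := {l | ∀ n : ℕ, 0 < n → n • P.root l ∉ L}
  obtain ⟨f0, hf0, hf0'⟩ := exists_hom_vanishing (P := P) L T (fun l hl => hl)
  obtain ⟨f1, hf1⟩ := exists_hom P hliOn (fun l => if l = k then 1 else 0)
  obtain ⟨f2, hf2⟩ := exists_hom P hliOn (fun l => if l = i then 1 else 0)
  have f1i : f1 (P.root i) = 0 := by rw [hf1 i (by simp), if_neg hik]
  have f1k : f1 (P.root k) = 1 := by rw [hf1 k (by simp), if_pos rfl]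
  have f2i : f2 (P.root i) = 1 := by rw [hf2 i (by simp), if_pos rfl]
  have f0i : f0 (P.root i) = 0 := hf0 _ (Submodule.subset_span (by simp))
  have f0k : f0 (P.root k) = 0 := hf0 _ (Submodule.subset_span (by simp))
  -- roots with f0 = 0
  have hplane : ∀ l, f0 (P.root l) = 0 → ∃ (n : ℤ) (a b : ℤ), n ≠ 0 ∧
      n • P.root l = a • P.root i + b • P.root k := by
    intro l hl
    have : l ∉ T := fun h => hf0' l h hl
    simp only [T, mem_ofPred_eq] at this
    push Not at this
    obtain ⟨n, hn, h⟩ := this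
    obtain ⟨a, b, hab⟩ := Submodule.mem_span_pair.mp h
    exact ⟨n, a, b, by omega, by rw [hab, natCast_zsmul]⟩
  have hline : ∀ l, f0 (P.root l) = 0 → f1 (P.root l) = 0 → ∃ m : ℤ, P.root l = m • P.root i := by
    intro l h0 h1
    obtain ⟨n, a, b, hn, h⟩ := hplane l h0
    have h2 := congrArg f1 h
    rw [map_add, map_zsmul, map_zsmul, map_zsmul, h1, f1i, f1k, smul_zero, smul_zero, zero_add] at h2
    have hb : b = 0 := by
      have h3 : (b : ℚ) = 0 := by simpa using h2.symm
      exact_mod_cast h3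
    rw [hb, zero_smul, add_zero] at h
    obtain ⟨m, hm⟩ := dvd_of_smul_eq hα hn h
    refine ⟨m, ?_⟩
    apply smul_right_injective M hn
    change n • P.root l = n • (m • P.root i)
    rw [h, hm, smul_smul]
  let S : Set ι := {l | 0 < f0 (P.root l) ∨ (f0 (P.root l) = 0 ∧ 0 < f1 (P.root l)) ∨
    (f0 (P.root l) = 0 ∧ f1 (P.root l) = 0 ∧ 0 < f2 (P.root l))}
  have hS : IsPosSys P S := by
    rw [isPosSys_iff]
    refine ⟨?_, ?_, ?_⟩
    · intro l hl hl'
      simp only [S, mem_ofPred_eq, root_neg, map_neg] at hl hl'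
      rcases hl with hl | ⟨hl, hl2⟩ | ⟨hl, hl2, hl3⟩ <;>
        rcases hl' with hl' | ⟨hl', hl2'⟩ | ⟨hl', hl2', hl3'⟩ <;> linarith
    · intro l
      simp only [S, mem_ofPred_eq, root_neg, map_neg]
      rcases lt_trichotomy (f0 (P.root l)) 0 with h1 | h1 | h1
      · right; left; linarith
      · rcases lt_trichotomy (f1 (P.root l)) 0 with h2 | h2 | h2
        · right; right; left; constructor <;> linarith
        · obtain ⟨m, hm⟩ := hline l h1 h2
          have hm0 : m ≠ 0 := by
            rintro rfl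
            exact root_ne_zero P l (by rw [hm, zero_smul])
          have h3 : f2 (P.root l) = m := by
            rw [hm, map_zsmul, f2i]; simp
          have h3' : (m : ℚ) ≠ 0 := by exact_mod_cast hm0
          rcases lt_trichotomy (f2 (P.root l)) 0 with h4 | h4 | h4
          · right; right; right; refine ⟨?_, ?_, ?_⟩ <;> linarith
          · rw [h3] at h4; exact absurd h4 h3'
          · left; right; right; exact ⟨h1, h2, h4⟩
        · left; right; left; exact ⟨h1, h2⟩
      · left; left; exact h1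
    · intro a b c ha hb e
      simp only [S, mem_ofPred_eq, e, map_add] at ha hb ⊢
      rcases ha with ha | ⟨ha, ha2⟩ | ⟨ha, ha2, ha3⟩ <;>
        rcases hb with hb | ⟨hb, hb2⟩ | ⟨hb, hb2, hb3⟩
      · left; linarith
      · left; linarith
      · left; linarith
      · left; linarith
      · right; left; constructor <;> linarith
      · right; left; constructor <;> linarith
      · left; linarith
      · right; left; constructor <;> linarith
      · right; right; refine ⟨?_, ?_, ?_⟩ <;> linarith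
  have hsim := isSimpleSys_indec' hS
  have hSe := eq_posOf hsim hS (indec_subset P S)
  have hSnn : ∀ l ∈ S, 0 ≤ f0 (P.root l) := by
    intro l hl
    rcases hl with h | ⟨h, -⟩ | ⟨h, -⟩ <;> linarith
  have hiΔ : i ∈ Indec P S := by
    refine ⟨Or.inr (Or.inr ⟨f0i, f1i, by rw [f2i]; norm_num⟩), ?_⟩
    intro a ha b hb e
    have h0 : f0 (P.root a) + f0 (P.root b) = 0 := by rw [← map_add, ← e, f0i]
    have ha0 := hSnn a ha
    have hb0 := hSnn b hb
    have ha0' : f0 (P.root a) = 0 := by linarith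
    have hb0' : f0 (P.root b) = 0 := by linarith
    have h1 : f1 (P.root a) + f1 (P.root b) = 0 := by rw [← map_add, ← e, f1i]
    have ha1 : 0 ≤ f1 (P.root a) := by
      rcases ha with h | ⟨h, h'⟩ | ⟨h, h', -⟩ <;> linarith
    have hb1 : 0 ≤ f1 (P.root b) := by
      rcases hb with h | ⟨h, h'⟩ | ⟨h, h', -⟩ <;> linarith
    have ha1' : f1 (P.root a) = 0 := by linarith
    have hb1' : f1 (P.root b) = 0 := by linarith
    have ha2 : 0 < f2 (P.root a) := by
      rcases ha with h | ⟨h, h'⟩ | ⟨h, h', h''⟩ <;> linarith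
    have hb2 : 0 < f2 (P.root b) := by
      rcases hb with h | ⟨h, h'⟩ | ⟨h, h', h''⟩ <;> linarith
    obtain ⟨ma, hma⟩ := hline a ha0' ha1'
    obtain ⟨mb, hmb⟩ := hline b hb0' hb1'
    have h2a : f2 (P.root a) = ma := by rw [hma, map_zsmul, f2i]; simp
    have h2b : f2 (P.root b) = mb := by rw [hmb, map_zsmul, f2i]; simp
    have h2 : f2 (P.root a) + f2 (P.root b) = 1 := by rw [← map_add, ← e, f2i]
    rw [h2a, h2b] at h2
    rw [h2a] at ha2
    rw [h2b] at hb2
    have h3 : ma + mb = 1 := by exact_mod_cast h2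
    have h4 : 0 < ma := by exact_mod_cast ha2
    have h5 : 0 < mb := by exact_mod_cast hb2
    omega
  have hkS : P.root k ∈ natSpan P (Indec P S) := by
    have : k ∈ S := Or.inr (Or.inl ⟨f0k, by rw [f1k]; norm_num⟩)
    rw [hSe] at this
    exact this
  -- restrict to plane
  have hkS' : P.root k ∈ natSpan P (Indec P S ∩ {l | f0 (P.root l) = 0}) := by
    apply mem_natSpan_sub P (Δ := Indec P S) (g := f0) _ _ hkS f0k
    · intro l hl hl'
      have h1 := hSnn l hl.1
      rcases h1.lt_or_eq with h2 | h2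
      · exact h2
      · exact absurd ⟨hl, h2.symm⟩ hl'
    · intro l hl; exact hl.2
  have hnotline : ∀ n : ℕ, P.root k ≠ n • P.root i := by
    intro n hn
    have := hli (n : ℤ) (-1) (by rw [hn]; simp)
    omega
  have hex : ∃ j ∈ Indec P S, f0 (P.root j) = 0 ∧ j ≠ i := by
    by_contra hcon
    push Not at hcon
    have h1 : P.root k ∈ natSpan P {i} := by
      apply natSpan_mono P _ hkS'
      rintro l ⟨hl, hl0⟩
      exact hcon l hl hl0
    obtain ⟨n, hn⟩ := mem_natSpan_singleton.mp h1
    exact hnotline n hn.symm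
  obtain ⟨j, hj, hj0, hji⟩ := hex
  have huniq : ∀ j' ∈ Indec P S, f0 (P.root j') = 0 → j' = i ∨ j' = j := by
    intro j' hj' hj'0
    by_contra hcon
    push Not at hcon
    obtain ⟨hj'i, hj'j⟩ := hcon
    obtain ⟨h, hh⟩ := exists_hom P hsim.linInd (fun l => if l = j' then 1 else 0)
    have hhi : h (P.root i) = 0 := by rw [hh i hiΔ, if_neg (Ne.symm hj'i)]
    have hhj : h (P.root j) = 0 := by rw [hh j hj, if_neg (Ne.symm hj'j)]
    have hhj' : h (P.root j') = 1 := by rw [hh j' hj', if_pos rfl]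
    obtain ⟨n, a, b, hn, e⟩ := hplane j hj0
    obtain ⟨n', a', b', hn', e'⟩ := hplane j' hj'0
    have h1 := congrArg h e
    have h2 := congrArg h e'
    rw [map_add, map_zsmul, map_zsmul, map_zsmul, hhi, hhj, smul_zero, smul_zero, zero_add] at h1
    rw [map_add, map_zsmul, map_zsmul, map_zsmul, hhi, hhj', smul_zero, zero_add] at h2
    rcases smul_eq_zero.mp h1.symm with h3 | h3
    · rw [h3, zero_smul, add_zero] at e
      -- n root j = a root i
      obtain ⟨h', hh'⟩ := exists_hom P hsim.linInd (fun l => if l = j then 1 else 0)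
      have hhi' : h' (P.root i) = 0 := by rw [hh' i hiΔ, if_neg (Ne.symm hji)]
      have hhj'' : h' (P.root j) = 1 := by rw [hh' j hj, if_pos rfl]
      have h4 := congrArg h' e
      rw [map_zsmul, map_zsmul, hhi', hhj'', smul_zero] at h4
      have : (n : ℚ) = 0 := by simpa using h4
      exact hn (by exact_mod_cast this)
    · rw [h3, smul_zero] at h2
      have : (n' : ℚ) = 0 := by simpa using h2
      exact hn' (by exact_mod_cast this)
  have h1 : P.root k ∈ natSpan P {i, j} := by
    apply natSpan_mono P _ hkS'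
    rintro l ⟨hl, hl0⟩
    rcases huniq l hl hl0 with h | h
    · left; exact h
    · right; exact h
  rw [natSpan, image_pair, AddSubmonoid.mem_closure_pair] at h1
  obtain ⟨a, b, hab⟩ := h1
  exact ⟨_, hsim, hiΔ, j, hj, a, b, hab.symm⟩

/-- S5475 -/
lemma adjoint_indiv (had : Submodule.span ℤ (range P.root) = ⊤)
    {i : ι} (hind : IsIndiv P i) (m : M) (n : ℤ) (h : n • m = P.root i) : n = 1 ∨ n = -1 := by
  classical
  obtain ⟨Δ, hΔ, hi⟩ := exists_simple_containing hind
  obtain ⟨f, hf⟩ := exists_hom P hΔ.linInd (fun l => if l = i then 1 else 0)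
  have hint : ∀ x : M, ∃ z : ℤ, f x = z := by
    intro x
    have hx : x ∈ Submodule.span ℤ (range P.root) := by rw [had]; trivial
    have hnat : ∀ y ∈ natSpan P Δ, ∃ z : ℤ, f y = z := by
      intro y hy
      induction hy using AddSubmonoid.closure_induction with
      | mem y hy =>
        obtain ⟨l, hl, rfl⟩ := hy
        rw [hf l hl]
        split_ifs
        · exact ⟨1, by simp⟩
        · exact ⟨0, by simp⟩
      | zero => exact ⟨0, by simp⟩
      | add x y _ _ hx hy =>
        obtain ⟨a, ha⟩ := hx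
        obtain ⟨b, hb⟩ := hy
        exact ⟨a + b, by rw [map_add, ha, hb]; push_cast; ring⟩
    induction hx using Submodule.span_induction with
    | mem x hx =>
      obtain ⟨l, rfl⟩ := hx
      rcases hΔ.mem_or_neg_mem l with h | h
      · exact hnat _ h
      · obtain ⟨z, hz⟩ := hnat _ h
        rw [map_neg] at hz
        exact ⟨-z, by push_cast; linarith⟩
    | zero => exact ⟨0, by simp⟩
    | add x y _ _ hx hy =>
      obtain ⟨a, ha⟩ := hx
      obtain ⟨b, hb⟩ := hy
      exact ⟨a + b, by rw [map_add, ha, hb]; push_cast; ring⟩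
    | smul a x _ hx =>
      obtain ⟨b, hb⟩ := hx
      exact ⟨a * b, by rw [map_zsmul, hb]; simp⟩
  obtain ⟨z, hz⟩ := hint m
  have h1 := congrArg f h
  rw [map_zsmul, hf i hi, if_pos rfl, hz] at h1
  have h2 : n * z = 1 := by
    have : (n : ℚ) * z = 1 := by simpa using h1
    exact_mod_cast this
  exact Int.eq_one_or_neg_one_of_mul_eq_one h2

/-- S5465 -/
lemma addHom_extend {G : Type*} [AddCommGroup G] (f : ι → G)
    (hneg : ∀ i : ι, f (P.reflectionPerm i i) = -f i)
    (hadd : ∀ i j k : ι, P.root k = P.root i + P.root j → f k = f i + f j) :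
    ∃! φ : Submodule.span ℤ (Set.range P.root) →+ G,
      ∀ i : ι, φ ⟨P.root i, Submodule.subset_span (Set.mem_range_self i)⟩ = f i := by
  obtain ⟨Δ, hΔ⟩ := exists_simple P
  have hli' : LinearIndependent ℤ (fun i : Δ => P.root i) := hΔ.linInd
  have hle : Submodule.span ℤ (range P.root) ≤ Submodule.span ℤ (range (fun i : Δ => P.root i)) := by
    rw [Submodule.span_le]
    rintro _ ⟨k, rfl⟩
    have e : range (fun i : Δ => P.root i) = P.root '' Δ := by
      ext x; simp
    rw [e]
    rcases hΔ.mem_or_neg_mem k with h | h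
    · exact natSpan_le_span P h
    · exact (Submodule.neg_mem_iff _).mp (natSpan_le_span P h)
  let φ : Submodule.span ℤ (range P.root) →ₗ[ℤ] G :=
    (Finsupp.linearCombination ℤ (fun i : Δ => f i)) ∘ₗ hli'.repr ∘ₗ Submodule.inclusion hle
  have hφΔ : ∀ i ∈ Δ, φ ⟨P.root i, Submodule.subset_span (Set.mem_range_self i)⟩ = f i := by
    intro i hi
    have h1 : P.root i ∈ Submodule.span ℤ (range (fun i : Δ => P.root i)) :=
      Submodule.subset_span ⟨⟨i, hi⟩, rfl⟩
    have h2 := hli'.repr_eq_single ⟨i, hi⟩ ⟨P.root i, h1⟩ rfl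
    change Finsupp.linearCombination ℤ (fun i : Δ => f i) (hli'.repr ⟨P.root i, h1⟩) = f i
    rw [h2]
    simp
  have hφpos : ∀ k, P.root k ∈ natSpan P Δ →
      φ ⟨P.root k, Submodule.subset_span (Set.mem_range_self k)⟩ = f k := by
    refine chain_induction P (S := Δ)
      (p := fun k => φ ⟨P.root k, Submodule.subset_span (Set.mem_range_self k)⟩ = f k) hφΔ ?_
    intro i j k _ hi hj e
    rw [hadd i j k e, ← hi, ← hφΔ j hj, ← map_add]
    congr 1
    exact Subtype.ext e
  refine ⟨φ.toAddMonoidHom, ?_, ?_⟩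
  · intro k
    change φ _ = f k
    rcases hΔ.mem_or_neg_mem k with h | h
    · exact hφpos k h
    · have h1 := hφpos (P.reflectionPerm k k) (by rw [root_neg]; exact h)
      rw [hneg] at h1
      have h2 : φ ⟨P.root (P.reflectionPerm k k), Submodule.subset_span (Set.mem_range_self _)⟩
          = - φ ⟨P.root k, Submodule.subset_span (Set.mem_range_self k)⟩ := by
        rw [← map_neg]
        congr 1
        exact Subtype.ext (root_neg P k)
      rw [h2] at h1
      exact neg_injective h1
  · intro ψ hψ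
    ext ⟨x, hx⟩
    change ψ ⟨x, hx⟩ = φ ⟨x, hx⟩
    have hφall : ∀ k, φ ⟨P.root k, Submodule.subset_span (Set.mem_range_self k)⟩ = f k := by
      intro k
      rcases hΔ.mem_or_neg_mem k with h | h
      · exact hφpos k h
      · have h1 := hφpos (P.reflectionPerm k k) (by rw [root_neg]; exact h)
        rw [hneg] at h1
        have h2 : φ ⟨P.root (P.reflectionPerm k k), Submodule.subset_span (Set.mem_range_self _)⟩
            = - φ ⟨P.root k, Submodule.subset_span (Set.mem_range_self k)⟩ := by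
          rw [← map_neg]
          congr 1
          exact Subtype.ext (root_neg P k)
        rw [h2] at h1
        exact neg_injective h1
    have hlin : ψ.toIntLinearMap = φ := by
      apply LinearMap.ext
      rintro ⟨y, hy⟩
      induction hy using Submodule.span_induction with
      | mem y hy =>
        obtain ⟨k, rfl⟩ := hy
        exact (hψ k).trans (hφall k).symm
      | zero =>
        have : (⟨0, zero_mem _⟩ : Submodule.span ℤ (range P.root)) = 0 := rfl
        rw [this, map_zero, map_zero]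
      | add x y hx hy ihx ihy =>
        have : (⟨x + y, add_mem hx hy⟩ : Submodule.span ℤ (range P.root)) = ⟨x, hx⟩ + ⟨y, hy⟩ := rfl
        rw [this, map_add, map_add, ihx, ihy]
      | smul a x hx ihx =>
        have : (⟨a • x, Submodule.smul_mem _ a hx⟩ : Submodule.span ℤ (range P.root)) = a • ⟨x, hx⟩ := rfl
        rw [this, LinearMap.map_smul, LinearMap.map_smul, ihx]
    exact DFunLike.congr_fun hlin ⟨x, hx⟩

/-- S5482 -/
lemma partition_inSpan {Δ : Set ι} (hΔ : IsSimpleSys P Δ) {R' : Set ι}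
    (hc : IsClosedSub P R') (hs : IsSymmSub P R') (hc' : IsClosedSub P R'ᶜ)
    (hs' : IsSymmSub P R'ᶜ) :
    R' = inSpan P (Δ ∩ R') ∧ R'ᶜ = inSpan P (Δ \ R') ∧
      ∀ i ∈ Δ ∩ R', ∀ j ∈ Δ \ R', P.IsOrthogonal i j := by
  have sym : ∀ k, P.reflectionPerm k k ∈ R' → k ∈ R' := by
    intro k hk
    have := hs hk
    rwa [neg_neg'] at this
  have hpos : ∀ k, P.root k ∈ natSpan P Δ → (k ∈ R' → P.root k ∈ natSpan P (Δ ∩ R')) ∧
      (k ∉ R' → P.root k ∈ natSpan P (Δ \ R')) := by
    refine chain_induction P (S := Δ) (p := fun k => (k ∈ R' → P.root k ∈ natSpan P (Δ ∩ R')) ∧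
      (k ∉ R' → P.root k ∈ natSpan P (Δ \ R'))) ?_ ?_
    · intro j hj
      exact ⟨fun h => root_mem_natSpan P ⟨hj, h⟩, fun h => root_mem_natSpan P ⟨hj, h⟩⟩
    · intro i j k _ ⟨ih1, ih2⟩ hj e
      rcases part_add hc hs hc' hs' e with ⟨h1, h2, h3⟩ | ⟨h1, h2, h3⟩
      · refine ⟨fun _ => ?_, fun h => absurd h3 h⟩
        rw [e]
        exact add_mem (ih1 h1) (root_mem_natSpan P ⟨hj, h2⟩)
      · refine ⟨fun h => absurd h h3, fun _ => ?_⟩
        rw [e]
        exact add_mem (ih2 h1) (root_mem_natSpan P ⟨hj, h2⟩)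
  have h1 : ∀ k ∈ R', k ∈ inSpan P (Δ ∩ R') := by
    intro k hk
    rcases hΔ.mem_or_neg_mem k with h | h
    · exact natSpan_le_span P ((hpos k h).1 hk)
    · have := natSpan_le_span P ((hpos (P.reflectionPerm k k) (by rw [root_neg]; exact h)).1 (hs hk))
      rw [root_neg] at this
      exact (Submodule.neg_mem_iff _).mp this
  have h2 : ∀ k ∉ R', k ∈ inSpan P (Δ \ R') := by
    intro k hk
    rcases hΔ.mem_or_neg_mem k with h | h
    · exact natSpan_le_span P ((hpos k h).2 hk)
    · have := natSpan_le_span P ((hpos (P.reflectionPerm k k) (by rw [root_neg]; exact h)).2 (hs' hk))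
      rw [root_neg] at this
      exact (Submodule.neg_mem_iff _).mp this
  have hdisj : ∀ k, k ∈ inSpan P (Δ ∩ R') → k ∈ inSpan P (Δ \ R') → False := by
    intro k hk hk'
    obtain ⟨g, hg0, hg1⟩ := exists_zero_one hΔ (Δ ∩ R')
    obtain ⟨g', hg0', hg1'⟩ := exists_zero_one hΔ (Δ \ R')
    rw [mem_inSpan_iff hΔ inter_subset_left hg0 hg1] at hk
    rw [mem_inSpan_iff hΔ sdiff_subset hg0' hg1'] at hk'
    have hsum : ∀ i ∈ Δ, (g + g') (P.root i) = 1 := by
      intro i hi
      by_cases hiR : i ∈ R'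
      · rw [AddMonoidHom.add_apply, hg0 i hi ⟨hi, hiR⟩, hg1' i hi (fun h => h.2 hiR)]; norm_num
      · rw [AddMonoidHom.add_apply, hg1 i hi (fun h => hiR h.2), hg0' i hi ⟨hi, hiR⟩]; norm_num
    have h0 : (g + g') (P.root k) = 0 := by rw [AddMonoidHom.add_apply, hk, hk', add_zero]
    rcases hΔ.mem_or_neg_mem k with h | h
    · have := natSpan_hom_pos P hsum h (root_ne_zero P k)
      linarith
    · have := natSpan_hom_pos P hsum h (by simpa using root_ne_zero P k)
      rw [map_neg] at this
      linarith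
  refine ⟨?_, ?_, ?_⟩
  · apply Subset.antisymm h1
    intro k hk
    by_contra hkR
    exact hdisj k hk (h2 k hkR)
  · apply Subset.antisymm h2
    intro k hk hkR
    exact hdisj k (h1 k hkR) hk
  · rintro i ⟨hi, hiR⟩ j ⟨hj, hjR⟩
    have : P.pairing i j = 0 := by
      by_contra h
      exact hjR (part_nonorth hc hs hc' hs' hiR h)
    exact ⟨this, pairing_zero_symm P this⟩

/-- S5483 -/
lemma orth_partition {Δ Δ' : Set ι} (hΔ : IsSimpleSys P Δ)
    (hsub : Δ' ⊆ Δ) (horth : ∀ i ∈ Δ', ∀ j ∈ Δ \ Δ', P.IsOrthogonal i j) (k : ι) :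
    (k ∈ inSpan P Δ' ∨ k ∈ inSpan P (Δ \ Δ')) ∧
      ¬ (k ∈ inSpan P Δ' ∧ k ∈ inSpan P (Δ \ Δ')) := by
  obtain ⟨g, hg0, hg1⟩ := exists_zero_one hΔ Δ'
  obtain ⟨g', hg0', hg1'⟩ := exists_zero_one hΔ (Δ \ Δ')
  have hsum : ∀ i ∈ Δ, (g + g') (P.root i) = 1 := by
    intro i hi
    by_cases hiR : i ∈ Δ'
    · rw [AddMonoidHom.add_apply, hg0 i hi hiR, hg1' i hi (fun h => h.2 hiR)]; norm_num
    · rw [AddMonoidHom.add_apply, hg1 i hi hiR, hg0' i hi ⟨hi, hiR⟩]; norm_num
  have gnn : ∀ y ∈ natSpan P Δ, 0 ≤ g y := fun y hy => hom_natSpan_nonneg P (fun i hi => by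
    by_cases h : i ∈ Δ'
    · rw [hg0 i hi h]
    · rw [hg1 i hi h]; norm_num) hy
  have gnn' : ∀ y ∈ natSpan P Δ, 0 ≤ g' y := fun y hy => hom_natSpan_nonneg P (fun i hi => by
    by_cases h : i ∈ Δ'
    · rw [hg1' i hi (fun h' => h'.2 h)]; norm_num
    · rw [hg0' i hi ⟨hi, h⟩]) hy
  -- orthogonality extended to natSpan
  have horthN : ∀ y ∈ natSpan P Δ', ∀ j ∈ Δ \ Δ', P.coroot' j y = 0 := by
    intro y hy j hj
    induction hy using AddSubmonoid.closure_induction with
    | mem y hy => obtain ⟨i, hi, rfl⟩ := hy; exact (horth i hi j hj).1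
    | zero => simp
    | add x y _ _ hx hy => rw [map_add, hx, hy, add_zero]
  have horthN' : ∀ y ∈ natSpan P (Δ \ Δ'), ∀ j ∈ Δ', P.coroot' j y = 0 := by
    intro y hy j hj
    induction hy using AddSubmonoid.closure_induction with
    | mem y hy => obtain ⟨i, hi, rfl⟩ := hy; exact (horth j hj i hi).2
    | zero => simp
    | add x y _ _ hx hy => rw [map_add, hx, hy, add_zero]
  have mixed : ∀ l, 0 < g (P.root l) → g' (P.root l) < 0 → False := by
    intro l h1 h2
    rcases hΔ.mem_or_neg_mem l with h | h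
    · have := gnn' _ h; linarith
    · have := gnn _ h; rw [map_neg] at this; linarith
  have mixed' : ∀ l, 0 < g' (P.root l) → g (P.root l) < 0 → False := by
    intro l h1 h2
    rcases hΔ.mem_or_neg_mem l with h | h
    · have := gnn _ h; linarith
    · have := gnn' _ h; rw [map_neg] at this; linarith
  have g_zero_iff : ∀ y ∈ natSpan P Δ', g y = 0 := fun y hy =>
    hom_span_zero P (fun i hi => hg0 i (hsub hi) hi) (natSpan_le_span P hy)
  have g'_zero_iff : ∀ y ∈ natSpan P (Δ \ Δ'), g' y = 0 := fun y hy =>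
    hom_span_zero P (fun i hi => hg0' i hi.1 hi) (natSpan_le_span P hy)
  have hpos : ∀ k, P.root k ∈ natSpan P Δ → P.root k ∈ natSpan P Δ' ∨ P.root k ∈ natSpan P (Δ \ Δ') := by
    refine chain_induction P (S := Δ) (p := fun k => P.root k ∈ natSpan P Δ' ∨
      P.root k ∈ natSpan P (Δ \ Δ')) ?_ ?_
    · intro j hj
      by_cases h : j ∈ Δ'
      · left; exact root_mem_natSpan P h
      · right; exact root_mem_natSpan P ⟨hj, h⟩
    · intro i j k hiN ih hj e
      have htot : 1 ≤ (g + g') (P.root i) := natSpan_hom_pos P hsum hiN (root_ne_zero P i)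
      rw [AddMonoidHom.add_apply] at htot
      rcases ih with h | h
      · by_cases hjΔ : j ∈ Δ'
        · left; rw [e]; exact add_mem h (root_mem_natSpan P hjΔ)
        · exfalso
          -- s_j k = root i - root j
          have h1 : P.root (P.reflectionPerm j k) = P.root i - P.root j := by
            rw [P.root_reflectionPerm, e, map_add, P.reflection_apply_self, P.reflection_apply,
              horthN _ h j ⟨hj, hjΔ⟩, zero_smul]; abel
          have h2 : g (P.root i) = 0 := g_zero_iff _ h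
          apply mixed' (P.reflectionPerm j k)
          · rw [h1, map_sub, hg0' j hj ⟨hj, hjΔ⟩]; linarith
          · rw [h1, map_sub, hg1 j hj hjΔ, h2]; norm_num
      · by_cases hjΔ : j ∈ Δ'
        · exfalso
          have h1 : P.root (P.reflectionPerm j k) = P.root i - P.root j := by
            rw [P.root_reflectionPerm, e, map_add, P.reflection_apply_self, P.reflection_apply,
              horthN' _ h j hjΔ, zero_smul]; abel
          have h2 : g' (P.root i) = 0 := g'_zero_iff _ h
          apply mixed (P.reflectionPerm j k)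
          · rw [h1, map_sub, hg0 j hj hjΔ]; linarith
          · rw [h1, map_sub, hg1' j hj (fun h' => h'.2 hjΔ), h2]; norm_num
        · right; rw [e]; exact add_mem h (root_mem_natSpan P ⟨hj, hjΔ⟩)
  constructor
  · rcases hΔ.mem_or_neg_mem k with h | h
    · rcases hpos k h with h | h
      · left; exact natSpan_le_span P h
      · right; exact natSpan_le_span P h
    · have := hpos (P.reflectionPerm k k) (by rw [root_neg]; exact h)
      rw [root_neg] at this
      rcases this with h | h
      · left; exact (Submodule.neg_mem_iff _).mp (natSpan_le_span P h)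
      · right; exact (Submodule.neg_mem_iff _).mp (natSpan_le_span P h)
  · rintro ⟨h1, h2⟩
    rw [mem_inSpan_iff hΔ hsub hg0 hg1] at h1
    rw [mem_inSpan_iff hΔ sdiff_subset hg0' hg1'] at h2
    have h0 : (g + g') (P.root k) = 0 := by rw [AddMonoidHom.add_apply, h1, h2, add_zero]
    rcases hΔ.mem_or_neg_mem k with h | h
    · have := natSpan_hom_pos P hsum h (root_ne_zero P k)
      linarith
    · have := natSpan_hom_pos P hsum h (by simpa using root_ne_zero P k)
      rw [map_neg] at this
      linarith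

/-- S5494 -/
lemma chain_of_connected {Δ : Set ι} (hΔ : IsSimpleSys P Δ)
    (hconn : ∀ Δ' : Set ι, Δ' ⊆ Δ → (∀ i ∈ Δ', ∀ j ∈ Δ \ Δ', P.IsOrthogonal i j) → Δ' = ∅ ∨ Δ' = Δ)
    (i j : ι) : Relation.ReflTransGen (fun a b : ι => ¬ P.IsOrthogonal a b) i j := by
  have hno : ∀ a b, P.pairing a b ≠ 0 → ¬ P.IsOrthogonal a b := fun a b h h' => h h'.1
  have symm : ∀ a b, ¬ P.IsOrthogonal a b → ¬ P.IsOrthogonal b a := fun a b h h' => h h'.symm
  have tosimple : ∀ k, ∃ a ∈ Δ, ¬ P.IsOrthogonal k a := by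
    intro k
    rcases hΔ.mem_or_neg_mem k with h | h
    · obtain ⟨a, ha, hp⟩ := natSpan_exists_pairing_pos (P := P) (S := Δ) (k := k) (c := 1) one_pos
        (by rw [one_smul]; exact h)
      exact ⟨a, ha, symm _ _ (hno _ _ hp.ne')⟩
    · obtain ⟨a, ha, hp⟩ := natSpan_exists_pairing_pos (P := P) (S := Δ) (k := P.reflectionPerm k k)
        (c := 1) one_pos (by rw [one_smul, root_neg]; exact h)
      rw [P.pairing_reflectionPerm_self_right] at hp
      exact ⟨a, ha, symm _ _ (hno _ _ (by omega))⟩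
  obtain ⟨a, ha, hia⟩ := tosimple i
  obtain ⟨b, hb, hjb⟩ := tosimple j
  have hab : Relation.ReflTransGen (fun a b : ι => ¬ P.IsOrthogonal a b) a b := by
    rcases hconn {c | c ∈ Δ ∧ Relation.ReflTransGen (fun a b : ι => ¬ P.IsOrthogonal a b) a c}
      (fun c hc => hc.1) (by
        rintro c ⟨hc, hac⟩ d ⟨hd, hd'⟩
        by_contra hcd
        exact hd' ⟨hd, Relation.ReflTransGen.tail hac hcd⟩) with h | h
    · exfalso
      have : a ∈ ({c | c ∈ Δ ∧ Relation.ReflTransGen (fun a b : ι => ¬ P.IsOrthogonal a b) a c} : Set ι) :=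
        ⟨ha, Relation.ReflTransGen.refl⟩
      rw [h] at this
      exact this
    · have : b ∈ ({c | c ∈ Δ ∧ Relation.ReflTransGen (fun a b : ι => ¬ P.IsOrthogonal a b) a c} : Set ι) := by
        rw [h]; exact hb
      exact this.2
  exact Relation.ReflTransGen.head hia (Relation.ReflTransGen.tail hab (symm _ _ hjb))

end Groth.Agent.H8RootD
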