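import Groth.Agent.Lib.H8RootDH
import Mathlib.LinearAlgebra.Reflection

set_option autoImplicit false
set_option linter.unusedSectionVars false
set_option linter.unusedSimpArgs false

namespace Groth.Agent.H8RootD

open RootPairing Set RootD

variable {ι M N : Type*} [AddCommGroup M] [AddCommGroup N] {P : RootPairing ι ℤ M N} [Finite ι]

/-- S5471 -/
lemma ratios [Fintype ι] [P.IsReduced]
    (hirr : ∀ R' : Set ι, IsClosedSub P R' → IsSymmSub P R' → IsClosedSub P R'ᶜ →
      IsSymmSub P R'ᶜ → R' = ∅ ∨ R' = Set.univ)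
    (i₀ : ι) (hmin : ∀ i : ι, P.RootForm (P.root i₀) (P.root i₀) ≤ P.RootForm (P.root i) (P.root i)) :
    (∀ i : ι, P.RootForm (P.root i) (P.root i) = P.RootForm (P.root i₀) (P.root i₀) ∨
      P.RootForm (P.root i) (P.root i) = 2 * P.RootForm (P.root i₀) (P.root i₀) ∨
      P.RootForm (P.root i) (P.root i) = 3 * P.RootForm (P.root i₀) (P.root i₀)) ∧
    ¬ ((∃ i : ι, P.RootForm (P.root i) (P.root i) = 2 * P.RootForm (P.root i₀) (P.root i₀)) ∧
      ∃ j : ι, P.RootForm (P.root j) (P.root j) = 3 * P.RootForm (P.root i₀) (P.root i₀)) := by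
  have key : ∀ i j : ι, ∃ p q : ℤ, p * P.RootForm (P.root j) (P.root j) =
      q * P.RootForm (P.root i) (P.root i) ∧ ((p = 1 ∧ q = 1) ∨ (p = -1 ∧ q = -1) ∨ (p = 1 ∧ q = 2) ∨
        (p = 2 ∧ q = 1) ∨ (p = -1 ∧ q = -2) ∨ (p = -2 ∧ q = -1) ∨ (p = 1 ∧ q = 3) ∨ (p = 3 ∧ q = 1) ∨
        (p = -1 ∧ q = -3) ∨ (p = -3 ∧ q = -1) ∨ (p = 2 ∧ q = 2) ∨ (p = -2 ∧ q = -2)) := by
    intro i j
    obtain ⟨g, hg, h⟩ := exists_nonorth_of_irred hirr i j
    have h1 := length_rel (P := P) i (g • j)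
    rw [length_smul] at h1
    refine ⟨_, _, h1, ?_⟩
    have hmem := P.pairingIn_pairingIn_mem_set_of_isCrystal_of_isRed i (g • j)
    simp only [pairingIn_eq] at hmem
    simp only [mem_insert_iff, mem_singleton_iff, Prod.mk.injEq] at hmem
    rcases hmem with h | h
    · exact absurd h.1 ‹_›
    · exact h
  have hpos := rootForm_root_pos P i₀
  constructor
  · intro i
    obtain ⟨p, q, h, hc⟩ := key i i₀
    have h2 := hmin i
    set m := P.RootForm (P.root i₀) (P.root i₀)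
    set L := P.RootForm (P.root i) (P.root i)
    rcases hc with ⟨rfl, rfl⟩ | ⟨rfl, rfl⟩ | ⟨rfl, rfl⟩ | ⟨rfl, rfl⟩ | ⟨rfl, rfl⟩ | ⟨rfl, rfl⟩ |
      ⟨rfl, rfl⟩ | ⟨rfl, rfl⟩ | ⟨rfl, rfl⟩ | ⟨rfl, rfl⟩ | ⟨rfl, rfl⟩ | ⟨rfl, rfl⟩ <;> omega
  · rintro ⟨⟨i, hi⟩, ⟨j, hj⟩⟩
    obtain ⟨p, q, h, hc⟩ := key i j
    rw [hi, hj] at h
    set m := P.RootForm (P.root i₀) (P.root i₀)
    rcases hc with ⟨rfl, rfl⟩ | ⟨rfl, rfl⟩ | ⟨rfl, rfl⟩ | ⟨rfl, rfl⟩ | ⟨rfl, rfl⟩ | ⟨rfl, rfl⟩ |
      ⟨rfl, rfl⟩ | ⟨rfl, rfl⟩ | ⟨rfl, rfl⟩ | ⟨rfl, rfl⟩ | ⟨rfl, rfl⟩ | ⟨rfl, rfl⟩ <;> omega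

lemma dvd_length [Fintype ι]
    (hirr : ∀ R' : Set ι, IsClosedSub P R' → IsSymmSub P R' → IsClosedSub P R'ᶜ →
      IsSymmSub P R'ᶜ → R' = ∅ ∨ R' = Set.univ)
    (i₀ : ι) (hmin : ∀ i : ι, P.RootForm (P.root i₀) (P.root i₀) ≤ P.RootForm (P.root i) (P.root i))
    (i : ι) : P.RootForm (P.root i₀) (P.root i₀) ∣ P.RootForm (P.root i) (P.root i) := by
  obtain ⟨g, hg, hne⟩ := exists_nonorth_of_irred hirr i i₀
  have h1 := length_rel (P := P) i (g • i₀)
  rw [length_smul] at h1
  have hmem := P.pairingIn_pairingIn_mem_set_of_isCrystallographic i (g • i₀)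
  simp only [pairingIn_eq] at hmem
  simp only [mem_insert_iff, mem_singleton_iff, Prod.mk.injEq] at hmem
  have hpos := rootForm_root_pos P i₀
  have h2 := hmin i
  set m := P.RootForm (P.root i₀) (P.root i₀)
  set L := P.RootForm (P.root i) (P.root i)
  have h5 : L = m * 1 ∨ L = m * 2 ∨ L = m * 3 ∨ L = m * 4 := by
    rcases hmem with ⟨h3, h4⟩ | ⟨h3, h4⟩ | ⟨h3, h4⟩ | ⟨h3, h4⟩ | ⟨h3, h4⟩ | ⟨h3, h4⟩ | ⟨h3, h4⟩ |
      ⟨h3, h4⟩ | ⟨h3, h4⟩ | ⟨h3, h4⟩ | ⟨h3, h4⟩ | ⟨h3, h4⟩ | ⟨h3, h4⟩ | ⟨h3, h4⟩ | ⟨h3, h4⟩ |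
      ⟨h3, h4⟩ | ⟨h3, h4⟩ <;> rw [h3, h4] at h1
    · exact absurd h3 hne
    all_goals omega
  rcases h5 with h5 | h5 | h5 | h5 <;> exact ⟨_, h5⟩

/-- S5473 -/
lemma transpose_coroot {ι' M' N' : Type*} [AddCommGroup M'] [AddCommGroup N']
    (P : RootPairing ι ℤ M N) (P' : RootPairing ι' ℤ M' N') [Finite ι']
    (f : M' →ₗ[ℤ] M) (g : N →ₗ[ℤ] N')
    (hfg : ∀ (m' : M') (n : N), P.toLinearMap (f m') n = P'.toLinearMap m' (g n))
    (e : ι' ≃ ι) (he : ∀ i' : ι', f (P'.root i') = P.root (e i'))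
    (e' : ι ≃ ι') (he' : ∀ i : ι, g (P.coroot i) = P'.coroot (e' i)) :
    ∀ i' : ι', g (P.coroot (e i')) = P'.coroot i' := by
  intro i'
  have := Module.IsReflexive.of_isPerfPair P'.toLinearMap
  have := Module.IsReflexive.of_isPerfPair P'.flip.toLinearMap
  have : IsAddTorsionFree N' := .of_isTorsionFree ℤ N'
  rw [he']
  have hpair : ∀ k' : ι', ∀ l : ι, P'.pairing k' (e' l) = P.pairing (e k') l := by
    intro k' l
    have h1 := hfg (P'.root k') (P.coroot l)
    rw [he, he'] at h1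
    exact h1.symm
  apply Module.eq_of_mapsTo_reflection_of_mem (f := P'.root' i') (g := P'.root' i')
    (Set.finite_range P'.coroot)
  · change P'.pairing i' (e' (e i')) = 2
    rw [hpair]; simp
  · simp
  · change P'.pairing i' (e' (e i')) = 2
    rw [hpair]; simp
  · simp
  · rintro _ ⟨l', rfl⟩
    obtain ⟨l, rfl⟩ := e'.surjective l'
    refine ⟨e' (P.reflectionPerm (e i') l), ?_⟩
    rw [Module.preReflection_apply, ← he', ← he', ← he', P.coroot_reflectionPerm,
      P.coreflection_apply_coroot, map_sub, map_zsmul]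
    congr 2
    rw [he']
    exact (hpair i' l).symm
  · exact P'.mapsTo_coreflection_coroot i'
  · exact ⟨i', rfl⟩

section pmor

variable {ι' M' N' : Type*} [AddCommGroup M'] [AddCommGroup N']
    {P' : RootPairing ι' ℤ M' N'} [Finite ι']
    {f : M' →ₗ[ℤ] M} {g : N →ₗ[ℤ] N'}

lemma pmor_pairing
    (hfg : ∀ (m' : M') (n : N), P.toLinearMap (f m') n = P'.toLinearMap m' (g n))
    {u : ι ≃ ι'} {q : ι → ℕ}
    (hroot : ∀ i : ι, f (P'.root (u i)) = (q i : ℤ) • P.root i)
    (hcoroot : ∀ i : ι, g (P.coroot i) = (q i : ℤ) • P'.coroot (u i)) (i j : ι) :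
    (q j : ℤ) * P.pairing j i = q i * P'.pairing (u j) (u i) := by
  have h1 := hfg (P'.root (u j)) (P.coroot i)
  rw [hroot, hcoroot, map_smul, map_smul, LinearMap.smul_apply] at h1
  exact h1

lemma pmor_refl [P.IsReduced]
    (hfg : ∀ (m' : M') (n : N), P.toLinearMap (f m') n = P'.toLinearMap m' (g n))
    {u : ι ≃ ι'} {q : ι → ℕ} (hqpos : ∀ i, 0 < q i)
    (hroot : ∀ i : ι, f (P'.root (u i)) = (q i : ℤ) • P.root i)
    (hcoroot : ∀ i : ι, g (P.coroot i) = (q i : ℤ) • P'.coroot (u i)) (i j : ι) :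
    q (P.reflectionPerm i j) = q j ∧ u (P.reflectionPerm i j) = P'.reflectionPerm (u i) (u j) := by
  have hM := Module.IsReflexive.of_isPerfPair P.toLinearMap
  obtain ⟨l, hl⟩ := u.surjective (P'.reflectionPerm (u i) (u j))
  have h1 : f (P'.root (u l)) = (q j : ℤ) • P.root (P.reflectionPerm i j) := by
    rw [hl, P'.root_reflectionPerm, P'.reflection_apply_root, map_sub, map_zsmul, hroot, hroot,
      P.root_reflectionPerm, P.reflection_apply_root, smul_sub, smul_smul, smul_smul,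
      pmor_pairing hfg hroot hcoroot i j]
    congr 2
    ring
  rw [hroot] at h1
  -- q l • root l = q j • root (s_i j)
  have hlpos : (0 : ℤ) < q l := by exact_mod_cast hqpos l
  have hjpos : (0 : ℤ) < q j := by exact_mod_cast hqpos j
  have hdep : ¬ LinearIndependent ℤ ![P.root l, P.root (P.reflectionPerm i j)] := by
    rw [LinearIndependent.pair_iff]
    intro h
    have := h (q l) (-(q j : ℤ)) (by rw [h1]; module)
    omega
  rcases RootPairing.IsReduced.eq_or_eq_neg _ _ hdep with h2 | h2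
  · have h3 : l = P.reflectionPerm i j := P.root.injective h2
    rw [← h3] at h1 ⊢
    have h4 : (q l : ℤ) = q j := smul_left_injective ℤ (root_ne_zero P l) h1
    exact ⟨by exact_mod_cast h4, hl⟩
  · exfalso
    rw [h2, smul_neg, ← neg_smul] at h1
    have h4 : -(q l : ℤ) = q j := smul_left_injective ℤ (root_ne_zero P _) h1
    omega

lemma pmor_inj
    (hfg : ∀ (m' : M') (n : N), P.toLinearMap (f m') n = P'.toLinearMap m' (g n))
    {u : ι ≃ ι'} {q : ι → ℕ} (hqpos : ∀ i, 0 < q i)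
    (hcoroot : ∀ i : ι, g (P.coroot i) = (q i : ℤ) • P'.coroot (u i))
    {x : M'} (hx : x ∈ Submodule.span ℤ (range P'.root)) (hfx : f x = 0) : x = 0 := by
  apply eq_zero_of_span_of_nsmul (P := P') (n := 1) one_pos (by rwa [one_smul])
  intro i'
  obtain ⟨i, rfl⟩ := u.surjective i'
  have h1 := hfg x (P.coroot i)
  rw [hfx, hcoroot, map_smul, map_zero, LinearMap.zero_apply] at h1
  have h2 : (q i : ℤ) ≠ 0 := by exact_mod_cast (hqpos i).ne'
  exact (mul_eq_zero.mp h1.symm).resolve_left h2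

end pmor

/-- S5480 (c) preparation: the Weyl group as a group of permutations -/
lemma toPerm_injective : Function.Injective P.weylGroupToPerm := by
  rw [injective_iff_map_eq_one]
  rintro ⟨w, hw⟩ h
  apply Subtype.ext
  exact weyl_eq_one hw (fun i => DFunLike.congr_fun h i)

/-- S5480 -/
lemma pmor_weyl {ι' M' N' : Type*} [AddCommGroup M'] [AddCommGroup N']
    {P' : RootPairing ι' ℤ M' N'} [Finite ι'] {u : ι ≃ ι'}
    (hu : ∀ i j, u (P.reflectionPerm i j) = P'.reflectionPerm (u i) (u j)) :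
    ∃ ubar : P.weylGroup ≃* P'.weylGroup,
      (∀ i : ι, ubar (RootPairing.weylGroup.ofIdx P i) = RootPairing.weylGroup.ofIdx P' (u i)) ∧
      ∀ (w : P.weylGroup) (i : ι), u ((w : P.Aut) • i) = ((ubar w : P'.weylGroup) : P'.Aut) • u i := by
  classical
  -- relation: w ~ w' iff u ∘ w = w' ∘ u
  have hex : ∀ w : P.weylGroup, ∃ w' : P'.weylGroup, ∀ i, u ((w : P.Aut) • i) = (w' : P'.Aut) • u i := by
    rintro ⟨w, hw⟩
    induction hw using weylGroup.induction with
    | mem i => exact ⟨weylGroup.ofIdx P' (u i), fun j => hu i j⟩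
    | one => exact ⟨1, fun j => by
        change u ((1 : P.Aut) • j) = (1 : P'.Aut) • u j
        rw [one_smul, one_smul]⟩
    | mul x y hx hy h1 h2 =>
      obtain ⟨x', hx'⟩ := h1
      obtain ⟨y', hy'⟩ := h2
      refine ⟨x' * y', fun j => ?_⟩
      change u ((x * y) • j) = ((x' : P'.Aut) * (y' : P'.Aut)) • u j
      rw [mul_smul, mul_smul]
      have a := hx' (y • j)
      have b := hy' j
      change u (x • (y • j)) = (x' : P'.Aut) • u (y • j) at a
      change u (y • j) = (y' : P'.Aut) • u j at b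
      rw [a, b]
  have hu' : ∀ i j, u.symm (P'.reflectionPerm i j) = P.reflectionPerm (u.symm i) (u.symm j) := by
    intro i j
    rw [Equiv.symm_apply_eq, hu, u.apply_symm_apply, u.apply_symm_apply]
  have hex' : ∀ w' : P'.weylGroup, ∃ w : P.weylGroup, ∀ i, u ((w : P.Aut) • i) = (w' : P'.Aut) • u i := by
    rintro ⟨w, hw⟩
    induction hw using weylGroup.induction with
    | mem i => exact ⟨weylGroup.ofIdx P (u.symm i), fun j => by
        change u (P.reflectionPerm (u.symm i) j) = P'.reflectionPerm i (u j)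
        rw [hu, u.apply_symm_apply]⟩
    | one => exact ⟨1, fun j => by
        change u ((1 : P.Aut) • j) = (1 : P'.Aut) • u j
        rw [one_smul, one_smul]⟩
    | mul x y hx hy h1 h2 =>
      obtain ⟨x', hx'⟩ := h1
      obtain ⟨y', hy'⟩ := h2
      refine ⟨x' * y', fun j => ?_⟩
      change u (((x' : P.Aut) * (y' : P.Aut)) • j) = (x * y) • u j
      rw [mul_smul, mul_smul]
      have a := hx' ((y' : P.Aut) • j)
      have b := hy' j
      change u ((x' : P.Aut) • ((y' : P.Aut) • j)) = x • u ((y' : P.Aut) • j) at a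
      change u ((y' : P.Aut) • j) = y • u j at b
      rw [a, b]
  have huniq : ∀ w1 w2 : P'.weylGroup, (∀ i : ι, (w1 : P'.Aut) • u i = (w2 : P'.Aut) • u i) → w1 = w2 := by
    intro w1 w2 h
    apply toPerm_injective (P := P')
    ext i
    obtain ⟨j, rfl⟩ := u.surjective i
    exact h j
  have huniq' : ∀ w1 w2 : P.weylGroup, (∀ i : ι, (w1 : P.Aut) • i = (w2 : P.Aut) • i) → w1 = w2 := by
    intro w1 w2 h
    apply toPerm_injective (P := P)
    ext i
    exact h i
  choose F hF using hex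
  choose G hG using hex'
  let φ : P.weylGroup ≃* P'.weylGroup :=
    { toFun := F
      invFun := G
      left_inv := fun w => huniq' _ _ (fun i => by
        apply u.injective
        rw [hG, ← hF])
      right_inv := fun w => huniq _ _ (fun i => by
        rw [← hF, hG])
      map_mul' := fun x y => huniq _ _ (fun i => by
        rw [← hF]
        change u (((x : P.Aut) * (y : P.Aut)) • i) = ((F x : P'.Aut) * (F y : P'.Aut)) • u i
        rw [mul_smul, mul_smul, hF, hF]) }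
  refine ⟨φ, ?_, fun w i => hF w i⟩
  intro i
  apply huniq
  intro j
  change (F (weylGroup.ofIdx P i) : P'.Aut) • u j = P'.reflectionPerm (u i) (u j)
  rw [← hF]
  exact hu i j

/-- S5498 -/
lemma irred_flip
    (hirr : ∀ R' : Set ι, IsClosedSub P R' → IsSymmSub P R' → IsClosedSub P R'ᶜ →
      IsSymmSub P R'ᶜ → R' = ∅ ∨ R' = Set.univ) :
    (∀ R' : Set ι, IsClosedSub P.flip R' → IsSymmSub P.flip R' → IsClosedSub P.flip R'ᶜ →
      IsSymmSub P.flip R'ᶜ → R' = ∅ ∨ R' = Set.univ) := by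
  intro R' h1 h2 h3 h4
  rcases R'.eq_empty_or_nonempty with h | ⟨i, hi⟩
  · exact Or.inl h
  · right
    ext j
    simp only [mem_univ, iff_true]
    have hch := chain_of_irred hirr i j
    induction hch with
    | refl => exact hi
    | @tail b c _ hbc ih =>
      apply part_nonorth (P := P.flip) h1 h2 h3 h4 ih
      rw [P.pairing_flip]
      intro h0
      exact hbc ⟨pairing_zero_symm P h0, h0⟩

lemma length_prod [Fintype ι] {i j : ι} (h : ¬ P.IsOrthogonal i j) :
    P.RootForm (P.root i) (P.root i) * P.CorootForm (P.coroot i) (P.coroot i) =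
      P.RootForm (P.root j) (P.root j) * P.CorootForm (P.coroot j) (P.coroot j) := by
  have hp : P.pairing i j ≠ 0 := fun h0 => h ⟨h0, pairing_zero_symm P h0⟩
  have hq : P.pairing j i ≠ 0 := fun h0 => hp (pairing_zero_symm P h0)
  have h1 := length_rel (P := P) i j
  have h2 := length_rel (P := P.flip) i j
  simp only [P.pairing_flip] at h2
  change P.pairing j i * P.CorootForm (P.coroot j) (P.coroot j) =
    P.pairing i j * P.CorootForm (P.coroot i) (P.coroot i) at h2
  apply mul_left_cancel₀ (mul_ne_zero hp hq)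
  calc P.pairing i j * P.pairing j i * (P.RootForm (P.root i) (P.root i) * P.CorootForm (P.coroot i) (P.coroot i))
      = (P.pairing j i * P.RootForm (P.root i) (P.root i)) * (P.pairing i j * P.CorootForm (P.coroot i) (P.coroot i)) := by ring
    _ = (P.pairing i j * P.RootForm (P.root j) (P.root j)) * (P.pairing j i * P.CorootForm (P.coroot j) (P.coroot j)) := by rw [h1, h2]
    _ = _ := by ring

lemma length_prod_const [Fintype ι]
    (hirr : ∀ R' : Set ι, IsClosedSub P R' → IsSymmSub P R' → IsClosedSub P R'ᶜ →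
      IsSymmSub P R'ᶜ → R' = ∅ ∨ R' = Set.univ) (i j : ι) :
    P.RootForm (P.root i) (P.root i) * P.CorootForm (P.coroot i) (P.coroot i) =
      P.RootForm (P.root j) (P.root j) * P.CorootForm (P.coroot j) (P.coroot j) := by
  have hch := chain_of_irred hirr i j
  induction hch with
  | refl => rfl
  | @tail b c _ hbc ih => rw [ih, length_prod hbc]

lemma two_pol (j : ι) [Fintype ι] :
    (P.RootForm (P.root j) (P.root j)) • P.coroot j = 2 • P.Polarization (P.root j) :=
  P.rootForm_self_smul_coroot j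

/-- S5499 -/
lemma lengthHom [Fintype ι]
    (hirr : ∀ R' : Set ι, IsClosedSub P R' → IsSymmSub P R' → IsClosedSub P R'ᶜ →
      IsSymmSub P R'ᶜ → R' = ∅ ∨ R' = Set.univ)
    (i₀ : ι) (hmin : ∀ i : ι, P.RootForm (P.root i₀) (P.root i₀) ≤ P.RootForm (P.root i) (P.root i)) :
    ∃! u : Submodule.span ℤ (Set.range P.root) →+ N, ∀ i : ι,
      u ⟨P.root i, Submodule.subset_span (Set.mem_range_self i)⟩ =
        (P.RootForm (P.root i) (P.root i) / P.RootForm (P.root i₀) (P.root i₀)) • P.coroot i := by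
  have := Module.IsReflexive.of_isPerfPair P.toLinearMap
  have := Module.IsReflexive.of_isPerfPair P.flip.toLinearMap
  have hpos := rootForm_root_pos P i₀
  have hm : ∀ i, P.RootForm (P.root i₀) (P.root i₀) •
      ((P.RootForm (P.root i) (P.root i) / P.RootForm (P.root i₀) (P.root i₀)) • P.coroot i) =
      2 • P.Polarization (P.root i) := by
    intro i
    rw [smul_smul, Int.mul_ediv_cancel' (dvd_length hirr i₀ hmin i), two_pol]
  have hinj : ∀ {x y : N}, P.RootForm (P.root i₀) (P.root i₀) • x =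
      P.RootForm (P.root i₀) (P.root i₀) • y → x = y := fun h =>
    smul_right_injective N hpos.ne' h
  apply addHom_extend (P := P)
  · intro i
    apply hinj
    rw [smul_neg, hm, hm, root_neg, map_neg, smul_neg]
  · intro i j k e
    apply hinj
    rw [smul_add, hm, hm, hm, e, map_add, smul_add]

/-- S5500 -/
lemma pmor_ratio {ι' M' N' : Type*} [AddCommGroup M'] [AddCommGroup N']
    {P' : RootPairing ι' ℤ M' N'} [Finite ι'] [Fintype ι] [Fintype ι']
    (hirr : ∀ R' : Set ι, IsClosedSub P R' → IsSymmSub P R' → IsClosedSub P R'ᶜ →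
      IsSymmSub P R'ᶜ → R' = ∅ ∨ R' = Set.univ)
    {f : M' →ₗ[ℤ] M} {g : N →ₗ[ℤ] N'}
    (hfg : ∀ (m' : M') (n : N), P.toLinearMap (f m') n = P'.toLinearMap m' (g n))
    {u : ι ≃ ι'} {q : ι → ℕ} (hqpos : ∀ i, 0 < q i)
    (hroot : ∀ i : ι, f (P'.root (u i)) = (q i : ℤ) • P.root i)
    (hcoroot : ∀ i : ι, g (P.coroot i) = (q i : ℤ) • P'.coroot (u i)) (i j : ι) :
    ((q i : ℤ) ^ 2 * P.RootForm (P.root i) (P.root i)) * P'.RootForm (P'.root (u j)) (P'.root (u j)) =
      ((q j : ℤ) ^ 2 * P.RootForm (P.root j) (P.root j)) * P'.RootForm (P'.root (u i)) (P'.root (u i)) := by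
  have hch := chain_of_irred hirr i j
  induction hch with
  | refl => rfl
  | @tail b c _ hbc ih =>
    have hLb' := rootForm_root_pos P' (u b)
    have hp : P.pairing c b ≠ 0 := by
      intro h0
      exact hbc ⟨pairing_zero_symm P h0, h0⟩
    have e1 := pmor_pairing hfg hroot hcoroot b c
    have e2 := pmor_pairing hfg hroot hcoroot c b
    have e3 := length_rel (P := P) b c
    have e4 := length_rel (P := P') (u b) (u c)
    set Lb := P.RootForm (P.root b) (P.root b)
    set Lc := P.RootForm (P.root c) (P.root c)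
    set Li := P.RootForm (P.root i) (P.root i)
    set Lb' := P'.RootForm (P'.root (u b)) (P'.root (u b))
    set Lc' := P'.RootForm (P'.root (u c)) (P'.root (u c))
    set Li' := P'.RootForm (P'.root (u i)) (P'.root (u i))
    have e5 : (q b : ℤ) ^ 2 * Lb * Lc' = (q c : ℤ) ^ 2 * Lc * Lb' := by
      apply mul_left_cancel₀ hp
      calc P.pairing c b * ((q b : ℤ) ^ 2 * Lb * Lc')
          = (q b : ℤ) ^ 2 * (P.pairing c b * Lb) * Lc' := by ring
        _ = (q b : ℤ) * Lc * Lc' * ((q b : ℤ) * P.pairing b c) := by rw [← e3]; ring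
        _ = (q b : ℤ) * Lc * q c * (P'.pairing (u b) (u c) * Lc') := by rw [e2]; ring
        _ = (q c : ℤ) * Lc * Lb' * (q b * P'.pairing (u c) (u b)) := by rw [e4]; ring
        _ = P.pairing c b * ((q c : ℤ) ^ 2 * Lc * Lb') := by rw [← e1]; ring
    apply mul_right_cancel₀ hLb'.ne'
    calc (q i : ℤ) ^ 2 * Li * Lc' * Lb' = ((q i : ℤ) ^ 2 * Li * Lb') * Lc' := by ring
      _ = ((q b : ℤ) ^ 2 * Lb * Lc') * Li' := by rw [ih]; ring
      _ = (q c : ℤ) ^ 2 * Lc * Li' * Lb' := by rw [e5]; ring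

end Groth.Agent.H8RootD
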