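import Groth.Agent.Lib.H8RootDI
import Mathlib.LinearAlgebra.FreeModule.Finite.Quotient
import Mathlib.Analysis.Matrix.PosDef
import Mathlib.Algebra.Order.Star.Real
import Mathlib.LinearAlgebra.Matrix.ToLinearEquiv

set_option autoImplicit false
set_option linter.unusedSectionVars false
set_option linter.unusedSimpArgs false

namespace Groth.Agent.H8RootD

open RootPairing Set RootD

variable {ι M N : Type*} [AddCommGroup M] [AddCommGroup N] {P : RootPairing ι ℤ M N} [Finite ι]

lemma reduced_indiv [P.IsReduced] (i : ι) : IsIndiv P i := by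
  intro j hj
  have hdep : ¬ LinearIndependent ℤ ![P.root j, P.root i] := by
    rw [LinearIndependent.pair_iff]
    intro h
    have := h 2 (-1) (by rw [hj]; simp)
    omega
  rcases RootPairing.IsReduced.eq_or_eq_neg _ _ hdep with h2 | h2
  · rw [← h2] at hj
    have : (1 : ℤ) • P.root j = 0 := by
      have e : (2 : ℤ) • P.root j = P.root j + P.root j := by module
      rw [e] at hj
      rw [one_smul]; exact left_eq_add.mp hj.symm
    exact root_ne_zero P j (by simpa using this)
  · have h3 : P.root i = - P.root j := by rw [h2, neg_neg]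
    rw [h3] at hj
    have : (3 : ℤ) • P.root j = 0 := by
      have e : (3 : ℤ) • P.root j = (2 : ℤ) • P.root j + P.root j := by module
      rw [e, hj]; abel
    have h4 : ((3 : ℕ)) • P.root j = 0 := by rw [← natCast_zsmul]; exact this
    exact nsmul_root_ne_zero j 3 (by norm_num) h4

lemma exists_functional {S : Set ι} (hS : IsPosSys P S) :
    ∃ φ : M →+ ℚ, S = {i | 0 < φ (P.root i)} ∧ ∀ i, 0 < φ (P.root i) ∨ φ (P.root i) < 0 := by
  have hsim := isSimpleSys_indec' hS
  obtain ⟨f, hf⟩ := exists_height hsim
  refine ⟨f, ?_, ?_⟩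
  · rw [← posOf_eq hsim hf]
    exact eq_posOf hsim hS (indec_subset P S)
  · intro i
    rcases hsim.mem_or_neg_mem i with h | h
    · left
      have := natSpan_hom_pos P hf h (root_ne_zero P i)
      linarith
    · right
      have := natSpan_hom_pos P hf h (by simpa using root_ne_zero P i)
      rw [map_neg] at this
      linarith

section pmor

variable {ι' M' N' : Type*} [AddCommGroup M'] [AddCommGroup N']
    {P' : RootPairing ι' ℤ M' N'} [Finite ι']
    {f : M' →ₗ[ℤ] M} {g : N →ₗ[ℤ] N'}

lemma pmor_posSys
    (hfg : ∀ (m' : M') (n : N), P.toLinearMap (f m') n = P'.toLinearMap m' (g n))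
    {u : ι ≃ ι'} {q : ι → ℕ} (hqpos : ∀ i, 0 < q i)
    (hroot : ∀ i : ι, f (P'.root (u i)) = (q i : ℤ) • P.root i)
    (hcoroot : ∀ i : ι, g (P.coroot i) = (q i : ℤ) • P'.coroot (u i)) (S : Set ι) :
    IsPosSys P S ↔ IsPosSys P' (u '' S) := by
  constructor
  · intro hS
    obtain ⟨φ, hφ, hφ'⟩ := exists_functional hS
    have key : ∀ i, φ (f (P'.root (u i))) = q i * φ (P.root i) := by
      intro i; rw [hroot, map_zsmul]; simp
    have hq : ∀ i, (0 : ℚ) < q i := fun i => by exact_mod_cast hqpos i
    have h1 : u '' S = {i' | 0 < (φ.comp f.toAddMonoidHom) (P'.root i')} := by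
      ext i'
      obtain ⟨i, rfl⟩ := u.surjective i'
      rw [u.injective.mem_set_image, hφ]
      simp only [mem_ofPred_eq, AddMonoidHom.comp_apply, LinearMap.toAddMonoidHom_coe, key]
      constructor
      · intro h; exact mul_pos (hq i) h
      · intro h; exact pos_of_mul_pos_right h (hq i).le
    rw [h1]
    apply isPosSys_of_hom
    intro i'
    obtain ⟨i, rfl⟩ := u.surjective i'
    simp only [AddMonoidHom.comp_apply, LinearMap.toAddMonoidHom_coe, key]
    rcases hφ' i with h | h
    · left; exact mul_pos (hq i) h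
    · right; exact mul_neg_of_pos_of_neg (hq i) h
  · intro hS'
    obtain ⟨φ', hφ, hφ'⟩ := exists_functional hS'
    obtain ⟨φ, hφe⟩ := (Module.Baer.of_divisible ℚ).extension_property_addMonoidHom
      (f.comp (Submodule.span ℤ (range P'.root)).subtype).toAddMonoidHom (by
        rw [injective_iff_map_eq_zero]
        rintro ⟨x, hx⟩ h
        apply Subtype.ext
        exact pmor_inj hfg hqpos hcoroot hx h)
      (φ'.comp (Submodule.span ℤ (range P'.root)).subtype.toAddMonoidHom)
    have key : ∀ i, φ' (P'.root (u i)) = q i * φ (P.root i) := by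
      intro i
      have h1 := DFunLike.congr_fun hφe ⟨P'.root (u i), Submodule.subset_span ⟨_, rfl⟩⟩
      have h2 : φ (f (P'.root (u i))) = φ' (P'.root (u i)) := h1
      rw [← h2, hroot, map_zsmul]; simp
    have hq : ∀ i, (0 : ℚ) < q i := fun i => by exact_mod_cast hqpos i
    have h1 : S = {i | 0 < φ (P.root i)} := by
      ext i
      rw [← u.injective.mem_set_image (s := S), hφ]
      simp only [mem_ofPred_eq, key]
      constructor
      · intro h; exact pos_of_mul_pos_right h (hq i).le
      · intro h; exact mul_pos (hq i) h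
    rw [h1]
    apply isPosSys_of_hom
    intro i
    rcases hφ' (u i) with h | h
    · left; rw [key] at h; exact pos_of_mul_pos_right h (hq i).le
    · right
      rw [key] at h
      by_contra hcon
      push Not at hcon
      have := mul_nonneg (hq i).le hcon
      linarith

lemma span_of_natSpan' {S : Set ι} {x : M} (hx : x ∈ natSpan P S) :
    x ∈ Submodule.span ℤ (range P.root) :=
  Submodule.span_mono (image_subset_range _ _) (natSpan_le_span P hx)

lemma pmor_simple_mp [P'.IsReduced]
    (hfg : ∀ (m' : M') (n : N), P.toLinearMap (f m') n = P'.toLinearMap m' (g n))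
    {u : ι ≃ ι'} {q : ι → ℕ} (hqpos : ∀ i, 0 < q i)
    (hroot : ∀ i : ι, f (P'.root (u i)) = (q i : ℤ) • P.root i)
    (hcoroot : ∀ i : ι, g (P.coroot i) = (q i : ℤ) • P'.coroot (u i)) {Δ : Set ι}
    (hΔ : IsSimpleSys P Δ) : IsSimpleSys P' (u '' Δ) := by
  classical
  have : Fintype ι := Fintype.ofFinite ι
  have : Fintype Δ := Fintype.ofFinite Δ
  let Q : ℕ := ∏ i, q i
  have hQ : 0 < Q := Finset.prod_pos fun i _ => hqpos i
  have hdvd : ∀ i, q i ∣ Q := fun i => Finset.dvd_prod_of_mem q (Finset.mem_univ i)
  have hlift : ∀ y ∈ natSpan P Δ, ∃ y' ∈ natSpan P' (u '' Δ), f y' = Q • y := by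
    intro y hy
    induction hy using AddSubmonoid.closure_induction with
    | mem y hy =>
      obtain ⟨i, hi, rfl⟩ := hy
      refine ⟨(Q / q i) • P'.root (u i), AddSubmonoid.nsmul_mem _ (root_mem_natSpan P' (mem_image_of_mem u hi)) _, ?_⟩
      rw [map_nsmul, hroot, natCast_zsmul, smul_smul, Nat.div_mul_cancel (hdvd i)]
    | zero => exact ⟨0, zero_mem _, by simp⟩
    | add x y _ _ hx hy =>
      obtain ⟨x', hx', ex⟩ := hx
      obtain ⟨y', hy', ey⟩ := hy
      exact ⟨x' + y', add_mem hx' hy', by rw [map_add, ex, ey, smul_add]⟩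
  have hfinj : ∀ {x y : M'}, x ∈ Submodule.span ℤ (range P'.root) →
      y ∈ Submodule.span ℤ (range P'.root) → f x = f y → x = y := by
    intro x y hx hy h
    exact sub_eq_zero.mp (pmor_inj hfg hqpos hcoroot (sub_mem hx hy) (by rw [map_sub, h, sub_self]))
  apply isSimpleSys_of_rat
  · intro i _; exact reduced_indiv i
  · have h1 : LinearIndepOn ℤ (P'.root ∘ u) Δ := by
      have hli := hΔ.linInd
      rw [LinearIndepOn, Fintype.linearIndependent_iff] at hli ⊢
      intro c hc i
      have h2 : ∑ i : Δ, (c i * q i) • P.root i = 0 := by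
        have h3 := congrArg f hc
        rw [map_zero, map_sum] at h3
        rw [← h3]
        apply Finset.sum_congr rfl
        intro j _
        rw [map_zsmul, mul_smul]
        congr 1
        exact (hroot j).symm
      have h4 := hli (fun i => c i * q i) h2 i
      have h5 : (q i : ℤ) ≠ 0 := by exact_mod_cast (hqpos i).ne'
      exact (mul_eq_zero.mp h4).resolve_right h5
    exact LinearIndepOn.image_of_comp _ _ h1
  · intro k'
    obtain ⟨k, rfl⟩ := u.surjective k'
    refine ⟨Q, hQ, ?_⟩
    rcases hΔ.mem_or_neg_mem k with h | h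
    · left
      obtain ⟨y', hy', e⟩ := hlift _ h
      have : Q • P'.root (u k) = q k • y' := by
        apply hfinj
        · exact nsmul_mem (Submodule.subset_span (mem_range_self _)) _
        · exact nsmul_mem (span_of_natSpan' hy') _
        · rw [map_nsmul, map_nsmul, e, hroot, natCast_zsmul, smul_comm]
      rw [this]
      exact AddSubmonoid.nsmul_mem _ hy' _
    · right
      obtain ⟨y', hy', e⟩ := hlift _ h
      have : Q • (-P'.root (u k)) = q k • y' := by
        apply hfinj
        · exact nsmul_mem (neg_mem (Submodule.subset_span (mem_range_self _))) _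
        · exact nsmul_mem (span_of_natSpan' hy') _
        · rw [map_nsmul, map_nsmul, e, map_neg, hroot, natCast_zsmul, smul_neg, smul_neg, smul_neg, smul_comm]
      rw [this]
      exact AddSubmonoid.nsmul_mem _ hy' _

lemma pmor_simple_mpr [P.IsReduced]
    (hfg : ∀ (m' : M') (n : N), P.toLinearMap (f m') n = P'.toLinearMap m' (g n))
    {u : ι ≃ ι'} {q : ι → ℕ} (hqpos : ∀ i, 0 < q i)
    (hroot : ∀ i : ι, f (P'.root (u i)) = (q i : ℤ) • P.root i)
    (hcoroot : ∀ i : ι, g (P.coroot i) = (q i : ℤ) • P'.coroot (u i)) {Δ : Set ι}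
    (hΔ : IsSimpleSys P' (u '' Δ)) : IsSimpleSys P Δ := by
  classical
  have : Fintype ι := Fintype.ofFinite ι
  have : Fintype Δ := Fintype.ofFinite Δ
  let Q : ℕ := ∏ i, q i
  have hQ : 0 < Q := Finset.prod_pos fun i _ => hqpos i
  have hdvd : ∀ i, q i ∣ Q := fun i => Finset.dvd_prod_of_mem q (Finset.mem_univ i)
  have hpush : ∀ y ∈ natSpan P' (u '' Δ), f y ∈ natSpan P Δ := by
    intro y hy
    induction hy using AddSubmonoid.closure_induction with
    | mem y hy =>
      obtain ⟨_, ⟨i, hi, rfl⟩, rfl⟩ := hy
      rw [hroot, natCast_zsmul]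
      exact AddSubmonoid.nsmul_mem _ (root_mem_natSpan P hi) _
    | zero => rw [map_zero]; exact zero_mem _
    | add x y _ _ hx hy => rw [map_add]; exact add_mem hx hy
  apply isSimpleSys_of_rat
  · intro i _; exact reduced_indiv i
  · have hli : LinearIndepOn ℤ (P'.root ∘ u) Δ := by
      have h1 := hΔ.linInd
      have h2 : LinearIndependent ℤ (fun x : (u '' Δ : Set ι') => P'.root x) := h1
      exact h2.comp (fun i : Δ => (⟨u i, mem_image_of_mem u i.2⟩ : (u '' Δ : Set ι')))
        (fun a b hab => Subtype.ext (u.injective (congrArg Subtype.val hab)))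
    rw [LinearIndepOn, Fintype.linearIndependent_iff] at hli ⊢
    intro c hc i
    have h2 : ∑ i : Δ, (c i * ((Q / q i : ℕ) : ℤ)) • (P'.root ∘ u) i = 0 := by
      apply pmor_inj hfg hqpos hcoroot
      · apply Submodule.sum_mem
        intro j _
        exact Submodule.smul_mem _ _ (Submodule.subset_span ⟨_, rfl⟩)
      · rw [map_sum]
        have h3 : ∀ j : Δ, f ((c j * ((Q / q j : ℕ) : ℤ)) • (P'.root ∘ u) j) = (Q : ℤ) • (c j • P.root j) := by
          intro j
          rw [map_zsmul]
          change (c j * ((Q / q j : ℕ) : ℤ)) • f (P'.root (u j)) = _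
          rw [hroot, smul_smul, smul_smul]
          congr 1
          have : (((Q / q j : ℕ) : ℤ)) * (q j : ℤ) = Q := by
            exact_mod_cast Nat.div_mul_cancel (hdvd j)
          rw [mul_assoc, this, mul_comm]
        rw [Finset.sum_congr rfl (fun j _ => h3 j), ← Finset.smul_sum, hc, smul_zero]
    have h4 := hli _ h2 i
    have h5 : ((Q / q i : ℕ) : ℤ) ≠ 0 := by
      have : 0 < Q / q i := Nat.div_pos (Nat.le_of_dvd hQ (hdvd i)) (hqpos i)
      exact_mod_cast this.ne'
    exact (mul_eq_zero.mp h4).resolve_right h5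
  · intro k
    refine ⟨q k, hqpos k, ?_⟩
    rcases hΔ.mem_or_neg_mem (u k) with h | h
    · left
      have := hpush _ h
      rwa [hroot, natCast_zsmul] at this
    · right
      have := hpush _ h
      rwa [map_neg, hroot, natCast_zsmul, ← smul_neg] at this

end pmor

/-- S5476 -/
lemma ker_pol_eq [Fintype ι] : LinearMap.ker P.Polarization = ⨅ i : ι, LinearMap.ker (P.coroot' i) := by
  rw [P.ker_polarization_eq_ker_rootForm]
  ext x
  simp only [Submodule.mem_iInf, LinearMap.mem_ker]
  constructor
  · intro h i
    have h1 : P.RootForm x x = 0 := by rw [h]; rfl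
    rw [P.rootForm_apply_apply] at h1
    have h2 := (Finset.sum_eq_zero_iff_of_nonneg (fun i _ => mul_self_nonneg _)).mp h1 i (Finset.mem_univ i)
    exact mul_self_eq_zero.mp h2
  · intro h
    ext y
    rw [P.rootForm_apply_apply]
    apply Finset.sum_eq_zero
    intro i _
    rw [h i, zero_mul]

lemma finrank_ker_add (P : RootPairing ι ℤ M N) [Module.Finite ℤ M] [Module.Finite ℤ N] :
    Module.finrank ℤ (⨅ i : ι, LinearMap.ker (P.coroot' i) : Submodule ℤ M) +
      Module.finrank ℤ (Submodule.span ℤ (Set.range P.root)) = Module.finrank ℤ M := by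
  have : Fintype ι := Fintype.ofFinite ι
  have := P.isAnisotropic_of_isValuedIn ℤ
  rw [← ker_pol_eq]
  have h0 := Submodule.finrank_quotient_add_finrank (LinearMap.ker P.Polarization)
  have h1 : Module.finrank ℤ (LinearMap.range P.Polarization) +
      Module.finrank ℤ (LinearMap.ker P.Polarization) = Module.finrank ℤ M := by
    rw [← P.Polarization.quotKerEquivRange.finrank_eq]; exact h0
  have h2 : Module.finrank ℤ (LinearMap.range P.Polarization) =
      Module.finrank ℤ (Submodule.span ℤ (Set.range P.root)) := by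
    apply le_antisymm
    · have h3 : LinearMap.range P.Polarization ≤ P.corootSpan ℤ := by
        rintro _ ⟨x, rfl⟩
        rw [P.Polarization_apply]
        apply Submodule.sum_mem
        intro i _
        exact Submodule.smul_mem _ _ (Submodule.subset_span ⟨i, rfl⟩)
      have h4 := Submodule.finrank_mono h3
      rw [P.finrank_corootSpan_eq'] at h4
      exact h4
    · have h3 : (P.rootSpan ℤ).map P.Polarization ≤ LinearMap.range P.Polarization :=
        LinearMap.map_le_range
      have h4 := Submodule.finrank_mono h3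
      rw [P.finrank_rootSpan_map_polarization_eq_finrank_corootSpan, P.finrank_corootSpan_eq'] at h4
      exact h4
  omega

lemma finrank_MN (P : RootPairing ι ℤ M N) [Module.Finite ℤ M] [Module.Finite ℤ N] :
    Module.finrank ℤ N = Module.finrank ℤ M := by
  have := Module.IsReflexive.of_isPerfPair P.toLinearMap
  have := Module.IsReflexive.of_isPerfPair P.flip.toLinearMap
  have : Module.Free ℤ N := inferInstance
  rw [P.toPerfPair.finrank_eq]
  exact (Module.finrank_linearMap_self ℤ ℤ N).symm

lemma finrank_four (P : RootPairing ι ℤ M N) [Module.Finite ℤ M] [Module.Finite ℤ N] :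
    (Module.finrank ℤ (⨅ i : ι, LinearMap.ker (P.coroot' i) : Submodule ℤ M) +
      Module.finrank ℤ (Submodule.span ℤ (Set.range P.root)) = Module.finrank ℤ M) ∧
    (Module.finrank ℤ (⨅ i : ι, LinearMap.ker (P.root' i) : Submodule ℤ N) +
      Module.finrank ℤ (Submodule.span ℤ (Set.range P.root)) = Module.finrank ℤ M) ∧
    (Module.finrank ℤ (Submodule.span ℤ (Set.range P.root)) = Module.finrank ℤ M ↔
      (⨅ i : ι, LinearMap.ker (P.coroot' i) : Submodule ℤ M) = ⊥) ∧
    (Module.finrank ℤ (Submodule.span ℤ (Set.range P.root)) = Module.finrank ℤ M ↔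
      (⨅ i : ι, LinearMap.ker (P.root' i) : Submodule ℤ N) = ⊥) := by
  have h1 := finrank_ker_add P
  have h2 := finrank_ker_add P.flip
  have : Fintype ι := Fintype.ofFinite ι
  have := P.isAnisotropic_of_isValuedIn ℤ
  have h3 : Module.finrank ℤ (Submodule.span ℤ (Set.range P.flip.root)) =
      Module.finrank ℤ (Submodule.span ℤ (Set.range P.root)) := P.finrank_corootSpan_eq'
  have h4 := finrank_MN P
  have h2' : Module.finrank ℤ (⨅ i : ι, LinearMap.ker (P.root' i) : Submodule ℤ N) +
      Module.finrank ℤ (Submodule.span ℤ (Set.range P.root)) = Module.finrank ℤ M := by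
    rw [← h3, ← h4]
    exact h2
  have := Module.IsReflexive.of_isPerfPair P.toLinearMap
  have := Module.IsReflexive.of_isPerfPair P.flip.toLinearMap
  refine ⟨h1, h2', ?_, ?_⟩
  · constructor
    · intro h
      have h5 : Module.finrank ℤ (⨅ i : ι, LinearMap.ker (P.coroot' i) : Submodule ℤ M) = 0 := by omega
      exact Submodule.finrank_eq_zero.mp h5
    · intro h
      rw [h, finrank_bot] at h1
      omega
  · constructor
    · intro h
      have h5 : Module.finrank ℤ (⨅ i : ι, LinearMap.ker (P.root' i) : Submodule ℤ N) = 0 := by omega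
      exact Submodule.finrank_eq_zero.mp h5
    · intro h
      rw [h, finrank_bot] at h2'
      omega

/-- S5474 -/
lemma hom_inj_fin {ι' M' N' : Type*} [AddCommGroup M'] [AddCommGroup N']
    (P : RootPairing ι ℤ M N) (P' : RootPairing ι' ℤ M' N') [Finite ι']
    [Module.Finite ℤ M] [Module.Finite ℤ N] [Module.Finite ℤ M'] [Module.Finite ℤ N']
    (hss : Module.finrank ℤ (Submodule.span ℤ (Set.range P.root)) = Module.finrank ℤ M)
    (hss' : Module.finrank ℤ (Submodule.span ℤ (Set.range P'.root)) = Module.finrank ℤ M')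
    (f : RootPairing.Hom P' P) :
    Function.Injective f.weightMap ∧ Finite (M ⧸ LinearMap.range f.weightMap) := by
  constructor
  · rw [injective_iff_map_eq_zero]
    intro x hx
    have h1 := (finrank_four P').2.2.1.mp hss'
    have h2 : x ∈ (⨅ i : ι', LinearMap.ker (P'.coroot' i) : Submodule ℤ M') := by
      rw [Submodule.mem_iInf]
      intro i'
      have h3 := RootPairing.Hom.weight_coweight_transpose_apply P' P (P.coroot (f.indexEquiv i')) f
      have h4 := LinearMap.congr_fun h3 x
      rw [RootPairing.Hom.coroot_coweightMap_apply, f.indexEquiv.symm_apply_apply] at h4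
      have h5 : (f.weightMap.dualMap (P.flip.toPerfPair (P.coroot (f.indexEquiv i')))) x =
        P.toLinearMap (f.weightMap x) (P.coroot (f.indexEquiv i')) := rfl
      rw [h5, hx, map_zero, LinearMap.zero_apply] at h4
      exact h4.symm
    rw [h1] at h2
    exact (Submodule.mem_bot ℤ).mp h2
  · have := Module.IsReflexive.of_isPerfPair P.toLinearMap
    have : Finite (M ⧸ Submodule.span ℤ (Set.range P.root)) :=
      Submodule.finiteQuotientOfFreeOfRankEq _ hss
    have hle : Submodule.span ℤ (Set.range P.root) ≤ LinearMap.range f.weightMap := by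
      rw [Submodule.span_le]
      rintro _ ⟨i, rfl⟩
      refine ⟨P'.root (f.indexEquiv.symm i), ?_⟩
      rw [RootPairing.Hom.root_weightMap_apply, f.indexEquiv.apply_symm_apply]
    exact Finite.of_surjective (Submodule.factor hle) (Submodule.factor_surjective hle)

/-- gram -/
lemma m_pairing [Fintype ι] (a b : ι) :
    P.RootForm (P.root a) (P.root a) * P.pairing b a = 2 * P.RootForm (P.root b) (P.root a) := by
  rw [two_mul_rootForm]; rfl

/-- S5507 -/
lemma posDef_gram {Δ : Finset ι} (hΔ : IsSimpleSys P (↑Δ : Set ι)) :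
    ∃ m : ↥Δ → ℤ, (∀ a, 0 < m a) ∧
      (Matrix.of fun (a b : ↥Δ) => m a * P.pairing (b : ι) (a : ι)).IsSymm ∧
      (Matrix.of fun (a b : ↥Δ) => m a * P.pairing (b : ι) (a : ι)).PosDef := by
  have : Fintype ι := Fintype.ofFinite ι
  have hsymm : (Matrix.of fun (a b : ↥Δ) => P.RootForm (P.root a) (P.root a) *
      P.pairing (b : ι) (a : ι)).IsSymm := by
    ext a b
    simp only [Matrix.transpose_apply, Matrix.of_apply]
    rw [m_pairing, m_pairing, rootForm_symm]
  refine ⟨fun a => P.RootForm (P.root a) (P.root a), fun a => rootForm_root_pos P a, hsymm, ?_, ?_⟩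
  · rw [Matrix.IsHermitian, Matrix.conjTranspose_eq_transpose_of_trivial]
    exact hsymm
  · intro x hx
    set y : M := x.sum fun i xi => xi • P.root i with hy
    have hli : LinearIndependent ℤ (fun i : ↥Δ => P.root i) := hΔ.linInd
    have hy0 : y ≠ 0 := by
      intro h0
      apply hx
      rw [linearIndependent_iff] at hli
      exact hli x h0
    have hyspan : y ∈ Submodule.span ℤ (range P.root) := by
      rw [hy, Finsupp.sum]
      apply Submodule.sum_mem
      intro i _
      exact Submodule.smul_mem _ _ (Submodule.subset_span ⟨i, rfl⟩)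
    have hpos : 0 < P.RootForm y y :=
      lt_of_le_of_ne (rootForm_self_nonneg P y) (fun h => hy0 (eq_zero_of_rootForm_self P hyspan h.symm))
    have he : (x.sum fun i xi => x.sum fun j xj => star xi *
        (Matrix.of fun (a b : ↥Δ) => P.RootForm (P.root a) (P.root a) * P.pairing (b : ι) (a : ι)) i j * xj)
        = 2 * P.RootForm y y := by
      rw [hy]
      simp only [Finsupp.sum, Matrix.of_apply, star_trivial, map_sum, map_smul, LinearMap.sum_apply,
        LinearMap.smul_apply, smul_eq_mul, m_pairing, Finset.mul_sum]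
      apply Finset.sum_congr rfl
      intro i _
      apply Finset.sum_congr rfl
      intro j _
      ring
    rw [he]
    linarith

/-- S5484 -/
lemma det_minor_pos {Δ : Finset ι} (hΔ : IsSimpleSys P (↑Δ : Set ι))
    {Δ' : Finset ι} (hsub : Δ' ⊆ Δ) [DecidableEq ι] :
    0 < Matrix.det (Matrix.of fun (a b : ↥Δ') => P.pairing (b : ι) (a : ι)) := by
  have : Fintype ι := Fintype.ofFinite ι
  let A : Matrix Δ' Δ' ℤ := Matrix.of fun (a b : ↥Δ') => P.pairing (b : ι) (a : ι)
  let B : Matrix ι Δ' ℤ := Matrix.of fun (i : ι) (a : ↥Δ') => P.pairing (a : ι) i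
  let D : Matrix Δ' Δ' ℤ := Matrix.diagonal fun a => P.RootForm (P.root a) (P.root a)
  have hG : D * A = (2 : ℤ) • (B.transpose * B) := by
    ext a b
    rw [Matrix.diagonal_mul, Matrix.smul_apply, Matrix.mul_apply]
    simp only [A, B, Matrix.of_apply, Matrix.transpose_apply]
    rw [m_pairing, P.rootForm_apply_apply, smul_eq_mul]
    congr 1
    apply Finset.sum_congr rfl
    intro i _
    rw [mul_comm]; rfl
  have hdetD : 0 < D.det := by
    rw [Matrix.det_diagonal]
    exact Finset.prod_pos fun a _ => rootForm_root_pos P a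
  have hli : LinearIndependent ℤ (fun i : ↥Δ' => P.root i) :=
    (hΔ.linInd.mono (by exact_mod_cast hsub) : LinearIndepOn ℤ P.root (↑Δ' : Set ι))
  have hne : (B.transpose * B).det ≠ 0 := by
    intro h0
    obtain ⟨v, hv, hv0⟩ := Matrix.exists_mulVec_eq_zero_iff.mpr h0
    apply hv
    have h1 : B.mulVec v = 0 := by
      have h2 : dotProduct (B.mulVec v) (B.mulVec v) = 0 := by
        have h3 : dotProduct v ((B.transpose * B).mulVec v) = 0 := by rw [hv0]; simp
        rw [← Matrix.mulVec_mulVec, Matrix.dotProduct_mulVec, Matrix.vecMul_transpose] at h3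
        exact h3
      exact dotProduct_self_eq_zero.mp h2
    set x : M := ∑ a, v a • P.root a with hx
    have hx0 : x = 0 := by
      apply eq_zero_of_span_of_nsmul (P := P) (n := 1) one_pos
      · rw [one_smul]
        apply Submodule.sum_mem
        intro i _
        exact Submodule.smul_mem _ _ (Submodule.subset_span ⟨i, rfl⟩)
      · intro i
        have h4 := congrFun h1 i
        simp only [Matrix.mulVec, dotProduct, B, Matrix.of_apply, Pi.zero_apply] at h4
        rw [hx, map_sum, ← h4]
        apply Finset.sum_congr rfl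
        intro a _
        rw [map_smul, smul_eq_mul, mul_comm]; rfl
    rw [Fintype.linearIndependent_iff] at hli
    ext a
    exact hli v hx0 a
  have hnn : 0 ≤ (B.transpose * B).det := by
    have h1 : (((B.transpose * B).det : ℤ) : ℝ) = ((B.map (Int.castRingHom ℝ)).conjTranspose * (B.map (Int.castRingHom ℝ))).det := by
      have h2 := RingHom.map_det (Int.castRingHom ℝ) (B.transpose * B)
      rw [RingHom.mapMatrix_apply, Matrix.map_mul] at h2
      rw [Matrix.conjTranspose_eq_transpose_of_trivial, ← Matrix.transpose_map]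
      exact h2
    have h3 : 0 ≤ ((B.map (Int.castRingHom ℝ)).conjTranspose * (B.map (Int.castRingHom ℝ))).det :=
      (Matrix.posSemidef_conjTranspose_mul_self _).det_nonneg
    rw [← h1] at h3
    exact_mod_cast h3
  have hpos : 0 < (B.transpose * B).det := lt_of_le_of_ne hnn hne.symm
  have hprod : D.det * A.det = 2 ^ (Fintype.card Δ') * (B.transpose * B).det := by
    rw [← Matrix.det_mul, hG, Matrix.det_smul]
  have h5 : 0 < D.det * A.det := by
    rw [hprod]; positivity
  exact pos_of_mul_pos_right h5 hdetD.le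

end Groth.Agent.H8RootD
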