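import Groth.Agent.Lib.H8RootDJ

set_option autoImplicit false
set_option linter.unusedSectionVars false
set_option linter.unusedSimpArgs false

namespace Groth.Agent.H8RootD

open RootPairing Set RootD

variable {ι M N : Type*} [AddCommGroup M] [AddCommGroup N] {P : RootPairing ι ℤ M N} [Finite ι]

variable (P) in
/-- the simple coroots -/
def Dv (Δ : Set ι) : Set ι :=
  {j : ι | ∃ i ∈ Δ, (j = i ∧ IsIndiv P.flip i) ∨ (2 : ℤ) • P.coroot j = P.coroot i}

lemma Dv_spec {Δ : Set ι} {j : ι} (hj : j ∈ Dv P Δ) :
    ∃ i ∈ Δ, ∃ c : ℤ, (c = 1 ∧ j = i ∧ IsIndiv P.flip i ∨ c = 2 ∧ (2 : ℤ) • P.coroot j = P.coroot i) ∧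
      c • P.coroot j = P.coroot i ∧ P.root j = c • P.root i := by
  have := Module.IsReflexive.of_isPerfPair P.toLinearMap
  have := Module.IsReflexive.of_isPerfPair P.flip.toLinearMap
  have : IsAddTorsionFree M := .of_isTorsionFree ℤ M
  have : IsAddTorsionFree N := .of_isTorsionFree ℤ N
  obtain ⟨i, hi, h | h⟩ := hj
  · refine ⟨i, hi, 1, Or.inl ⟨rfl, h⟩, ?_, ?_⟩
    · rw [h.1, one_smul]
    · rw [h.1, one_smul]
  · refine ⟨i, hi, 2, Or.inr ⟨rfl, h⟩, h, ?_⟩
    exact P.coroot_eq_smul_coroot_iff.mp h.symm

lemma coroot_mem_Dv {Δ : Set ι} {i : ι} (hi : i ∈ Δ) : P.coroot i ∈ natSpan P.flip (Dv P Δ) := by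
  by_cases h : IsIndiv P.flip i
  · exact root_mem_natSpan P.flip (S := Dv P Δ) (i := i) ⟨i, hi, Or.inl ⟨rfl, h⟩⟩
  · unfold IsIndiv at h
    push Not at h
    obtain ⟨j, hj⟩ := h
    have h2 : (2 : ℤ) • P.coroot j = P.coroot i := hj
    rw [← h2]
    have : (2 : ℤ) • P.coroot j = (2 : ℕ) • P.coroot j := by rw [← natCast_zsmul]; rfl
    rw [this]
    exact AddSubmonoid.nsmul_mem _ (root_mem_natSpan P.flip (S := Dv P Δ) (i := j) ⟨i, hi, Or.inr h2⟩) _

lemma pol_mem [Fintype ι] {Δ : Set ι} {y : M} (hy : y ∈ natSpan P Δ) :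
    2 • P.Polarization y ∈ natSpan P.flip (Dv P Δ) := by
  induction hy using AddSubmonoid.closure_induction with
  | mem y hy =>
    obtain ⟨i, hi, rfl⟩ := hy
    rw [← two_pol]
    obtain ⟨n, hn⟩ := Int.eq_ofNat_of_zero_le (rootForm_root_pos P i).le
    rw [hn, natCast_zsmul]
    exact AddSubmonoid.nsmul_mem _ (coroot_mem_Dv hi) _
  | zero => rw [map_zero, smul_zero]; exact zero_mem _
  | add x y _ _ hx hy => rw [map_add, smul_add]; exact add_mem hx hy

/-- S5485 -/
lemma simple_flip {Δ : Set ι} (hΔ : IsSimpleSys P Δ) : IsSimpleSys P.flip (Dv P Δ) := by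
  have : Fintype ι := Fintype.ofFinite ι
  have := Module.IsReflexive.of_isPerfPair P.toLinearMap
  have := Module.IsReflexive.of_isPerfPair P.flip.toLinearMap
  obtain ⟨f, hf⟩ := exists_height hΔ
  apply isSimpleSys_of_rat
  · intro j hj
    obtain ⟨i, hi, h | h⟩ := hj
    · rw [h.1]; exact h.2
    · exact isIndiv_half (P := P.flip) h
  · apply linearIndepOn_of_obtuse
    · intro j hj j' hj' hne
      rw [P.pairing_flip]
      obtain ⟨i, hi, c, hc, h1, h2⟩ := Dv_spec hj
      obtain ⟨i', hi', c', hc', h1', h2'⟩ := Dv_spec hj'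
      have hii : i ≠ i' := by
        rintro rfl
        rcases hc with ⟨hc, e1, e2⟩ | ⟨hc, e1⟩ <;> rcases hc' with ⟨hc', e1', e2'⟩ | ⟨hc', e1'⟩
        · exact hne (e1.trans e1'.symm)
        · exact e2 j' e1'
        · exact e2' j e1
        · apply hne
          apply P.coroot.injective
          exact smul_right_injective N two_ne_zero (e1.trans e1'.symm)
      have hcpos : 0 < c := by rcases hc with ⟨hc, -⟩ | ⟨hc, -⟩ <;> omega
      have hcpos' : 0 < c' := by rcases hc' with ⟨hc', -⟩ | ⟨hc', -⟩ <;> omega
      have h3 : c * P.pairing j' j = c' * P.pairing i' i := by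
        have e1 : P.toLinearMap (P.root j') (c • P.coroot j) = c * P.pairing j' j := by
          rw [map_smul]; rfl
        rw [← e1, h1, h2', map_smul, LinearMap.smul_apply]; rfl
      have h4 := simple_pairing_le_zero hΔ hi' hi (Ne.symm hii)
      have h5 : c' * P.pairing i' i ≤ 0 := mul_nonpos_of_nonneg_of_nonpos hcpos'.le h4
      rw [← h3] at h5
      exact nonpos_of_mul_nonpos_right h5 hcpos
    · intro j hj y hy h0
      have hpos : ∀ l ∈ Dv P Δ, 0 < (f.comp P.CoPolarization.toAddMonoidHom) (P.flip.root l) := by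
        intro l hl
        obtain ⟨i, hi, c, hc, h1, h2⟩ := Dv_spec hl
        have hcpos : 0 < c := by rcases hc with ⟨hc, -⟩ | ⟨hc, -⟩ <;> omega
        have h3 := congrArg f (P.corootForm_self_smul_root l)
        rw [map_zsmul, map_nsmul, h2, map_zsmul, hf i hi] at h3
        have h4 : (0 : ℤ) < P.CorootForm (P.coroot l) (P.coroot l) := rootForm_root_pos P.flip l
        have h4' : (0 : ℚ) < P.CorootForm (P.coroot l) (P.coroot l) := by exact_mod_cast h4
        have hc' : (0 : ℚ) < c := by exact_mod_cast hcpos
        have h5 : (0 : ℚ) < 2 • f (P.CoPolarization (P.coroot l)) := by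
          rw [← h3]
          have := mul_pos h4' hc'
          simpa using this
        have h6 : (0 : ℚ) < f (P.CoPolarization (P.coroot l)) := by
          rw [two_nsmul] at h5
          linarith
        exact h6
      have h1 := hpos j hj
      have h2 := hom_natSpan_nonneg P.flip (fun l hl => (hpos l hl).le) hy
      have h3 := congrArg (f.comp P.CoPolarization.toAddMonoidHom) h0
      rw [map_add, map_zero] at h3
      linarith
  · intro k
    obtain ⟨n, hn⟩ := Int.eq_ofNat_of_zero_le (rootForm_root_pos P k).le
    have hnpos : 0 < n := by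
      have := rootForm_root_pos P k
      rw [hn] at this
      exact_mod_cast this
    refine ⟨n, hnpos, ?_⟩
    have h1 : n • P.coroot k = 2 • P.Polarization (P.root k) := by
      rw [← two_pol, hn, natCast_zsmul]
    rcases hΔ.mem_or_neg_mem k with h | h
    · left
      change n • P.coroot k ∈ _
      rw [h1]
      exact pol_mem h
    · right
      change n • (-P.coroot k) ∈ _
      rw [smul_neg, h1, ← smul_neg, ← map_neg]
      exact pol_mem h

/-- S5502 -/
lemma form_dvd [Fintype ι] {Δ : Set ι} (hΔ : IsSimpleSys P Δ)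
    (k : ι) (c : ι →₀ ℤ) (hc : ↑c.support ⊆ Δ) (hck : Finsupp.linearCombination ℤ P.root c = P.root k)
    (i : ι) (hi : i ∈ Δ) :
    P.RootForm (P.root k) (P.root k) ∣ 2 * c i * P.RootForm (P.root i) (P.root i) ∧
      (IsIndiv P.flip i → 2 * P.RootForm (P.root k) (P.root k) ∣ 2 * c i * P.RootForm (P.root i) (P.root i)) := by
  classical
  have := Module.IsReflexive.of_isPerfPair P.toLinearMap
  have := Module.IsReflexive.of_isPerfPair P.flip.toLinearMap
  have hflip := simple_flip hΔ
  -- choose j and d with d • coroot j = coroot i, j ∈ Dv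
  obtain ⟨j, hj, d, hd, hdj⟩ : ∃ j ∈ Dv P Δ, ∃ d : ℤ, (d = 1 ∧ j = i ∨ d = 2 ∧ ¬ IsIndiv P.flip i) ∧
      d • P.coroot j = P.coroot i := by
    by_cases h : IsIndiv P.flip i
    · exact ⟨i, ⟨i, hi, Or.inl ⟨rfl, h⟩⟩, 1, Or.inl ⟨rfl, rfl⟩, one_smul _ _⟩
    · have h' := h
      unfold IsIndiv at h
      push Not at h
      obtain ⟨j, hj⟩ := h
      exact ⟨j, ⟨i, hi, Or.inr hj⟩, 2, Or.inr ⟨rfl, h'⟩, hj⟩
  obtain ⟨h, hh⟩ := exists_hom P.flip hflip.linInd (fun l => if l = j then 1 else 0)
  have hint : ∀ y ∈ natSpan P.flip (Dv P Δ), ∃ z : ℤ, h y = z := by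
    intro y hy
    induction hy using AddSubmonoid.closure_induction with
    | mem y hy =>
      obtain ⟨l, hl, rfl⟩ := hy
      rw [hh l hl]
      split_ifs
      · exact ⟨1, by simp⟩
      · exact ⟨0, by simp⟩
    | zero => exact ⟨0, by simp⟩
    | add x y _ _ hx hy =>
      obtain ⟨a, ha⟩ := hx
      obtain ⟨b, hb⟩ := hy
      exact ⟨a + b, by rw [map_add, ha, hb]; push_cast; ring⟩
  have hintk : ∃ z : ℤ, h (P.coroot k) = z := by
    rcases hflip.mem_or_neg_mem k with h1 | h1
    · exact hint _ h1
    · obtain ⟨z, hz⟩ := hint _ h1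
      rw [map_neg] at hz
      exact ⟨-z, by push_cast; rw [← hz, neg_neg]; rfl⟩
  obtain ⟨z, hz⟩ := hintk
  have hcor : ∀ l ∈ Δ, h (P.coroot l) = if l = i then (d : ℚ) else 0 := by
    intro l hl
    by_cases hli : l = i
    · rw [if_pos hli, hli, ← hdj, map_zsmul]
      have := hh j hj
      rw [if_pos rfl] at this
      change d • h (P.coroot j) = d
      have e : h (P.coroot j) = 1 := this
      rw [e]; simp
    · rw [if_neg hli]
      -- l's element of Dv is not j
      by_cases hl' : IsIndiv P.flip l
      · have h2 := hh l ⟨l, hl, Or.inl ⟨rfl, hl'⟩⟩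
        have hlj : l ≠ j := by
          rintro rfl
          rcases hd with ⟨hd, e⟩ | ⟨hd, e⟩
          · exact hli e
          · rw [hd] at hdj
            -- 2 coroot l = coroot i, l i ∈ Δ : root l = 2 root i
            have : IsAddTorsionFree M := .of_isTorsionFree ℤ M
            have : IsAddTorsionFree N := .of_isTorsionFree ℤ N
            have h3 : P.root l = (2 : ℤ) • P.root i := P.coroot_eq_smul_coroot_iff.mp hdj.symm
            exact isIndiv_of_simple hΔ hl i h3.symm
        rw [if_neg hlj] at h2
        exact h2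
      · unfold IsIndiv at hl'
        push Not at hl'
        obtain ⟨m, hm⟩ := hl'
        have hm' : (2 : ℤ) • P.coroot m = P.coroot l := hm
        have h2 := hh m ⟨l, hl, Or.inr hm'⟩
        have hmj : m ≠ j := by
          rintro rfl
          rcases hd with ⟨hd, e⟩ | ⟨hd, e⟩
          · rw [e] at hm'
            have : IsAddTorsionFree M := .of_isTorsionFree ℤ M
            have : IsAddTorsionFree N := .of_isTorsionFree ℤ N
            have h3 : P.root i = (2 : ℤ) • P.root l := P.coroot_eq_smul_coroot_iff.mp hm'.symm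
            exact isIndiv_of_simple hΔ hi l h3.symm
          · rw [hd] at hdj
            exact hli (P.coroot.injective (hm'.symm.trans hdj))
        rw [if_neg hmj] at h2
        rw [← hm', map_zsmul]
        have e : h (P.coroot m) = 0 := h2
        rw [e, smul_zero]
  have hmain : (P.RootForm (P.root k) (P.root k) : ℚ) * z = c i * P.RootForm (P.root i) (P.root i) * d := by
    have h1 := congrArg h (two_pol (P := P) k)
    rw [map_zsmul, hz] at h1
    have h2 : h (2 • P.Polarization (P.root k)) =
        ∑ l ∈ c.support, (c l : ℚ) * (P.RootForm (P.root l) (P.root l) * h (P.coroot l)) := by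
      rw [← hck, Finsupp.linearCombination_apply, Finsupp.sum, map_sum, Finset.smul_sum, map_sum]
      apply Finset.sum_congr rfl
      intro l _
      rw [map_zsmul, smul_comm, ← two_pol, map_zsmul, map_zsmul]
      simp
    rw [h2] at h1
    have h3 : ∑ l ∈ c.support, (c l : ℚ) * (P.RootForm (P.root l) (P.root l) * h (P.coroot l)) =
        c i * P.RootForm (P.root i) (P.root i) * d := by
      rw [Finset.sum_eq_single i]
      · rw [hcor i hi, if_pos rfl]; ring
      · intro l hl hli
        rw [hcor l (hc hl), if_neg hli]; ring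
      · intro hni
        have : c i = 0 := by simpa using hni
        rw [this]; simp
    rw [h3] at h1
    simpa using h1
  have hmain' : P.RootForm (P.root k) (P.root k) * z = c i * P.RootForm (P.root i) (P.root i) * d := by
    exact_mod_cast hmain
  rcases hd with ⟨hd, e⟩ | ⟨hd, e⟩
  · rw [hd, mul_one] at hmain'
    constructor
    · exact ⟨2 * z, by rw [mul_assoc, ← hmain']; ring⟩
    · intro _
      exact ⟨z, by rw [mul_assoc, ← hmain']; ring⟩
  · rw [hd] at hmain'
    constructor
    · exact ⟨z, by rw [hmain']; ring⟩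
    · intro h'; exact absurd h' e

/-- S5491 -/
lemma height_formula [Fintype ι] [P.IsReduced] (b : P.Base) [DecidablePred b.IsPos] (i : ι) :
    2 * b.height i = ∑ j, if b.IsPos j then P.pairing i j else 0 := by
  classical
  have hneg : ∀ i, b.height (P.reflectionPerm i i) = -b.height i := fun i => b.height_reflectionPerm_self i
  have hsimple : ∀ i ∈ b.support, 2 * b.height i = ∑ j, if b.IsPos j then P.pairing i j else 0 := by
    intro i hi
    rw [b.height_one_of_mem_support hi, ← Finset.sum_filter]
    have hipos : b.IsPos i := by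
      rw [RootPairing.Base.isPos_iff, b.height_one_of_mem_support hi]; norm_num
    rw [← Finset.add_sum_erase _ _ (Finset.mem_filter.mpr ⟨Finset.mem_univ i, hipos⟩)]
    have hmaps : ∀ j ∈ (Finset.univ.filter b.IsPos).erase i,
        P.reflectionPerm i j ∈ (Finset.univ.filter b.IsPos).erase i := by
      intro j hj
      rw [Finset.mem_erase, Finset.mem_filter] at hj ⊢
      refine ⟨?_, Finset.mem_univ _, hj.2.2.reflectionPerm hi hj.1⟩
      intro h
      have h2 := congrArg (P.reflectionPerm i) h
      rw [P.reflectionPerm_self] at h2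
      have h3 := hj.2.2
      rw [h2, RootPairing.Base.isPos_iff, hneg, b.height_one_of_mem_support hi] at h3
      norm_num at h3
    have hT : ∑ j ∈ (Finset.univ.filter b.IsPos).erase i, P.pairing i j = 0 := by
      have h1 : ∑ j ∈ (Finset.univ.filter b.IsPos).erase i, P.pairing i j =
          ∑ j ∈ (Finset.univ.filter b.IsPos).erase i, -P.pairing i j := by
        apply Finset.sum_nbij' (fun j => P.reflectionPerm i j) (fun j => P.reflectionPerm i j)
        · exact hmaps
        · exact hmaps
        · intro j _; exact P.reflectionPerm_self i j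
        · intro j _; exact P.reflectionPerm_self i j
        · intro j _
          rw [P.pairing_reflectionPerm, P.pairing_reflectionPerm_self_left, neg_neg]
      rw [Finset.sum_neg_distrib] at h1
      omega
    rw [hT]; simp
  induction i using b.induction_add with
  | h₀ i ih =>
    rw [hneg, mul_neg, ih, ← Finset.sum_neg_distrib]
    apply Finset.sum_congr rfl
    intro j _
    split_ifs
    · rw [P.pairing_reflectionPerm_self_left]
    · simp
  | h₂ i j k e ih hj =>
    rw [b.height_add e, mul_add, ih, hsimple j hj, ← Finset.sum_add_distrib]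
    apply Finset.sum_congr rfl
    intro l _
    split_ifs
    · rw [RootPairing.pairing_eq_add_of_root_eq_add e]
    · simp
  | h₁ i hi => exact hsimple i hi

section dihedral

lemma WG_pair_fix {i j : ι} {w : P.Aut} (hw : w ∈ WG P {i, j}) (hi : w • i = i) (hj : w • j = j) :
    w = 1 := by
  have : Fintype ι := Fintype.ofFinite ι
  apply aut_ext
  intro x
  rw [one_smul]
  have hz := WG_smul_sub_mem hw x
  have hci : P.coroot' i (w • x - x) = 0 := by
    rw [map_sub]
    conv_lhs => enter [1, 1]; rw [← hi]
    rw [coroot'_smul, sub_self]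
  have hcj : P.coroot' j (w • x - x) = 0 := by
    rw [map_sub]
    conv_lhs => enter [1, 1]; rw [← hj]
    rw [coroot'_smul, sub_self]
  have hfi : P.RootForm (w • x - x) (P.root i) = 0 := by
    have := two_mul_rootForm P (w • x - x) i
    rw [hci, mul_zero] at this
    omega
  have hfj : P.RootForm (w • x - x) (P.root j) = 0 := by
    have := two_mul_rootForm P (w • x - x) j
    rw [hcj, mul_zero] at this
    omega
  have h0 : P.RootForm (w • x - x) (w • x - x) = 0 := by
    rw [image_pair] at hz
    obtain ⟨a, b, hab⟩ := Submodule.mem_span_pair.mp hz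
    calc P.RootForm (w • x - x) (w • x - x)
        = P.RootForm (w • x - x) (a • P.root i + b • P.root j) := by rw [hab]
      _ = a * P.RootForm (w • x - x) (P.root i) + b * P.RootForm (w • x - x) (P.root j) := by
          rw [map_add, LinearMap.map_smul, LinearMap.map_smul]; rfl
      _ = 0 := by rw [hfi, hfj]; ring
  have h1 := eq_zero_of_rootForm_self P
    (Submodule.span_mono (image_subset_range _ _) hz) h0
  exact sub_eq_zero.mp h1

/-- S5496 -/
lemma dihedral_card {i j : ι} (hli : LinearIndependent ℤ ![P.root i, P.root j])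
    {n : ℕ} (hn : IsLeast {m : ℕ | 0 < m ∧ ((Equiv.reflection P i * Equiv.reflection P j) ^ m) • i = i ∧
      ((Equiv.reflection P i * Equiv.reflection P j) ^ m) • j = j} n) :
    Nat.card (Subgroup.closure ({Equiv.reflection P i, Equiv.reflection P j} : Set P.Aut)) = 2 * n := by
  classical
  rw [LinearIndependent.pair_iff] at hli
  set s := Equiv.reflection P i with hs
  set t := Equiv.reflection P j with ht
  have hss : s * s = 1 := reflection_mul_self i
  have htt : t * t = 1 := reflection_mul_self j
  set r := s * t with hr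
  have hWG : WG P {i, j} = Subgroup.closure {s, t} := by rw [WG, image_pair]
  have hsW : s ∈ Subgroup.closure ({s, t} : Set P.Aut) := Subgroup.subset_closure (by simp)
  have htW : t ∈ Subgroup.closure ({s, t} : Set P.Aut) := Subgroup.subset_closure (by simp)
  have hrW : r ∈ Subgroup.closure ({s, t} : Set P.Aut) := mul_mem hsW htW
  have hrn : r ^ n = 1 := by
    apply WG_pair_fix (i := i) (j := j)
    · rw [hWG]; exact pow_mem hrW n
    · exact hn.1.2.1
    · exact hn.1.2.2
  have hord : orderOf r = n := by
    rw [orderOf_eq_iff hn.1.1]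
    refine ⟨hrn, ?_⟩
    intro m hm hm0 h1
    have := hn.2 (show m ∈ _ from ⟨hm0, by rw [h1, one_smul], by rw [h1, one_smul]⟩)
    omega
  have hrinv : ∀ k : ℤ, s * r ^ k = r ^ (-k) * s := by
    have h1 : s * r * s⁻¹ = r⁻¹ := by
      have hsi : s⁻¹ = s := inv_eq_of_mul_eq_one_right hss
      have hti : t⁻¹ = t := inv_eq_of_mul_eq_one_right htt
      rw [hr, mul_inv_rev, hsi, hti, ← mul_assoc, hss, one_mul]
    intro k
    have h2 : s * r ^ k * s⁻¹ = (r⁻¹) ^ k := by rw [← h1, conj_zpow]
    rw [zpow_neg, ← inv_zpow, ← h2]; group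
  -- s is not in zpowers r
  have hs1 : s ≠ 1 := by
    intro h
    have h2 : s • i = i := by rw [h, one_smul]
    have h3 := congrArg P.root h2
    rw [root_smul, hs, Equiv.reflection_smul, P.reflection_apply_self] at h3
    have h4 : P.coroot' i (-P.root i) = P.coroot' i (P.root i) := by rw [h3]
    simp at h4
  have ht1 : t ≠ 1 := by
    intro h
    have h2 : t • j = j := by rw [h, one_smul]
    have h3 := congrArg P.root h2
    rw [root_smul, ht, Equiv.reflection_smul, P.reflection_apply_self] at h3
    have h4 : P.coroot' j (-P.root j) = P.coroot' j (P.root j) := by rw [h3]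
    simp at h4
  have hsz : ∀ k : ℤ, s ≠ r ^ k := by
    intro k hk
    -- s commutes with r
    have h1 : s * r = r * s := by rw [hk]; exact (Commute.zpow_self r k).eq
    -- s s t = s t s => t = s t s
    have h2 : t = s * t * s := by
      have h3 : s * r = t := by rw [hr, ← mul_assoc, hss, one_mul]
      calc t = s * r := h3.symm
        _ = r * s := h1
        _ = s * t * s := by rw [hr]
    have h4 : t * s = s * t := by
      calc t * s = (s * t * s) * s := by rw [← h2]
        _ = s * t * (s * s) := by group
        _ = s * t := by rw [hss, mul_one]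
    have hr2 : r ^ (2 : ℤ) = 1 := by
      have : r ^ (2 : ℤ) = r * r := zpow_two r
      rw [this, hr]
      calc s * t * (s * t) = s * (t * s) * t := by group
        _ = s * (s * t) * t := by rw [h4]
        _ = (s * s) * (t * t) := by group
        _ = 1 := by rw [hss, htt, mul_one]
    rcases Int.even_or_odd' k with ⟨m, hm | hm⟩
    · apply hs1
      rw [hk, hm, zpow_mul, hr2, one_zpow]
    · apply ht1
      have h5 : s = r := by
        rw [hm, zpow_add, zpow_mul, hr2, one_zpow, one_mul, zpow_one] at hk
        exact hk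
      have h6 : s = s * t := h5
      exact (mul_eq_left.mp h6.symm)
  have hset : (Subgroup.closure ({s, t} : Set P.Aut) : Set P.Aut) =
      (Subgroup.zpowers r : Set P.Aut) ∪ (fun z => s * z) '' (Subgroup.zpowers r : Set P.Aut) := by
    apply Subset.antisymm
    · intro x hx
      have hx' : x ∈ WG P {i, j} := by rw [hWG]; exact hx
      obtain ⟨l, hl, rfl⟩ := mem_WG_iff_word.mp hx'
      clear hx hx'
      induction l with
      | nil => left; simp [wd]
      | cons a l ih =>
        have ih' := ih (fun b hb => hl b (by simp [hb]))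
        have ha := hl a (by simp)
        have hcons : wd P (a :: l) = Equiv.reflection P a * wd P l := by
          simp only [wd, List.map_cons, List.prod_cons]
        rw [hcons]
        rcases ha with rfl | ha
        · -- a = i
          rcases ih' with h | ⟨z, hz, h⟩
          · right; exact ⟨_, h, rfl⟩
          · left
            change Equiv.reflection P a * wd P l ∈ Subgroup.zpowers r
            rw [← h, ← mul_assoc, hss, one_mul]
            exact hz
        · have ha' : a = j := ha
          rw [ha']
          have htr : t = s * r := by rw [hr, ← mul_assoc, hss, one_mul]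
          rcases ih' with h | ⟨z, hz, h⟩
          · right
            refine ⟨r * wd P l, mul_mem (Subgroup.mem_zpowers r) h, ?_⟩
            change s * (r * wd P l) = t * wd P l
            rw [← mul_assoc, ← htr]
          · left
            change t * wd P l ∈ Subgroup.zpowers r
            obtain ⟨k, hk⟩ := Subgroup.mem_zpowers_iff.mp hz
            have h7 : t * wd P l = r⁻¹ * z := by
              rw [← h]
              change t * (s * z) = r⁻¹ * z
              have hsi : s⁻¹ = s := inv_eq_of_mul_eq_one_right hss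
              have hti : t⁻¹ = t := inv_eq_of_mul_eq_one_right htt
              rw [hr, mul_inv_rev, hsi, hti, mul_assoc]
            rw [h7]
            exact mul_mem (inv_mem (Subgroup.mem_zpowers r)) hz
    · intro x hx
      have hz : ∀ z ∈ Subgroup.zpowers r, z ∈ Subgroup.closure ({s, t} : Set P.Aut) := by
        intro z hz
        obtain ⟨k, rfl⟩ := Subgroup.mem_zpowers_iff.mp hz
        exact zpow_mem hrW k
      rcases hx with h | ⟨z, h, rfl⟩
      · exact hz x h
      · exact mul_mem hsW (hz z h)
  have hfo : IsOfFinOrder r := isOfFinOrder_iff_pow_eq_one.mpr ⟨n, hn.1.1, hrn⟩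
  have hfinite : Finite (Subgroup.zpowers r) := hfo.finite_zpowers
  have hfin : (Subgroup.zpowers r : Set P.Aut).Finite := Set.toFinite _
  have hcard : (Subgroup.zpowers r : Set P.Aut).ncard = n := by
    rw [← hord, ← Nat.card_zpowers, ← Nat.card_coe_set_eq]; rfl
  have hdisj : Disjoint (Subgroup.zpowers r : Set P.Aut)
      ((fun z => s * z) '' (Subgroup.zpowers r : Set P.Aut)) := by
    rw [Set.disjoint_left]
    rintro x hx ⟨z, hz, e⟩
    obtain ⟨k, hk⟩ := Subgroup.mem_zpowers_iff.mp hx
    obtain ⟨m, hm⟩ := Subgroup.mem_zpowers_iff.mp hz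
    apply hsz (k - m)
    have e' : s * z = x := e
    rw [zpow_sub, hk, hm, ← e']; group
  have h1 : Nat.card (Subgroup.closure ({s, t} : Set P.Aut)) =
      (Subgroup.closure ({s, t} : Set P.Aut) : Set P.Aut).ncard := by
    rw [← Nat.card_coe_set_eq]; rfl
  rw [h1, hset, Set.ncard_union_eq hdisj hfin (hfin.image _),
    Set.ncard_image_of_injective _ (mul_right_injective s), hcard]
  ring

end dihedral

end Groth.Agent.H8RootD
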