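import Groth.Agent.Lib.H8RootDK

set_option autoImplicit false
set_option linter.unusedSectionVars false
set_option linter.unusedSimpArgs false

namespace Groth.Agent.H8RootD

open RootPairing Set RootD

variable {ι M N : Type*} [AddCommGroup M] [AddCommGroup N] {P : RootPairing ι ℤ M N} [Finite ι]

lemma exchange_sub {Δ Δ' : Set ι} (hΔ : IsSimpleSys P Δ) (hsub : Δ' ⊆ Δ) {a : ι} (ha : a ∈ Δ) (l : List ι)
    (hl : ∀ a ∈ l, a ∈ Δ') (hneg : wd P l • a ∉ posOf P Δ) :
    ∃ l' : List ι, (∀ a ∈ l', a ∈ Δ') ∧ l'.length < l.length ∧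
      wd P l' = wd P l * Equiv.reflection P a := by
  obtain ⟨l₁, t, l₂, e, h⟩ := exchange hΔ (subset_posOf ha) (isIndiv_of_simple hΔ ha) l
    (fun b hb => hsub (hl b hb)) hneg
  refine ⟨l₁ ++ l₂, ?_, ?_, ?_⟩
  · intro b hb
    apply hl
    rw [e]
    simp only [List.mem_append, List.mem_cons] at hb ⊢
    tauto
  · rw [e]; simp
  · rw [e]
    simp only [wd, List.map_append, List.prod_append, List.map_cons, List.prod_cons]
    rw [← h, ← conj_reflection]
    group
    rw [mul_assoc, reflection_mul_self, mul_one]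

/-- in a minimal word `l ++ [a]`, `wd l • a` is positive -/
lemma prefix_pos {Δ Δ' : Set ι} (hΔ : IsSimpleSys P Δ) (hsub : Δ' ⊆ Δ) {l : List ι} {a : ι}
    (hl : ∀ b ∈ l ++ [a], b ∈ Δ')
    (hmin : ∀ l' : List ι, (∀ b ∈ l', b ∈ Δ') → wd P l' = wd P (l ++ [a]) →
      (l ++ [a]).length ≤ l'.length) :
    wd P l • a ∈ posOf P Δ := by
  by_contra hneg
  have ha : a ∈ Δ' := hl a (by simp)
  obtain ⟨l', hl', hlen, e⟩ := exchange_sub hΔ hsub (hsub ha) l (fun b hb => hl b (by simp [hb])) hneg
  have h1 := hmin l' hl' (by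
    rw [e]
    simp only [wd, List.map_append, List.prod_append, List.map_cons, List.map_nil, List.prod_cons,
      List.prod_nil, mul_one])
  simp at h1
  omega

/-- S5472 core -/
lemma rank_two_ht {Δ : Set ι} (hΔ : IsSimpleSys P Δ) {f : M →+ ℚ} (hf : ∀ i ∈ Δ, f (P.root i) = 1)
    {k i j : ι} (hi : i ∈ Δ) (hj : j ∈ Δ)
    (hα : 0 < P.pairing k i) (hβ : 0 ≤ P.pairing k j) :
    ∀ (n : ℕ) (l : List ι), l.length = n → (∀ a ∈ l, a ∈ ({i, j} : Set ι)) →
      (∀ l' : List ι, (∀ b ∈ l', b ∈ ({i, j} : Set ι)) → wd P l' = wd P l → l.length ≤ l'.length) →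
      0 ≤ f (P.root k - P.root (wd P l • k)) ∧
        (i ∈ l → 0 < f (P.root k - P.root (wd P l • k))) := by
  have hsub : ({i, j} : Set ι) ⊆ Δ := by
    rintro x (rfl | hx)
    · exact hi
    · rw [hx]; exact hj
  intro n
  induction n with
  | zero =>
    intro l hl _ _
    have : l = [] := List.length_eq_zero_iff.mp hl
    subst this
    simp [wd]
  | succ n ih =>
    intro l hln hl hmin
    have hne : l ≠ [] := by rintro rfl; simp at hln
    obtain ⟨l', a, rfl⟩ : ∃ l' a, l = l' ++ [a] := ⟨l.dropLast, l.getLast hne,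
      (List.dropLast_append_getLast hne).symm⟩
    have hpos := prefix_pos hΔ hsub hl hmin
    have ha : a ∈ ({i, j} : Set ι) := hl a (by simp)
    have hl' : ∀ b ∈ l', b ∈ ({i, j} : Set ι) := fun b hb => hl b (by simp [hb])
    have hwd : wd P (l' ++ [a]) = wd P l' * Equiv.reflection P a := by
      simp only [wd, List.map_append, List.prod_append, List.map_cons, List.map_nil, List.prod_cons,
        List.prod_nil, mul_one]
    have hmin' : ∀ l'' : List ι, (∀ b ∈ l'', b ∈ ({i, j} : Set ι)) → wd P l'' = wd P l' →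
        l'.length ≤ l''.length := by
      intro l'' h1 h2
      have h3 := hmin (l'' ++ [a]) (by
        intro b hb
        rcases List.mem_append.mp hb with h | h
        · exact h1 b h
        · simp at h; rw [h]; exact ha) (by
        rw [hwd, ← h2]
        simp only [wd, List.map_append, List.prod_append, List.map_cons, List.map_nil, List.prod_cons,
          List.prod_nil, mul_one])
      simp at h3
      omega
    have hlen' : l'.length = n := by simpa using hln
    obtain ⟨ih1, ih2⟩ := ih l' hlen' hl' hmin'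
    have hpa : 0 ≤ P.pairing k a := by
      rcases ha with rfl | ha
      · exact hα.le
      · rw [show a = j from ha]; exact hβ
    have h1 : 1 ≤ f (P.root (wd P l' • a)) := natSpan_hom_pos P hf hpos (root_ne_zero P _)
    have h2 : P.root k - P.root (wd P (l' ++ [a]) • k) =
        (P.root k - P.root (wd P l' • k)) + P.pairing k a • P.root (wd P l' • a) := by
      rw [hwd, mul_smul, root_smul, reflection_smul_idx, P.root_reflectionPerm,
        P.reflection_apply_root, smul_sub, root_smul, root_smul, smul_comm (wd P l') (P.pairing k a)]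
      abel
    have h3 : f (P.root k - P.root (wd P (l' ++ [a]) • k)) =
        f (P.root k - P.root (wd P l' • k)) + P.pairing k a * f (P.root (wd P l' • a)) := by
      rw [h2, map_add, map_zsmul]; simp
    have hpa' : (0 : ℚ) ≤ P.pairing k a := by exact_mod_cast hpa
    have h4 : 0 ≤ (P.pairing k a : ℚ) * f (P.root (wd P l' • a)) := mul_nonneg hpa' (by linarith)
    rw [h3]
    refine ⟨by linarith, ?_⟩
    intro hmem
    rcases List.mem_append.mp hmem with h | h
    · have := ih2 h
      linarith
    · have : i = a := by simpa using h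
      subst this
      have h5 : (0 : ℚ) < P.pairing k i := by exact_mod_cast hα
      have := mul_pos h5 (by linarith : (0 : ℚ) < f (P.root (wd P l' • i)))
      linarith

/-- S5472 -/
lemma coeffSum {Δ : Set ι} (hΔ : IsSimpleSys P Δ)
    {k i j : ι} (hi : i ∈ Δ) (hj : j ∈ Δ)
    (hα : 0 < P.pairing k i) (hβ : 0 ≤ P.pairing k j)
    (g : P.Aut) (hg : g ∈ Subgroup.closure {Equiv.reflection P i, Equiv.reflection P j})
    (c : ι →₀ ℤ) (hc : ↑c.support ⊆ Δ)
    (hck : Finsupp.linearCombination ℤ P.root c = P.root k - P.root (g • k)) :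
    0 ≤ c.sum (fun _ a => a) ∧ (g ≠ 1 → g ≠ Equiv.reflection P j → 0 < c.sum (fun _ a => a)) := by
  obtain ⟨f, hf⟩ := exists_height hΔ
  have hsum : ((c.sum (fun _ a => a) : ℤ) : ℚ) = f (P.root k - P.root (g • k)) := by
    rw [← hck, Finsupp.linearCombination_apply, Finsupp.sum, Finsupp.sum, map_sum, Int.cast_sum]
    apply Finset.sum_congr rfl
    intro l hl
    rw [map_zsmul, hf l (hc hl)]; simp
  have hg' : g ∈ WG P {i, j} := by rw [WG, image_pair]; exact hg
  obtain ⟨l, hl, e, hmin⟩ := exists_min_word hg'
  obtain ⟨h1, h2⟩ := rank_two_ht hΔ hf hi hj hα hβ l.length l rfl hl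
    (fun l' h h' => hmin l' h (h'.trans e))
  rw [e, ← hsum] at h1 h2
  refine ⟨by exact_mod_cast h1, ?_⟩
  intro hg1 hgj
  by_cases hil : i ∈ l
  · exact_mod_cast h2 hil
  · exfalso
    have hall : ∀ a ∈ l, a = j := by
      intro a ha
      rcases hl a ha with h | h
      · exact absurd (h ▸ ha) hil
      · exact h
    have hrep : l = List.replicate l.length j := List.eq_replicate_iff.mpr ⟨rfl, hall⟩
    have hpow : wd P l = Equiv.reflection P j ^ l.length := by
      conv_lhs => rw [hrep]
      simp only [wd, List.map_replicate, List.prod_replicate]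
    rcases Nat.even_or_odd' l.length with ⟨m, hm | hm⟩
    · apply hg1
      rw [← e, hpow, hm, pow_mul, sq, reflection_mul_self, one_pow]
    · apply hgj
      rw [← e, hpow, hm, pow_add, pow_mul, sq, reflection_mul_self, one_pow, one_mul, pow_one]

lemma span_simple_top (P : RootPairing ι ℤ M N)
    (had : Submodule.span ℤ (Set.range P.root) = ⊤) {Δ : Set ι} (hΔ : IsSimpleSys P Δ) :
    ⊤ ≤ Submodule.span ℤ (Set.range (fun i : Δ => P.root i)) := by
  rw [← had, Submodule.span_le]
  rintro _ ⟨k, rfl⟩
  have e : range (fun i : Δ => P.root i) = P.root '' Δ := by ext x; simp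
  rw [e]
  rcases hΔ.mem_or_neg_mem k with h | h
  · exact natSpan_le_span P h
  · exact (Submodule.neg_mem_iff _).mp (natSpan_le_span P h)

/-- linear equivalence between bases -/
lemma exists_equiv_of_cartan {ι' M' N' : Type*} [AddCommGroup M'] [AddCommGroup N']
    (P : RootPairing ι ℤ M N) (P' : RootPairing ι' ℤ M' N') [Finite ι'] [P.IsReduced] [P'.IsReduced]
    (had : Submodule.span ℤ (Set.range P.root) = ⊤) (had' : Submodule.span ℤ (Set.range P'.root) = ⊤)
    {Δ : Set ι} {Δ' : Set ι'} (hΔ : IsSimpleSys P Δ) (hΔ' : IsSimpleSys P' Δ') (u : Δ ≃ Δ')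
    (hu : ∀ i j : Δ, P.pairing (i : ι) (j : ι) = P'.pairing (u i : ι') (u j : ι')) :
    ∃ (T : M ≃ₗ[ℤ] M') (e : ι ≃ ι'), (∀ i : Δ, e i = u i) ∧ (∀ k, T (P.root k) = P'.root (e k)) := by
  classical
  let b := Module.Basis.mk (v := fun i : Δ => P.root i) hΔ.linInd (span_simple_top P had hΔ)
  let b' := Module.Basis.mk (v := fun i : Δ' => P'.root i) hΔ'.linInd (span_simple_top P' had' hΔ')
  let T : M ≃ₗ[ℤ] M' := b.equiv b' u
  have hT : ∀ i : Δ, T (P.root i) = P'.root (u i) := by
    intro i
    have h1 : b i = P.root i := Module.Basis.mk_apply _ _ i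
    have h2 : b' (u i) = P'.root (u i) := Module.Basis.mk_apply _ _ (u i)
    rw [← h1, ← h2]
    exact b.equiv_apply i b' u
  have hTrefl : ∀ (i : Δ) (x : M), T (P.reflection i x) = P'.reflection (u i) (T x) := by
    intro i
    have : (T.toLinearMap ∘ₗ (P.reflection i).toLinearMap) =
        ((P'.reflection (u i)).toLinearMap ∘ₗ T.toLinearMap) := by
      apply b.ext
      intro j
      have h1 : b j = P.root j := Module.Basis.mk_apply _ _ j
      rw [h1]
      simp only [LinearMap.comp_apply, LinearEquiv.coe_coe]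
      rw [P.reflection_apply_root, map_sub, map_zsmul, hT, hT, P'.reflection_apply_root, hu]
    intro x
    exact LinearMap.congr_fun this x
  -- words
  have hword : ∀ l : List Δ, ∀ x : M,
      T ((wd P (l.map (Subtype.val : Δ → ι))) • x) = (wd P' (l.map (fun a : Δ => ((u a : Δ') : ι')))) • T x := by
    intro l
    induction l with
    | nil => intro x; simp [wd]
    | cons a l ih =>
      intro x
      simp only [wd, List.map_cons, List.prod_cons, mul_smul, Equiv.reflection_smul]
      rw [hTrefl]
      congr 1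
      exact ih x
  have hmaps : ∀ k : ι, ∃ k' : ι', T (P.root k) = P'.root k' := by
    intro k
    obtain ⟨g, hg, i, hi, rfl⟩ := exists_simple_conj hΔ (reduced_indiv (P := P) k)
    obtain ⟨l, hl, rfl⟩ := mem_WG_iff_word.mp hg
    let l' : List Δ := l.attach.map (fun a => ⟨a.1, hl a.1 a.2⟩)
    have hl' : l'.map (Subtype.val : Δ → ι) = l := by simp [l']
    refine ⟨(wd P' (l'.map (fun a : Δ => ((u a : Δ') : ι')))) • (u ⟨i, hi⟩ : ι'), ?_⟩
    rw [root_smul, root_smul]
    conv_lhs => rw [← hl']
    rw [hword, hT ⟨i, hi⟩]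
  have hTsymm : ∀ i : Δ', T.symm (P'.root i) = P.root (u.symm i) := by
    intro i
    rw [LinearEquiv.symm_apply_eq, hT, u.apply_symm_apply]
  have hmaps' : ∀ k' : ι', ∃ k : ι, T (P.root k) = P'.root k' := by
    intro k'
    obtain ⟨g, hg, i, hi, rfl⟩ := exists_simple_conj hΔ' (reduced_indiv (P := P') k')
    obtain ⟨l, hl, rfl⟩ := mem_WG_iff_word.mp hg
    let l' : List Δ := l.attach.map (fun a => u.symm ⟨a.1, hl a.1 a.2⟩)
    have hl' : l'.map (fun a : Δ => ((u a : Δ') : ι')) = l := by simp [l']
    refine ⟨(wd P (l'.map (Subtype.val : Δ → ι))) • (u.symm ⟨i, hi⟩ : ι), ?_⟩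
    rw [root_smul, root_smul, hword, hT, u.apply_symm_apply]
    rw [hl']
  choose F hF using hmaps
  have hFbij : Function.Bijective F := by
    constructor
    · intro a b hab
      apply P.root.injective
      apply T.injective
      rw [hF, hF, hab]
    · intro k'
      obtain ⟨k, hk⟩ := hmaps' k'
      refine ⟨k, ?_⟩
      apply P'.root.injective
      rw [← hF, hk]
  refine ⟨T, Equiv.ofBijective F hFbij, ?_, ?_⟩
  · intro i
    apply P'.root.injective
    change P'.root (F i) = _
    rw [← hF, hT]
  · intro k; exact hF k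

/-- a linear equivalence mapping roots bijectively onto roots (spanning) is an equivalence of pairings -/
lemma coroot_transport {ι' M' N' : Type*} [AddCommGroup M'] [AddCommGroup N']
    (P : RootPairing ι ℤ M N) (P' : RootPairing ι' ℤ M' N') [Finite ι']
    (had' : Submodule.span ℤ (Set.range P'.root) = ⊤)
    (T : M ≃ₗ[ℤ] M') (e : ι ≃ ι') (he : ∀ k, T (P.root k) = P'.root (e k)) (k : ι) (x : M) :
    P'.coroot' (e k) (T x) = P.coroot' k x := by
  have := Module.IsReflexive.of_isPerfPair P'.toLinearMap
  have h1 : P'.coroot' (e k) = (P.coroot' k) ∘ₗ T.symm.toLinearMap := by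
    apply Module.Dual.eq_of_preReflection_mapsTo (x := P'.root (e k)) (Set.finite_range P'.root) had'
    · simp
    · exact P'.mapsTo_reflection_root (e k)
    · rw [← he]; simp
    · rintro _ ⟨l', rfl⟩
      obtain ⟨l, rfl⟩ := e.surjective l'
      refine ⟨e (P.reflectionPerm k l), ?_⟩
      rw [Module.preReflection_apply, ← he, ← he, ← he, P.root_reflectionPerm,
        P.reflection_apply_root, map_sub, map_zsmul]
      simp
  rw [h1]; simp

/-- S5493 -/
lemma existsUnique_equiv {ι' M' N' : Type*} [AddCommGroup M'] [AddCommGroup N']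
    (P : RootPairing ι ℤ M N) (P' : RootPairing ι' ℤ M' N') [Finite ι'] [P.IsReduced] [P'.IsReduced]
    (had : Submodule.span ℤ (Set.range P.root) = ⊤) (had' : Submodule.span ℤ (Set.range P'.root) = ⊤)
    {Δ : Set ι} {Δ' : Set ι'} (hΔ : IsSimpleSys P Δ) (hΔ' : IsSimpleSys P' Δ') (u : Δ ≃ Δ')
    (hu : ∀ i j : Δ, P.pairing (i : ι) (j : ι) = P'.pairing (u i : ι') (u j : ι')) :
    ∃! e : RootPairing.Equiv P P', ∀ i : Δ, e.indexEquiv (i : ι) = (u i : ι') := by
  obtain ⟨T, e, he, hTe⟩ := exists_equiv_of_cartan P P' had had' hΔ hΔ' u hu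
  have hcor := coroot_transport P P' had' T e hTe
  let C : N' ≃ₗ[ℤ] N := P'.flip.toPerfPair.trans (T.dualMap.trans P.flip.toPerfPair.symm)
  have hC : ∀ (n' : N'), P.flip.toPerfPair (C n') = T.dualMap (P'.flip.toPerfPair n') := by
    intro n'
    simp only [C, LinearEquiv.trans_apply]
    exact LinearEquiv.apply_symm_apply _ _
  let E : RootPairing.Equiv P P' :=
    { weightMap := T.toLinearMap
      coweightMap := C.toLinearMap
      indexEquiv := e
      weight_coweight_transpose := by
        ext n x
        have := LinearMap.congr_fun (hC n) x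
        exact this.symm
      root_weightMap := by
        ext i; exact hTe i
      coroot_coweightMap := by
        ext i'
        obtain ⟨i, rfl⟩ := e.surjective i'
        simp only [Function.comp_apply, LinearEquiv.coe_coe, e.symm_apply_apply]
        apply P.flip.toPerfPair.injective
        rw [hC]
        ext x
        exact hcor i x
      bijective_weightMap := T.bijective
      bijective_coweightMap := C.bijective }
  refine ⟨E, fun i => he i, ?_⟩
  intro E' hE'
  have hwt : E'.weightMap = E.weightMap := by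
    have h1 : ∀ k, P.root k ∈ natSpan P Δ → E'.weightMap (P.root k) = E.weightMap (P.root k) := by
      intro k hk
      have : ∀ y ∈ natSpan P Δ, E'.weightMap y = E.weightMap y := by
        intro y hy
        induction hy using AddSubmonoid.closure_induction with
        | mem y hy =>
          obtain ⟨i, hi, rfl⟩ := hy
          rw [RootPairing.Hom.root_weightMap_apply, RootPairing.Hom.root_weightMap_apply]
          congr 1
          exact (hE' ⟨i, hi⟩).trans (he ⟨i, hi⟩).symm
        | zero => rw [map_zero, map_zero]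
        | add x y _ _ hx hy => rw [map_add, map_add, hx, hy]
      exact this _ hk
    apply LinearMap.ext
    intro x
    have hx : x ∈ Submodule.span ℤ (Set.range P.root) := by rw [had]; trivial
    induction hx using Submodule.span_induction with
    | mem y hy =>
      obtain ⟨k, rfl⟩ := hy
      rcases hΔ.mem_or_neg_mem k with h | h
      · exact h1 k h
      · have h2 := h1 (P.reflectionPerm k k) (by rw [root_neg]; exact h)
        rw [root_neg, map_neg, map_neg] at h2
        exact neg_injective h2
    | zero => rw [map_zero, map_zero]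
    | add x y _ _ hx hy => rw [map_add, map_add, hx, hy]
    | smul a x _ hx => rw [map_zsmul, map_zsmul, hx]
  have hcw : E'.coweightMap = E.coweightMap := by
    ext n'
    apply P.flip.toPerfPair.injective
    have h1 := RootPairing.Hom.weight_coweight_transpose_apply P P' n' E'.toHom
    have h2 := RootPairing.Hom.weight_coweight_transpose_apply P P' n' E.toHom
    rw [← h1, ← h2, hwt]
  have hidx : E'.indexEquiv = E.indexEquiv := by
    ext k
    apply P'.root.injective
    have h1 := RootPairing.Hom.root_weightMap_apply P P' k E'.toHom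
    have h2 := RootPairing.Hom.root_weightMap_apply P P' k E.toHom
    rw [← h1, ← h2, hwt]
  exact RootPairing.Equiv.ext hwt hcw hidx

end Groth.Agent.H8RootD
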