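import Groth.Agent.Lib.H8RootDL

set_option autoImplicit false
set_option linter.unusedSectionVars false
set_option linter.unusedSimpArgs false

namespace Groth.Agent.H8RootD

open RootPairing Set RootD

universe u v w
variable {ι : Type u} {M : Type v} {N : Type w} [AddCommGroup M] [AddCommGroup N]

lemma full_of_finrank [Module.Finite ℤ M] [Module.Free ℤ M] (S : Submodule ℤ M)
    (h : Module.finrank ℤ S = Module.finrank ℤ M) : Finite (M ⧸ S) :=
  Submodule.finiteQuotientOfFreeOfRankEq S h

lemma functional_ext [Module.Finite ℤ M] [Module.Free ℤ M] (S : Submodule ℤ M) [Finite (M ⧸ S)]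
    (f g : M →ₗ[ℤ] ℤ) (h : ∀ x ∈ S, f x = g x) : f = g := by
  ext x
  obtain ⟨n, hn, hx⟩ : ∃ n : ℕ, 0 < n ∧ n • x ∈ S := by
    refine ⟨Nat.card (M ⧸ S), Nat.card_pos, ?_⟩
    rw [← Submodule.Quotient.mk_eq_zero, Submodule.Quotient.mk_smul]
    exact card_nsmul_eq_zero'
  have := h _ hx
  rw [map_nsmul, map_nsmul] at this
  have h2 : (n : ℤ) * f x = n * g x := by simpa using this
  exact mul_left_cancel₀ (by exact_mod_cast hn.ne') h2

/-- the root datum induced on the root lattice -/
noncomputable def restr (P : RootPairing ι ℤ M N) [Module.Finite ℤ M] [Module.Free ℤ M]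
    (hfin : Finite (M ⧸ Submodule.span ℤ (Set.range P.root))) :
    RootPairing ι ℤ (Submodule.span ℤ (Set.range P.root))
      (Module.Dual ℤ (Submodule.span ℤ (Set.range P.root))) where
  toLinearMap := Module.Dual.eval ℤ _
  root := ⟨fun i => ⟨P.root i, Submodule.subset_span ⟨i, rfl⟩⟩, fun i j h => by
    apply P.root.injective
    exact congrArg Subtype.val h⟩
  coroot := ⟨fun i => (P.coroot' i).domRestrict _, fun i j h => by
    apply P.coroot.injective
    apply P.flip.toPerfPair.injective
    apply functional_ext (Submodule.span ℤ (Set.range P.root))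
    intro x hx
    exact LinearMap.congr_fun h ⟨x, hx⟩⟩
  root_coroot_two := fun i => P.root_coroot_two i
  reflectionPerm := P.reflectionPerm
  reflectionPerm_root := fun i j => by
    apply Subtype.ext
    exact P.reflectionPerm_root i j
  reflectionPerm_coroot := fun i j => by
    ext ⟨x, hx⟩
    have := congrArg (fun y => P.toLinearMap x y) (P.reflectionPerm_coroot i j)
    simp only [map_sub, map_smul] at this
    exact this

/-- S5501 -/
lemma adjoint_iff (P : RootPairing ι ℤ M N) [Finite ι] [Module.Finite ℤ M] [Module.Finite ℤ N]
    (hss : Module.finrank ℤ (Submodule.span ℤ (Set.range P.root)) = Module.finrank ℤ M) :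
    Submodule.span ℤ (Set.range P.root) = ⊤ ↔
      ∀ (ι' : Type u) (M' N' : Type v) [AddCommGroup M'] [AddCommGroup N'] [Finite ι']
        [Module.Finite ℤ M'] [Module.Finite ℤ N'] (P' : RootPairing ι' ℤ M' N') (f : RootPairing.Hom P' P),
        Function.Injective f.weightMap → Finite (M ⧸ LinearMap.range f.weightMap) →
          Function.Bijective f.weightMap := by
  constructor
  · intro htop ι' M' N' _ _ _ _ _ P' f hinj _
    refine ⟨hinj, ?_⟩
    rw [← LinearMap.range_eq_top, eq_top_iff, ← htop, Submodule.span_le]
    rintro _ ⟨i, rfl⟩
    refine ⟨P'.root (f.indexEquiv.symm i), ?_⟩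
    rw [RootPairing.Hom.root_weightMap_apply, Equiv.apply_symm_apply]
  · intro H
    have := Module.IsReflexive.of_isPerfPair P.toLinearMap
    have : Module.Free ℤ M := inferInstance
    have hfin := full_of_finrank _ hss
    let f : RootPairing.Hom (restr P hfin) P :=
      { weightMap := (Submodule.span ℤ (Set.range P.root)).subtype
        coweightMap := 
          { toFun := fun n => (P.flip.toLinearMap n).domRestrict _
            map_add' := fun a b => by ext; simp
            map_smul' := fun a b => by ext; simp }
        indexEquiv := Equiv.refl _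
        weight_coweight_transpose := by
          ext n x
          rfl
        root_weightMap := by
          ext i; rfl
        coroot_coweightMap := by
          ext i x; rfl }
    have hb := H ι _ _ (restr P hfin) f (Submodule.injective_subtype _) (by
      change Finite (M ⧸ LinearMap.range (Submodule.subtype _))
      rw [Submodule.range_subtype]; exact hfin)
    have := LinearMap.range_eq_top.mpr hb.2
    change LinearMap.range (Submodule.subtype _) = _ at this
    rwa [Submodule.range_subtype] at this

end Groth.Agent.H8RootD
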