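import Groth.Agent.Lib.H8RootDK

set_option autoImplicit false
set_option linter.unusedSectionVars false

namespace Groth.Agent.H8RootD

open RootPairing Set RootD

variable {ι M N : Type*} [AddCommGroup M] [AddCommGroup N] {P : RootPairing ι ℤ M N}

lemma dominant_nonneg [Fintype ι] [P.IsReduced] [P.IsCrystallographic] (b : P.Base) (ω : M)
    (hω : ∀ j ∈ b.support, 0 ≤ P.toLinearMap ω (P.coroot j)) (k : ι) (hk : b.IsPos k) :
    0 ≤ P.toLinearMap ω (P.coroot k) := by
  have key : ∀ k, (2 : ℤ) * P.toLinearMap ω (P.Polarization (P.root k)) =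
      P.RootForm (P.root k) (P.root k) * P.toLinearMap ω (P.coroot k) := by
    intro k
    have := congrArg (P.toLinearMap ω) (two_pol (P := P) k)
    simp only [map_smul, smul_eq_mul, map_nsmul, nsmul_eq_mul] at this
    first
      | exact this.symm
      | exact this
      | (push_cast at this; linarith)
  have h1 : 0 ≤ P.toLinearMap ω (P.Polarization (P.root k)) := by
    refine RootPairing.Base.IsPos.induction_on_add (b := b)
      (p := fun k => 0 ≤ P.toLinearMap ω (P.Polarization (P.root k))) hk ?_ ?_
    · intro i hi
      have h2 := key i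
      have h3 := mul_nonneg (rootForm_root_pos P i).le (hω i hi)
      rw [← h2] at h3
      linarith
    · intro i j k hk hi hj
      rw [hk, map_add, map_add]
      have h2 := key j
      have h3 := mul_nonneg (rootForm_root_pos P j).le (hω j hj)
      rw [← h2] at h3
      linarith
  have h2 := key k
  have h4 := rootForm_root_pos P k
  by_contra hn
  push Not at hn
  have := mul_neg_of_pos_of_neg h4 hn
  linarith

lemma exists_h [Fintype ι] [P.IsReduced] [P.IsCrystallographic] (b : P.Base) :
    ∃ h : M →+ ℤ, (∀ i : ι, b.IsPos i → 0 < h (P.root i)) ∧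
      ∀ ω : M, (∀ j ∈ b.support, 0 ≤ P.toLinearMap ω (P.coroot j)) → 0 ≤ h ω := by
  classical
  let h : M →ₗ[ℤ] ℤ := ∑ j, if b.IsPos j then P.coroot' j else 0
  have hval : ∀ ω, h ω = ∑ j, if b.IsPos j then P.toLinearMap ω (P.coroot j) else 0 := by
    intro ω
    simp only [h, LinearMap.sum_apply]
    apply Finset.sum_congr rfl
    intro j _
    split_ifs
    · rfl
    · rfl
  refine ⟨h.toAddMonoidHom, ?_, ?_⟩
  · intro i hi
    change 0 < h (P.root i)
    rw [hval]
    have := height_formula b i
    rw [RootPairing.Base.isPos_iff] at hi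
    have e : (∑ j, if b.IsPos j then P.toLinearMap (P.root i) (P.coroot j) else 0) =
        ∑ j, if b.IsPos j then P.pairing i j else 0 := rfl
    rw [e, ← this]
    omega
  · intro ω hω
    change 0 ≤ h ω
    rw [hval]
    apply Finset.sum_nonneg
    intro j _
    split_ifs with hj
    · exact dominant_nonneg b ω hω j hj
    · exact le_refl _

end Groth.Agent.H8RootD
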