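import Groth.Agent.Lib.H8RootDK

set_option autoImplicit false
set_option linter.unusedSectionVars false

namespace Groth.Agent.H8RootD

open RootPairing Set RootD

variable {ι M N : Type*} [AddCommGroup M] [AddCommGroup N]

lemma cone (P : RootPairing ι ℤ M N) [Finite ι] (b : P.Base) :
    ∃ C : Set ↥(Submodule.span ℤ (Set.range P.root)),
      0 ∉ C ∧ (∀ x ∈ C, ∀ y ∈ C, x + y ∈ C) ∧ (∀ x, x ≠ 0 → (x ∈ C ∨ -x ∈ C)) ∧ (∀ x ∈ C, -x ∉ C) ∧
      (∀ i : ι, (⟨P.root i, Submodule.subset_span (Set.mem_range_self i)⟩ : ↥(Submodule.span ℤ (Set.range P.root))) ∈ C ↔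
        b.IsPos i) ∧
      ∀ φ : ↥(Submodule.span ℤ (Set.range P.root)) →+ ℤ,
        (∀ j ∈ b.support, φ ⟨P.root j, Submodule.subset_span (Set.mem_range_self j)⟩ = 1) →
        ∀ x y : ↥(Submodule.span ℤ (Set.range P.root)), y - x ∈ C → φ x ≤ φ y := by
  classical
  have hspan : Submodule.span ℤ (Set.range (fun i : b.support => P.root i)) = Submodule.span ℤ (Set.range P.root) := by
    have h := b.span_int_root_support
    have e : range (fun i : b.support => P.root i) = P.root '' b.support := by ext x; simp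
    rw [e]; exact h
  have hli : LinearIndependent ℤ (fun i : b.support => P.root i) := b.linearIndepOn_root
  let B0 := (Module.Basis.span hli).map (LinearEquiv.ofEq _ _ hspan)
  have hB0 : ∀ i : b.support, B0 i = ⟨P.root i, Submodule.subset_span (Set.mem_range_self (i : ι))⟩ := by
    intro i
    apply Subtype.ext
    simp only [B0, Module.Basis.map_apply, LinearEquiv.coe_ofEq_apply]
    exact congrArg Subtype.val (Module.Basis.span_apply hli i)
  let ht : ↥(Submodule.span ℤ (Set.range P.root)) →ₗ[ℤ] ℤ := B0.constr ℤ (fun _ => (1 : ℤ))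
  have hht : ∀ i : b.support, ht (B0 i) = 1 := fun i => B0.constr_basis ℤ _ i
  let B' := B0.reindex (Fintype.equivFin b.support)
  let K : ↥(Submodule.span ℤ (Set.range P.root)) → Lex (Fin (Fintype.card b.support) → ℤ) := fun x => toLex (B'.equivFun x)
  have hK0 : K 0 = 0 := by simp only [K, map_zero]; rfl
  have hKadd : ∀ x y, K (x + y) = K x + K y := by intro x y; simp only [K, map_add]; rfl
  have hKneg : ∀ x, K (-x) = - K x := by intro x; simp only [K, map_neg]; rfl
  have hKinj : ∀ x, K x = 0 → x = 0 := by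
    intro x hx
    have : B'.equivFun x = 0 := hx
    exact (LinearEquiv.map_eq_zero_iff _).mp this
  have hheight : ∀ i : ι, ht ⟨P.root i, Submodule.subset_span (Set.mem_range_self i)⟩ = b.height i := by
    intro i
    obtain ⟨f, _, _, hf⟩ := b.exists_root_eq_sum_int i
    rw [b.height_eq_sum hf]
    have e : (⟨P.root i, Submodule.subset_span (Set.mem_range_self i)⟩ : ↥(Submodule.span ℤ (Set.range P.root))) =
        ∑ j : b.support, f j • B0 j := by
      apply Subtype.ext
      rw [Submodule.coe_sum]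
      simp only [hB0, Submodule.coe_smul]
      rw [hf, ← Finset.sum_coe_sort b.support (fun j => f j • P.root j)]
    rw [e, map_sum, ← Finset.sum_coe_sort b.support (fun j => f j)]
    apply Finset.sum_congr rfl
    intro j _
    rw [map_zsmul, hht]; simp
  refine ⟨{x | 0 < ht x ∨ (ht x = 0 ∧ 0 < K x)}, ?_, ?_, ?_, ?_, ?_, ?_⟩
  · rintro (h | ⟨_, h⟩)
    · rw [map_zero] at h; exact lt_irrefl _ h
    · rw [hK0] at h; exact lt_irrefl _ h
  · rintro x hx y hy
    change 0 < ht (x + y) ∨ (ht (x + y) = 0 ∧ 0 < K (x + y))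
    rw [map_add, hKadd]
    rcases hx with hx | ⟨hx, hx'⟩ <;> rcases hy with hy | ⟨hy, hy'⟩
    · left; omega
    · left; omega
    · left; omega
    · right; exact ⟨by omega, add_pos hx' hy'⟩
  · intro x hx
    change (0 < ht x ∨ (ht x = 0 ∧ 0 < K x)) ∨ (0 < ht (-x) ∨ (ht (-x) = 0 ∧ 0 < K (-x)))
    rw [map_neg, hKneg]
    rcases lt_trichotomy (ht x) 0 with h | h | h
    · right; left; omega
    · have hne : K x ≠ 0 := fun h' => hx (hKinj x h')
      rcases lt_or_gt_of_ne hne with h' | h'
      · right; right; exact ⟨by omega, neg_pos.mpr h'⟩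
      · left; right; exact ⟨h, h'⟩
    · left; left; exact h
  · intro x hx
    change ¬ (0 < ht (-x) ∨ (ht (-x) = 0 ∧ 0 < K (-x)))
    rw [map_neg, hKneg]
    rcases hx with hx | ⟨hx, hx'⟩
    · rintro (h | ⟨h, _⟩) <;> omega
    · rintro (h | ⟨_, h⟩)
      · omega
      · exact lt_asymm hx' (neg_pos.mp h)
  · intro i
    change (0 < ht _ ∨ (ht _ = 0 ∧ 0 < K _)) ↔ b.IsPos i
    rw [hheight, RootPairing.Base.isPos_iff]
    have := b.height_ne_zero i
    constructor
    · rintro (h | ⟨h, _⟩)
      · exact h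
      · exact absurd h this
    · exact Or.inl
  · intro φ hφ x y hxy
    have e : ∀ z, φ z = ht z := by
      have : φ.toIntLinearMap = ht := by
        apply B0.ext
        intro i
        rw [hht, hB0]
        exact hφ i i.2
      intro z
      exact LinearMap.congr_fun this z
    have h1 : 0 ≤ ht (y - x) := by
      rcases hxy with h | ⟨h, _⟩
      · exact h.le
      · exact h.ge
    rw [map_sub] at h1
    rw [e, e]; omega

end Groth.Agent.H8RootD
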