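import Mathlib.LinearAlgebra.RootSystem.Base
import Mathlib.LinearAlgebra.RootSystem.WeylGroup
import Mathlib.LinearAlgebra.RootSystem.Hom
import Mathlib.LinearAlgebra.RootSystem.Reduced

set_option autoImplicit false
set_option linter.unusedSectionVars false

namespace Groth.Agent.H8RootR

open RootPairing Set

variable {ι R M N : Type*} [CommRing R] [AddCommGroup M] [Module R M] [AddCommGroup N] [Module R N] {P : RootPairing ι R M N}

lemma root_smul (u : P.Aut) (i : ι) : P.root (u • i) = u • P.root i :=
  Equiv.root_indexEquiv_eq_smul P i u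

lemma aut_ext {u v : P.Aut} (h : ∀ x : M, u • x = v • x) : u = v :=
  Equiv.weightHom_injective P (LinearEquiv.ext h)

lemma coroot'_smul (u : P.Aut) (i : ι) (x : M) : P.coroot' (u • i) (u • x) = P.coroot' i x := by
  have h1 := RootPairing.Hom.weight_coweight_transpose_apply P P (P.coroot (u • i)) u.toHom
  have h2 := LinearMap.congr_fun h1 x
  have h3 : u.toHom.coweightMap (P.coroot (u • i)) = P.coroot i := by
    rw [RootPairing.Hom.coroot_coweightMap_apply]
    congr 1
    exact u.toHom.indexEquiv.symm_apply_apply i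
  rw [h3] at h2
  exact h2

lemma pairing_smul (u : P.Aut) (i j : ι) : P.pairing (u • i) (u • j) = P.pairing i j := by
  have := coroot'_smul u j (P.root i)
  rw [← root_smul] at this
  exact this

lemma smul_reflection (u : P.Aut) (i : ι) (x : M) :
    u • (P.reflection i x) = P.reflection (u • i) (u • x) := by
  rw [P.reflection_apply, P.reflection_apply, coroot'_smul, root_smul, smul_sub, smul_comm]

/-- S5503 -/
lemma conj_reflection (u : P.Aut) (i : ι) :
    u * Equiv.reflection P i * u⁻¹ = Equiv.reflection P (u • i) := by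
  apply aut_ext
  intro x
  rw [mul_smul, mul_smul, Equiv.reflection_smul, smul_reflection, smul_inv_smul,
    Equiv.reflection_smul]

lemma smul_reflectionPerm (u : P.Aut) (i j : ι) :
    u • (P.reflectionPerm i j) = P.reflectionPerm (u • i) (u • j) := by
  apply P.root.injective
  rw [root_smul, P.root_reflectionPerm, P.root_reflectionPerm, smul_reflection, root_smul]

lemma reflection_smul_idx (i j : ι) : Equiv.reflection P i • j = P.reflectionPerm i j := rfl

lemma refl_mul_smul (g : P.Aut) (j : ι) : (g * Equiv.reflection P j) • j = P.reflectionPerm (g • j) (g • j) := by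
  rw [mul_smul, reflection_smul_idx, smul_reflectionPerm]

/-- S2952 -/
lemma generate_conj [CharZero R] [IsDomain R] [Finite ι] [P.IsCrystallographic] [P.IsReduced] (b : P.Base) :
    Subgroup.closure ((fun i : ι => Equiv.reflection P i) '' (b.support : Set ι)) = P.weylGroup ∧
    ∀ i : ι, ∃ g : P.Aut, g ∈ P.weylGroup ∧ ∃ j ∈ b.support, g • j = i := by
  set W := Subgroup.closure ((fun i : ι => Equiv.reflection P i) '' (b.support : Set ι)) with hW
  have hmem : ∀ j ∈ b.support, Equiv.reflection P j ∈ W := fun j hj =>
    Subgroup.subset_closure ⟨j, hj, rfl⟩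
  have key : ∀ i : ι, ∃ g : P.Aut, g ∈ W ∧ ∃ j ∈ b.support, g • j = i := by
    intro i
    refine RootPairing.Base.induction_reflect (b := b) (p := fun i => ∃ g : P.Aut, g ∈ W ∧ ∃ j ∈ b.support, g • j = i) i ?_ ?_ ?_
    · rintro i ⟨g, hg, j, hj, rfl⟩
      exact ⟨g * Equiv.reflection P j, mul_mem hg (hmem j hj), j, hj, refl_mul_smul g j⟩
    · intro i hi
      exact ⟨1, one_mem _, i, hi, one_smul _ _⟩
    · rintro i j ⟨g, hg, k, hk, rfl⟩ hj
      exact ⟨Equiv.reflection P j * g, mul_mem (hmem j hj) hg, k, hk, by rw [mul_smul]; rfl⟩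
  have hle : W ≤ P.weylGroup := by
    rw [hW, Subgroup.closure_le]
    rintro _ ⟨j, _, rfl⟩
    exact P.reflection_mem_weylGroup j
  refine ⟨le_antisymm hle ?_, fun i => ?_⟩
  · rw [RootPairing.weylGroup, Subgroup.closure_le]
    rintro _ ⟨i, rfl⟩
    obtain ⟨g, hg, j, hj, rfl⟩ := key i
    change Equiv.reflection P (g • j) ∈ W
    rw [← conj_reflection]
    exact mul_mem (mul_mem hg (hmem j hj)) (inv_mem hg)
  · obtain ⟨g, hg, h⟩ := key i
    exact ⟨g, hle hg, h⟩

/-- S2955 -/
lemma reflection_sum_pos [CharZero R] [IsDomain R] [P.IsCrystallographic] [P.IsReduced]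
    [Fintype ι] (b : P.Base) [DecidablePred b.IsPos] (j : ι) (hj : j ∈ b.support) :
    P.reflection j (∑ i, if b.IsPos i then P.root i else 0) =
      (∑ i, if b.IsPos i then P.root i else 0) - (2 : R) • P.root j := by
  classical
  have hjpos : b.IsPos j := b.isPos_of_mem_support hj
  rw [← Finset.sum_filter]
  have hmem : j ∈ Finset.univ.filter (fun i => b.IsPos i) := by simp [hjpos]
  rw [← Finset.sum_erase_add _ _ hmem, map_add, map_sum]
  have h1 : ∑ x ∈ (Finset.univ.filter (fun i => b.IsPos i)).erase j, P.reflection j (P.root x) =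
      ∑ x ∈ (Finset.univ.filter (fun i => b.IsPos i)).erase j, P.root x := by
    have hinv : ∀ x, P.reflectionPerm j (P.reflectionPerm j x) = x := fun x => by simp
    have hm : ∀ a ∈ (Finset.univ.filter (fun i => b.IsPos i)).erase j, 
        P.reflectionPerm j a ∈ (Finset.univ.filter (fun i => b.IsPos i)).erase j := by
      intro a ha
      rw [Finset.mem_erase, Finset.mem_filter] at ha ⊢
      have hp := ha.2.2.reflectionPerm hj ha.1
      refine ⟨?_, Finset.mem_univ _, hp⟩
      intro h
      have : a = P.reflectionPerm j j := (hinv a).symm.trans (congrArg _ h)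
      rw [this] at ha
      have h3 := ha.2.2
      rw [RootPairing.Base.isPos_iff] at h3
      let := P.indexNeg
      have h4 := b.height_reflectionPerm_self j
      change b.height (P.reflectionPerm j j) = _ at h4
      rw [RootPairing.Base.isPos_iff] at hjpos
      omega
    refine Finset.sum_bij' (fun a _ => P.reflectionPerm j a) (fun a _ => P.reflectionPerm j a) hm hm
      (fun a _ => hinv a) (fun a _ => hinv a) ?_
    intro a _
    rw [P.root_reflectionPerm]
  rw [h1, P.reflection_apply_self, two_smul]
  abel

end Groth.Agent.H8RootR
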