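import Groth.Agent.Lib.H8RootR

set_option autoImplicit false
set_option linter.unusedSectionVars false

namespace Groth.Agent.H8RootR

open RootPairing Set

variable {ι R M N : Type*} [CommRing R] [AddCommGroup M] [Module R M] [AddCommGroup N] [Module R N] {P : RootPairing ι R M N}
  [CharZero R] [IsDomain R] [Finite ι] [P.IsCrystallographic] [P.IsReduced]

variable (P) in
noncomputable def wd (l : List ι) : P.Aut := (l.map fun a => Equiv.reflection P a).prod

lemma wd_nil : wd P [] = 1 := rfl
lemma wd_cons (a : ι) (l : List ι) : wd P (a :: l) = Equiv.reflection P a * wd P l := by simp [wd]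
lemma wd_append (l l' : List ι) : wd P (l ++ l') = wd P l * wd P l' := by simp [wd]
lemma wd_single (a : ι) : wd P [a] = Equiv.reflection P a := by simp [wd]

lemma reflection_mul_self (i : ι) : Equiv.reflection P i * Equiv.reflection P i = 1 := by
  rw [mul_eq_one_iff_eq_inv, Equiv.reflection_inv]

lemma wd_reverse (l : List ι) : wd P l.reverse = (wd P l)⁻¹ := by
  induction l with
  | nil => simp [wd]
  | cons a l ih =>
    rw [List.reverse_cons, wd_append, ih, wd_single, wd_cons, mul_inv_rev, Equiv.reflection_inv]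

lemma exchange (b : P.Base) {k : ι} (hk : b.IsPos k) :
    ∀ l : List ι, (∀ a ∈ l, a ∈ b.support) → ¬ b.IsPos (wd P l • k) →
      ∃ (l₁ : List ι) (t : ι) (l₂ : List ι), l = l₁ ++ t :: l₂ ∧ wd P l₂ • k = t := by
  intro l
  induction l with
  | nil =>
    intro _ h
    rw [wd_nil, one_smul] at h
    exact absurd hk h
  | cons t l ih =>
    intro hl h
    by_cases hk' : b.IsPos (wd P l • k)
    · refine ⟨[], t, l, rfl, ?_⟩
      rw [wd_cons, mul_smul, reflection_smul_idx] at h
      by_contra hne
      exact h (hk'.reflectionPerm (hl t (by simp)) hne)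
    · obtain ⟨l₁, t', l₂, e, h'⟩ := ih (fun a ha => hl a (by simp [ha])) hk'
      exact ⟨t :: l₁, t', l₂, by rw [e]; rfl, h'⟩

lemma exchange' (b : P.Base) {a : ι} (ha : a ∈ b.support) (l : List ι)
    (hl : ∀ a ∈ l, a ∈ b.support) (hneg : ¬ b.IsPos (wd P l • a)) :
    ∃ l' : List ι, (∀ a ∈ l', a ∈ b.support) ∧ l'.length < l.length ∧
      wd P l' = wd P l * Equiv.reflection P a := by
  obtain ⟨l₁, t, l₂, e, h⟩ := exchange b (b.isPos_of_mem_support ha) l hl hneg
  refine ⟨l₁ ++ l₂, ?_, ?_, ?_⟩
  · intro b hb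
    apply hl
    rw [e]
    simp only [List.mem_append, List.mem_cons] at hb ⊢
    tauto
  · rw [e]; simp
  · rw [e, wd_append, wd_append, wd_cons, ← h, ← conj_reflection]
    group
    rw [mul_assoc, reflection_mul_self, mul_one]

lemma word_of_mem {b : P.Base} {g : P.Aut}
    (hg : g ∈ Subgroup.closure ((fun i : ι => Equiv.reflection P i) '' (b.support : Set ι))) :
    ∃ l : List ι, (∀ a ∈ l, a ∈ b.support) ∧ wd P l = g := by
  induction hg using Subgroup.closure_induction with
  | mem x hx =>
    obtain ⟨i, hi, rfl⟩ := hx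
    exact ⟨[i], by simpa using hi, wd_single i⟩
  | one => exact ⟨[], by simp, rfl⟩
  | mul x y _ _ hx hy =>
    obtain ⟨l, hl, rfl⟩ := hx
    obtain ⟨l', hl', rfl⟩ := hy
    refine ⟨l ++ l', ?_, wd_append l l'⟩
    intro a ha
    rcases List.mem_append.mp ha with h | h
    · exact hl a h
    · exact hl' a h
  | inv x _ hx =>
    obtain ⟨l, hl, rfl⟩ := hx
    exact ⟨l.reverse, fun a ha => hl a (List.mem_reverse.mp ha), wd_reverse l⟩

lemma isPos_neg (b : P.Base) (i : ι) : b.IsPos (P.reflectionPerm i i) ↔ ¬ b.IsPos i := by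
  let := P.indexNeg
  have h4 := b.height_reflectionPerm_self i
  change b.height (P.reflectionPerm i i) = _ at h4
  have h5 := b.height_ne_zero i
  rw [RootPairing.Base.isPos_iff, RootPairing.Base.isPos_iff, h4]
  omega

lemma eq_one_word (b : P.Base) : ∀ (n : ℕ) (l : List ι), l.length = n → (∀ a ∈ l, a ∈ b.support) →
    (∀ i, b.IsPos i → b.IsPos (wd P l • i)) → wd P l = 1 := by
  intro n
  induction n using Nat.strong_induction_on with
  | _ n ih =>
  intro l hn hl hpos
  rcases List.eq_nil_or_concat l with rfl | ⟨l', j, rfl⟩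
  · rfl
  · have hl' : ∀ a ∈ l', a ∈ b.support := fun a ha => hl a (by simp [ha])
    have hj : j ∈ b.support := hl j (by simp)
    have e : wd P (l' ++ [j]) = wd P l' * Equiv.reflection P j := by rw [wd_append, wd_single]
    have h1 := hpos j (b.isPos_of_mem_support hj)
    have h1' : b.IsPos (P.reflectionPerm (wd P l' • j) (wd P l' • j)) := by
      rw [← refl_mul_smul, ← e]
      simpa using h1
    rw [isPos_neg] at h1'
    obtain ⟨l'', h2, h3, h4⟩ := exchange' b hj l' hl' h1'
    have e2 : wd P l'' = wd P (l'.concat j) := by rw [h4, List.concat_eq_append, e]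
    rw [← e2]
    refine ih l''.length ?_ l'' rfl h2 ?_
    · rw [← hn, List.length_concat]; omega
    · rw [e2]; exact hpos

/-- S2953 -/
lemma eq_one_of_pos (b : P.Base) (g : P.Aut) (hg : g ∈ P.weylGroup)
    (hpos : ∀ i, b.IsPos i → b.IsPos (g • i)) : g = 1 := by
  rw [← (generate_conj b).1] at hg
  obtain ⟨l, hl, rfl⟩ := word_of_mem hg
  exact eq_one_word b _ l rfl hl hpos

end Groth.Agent.H8RootR
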