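import Groth.Agent.Lib.H8RootR2

set_option autoImplicit false
set_option linter.unusedSectionVars false

namespace Groth.Agent.H8RootR

open RootPairing Set

variable {ι R M N : Type*} [CommRing R] [AddCommGroup M] [Module R M] [AddCommGroup N] [Module R N] {P : RootPairing ι R M N}
  [CharZero R] [IsDomain R] [Finite ι] [P.IsCrystallographic] [P.IsReduced]

lemma mem_support_iff (b : P.Base) (i : ι) :
    i ∈ b.support ↔ b.IsPos i ∧ ¬ ∃ j k, b.IsPos j ∧ b.IsPos k ∧ P.root i = P.root j + P.root k := by
  constructor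
  · intro hi
    refine ⟨b.isPos_of_mem_support hi, ?_⟩
    rintro ⟨j, k, hj, hk, e⟩
    have h1 := b.height_add e
    rw [b.height_one_of_mem_support hi] at h1
    rw [RootPairing.Base.isPos_iff] at hj hk
    omega
  · rintro ⟨h₀, hn⟩
    obtain ⟨j, hj, hj'⟩ := h₀.exists_mem_support_pos_pairingIn
    rw [P.zero_lt_pairingIn_iff'] at hj'
    rcases eq_or_ne i j with rfl | hij
    · exact hj
    · exfalso
      obtain ⟨k, hk⟩ := P.root_sub_root_mem_of_pairingIn_pos hj' hij
      have hkn := b.height_sub hk
      rw [b.height_one_of_mem_support hj] at hkn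
      have hkpos : b.IsPos k := by
        rw [RootPairing.Base.isPos_iff']
        rw [RootPairing.Base.isPos_iff] at h₀
        omega
      exact hn ⟨k, j, hkpos, b.isPos_of_mem_support hj, by rw [hk]; abel⟩

lemma root_smul_add (g : P.Aut) {i j k : ι} (h : P.root k = P.root i + P.root j) :
    P.root (g • k) = P.root (g • i) + P.root (g • j) := by
  rw [root_smul, root_smul, root_smul, h, smul_add]

lemma pos_of_simple (b b' : P.Base) (g : P.Aut) (h : ∀ j ∈ b.support, b'.IsPos (g • j)) (i : ι) (hi : b.IsPos i) :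
    b'.IsPos (g • i) := by
  refine RootPairing.Base.IsPos.induction_on_add (b := b) (p := fun i => b'.IsPos (g • i)) hi h ?_
  intro i j k hk hi' hj
  exact RootPairing.Base.IsPos.add hi' (h j hj) (root_smul_add g hk)

lemma exists_pos (b b' : P.Base) : ∃ g ∈ P.weylGroup, ∀ i, b.IsPos i → b'.IsPos (g • i) := by
  classical
  have := Fintype.ofFinite ι
  let N : P.Aut → ℕ := fun g => (Finset.univ.filter (fun i => b.IsPos i ∧ ¬ b'.IsPos (g • i))).card
  have key : ∀ n : ℕ, ∀ g ∈ P.weylGroup, N g = n → ∃ g ∈ P.weylGroup, ∀ i, b.IsPos i → b'.IsPos (g • i) := by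
    intro n
    induction n using Nat.strong_induction_on with
    | _ n ih =>
    intro g hg hn
    by_cases hall : ∀ j ∈ b.support, b'.IsPos (g • j)
    · exact ⟨g, hg, pos_of_simple b b' g hall⟩
    · push Not at hall
      obtain ⟨j, hj, hjn⟩ := hall
      refine ih (N (g * Equiv.reflection P j)) ?_ (g * Equiv.reflection P j)
        (mul_mem hg (P.reflection_mem_weylGroup j)) rfl
      rw [← hn]
      have hjpos := b.isPos_of_mem_support hj
      have hinv : ∀ x, P.reflectionPerm j (P.reflectionPerm j x) = x := fun x => by simp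
      -- injection via reflectionPerm j, missing j
      have hsub : (Finset.univ.filter (fun i => b.IsPos i ∧ ¬ b'.IsPos ((g * Equiv.reflection P j) • i))).image
          (P.reflectionPerm j) ⊆ (Finset.univ.filter (fun i => b.IsPos i ∧ ¬ b'.IsPos (g • i))).erase j := by
        intro x hx
        rw [Finset.mem_image] at hx
        obtain ⟨y, hy, rfl⟩ := hx
        rw [Finset.mem_filter] at hy
        obtain ⟨-, hy1, hy2⟩ := hy
        have hyj : y ≠ j := by
          rintro rfl
          apply hy2
          rw [refl_mul_smul, isPos_neg]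
          exact hjn
        rw [Finset.mem_erase, Finset.mem_filter]
        have hp := hy1.reflectionPerm hj hyj
        refine ⟨?_, Finset.mem_univ _, hp, ?_⟩
        · intro h
          have e : y = P.reflectionPerm j j := (hinv y).symm.trans (congrArg _ h)
          rw [e, isPos_neg] at hy1
          exact hy1 hjpos
        · rw [mul_smul, reflection_smul_idx] at hy2
          exact hy2
      have hc := Finset.card_le_card hsub
      rw [Finset.card_image_of_injective _ (P.reflectionPerm j).injective] at hc
      have hjmem : j ∈ Finset.univ.filter (fun i => b.IsPos i ∧ ¬ b'.IsPos (g • i)) := by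
        rw [Finset.mem_filter]; exact ⟨Finset.mem_univ _, hjpos, hjn⟩
      have := Finset.card_erase_lt_of_mem hjmem
      exact lt_of_le_of_lt hc this
  exact key _ 1 (one_mem _) rfl

lemma pos_iff_of_pos (b b' : P.Base) (g : P.Aut) (h : ∀ i, b.IsPos i → b'.IsPos (g • i)) (i : ι) :
    b'.IsPos (g • i) ↔ b.IsPos i := by
  refine ⟨fun hi => ?_, h i⟩
  by_contra hn
  rw [← isPos_neg] at hn
  have := h _ hn
  rw [smul_reflectionPerm, isPos_neg] at this
  exact this hi

lemma image_support (b b' : P.Base) (g : P.Aut) (h : ∀ i, b'.IsPos (g • i) ↔ b.IsPos i) :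
    (fun i : ι => g • i) '' (b.support : Set ι) = (b'.support : Set ι) := by
  have key : ∀ i, i ∈ b.support ↔ g • i ∈ b'.support := by
    intro i
    rw [mem_support_iff, mem_support_iff, h]
    refine and_congr Iff.rfl (not_congr ?_)
    constructor
    · rintro ⟨j, k, hj, hk, e⟩
      exact ⟨g • j, g • k, (h j).mpr hj, (h k).mpr hk, root_smul_add g e⟩
    · rintro ⟨j, k, hj, hk, e⟩
      refine ⟨g⁻¹ • j, g⁻¹ • k, ?_, ?_, ?_⟩
      · rw [← h, smul_inv_smul]; exact hj
      · rw [← h, smul_inv_smul]; exact hk
      · have := root_smul_add g⁻¹ e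
        rwa [inv_smul_smul] at this
  ext x
  constructor
  · rintro ⟨i, hi, rfl⟩
    exact (key i).mp hi
  · intro hx
    refine ⟨g⁻¹ • x, ?_, smul_inv_smul g x⟩
    have := (key (g⁻¹ • x)).mpr (by rw [smul_inv_smul]; exact hx)
    exact this

/-- S2954 -/
lemma simply_transitive (b b' : P.Base) :
    ∃! g : P.weylGroup, (fun i : ι => (g : P.Aut) • i) '' (b.support : Set ι) = (b'.support : Set ι) := by
  obtain ⟨g, hg, hpos⟩ := exists_pos b b'
  have him := image_support b b' g (pos_iff_of_pos b b' g hpos)
  refine ⟨⟨g, hg⟩, him, ?_⟩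
  rintro ⟨h, hh⟩ him'
  apply Subtype.ext
  change h = g
  have e : g⁻¹ * h = 1 := by
    apply eq_one_of_pos b _ (mul_mem (inv_mem hg) hh)
    apply pos_of_simple b b
    intro j hj
    have h1 : h • j ∈ (b'.support : Set ι) := by rw [← him']; exact ⟨j, hj, rfl⟩
    rw [← him] at h1
    obtain ⟨k, hk, e⟩ := h1
    have : (g⁻¹ * h) • j = k := by
      rw [mul_smul, ← e]
      exact inv_smul_smul g k
    rw [this]
    exact b.isPos_of_mem_support hk
  exact (inv_mul_eq_one.mp e).symm

end Groth.Agent.H8RootR
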