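import Groth.Agent.Lib.H8Desc
import Mathlib.CategoryTheory.EquivalenceRelation
import Mathlib.CategoryTheory.Types.Epimorphisms
import Mathlib.CategoryTheory.Sites.RegularEpi
import Mathlib.CategoryTheory.Sites.Sheafification
import Mathlib.CategoryTheory.Sites.Limits
import Mathlib.CategoryTheory.Subobject.Limits
import Mathlib.CategoryTheory.Limits.FunctorCategory.Basic

set_option autoImplicit false

namespace Groth.Agent.H8Sh

open CategoryTheory CategoryTheory.Limits Groth.Agent.H8Desc

universe w v₁ u₁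
variable {C : Type u₁} [Category.{v₁} C]

lemma presheaf_epi_baseChange {X' X Y' Y : Cᵒᵖ ⥤ Type w} {t : X' ⟶ X} {l : X' ⟶ Y'} {r : X ⟶ Y} {b : Y' ⟶ Y}
    (sq : IsPullback t l r b) [Epi r] : Epi l := by
  rw [NatTrans.epi_iff_epi_app]
  intro U
  have h1 : Epi (r.app U) := (NatTrans.epi_iff_epi_app r).mp inferInstance U
  have h2 := sq.map ((evaluation _ _).obj U)
  have h3 : MorphismProperty.epimorphisms (Type w) (((evaluation _ _).obj U).map r) := h1
  exact MorphismProperty.of_isPullback h2 h3

lemma presheaf_UEE {X Y : Cᵒᵖ ⥤ Type w} (f : X ⟶ Y) [Epi f] : UEE (Cᵒᵖ ⥤ Type w) f := by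
  intro X' Y' i₁ i₂ f' H
  have : Epi f' := presheaf_epi_baseChange H.flip
  change EffectiveEpi f'
  rw [← isRegularEpi_iff_effectiveEpi]
  exact IsRegularEpiCategory.regularEpiOfEpi f'

section presheafQuot

variable {R X : Cᵒᵖ ⥤ Type w} {p₁ p₂ : R ⟶ X}

lemma jointlyMono_map {A B : Type*} [Category A] [Category B] (F : A ⥤ B) {R X : A} {p₁ p₂ : R ⟶ X}
    [HasBinaryProduct X X] [PreservesLimit (pair X X) F] [F.PreservesMonomorphisms]
    (h : JointlyMono₂ p₁ p₂) : JointlyMono₂ (F.map p₁) (F.map p₂) := by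
  have hm : Mono (prod.lift p₁ p₂) := by
    constructor
    intro Z f g hfg
    apply h.right_cancellation
    · have := congrArg (· ≫ prod.fst) hfg
      simpa only [Category.assoc, prod.lift_fst] using this
    · have := congrArg (· ≫ prod.snd) hfg
      simpa only [Category.assoc, prod.lift_snd] using this
  constructor
  intro Y f g h1 h2
  rw [← cancel_mono (F.map (prod.lift p₁ p₂))]
  apply BinaryFan.IsLimit.hom_ext (isLimitOfHasBinaryProductOfPreservesLimit F X X)
  · change (f ≫ F.map (prod.lift p₁ p₂)) ≫ F.map prod.fst = (g ≫ F.map (prod.lift p₁ p₂)) ≫ F.map prod.fst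
    rw [Category.assoc, Category.assoc, ← F.map_comp, prod.lift_fst, h1]
  · change (f ≫ F.map (prod.lift p₁ p₂)) ≫ F.map prod.snd = (g ≫ F.map (prod.lift p₁ p₂)) ≫ F.map prod.snd
    rw [Category.assoc, Category.assoc, ← F.map_comp, prod.lift_snd, h2]

noncomputable def eqRelMap {A B : Type*} [Category A] [Category B] (F : A ⥤ B) {R X : A} {p₁ p₂ : R ⟶ X}
    [HasBinaryProduct X X] [PreservesLimit (pair X X) F] [F.PreservesMonomorphisms]
    [PreservesLimitsOfShape WalkingCospan F]
    (e : EquivalenceRelation p₁ p₂) : EquivalenceRelation (F.map p₁) (F.map p₂) :=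
  haveI := jointlyMono_map F e.toJointlyMono₂
  { __ := e.toReflexiveRelation.map F
    __ := e.toSymmetricRelation.map F
    __ := e.toTransitiveRelation.map F }

lemma pw_equiv (e : EquivalenceRelation p₁ p₂) (U : Cᵒᵖ) :
    Equivalence (TypeCat.Rel.ofPair (p₁.app U) (p₂.app U)) :=
  TypeCat.equivalence_of_equivalenceRelation (eqRelMap ((evaluation _ _).obj U) e)

lemma pw_inj (e : EquivalenceRelation p₁ p₂) (U : Cᵒᵖ) (x y : R.obj U)
    (h1 : p₁.app U x = p₁.app U y) (h2 : p₂.app U x = p₂.app U y) : x = y := by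
  have h := jointlyMono_map ((evaluation Cᵒᵖ (Type w)).obj U) e.toJointlyMono₂
  have := h.right_cancellation (Y := PUnit.{w+1}) (↾(fun _ => x)) (↾(fun _ => y)) (by ext; exact h1) (by ext; exact h2)
  exact congr($this PUnit.unit)

/-- quotient presheaf -/
def Q (p₁ p₂ : R ⟶ X) : Cᵒᵖ ⥤ Type w where
  obj U := Quot (TypeCat.Rel.ofPair (p₁.app U) (p₂.app U))
  map {U V} f := ↾(Quot.map (X.map f) (by
    rintro _ _ ⟨r, rfl, rfl⟩
    exact ⟨R.map f r, NatTrans.naturality_apply p₁ f r, NatTrans.naturality_apply p₂ f r⟩))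
  map_id U := by
    ext ⟨x⟩
    exact congrArg _ (FunctorToTypes.map_id_apply X x)
  map_comp f g := by
    ext ⟨x⟩
    exact congrArg _ (FunctorToTypes.map_comp_apply X f g x)

def Qπ (p₁ p₂ : R ⟶ X) : X ⟶ Q p₁ p₂ where
  app U := ↾(Quot.mk _)
  naturality U V f := rfl

instance : Epi (Qπ p₁ p₂) := by
  rw [NatTrans.epi_iff_epi_app]
  intro U
  rw [epi_iff_surjective]
  exact Quot.mk_surjective

lemma Q_exact (e : EquivalenceRelation p₁ p₂) {U : Cᵒᵖ} {a b : X.obj U}
    (h : (Qπ p₁ p₂).app U a = (Qπ p₁ p₂).app U b) : ∃ r, p₁.app U r = a ∧ p₂.app U r = b := by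
  have := Quot.eqvGen_exact h
  rwa [(pw_equiv e U).eqvGen_iff] at this

lemma Q_w : p₁ ≫ Qπ p₁ p₂ = p₂ ≫ Qπ p₁ p₂ := by
  ext U r
  exact Quot.sound ⟨r, rfl, rfl⟩

lemma Q_isKernelPair (e : EquivalenceRelation p₁ p₂) : IsKernelPair (Qπ p₁ p₂) p₁ p₂ := by
  refine ⟨⟨Q_w⟩, ⟨PullbackCone.IsLimit.mk _ (fun s => 
    { app := fun U => ↾(fun x => (Q_exact e (a := s.fst.app U x) (b := s.snd.app U x)
        (congr(($(s.condition)).app U x))).choose)
      naturality := ?_ }) ?_ ?_ ?_⟩⟩
  · intro U V f
    ext x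
    apply pw_inj e
    · have h1 := (Q_exact e (a := s.fst.app V (s.pt.map f x)) (b := s.snd.app V (s.pt.map f x))
        (congr(($(s.condition)).app V (s.pt.map f x)))).choose_spec.1
      have h2 := (Q_exact e (a := s.fst.app U x) (b := s.snd.app U x)
        (congr(($(s.condition)).app U x))).choose_spec.1
      refine h1.trans ?_
      refine (NatTrans.naturality_apply s.fst f x).trans ?_
      refine (congrArg _ h2.symm).trans ?_
      exact (NatTrans.naturality_apply p₁ f _).symm
    · have h1 := (Q_exact e (a := s.fst.app V (s.pt.map f x)) (b := s.snd.app V (s.pt.map f x))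
        (congr(($(s.condition)).app V (s.pt.map f x)))).choose_spec.2
      have h2 := (Q_exact e (a := s.fst.app U x) (b := s.snd.app U x)
        (congr(($(s.condition)).app U x))).choose_spec.2
      refine h1.trans ?_
      refine (NatTrans.naturality_apply s.snd f x).trans ?_
      refine (congrArg _ h2.symm).trans ?_
      exact (NatTrans.naturality_apply p₂ f _).symm
  · intro s
    ext U x
    exact (Q_exact e (a := s.fst.app U x) (b := s.snd.app U x)
        (congr(($(s.condition)).app U x))).choose_spec.1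
  · intro s
    ext U x
    exact (Q_exact e (a := s.fst.app U x) (b := s.snd.app U x)
        (congr(($(s.condition)).app U x))).choose_spec.2
  · intro s m h1 h2
    apply e.right_cancellation
    · rw [h1]
      ext U x
      exact (Q_exact e (a := s.fst.app U x) (b := s.snd.app U x)
        (congr(($(s.condition)).app U x))).choose_spec.1.symm
    · rw [h2]
      ext U x
      exact (Q_exact e (a := s.fst.app U x) (b := s.snd.app U x)
        (congr(($(s.condition)).app U x))).choose_spec.2.symm

def Qdesc {W : Cᵒᵖ ⥤ Type w} (k : X ⟶ W) (hk : p₁ ≫ k = p₂ ≫ k) : Q p₁ p₂ ⟶ W where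
  app U := ↾(Quot.lift (k.app U) (by
    rintro _ _ ⟨r, rfl, rfl⟩
    exact congr(($hk).app U r)))
  naturality U V f := by
    ext ⟨x⟩
    exact NatTrans.naturality_apply k f x

lemma Q_isPushout (e : EquivalenceRelation p₁ p₂) : IsPushout p₁ p₂ (Qπ p₁ p₂) (Qπ p₁ p₂) := by
  have key : ∀ (s : PushoutCocone p₁ p₂), s.inl = s.inr := by
    intro s
    have := congrArg (e.r ≫ ·) s.condition
    simp only [← Category.assoc, e.reflexivity₁, e.reflexivity₂, Category.id_comp] at this
    exact this
  refine ⟨⟨Q_w⟩, ⟨PushoutCocone.IsColimit.mk _ (fun s => Qdesc s.inl (by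
    conv_rhs => rw [key s]
    exact s.condition)) ?_ ?_ ?_⟩⟩
  · intro s; rfl
  · intro s
    exact (rfl : Qπ p₁ p₂ ≫ Qdesc s.inl _ = s.inl).trans (key s)
  · intro s m h1 h2
    rw [← cancel_epi (Qπ p₁ p₂), h1]
    rfl

/-- S5216 -/
lemma presheaf_UEER (p₁ p₂ : R ⟶ X) [h : IsEquivalenceRelation p₁ p₂] :
    IsUniversallyEffectiveEquivalenceRelation p₁ p₂ := by
  obtain ⟨⟨e⟩⟩ := h
  exact ⟨⟨{ __ := e
            B := Q p₁ p₂
            π := Qπ p₁ p₂
            isKernelPair := Q_isKernelPair e
            isPushout := Q_isPushout e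
            universally_effectiveEpi_π := presheaf_UEE _ }⟩⟩

end presheafQuot

section sheaf

variable (J : GrothendieckTopology C) [HasSheafify J (Type w)]

lemma sheaf_epi_baseChange {X' X Y' Y : Sheaf J (Type w)} {t : X' ⟶ X} {l : X' ⟶ Y'} {r : X ⟶ Y} {b : Y' ⟶ Y}
    (sq : IsPullback t l r b) [Epi r] : Epi l := by
  let F := sheafToPresheaf J (Type w)
  let G := presheafToSheaf J (Type w)
  let p := factorThruImage (F.map r)
  let i := image.ι (F.map r)
  have hpi : p ≫ i = F.map r := image.fac _
  have hp : Epi p := inferInstance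
  have hGr : Epi (G.map (F.map r)) := by
    have h := (sheafificationAdjunction J (Type w)).counit_naturality r
    have h2 : G.map (F.map r) = (sheafificationAdjunction J (Type w)).counit.app X ≫ r ≫
        inv ((sheafificationAdjunction J (Type w)).counit.app Y) := by
      rw [← Category.assoc, IsIso.eq_comp_inv]; exact h
    rw [h2]; infer_instance
  have hGi : Epi (G.map i) := by
    rw [← hpi, G.map_comp] at hGr
    exact epi_of_epi (G.map p) _
  have hGim : Mono (G.map i) := inferInstance
  have hGii : IsIso (G.map i) := isIso_of_mono_of_epi _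
  have sqF := sq.map F
  let q : F.obj X' ⟶ pullback i (F.map b) := pullback.lift (F.map t ≫ p) (F.map l) (by
    rw [Category.assoc, hpi]; exact sqF.w)
  have hq : IsPullback (F.map t) q p (pullback.fst i (F.map b)) := by
    refine (IsPullback.of_right (h₁₂ := pullback.snd i (F.map b)) (h₂₂ := i) (v₁₃ := F.map b) ?_ (pullback.lift_fst _ _ _)
      (IsPullback.of_hasPullback i (F.map b)).flip).flip
    rw [pullback.lift_snd, hpi]; exact sqF.flip
  have hqe : Epi q := presheaf_epi_baseChange hq
  have hsnd : IsIso (G.map (pullback.snd i (F.map b))) :=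
    (((IsPullback.of_hasPullback i (F.map b)).map G)).isIso_snd_of_isIso
  have hl : q ≫ pullback.snd i (F.map b) = F.map l := pullback.lift_snd _ _ _
  have hGl : Epi (G.map (F.map l)) := by
    rw [← hl, G.map_comp]; infer_instance
  have h := (sheafificationAdjunction J (Type w)).counit_naturality l
  have h3 : Epi ((sheafificationAdjunction J (Type w)).counit.app X' ≫ l) := by
    rw [← h]
    exact epi_comp (G.map (F.map l)) ((sheafificationAdjunction J (Type w)).counit.app Y')
  exact epi_of_epi ((sheafificationAdjunction J (Type w)).counit.app X') l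

/-- S5218 -/
lemma sheaf_UEE {X Y : Sheaf J (Type w)} (f : X ⟶ Y) [Epi f] : UEE (Sheaf J (Type w)) f := by
  intro X' Y' i₁ i₂ f' H
  have : Epi f' := sheaf_epi_baseChange J H.flip
  change EffectiveEpi f'
  rw [← isRegularEpi_iff_effectiveEpi]
  exact IsRegularEpiCategory.regularEpiOfEpi f'

/-- S5217 -/
lemma sheaf_UEER {R X : Sheaf J (Type w)} (p₁ p₂ : R ⟶ X) [h : IsEquivalenceRelation p₁ p₂] :
    IsUniversallyEffectiveEquivalenceRelation p₁ p₂ := by
  obtain ⟨⟨e⟩⟩ := h
  let F := sheafToPresheaf J (Type w)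
  let G := presheafToSheaf J (Type w)
  let adj := sheafificationAdjunction J (Type w)
  let e' : EquivalenceRelation (F.map p₁) (F.map p₂) := eqRelMap F e
  let q := Qπ (F.map p₁) (F.map p₂)
  have h1 := (Q_isKernelPair e').map G
  have h2 := (Q_isPushout e').map G
  let iR : R ≅ G.obj (F.obj R) := (asIso (adj.counit.app R)).symm
  let iX : X ≅ G.obj (F.obj X) := (asIso (adj.counit.app X)).symm
  have c1 : p₁ ≫ iX.hom = iR.hom ≫ G.map (F.map p₁) := by
    have := adj.counit_naturality p₁
    change p₁ ≫ inv (adj.counit.app X) = inv (adj.counit.app R) ≫ G.map (F.map p₁)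
    rw [IsIso.eq_inv_comp, ← Category.assoc, IsIso.comp_inv_eq]; exact this.symm
  have c2 : p₂ ≫ iX.hom = iR.hom ≫ G.map (F.map p₂) := by
    have := adj.counit_naturality p₂
    change p₂ ≫ inv (adj.counit.app X) = inv (adj.counit.app R) ≫ G.map (F.map p₂)
    rw [IsIso.eq_inv_comp, ← Category.assoc, IsIso.comp_inv_eq]; exact this.symm
  let π : X ⟶ G.obj (Q (F.map p₁) (F.map p₂)) := iX.hom ≫ G.map q
  have k1 : IsKernelPair π p₁ p₂ :=
    IsPullback.of_iso h1 iR.symm iX.symm iX.symm (Iso.refl _)
      (by rw [Iso.symm_hom, Iso.symm_hom, Iso.comp_inv_eq, Category.assoc, Iso.eq_inv_comp, c1])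
      (by rw [Iso.symm_hom, Iso.symm_hom, Iso.comp_inv_eq, Category.assoc, Iso.eq_inv_comp, c2])
      (by simp [π, q]) (by simp [π, q])
  have k2 : IsPushout p₁ p₂ π π :=
    IsPushout.of_iso h2 iR.symm iX.symm iX.symm (Iso.refl _)
      (by rw [Iso.symm_hom, Iso.symm_hom, Iso.comp_inv_eq, Category.assoc, Iso.eq_inv_comp, c1])
      (by rw [Iso.symm_hom, Iso.symm_hom, Iso.comp_inv_eq, Category.assoc, Iso.eq_inv_comp, c2])
      (by simp [π, q]) (by simp [π, q])
  have : Epi q := inferInstance
  have : Epi (G.map q) := inferInstance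
  have : Epi π := epi_comp _ _
  exact ⟨⟨{ __ := e
            B := G.obj (Q (F.map p₁) (F.map p₂))
            π := π
            isKernelPair := k1
            isPushout := k2
            universally_effectiveEpi_π := sheaf_UEE J _ }⟩⟩

/-- S5226 -/
lemma mono_quotient {A : Type*} [Category A] [HasPullbacks A]
    {R X Y : A} {p₁ p₂ : R ⟶ X} (e : UniversallyEffectiveEquivalenceRelation p₁ p₂)
    (ι : Y ⟶ X) 
    [HasCoequalizer (pullback.fst (pullback.fst p₁ ι ≫ p₂) ι ≫ pullback.snd p₁ ι)
      (pullback.snd (pullback.fst p₁ ι ≫ p₂) ι)]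
    (hU : UEE A (coequalizer.π (pullback.fst (pullback.fst p₁ ι ≫ p₂) ι ≫ pullback.snd p₁ ι)
      (pullback.snd (pullback.fst p₁ ι ≫ p₂) ι)))
    (g : coequalizer (pullback.fst (pullback.fst p₁ ι ≫ p₂) ι ≫ pullback.snd p₁ ι)
      (pullback.snd (pullback.fst p₁ ι ≫ p₂) ι) ⟶ e.B)
    (hg : coequalizer.π _ _ ≫ g = ι ≫ e.π) :
    Mono g := by
  apply mono_of_kernel hU g
  intro W a b hab
  rw [hg, ← Category.assoc, ← Category.assoc] at hab
  obtain ⟨l, h1, h2⟩ := e.isKernelPair.exists_lift (a ≫ ι) (b ≫ ι) hab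
  let m : W ⟶ pullback (pullback.fst p₁ ι ≫ p₂) ι :=
    pullback.lift (pullback.lift l a h1) b (by
      rw [← Category.assoc, pullback.lift_fst]; exact h2)
  have e1 : m ≫ pullback.fst (pullback.fst p₁ ι ≫ p₂) ι ≫ pullback.snd p₁ ι = a := by
    rw [← Category.assoc, pullback.lift_fst, pullback.lift_snd]
  have e2 : m ≫ pullback.snd (pullback.fst p₁ ι ≫ p₂) ι = b := pullback.lift_snd _ _ _
  have := coequalizer.condition (pullback.fst (pullback.fst p₁ ι ≫ p₂) ι ≫ pullback.snd p₁ ι)
      (pullback.snd (pullback.fst p₁ ι ≫ p₂) ι)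
  rw [← e1, ← e2, Category.assoc, this, Category.assoc]

/-- S5227, general -/
lemma subobj_general {A : Type*} [Category A] [HasPullbacks A]
    {R X : A} {p₁ p₂ : R ⟶ X} (e : UniversallyEffectiveEquivalenceRelation p₁ p₂)
    (hfac : ∀ {Y B : A} (f : Y ⟶ B), ∃ (I : A) (p : Y ⟶ I) (i : I ⟶ B), UEE A p ∧ Mono i ∧ p ≫ i = f) :
    Function.Injective (Subobject.pullback e.π).obj ∧
      Set.range (Subobject.pullback e.π).obj =
        {Y : Subobject X | (Subobject.pullback p₁).obj Y = (Subobject.pullback p₂).obj Y} := by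
  have hU : UEE A e.π := e.universally_effectiveEpi_π
  have hdesc : ∀ {W' W B : A} (c : W' ⟶ W) (_ : UEE A c) (S : Subobject B) (h : W ⟶ B),
      S.Factors (c ≫ h) → S.Factors h := by
    intro W' W B c hc S h hf
    have := hc.effectiveEpi
    have := hc.epi
    obtain ⟨d, hd⟩ := effEpi_desc c (S.factorThru _ hf) (by
      intro Z g₁ g₂ hg
      rw [← cancel_mono S.arrow]
      simp only [Category.assoc, Subobject.factorThru_arrow]
      rw [reassoc_of% hg])
    have : d ≫ S.arrow = h := by
      rw [← cancel_epi c, reassoc_of% hd, Subobject.factorThru_arrow]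
    rw [← this]
    exact Subobject.factors_comp_arrow d
  have hext : ∀ {B : A} (S T : Subobject B), (∀ {W : A} (h : W ⟶ B), S.Factors h → T.Factors h) → S ≤ T := by
    intro B S T h
    exact Subobject.le_of_comm (T.factorThru _ (h S.arrow (Subobject.factors_self S))) (Subobject.factorThru_arrow _ _ _)
  constructor
  · intro S T hST
    have key : ∀ S T : Subobject e.B, (Subobject.pullback e.π).obj S = (Subobject.pullback e.π).obj T → S ≤ T := by
      intro S T hST
      apply hext
      intro W h hS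
      refine hdesc (pullback.fst h e.π) (hU.baseChange (IsPullback.of_hasPullback h e.π)) T h ?_
      rw [pullback.condition, ← Limits.pullback_factors_iff, ← hST, Limits.pullback_factors_iff,
        ← pullback.condition]
      exact Subobject.factors_of_factors_right _ hS
    exact le_antisymm (key S T hST) (key T S hST.symm)
  · ext Y
    constructor
    · rintro ⟨S, rfl⟩
      change _ = _
      rw [← Subobject.pullback_comp, ← Subobject.pullback_comp, e.isKernelPair.w]
    · intro hY
      obtain ⟨I, p, i, hp, hi, hpi⟩ := hfac (Y.arrow ≫ e.π)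
      refine ⟨Subobject.mk i, ?_⟩
      apply le_antisymm
      · apply hext
        intro W h hW
        rw [Limits.pullback_factors_iff] at hW
        let k := (Subobject.mk i).factorThru _ hW ≫ (Subobject.underlyingIso i).hom
        have hk : k ≫ i = h ≫ e.π := by
          simp only [k, Category.assoc]
          rw [Subobject.underlyingIso_hom_comp_eq_mk, Subobject.factorThru_arrow]
        have hc : UEE A (pullback.fst k p) := hp.baseChange (IsPullback.of_hasPullback k p)
        refine hdesc _ hc Y h ?_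
        have h3 : (pullback.snd k p ≫ Y.arrow) ≫ e.π = (pullback.fst k p ≫ h) ≫ e.π := by
          rw [Category.assoc, ← hpi, ← Category.assoc, ← pullback.condition, Category.assoc, hk, Category.assoc]
        obtain ⟨l, h1, h2⟩ := e.isKernelPair.exists_lift _ _ h3
        rw [← h2, ← Limits.pullback_factors_iff, ← hY, Limits.pullback_factors_iff, h1]
        exact Subobject.factors_comp_arrow _
      · apply hext
        intro W h hW
        rw [Limits.pullback_factors_iff]
        have : h ≫ e.π = (Y.factorThru h hW ≫ p) ≫ i := by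
          rw [Category.assoc, hpi, ← Category.assoc, Subobject.factorThru_arrow]
        rw [this]
        exact (Subobject.mk_factors_iff i _).mpr ⟨_, rfl⟩

lemma sheaf_fac {Y B : Sheaf J (Type w)} (f : Y ⟶ B) :
    ∃ (I : Sheaf J (Type w)) (p : Y ⟶ I) (i : I ⟶ B), UEE _ p ∧ Mono i ∧ p ≫ i = f := by
  let F := sheafToPresheaf J (Type w)
  let G := presheafToSheaf J (Type w)
  let adj := sheafificationAdjunction J (Type w)
  let p := factorThruImage (F.map f)
  let i := image.ι (F.map f)
  have hpi : p ≫ i = F.map f := image.fac _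
  have h := adj.counit_naturality f
  have he : Epi p := inferInstance
  have he' : Epi (G.map p) := inferInstance
  have hm' : Mono (G.map i) := inferInstance
  refine ⟨G.obj (image (F.map f)), inv (adj.counit.app Y) ≫ G.map p, G.map i ≫ adj.counit.app B, ?_, mono_comp _ _, ?_⟩
  · have : Epi (inv (adj.counit.app Y) ≫ G.map p) := epi_comp _ _
    exact sheaf_UEE J _
  · have h5 : G.map p ≫ G.map i = G.map (F.map f) := by rw [← G.map_comp, hpi]
    rw [Category.assoc, reassoc_of% h5, IsIso.inv_comp_eq]
    exact h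

end sheaf

end Groth.Agent.H8Sh
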