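import Mathlib.CategoryTheory.Sites.Over
import Mathlib.CategoryTheory.Sites.Sheafification

set_option autoImplicit false

namespace Groth.Agent.H8Sh

open CategoryTheory 

universe w v₁ u₁
variable {C : Type u₁} [Category.{v₁} C]

lemma hom_ext_of_local (J : GrothendieckTopology C) {A B : Sheaf J (Type w)} (g h : A ⟶ B)
    (H : ∀ S : C, ∃ R : Sieve S, R ∈ J S ∧ ∀ ⦃T : C⦄ (k : T ⟶ S), R k →
      (J.overPullback (Type w) T).map g = (J.overPullback (Type w) T).map h) : g = h := by
  apply Sheaf.hom_ext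
  ext ⟨S⟩ x
  obtain ⟨R, hR, hT⟩ := H S
  have hs := ((isSheaf_iff_isSheaf_of_type J B.obj).mp B.property).isSeparated R hR
  apply hs.ext
  intro T k hk
  have h1 := hT k hk
  have h2 := congrArg (fun m => m.hom.app (Opposite.op (Over.mk (𝟙 T)))) h1
  have h3 : g.hom.app (Opposite.op T) = h.hom.app (Opposite.op T) := h2
  have e1 := NatTrans.naturality_apply g.hom k.op x
  have e2 := NatTrans.naturality_apply h.hom k.op x
  refine e1.symm.trans (Eq.trans ?_ e2)
  rw [h3]

lemma local_mono_epi (J : GrothendieckTopology C) {F G : Sheaf J (Type w)} (f : F ⟶ G) :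
    ((∀ S : C, ∃ R : Sieve S, R ∈ J S ∧ ∀ ⦃T : C⦄ (g : T ⟶ S), R g →
      Mono ((J.overPullback (Type w) T).map f)) → Mono f) ∧
    ((∀ S : C, ∃ R : Sieve S, R ∈ J S ∧ ∀ ⦃T : C⦄ (g : T ⟶ S), R g →
      Epi ((J.overPullback (Type w) T).map f)) → Epi f) := by
  constructor
  · intro H
    constructor
    intro Z g h hgh
    apply hom_ext_of_local J
    intro S
    obtain ⟨R, hR, hT⟩ := H S
    refine ⟨R, hR, fun T k hk => ?_⟩
    have := hT k hk
    rw [← cancel_mono ((J.overPullback (Type w) T).map f), ← Functor.map_comp, hgh, Functor.map_comp]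
  · intro H
    constructor
    intro Z g h hgh
    apply hom_ext_of_local J
    intro S
    obtain ⟨R, hR, hT⟩ := H S
    refine ⟨R, hR, fun T k hk => ?_⟩
    have := hT k hk
    rw [← cancel_epi ((J.overPullback (Type w) T).map f), ← Functor.map_comp, hgh, Functor.map_comp]

end Groth.Agent.H8Sh
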