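import Mathlib
import Groth.Prelude.Def_W4bk4boschfrg79

set_option autoImplicit false
open scoped TensorProduct

namespace Groth.Agent.H17Adic

universe u v w

theorem hom_ext {C : Type u} [CommRing C] (J : Ideal C) (hJ : J.FG) {B : Type v} [CommRing B] (K : Ideal B)
    [IsHausdorff K B] (g h : AdicCompletion J C →+* B)
    (hgh : ∀ c : C, g (algebraMap C _ c) = h (algebraMap C _ c))
    (hg : ∀ c ∈ J, g (algebraMap C _ c) ∈ K) : g = h := by
  have hpow : ∀ (n : ℕ) (l : AdicCompletion J C →+* B), (∀ c ∈ J, l (algebraMap C _ c) ∈ K) →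
      ∀ x : AdicCompletion J C, AdicCompletion.eval J C n x = 0 → l x ∈ K ^ n := by
    intro n l hl x hx
    have hx' : x ∈ (J ^ n • ⊤ : Submodule C (AdicCompletion J C)) := by
      rw [AdicCompletion.pow_smul_top_eq_ker_eval hJ]
      exact hx
    have hle : (J ^ n).map (l.comp (algebraMap C (AdicCompletion J C))) ≤ K ^ n := by
      rw [Ideal.map_pow]
      apply Ideal.pow_right_mono
      rw [Ideal.map_le_iff_le_comap]
      intro c hc
      exact hl c hc
    refine Submodule.smul_induction_on hx' ?_ ?_
    · intro a ha y _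
      rw [Algebra.smul_def, map_mul]
      exact Ideal.mul_mem_right _ _ (hle (Ideal.mem_map_of_mem _ ha))
    · intro y z hy hz
      rw [map_add]
      exact Ideal.add_mem _ hy hz
  ext x
  rw [← sub_eq_zero]
  apply IsHausdorff.haus (I := K) inferInstance
  intro n
  rw [SModEq.zero]
  obtain ⟨c, hc⟩ := Submodule.mkQ_surjective (J ^ n • ⊤ : Submodule C C) (AdicCompletion.eval J C n x)
  have h1 : AdicCompletion.eval J C n (x - algebraMap C _ c) = 0 := by
    rw [map_sub, sub_eq_zero, ← hc]
    rfl
  have h2 : g x - h x = g (x - algebraMap C _ c) - h (x - algebraMap C _ c) := by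
    rw [map_sub, map_sub, hgh]; ring
  rw [h2]
  have : g (x - algebraMap C _ c) - h (x - algebraMap C _ c) ∈ K ^ n := by
    apply Ideal.sub_mem
    · exact hpow n g hg _ h1
    · exact hpow n h (fun c hc => by rw [← hgh]; exact hg c hc) _ h1
  simpa using this

theorem exists_lift {C : Type u} [CommRing C] (J : Ideal C) {B : Type v} [CommRing B] (K : Ideal B)
    [IsAdicComplete K B] (q : C →+* B) (hq : ∀ c ∈ J, q c ∈ K) :
    ∃ g : AdicCompletion J C →+* B, ∀ c : C, g (algebraMap C _ c) = q c := by
  have hle : ∀ n, J ^ n ≤ (K ^ n).comap q := by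
    intro n
    rw [← Ideal.map_le_iff_le_comap, Ideal.map_pow]
    apply Ideal.pow_right_mono
    rw [Ideal.map_le_iff_le_comap]
    intro c hc
    exact hq c hc
  let f : (n : ℕ) → AdicCompletion J C →+* B ⧸ K ^ n := fun n =>
    (Ideal.quotientMap (K ^ n) q (hle n)).comp (AdicCompletion.evalₐ J n).toRingHom
  have hf : ∀ {m n : ℕ} (h : m ≤ n), (Ideal.Quotient.factorPow K h).comp (f n) = f m := by
    intro m n hmn
    ext x
    obtain ⟨a, rfl⟩ := AdicCompletion.mk_surjective J C x
    change (Ideal.Quotient.factorPow K hmn) ((Ideal.quotientMap (K ^ n) q (hle n)) (AdicCompletion.evalₐ J n (AdicCompletion.mk J C a))) =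
      (Ideal.quotientMap (K ^ m) q (hle m)) (AdicCompletion.evalₐ J m (AdicCompletion.mk J C a))
    rw [AdicCompletion.evalₐ_mk, AdicCompletion.evalₐ_mk]
    exact congrArg (Ideal.quotientMap (K ^ m) q (hle m)) (AdicCompletion.Ideal.mk_eq_mk J hmn a)
  refine ⟨IsAdicComplete.liftRingHom K f hf, fun c => ?_⟩
  rw [← sub_eq_zero]
  apply IsHausdorff.haus (I := K) inferInstance
  intro n
  rw [SModEq.zero]
  have h1 : Ideal.Quotient.mk (K ^ n) (IsAdicComplete.liftRingHom K f hf (algebraMap C _ c)) =
      Ideal.Quotient.mk (K ^ n) (q c) := by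
    rw [IsAdicComplete.mk_liftRingHom]
    rfl
  have := (Ideal.Quotient.eq).mp h1
  simpa using this

open AdicRing

theorem existsUnique_lift
    (R : Type u) [CommRing R] (I : Ideal R) (hR : AdicRing.IsBase R I)
    (A : Type u) [CommRing A] [Algebra R A]
    (r : ℕ) (f : Fin (r + 1) → A) (i : Fin (r + 1))
    (B : Type u) [CommRing B] [Algebra R B] [IsAdicComplete (I.map (algebraMap R B)) B]
    (φ : A →ₐ[R] B) (hnzd : φ (f i) ∈ nonZeroDivisors B)
    (hgen : (Ideal.span (Set.range f)).map φ = Ideal.span {φ (f i)}) :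
    ∃! ψ : AdicRing.chartAdm I f i →ₐ[R] B,
      ψ.comp (IsScalarTower.toAlgHom R A (AdicRing.chartAdm I f i)) = φ := by
  have hIfg : I.FG := by
    rcases hR.2 with ⟨h, _⟩ | ⟨_, _, _, t, _, ht⟩
    · exact IsNoetherian.noetherian I
    · rw [ht]; exact ⟨{t}, by simp⟩
  have hb : ∀ j, ∃ b, φ (f i) * b = φ (f j) := by
    intro j
    have h1 : φ (f j) ∈ Ideal.span {φ (f i)} := by
      rw [← hgen]
      exact Ideal.mem_map_of_mem _ (Ideal.subset_span ⟨j, rfl⟩)
    obtain ⟨b, hb⟩ := Ideal.mem_span_singleton'.mp h1
    exact ⟨b, by rw [mul_comm]; exact hb⟩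
  choose b hb using hb
  let q : chartAlg f i →+* B := Ideal.Quotient.lift _
    (MvPolynomial.eval₂Hom φ.toRingHom (fun j : {j : Fin (r + 1) // j ≠ i} => b j.1)) (by
      intro a ha
      have hle : Ideal.span (Set.range fun j : {j : Fin (r + 1) // j ≠ i} =>
          MvPolynomial.C (f i) * MvPolynomial.X j - MvPolynomial.C (f j.1)) ≤
          RingHom.ker (MvPolynomial.eval₂Hom φ.toRingHom (fun j : {j : Fin (r + 1) // j ≠ i} => b j.1)) := by
        rw [Ideal.span_le]
        rintro _ ⟨j, rfl⟩
        rw [SetLike.mem_coe, RingHom.mem_ker, map_sub, map_mul]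
        simp only [MvPolynomial.coe_eval₂Hom, MvPolynomial.eval₂_C, MvPolynomial.eval₂_X]
        rw [sub_eq_zero]
        exact hb j.1
      exact hle ha)
  have hqC : ∀ a : A, q (algebraMap A (chartAlg f i) a) = φ a := by
    intro a
    show MvPolynomial.eval₂Hom φ.toRingHom (fun j : {j : Fin (r + 1) // j ≠ i} => b j.1) (MvPolynomial.C a) = φ a
    rw [MvPolynomial.coe_eval₂Hom, MvPolynomial.eval₂_C]
    rfl
  have hqR : ∀ x : R, q (algebraMap R (chartAlg f i) x) = algebraMap R B x := by
    intro x
    rw [IsScalarTower.algebraMap_apply R A (chartAlg f i), hqC, AlgHom.commutes]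
  have hqJ : ∀ c ∈ I.map (algebraMap R (chartAlg f i)), q c ∈ I.map (algebraMap R B) := by
    have : I.map (algebraMap R (chartAlg f i)) ≤ (I.map (algebraMap R B)).comap q := by
      rw [Ideal.map_le_iff_le_comap]
      intro x hx
      rw [Ideal.mem_comap, Ideal.mem_comap, hqR]
      exact Ideal.mem_map_of_mem _ hx
    exact this
  obtain ⟨g, hg⟩ := exists_lift (I.map (algebraMap R (chartAlg f i))) (I.map (algebraMap R B)) q hqJ
  have hgA : ∀ a : A, g (algebraMap A (chartCompl I f i) a) = φ a := by
    intro a
    rw [← hqC a, ← hg]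
    rfl
  have hgR : ∀ x : R, g (algebraMap R (chartCompl I f i) x) = algebraMap R B x := by
    intro x
    rw [← hqR x, ← hg]
    rfl
  let ψ0 : chartAdm I f i →+* B := Ideal.Quotient.lift _ g (by
    intro a ha
    have hle : (⨆ n : ℕ, Submodule.torsionBy (chartCompl I f i) (chartCompl I f i)
      (algebraMap A (chartCompl I f i) (f i) ^ n) : Ideal (chartCompl I f i)) ≤ RingHom.ker g := by
      apply iSup_le
      intro n x hx
      rw [Submodule.mem_torsionBy_iff, smul_eq_mul] at hx
      have h1 := congrArg g hx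
      rw [map_mul, map_pow, hgA, map_zero] at h1
      rw [RingHom.mem_ker]
      have h2 : φ (f i) ^ n ∈ nonZeroDivisors B := pow_mem hnzd n
      exact (mul_left_mem_nonZeroDivisors_eq_zero_iff h2).mp h1
    exact hle ha)
  let ψ : chartAdm I f i →ₐ[R] B :=
    { ψ0 with
      commutes' := fun x => hgR x }
  refine ⟨ψ, ?_, ?_⟩
  · ext a
    exact hgA a
  · intro ψ' hψ'
    have hψA : ∀ a : A, ψ' (algebraMap A (chartAdm I f i) a) = φ a := by
      intro a
      rw [← hψ']
      rfl
    let π : chartCompl I f i →+* chartAdm I f i := Ideal.Quotient.mk _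
    have key : ψ'.toRingHom.comp π = g := by
      apply hom_ext (I.map (algebraMap R (chartAlg f i))) (hIfg.map _) (I.map (algebraMap R B))
      · intro c
        rw [hg]
        obtain ⟨p, rfl⟩ := Ideal.Quotient.mk_surjective c
        have : (((ψ'.toRingHom.comp π).comp (algebraMap (chartAlg f i) (chartCompl I f i))).comp
            (Ideal.Quotient.mk _)) = q.comp (Ideal.Quotient.mk _) := by
          apply MvPolynomial.ringHom_ext
          · intro a
            show ψ' (algebraMap A (chartAdm I f i) a) = q (algebraMap A (chartAlg f i) a)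
            rw [hψA, hqC]
          · intro j
            have hrel : algebraMap A (chartAlg f i) (f i) * (Ideal.Quotient.mk _ (MvPolynomial.X j) : chartAlg f i) =
                algebraMap A (chartAlg f i) (f j.1) := by
              show (Ideal.Quotient.mk _ (MvPolynomial.C (f i)) : chartAlg f i) * Ideal.Quotient.mk _ (MvPolynomial.X j) =
                Ideal.Quotient.mk _ (MvPolynomial.C (f j.1))
              rw [← map_mul]
              apply Ideal.Quotient.eq.mpr
              exact Ideal.subset_span ⟨j, rfl⟩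
            have h1 := congrArg ((ψ'.toRingHom.comp π).comp (algebraMap (chartAlg f i) (chartCompl I f i))) hrel
            have h2 := congrArg q hrel
            rw [map_mul, hqC, hqC] at h2
            have h3 : ∀ a : A, ((ψ'.toRingHom.comp π).comp (algebraMap (chartAlg f i) (chartCompl I f i)))
                (algebraMap A (chartAlg f i) a) = φ a := fun a => hψA a
            rw [map_mul, h3, h3] at h1
            have h4 : φ (f i) * (((ψ'.toRingHom.comp π).comp (algebraMap (chartAlg f i) (chartCompl I f i)))
                (Ideal.Quotient.mk _ (MvPolynomial.X j)) - q (Ideal.Quotient.mk _ (MvPolynomial.X j))) = 0 := by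
              rw [mul_sub, h1, h2, sub_self]
            exact sub_eq_zero.mp ((mul_left_mem_nonZeroDivisors_eq_zero_iff hnzd).mp h4)
        exact congrArg (fun l => l p) this
      · have : I.map (algebraMap R (chartAlg f i)) ≤ (I.map (algebraMap R B)).comap
            ((ψ'.toRingHom.comp π).comp (algebraMap (chartAlg f i) (chartCompl I f i))) := by
          rw [Ideal.map_le_iff_le_comap]
          intro x hx
          rw [Ideal.mem_comap, Ideal.mem_comap]
          have : ((ψ'.toRingHom.comp π).comp (algebraMap (chartAlg f i) (chartCompl I f i)))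
            (algebraMap R (chartAlg f i) x) = algebraMap R B x := ψ'.commutes x
          rw [this]
          exact Ideal.mem_map_of_mem _ hx
        exact this
    apply AlgHom.ext
    intro x
    obtain ⟨y, rfl⟩ := Ideal.Quotient.mk_surjective x
    exact congrArg (fun l => l y) key

end Groth.Agent.H17Adic
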