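import Groth.Agent.Lib.H16_FunFldB
import Groth.Prelude.Def_W4bk4goldsch45
import Mathlib.FieldTheory.IsAlgClosed.Basic

set_option autoImplicit false
open FunFld

namespace Groth.Agent.H17FF

open Groth.Agent.H16

variable {k K : Type*} [Field k] [Field K] [Algebra k K]

theorem exists_const_ac [IsAlgClosed k] (hK : IsFunctionField k K) (P : Place k K) {w : K} (hw : P.1 w ≤ 1) :
    ∃ c : k, P.1 (w - algebraMap k K c) < 1 := by
  have hfin := finite_residue hK P
  have hint : @Algebra.IsIntegral k (IsLocalRing.ResidueField P.O) _ _ (Place.algRes P) :=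
    @Algebra.IsIntegral.of_finite k (IsLocalRing.ResidueField P.O) _ _ (Place.algRes P) hfin
  obtain ⟨c, hc⟩ := (@IsAlgClosed.algebraMap_bijective_of_isIntegral k (IsLocalRing.ResidueField P.O)
    _ _ _ _ (Place.algRes P) hint).2 (IsLocalRing.residue P.O ⟨w, hw⟩)
  refine ⟨c, ?_⟩
  have h1 : IsLocalRing.residue P.O (⟨w, hw⟩ - algebraMap k P.O c) = 0 := by
    rw [map_sub, sub_eq_zero, ← hc]
    rfl
  rw [residue_eq_zero_iff_val] at h1
  exact h1

/-- expansions in an algebra generated by elements close to constants, for two places at once -/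
theorem adjoin_close {ι : Type*} (r : ι → K) (P Q : Place k K) (γ δ : WithZero (Multiplicative ℤ)) (hγ : γ ≤ 1)
    (hδ : δ ≤ 1) (hr : ∀ i, ∃ a : k, P.1 (r i - algebraMap k K a) ≤ γ ∧ Q.1 (r i - algebraMap k K a) ≤ δ)
    (u : K) (hu : u ∈ Algebra.adjoin k (Set.range r)) :
    ∃ a : k, P.1 (u - algebraMap k K a) ≤ γ ∧ Q.1 (u - algebraMap k K a) ≤ δ := by
  have hle : ∀ (P : Place k K) (γ : WithZero (Multiplicative ℤ)) (_ : γ ≤ 1) (x : K) (a : k),
      P.1 (x - algebraMap k K a) ≤ γ → P.1 x ≤ 1 := by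
    intro P γ hγ x a h
    have : x = (x - algebraMap k K a) + algebraMap k K a := by ring
    rw [this]
    exact (Valuation.map_add _ _ _).trans (max_le (h.trans hγ) (P.2.1 a))
  have hmul : ∀ (P : Place k K) (γ : WithZero (Multiplicative ℤ)) (_ : γ ≤ 1) (x y : K) (a b : k),
      P.1 (x - algebraMap k K a) ≤ γ → P.1 (y - algebraMap k K b) ≤ γ →
        P.1 (x * y - algebraMap k K (a * b)) ≤ γ := by
    intro P γ hγ x y a b hx hy
    have h1 : x * y - algebraMap k K (a * b) = (x - algebraMap k K a) * y + algebraMap k K a * (y - algebraMap k K b) := by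
      rw [map_mul]; ring
    rw [h1]
    refine (Valuation.map_add _ _ _).trans (max_le ?_ ?_)
    · rw [map_mul]
      exact (mul_le_mul' hx (hle P γ hγ y b hy)).trans (by rw [mul_one])
    · rw [map_mul]
      exact (mul_le_mul' (P.2.1 a) hy).trans (by rw [one_mul])
  induction hu using Algebra.adjoin_induction with
  | mem x hx =>
    obtain ⟨i, rfl⟩ := hx
    exact hr i
  | algebraMap c => exact ⟨c, by rw [sub_self, map_zero]; exact zero_le, by rw [sub_self, map_zero]; exact zero_le⟩
  | add x y _ _ hx hy =>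
    obtain ⟨a, ha, ha'⟩ := hx
    obtain ⟨b, hb, hb'⟩ := hy
    refine ⟨a + b, ?_, ?_⟩
    · have h1 : x + y - algebraMap k K (a + b) = (x - algebraMap k K a) + (y - algebraMap k K b) := by
        rw [map_add]; ring
      rw [h1]
      exact (Valuation.map_add _ _ _).trans (max_le ha hb)
    · have h1 : x + y - algebraMap k K (a + b) = (x - algebraMap k K a) + (y - algebraMap k K b) := by
        rw [map_add]; ring
      rw [h1]
      exact (Valuation.map_add _ _ _).trans (max_le ha' hb')
  | mul x y _ _ hx hy =>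
    obtain ⟨a, ha, ha'⟩ := hx
    obtain ⟨b, hb, hb'⟩ := hy
    exact ⟨a * b, hmul P γ hγ x y a b ha hb, hmul Q δ hδ x y a b ha' hb'⟩

theorem lt_one_iff_const (P : Place k K) (u : K) (a : k) (h : P.1 (u - algebraMap k K a) < 1) :
    P.1 u < 1 ↔ a = 0 := by
  constructor
  · intro hu
    by_contra ha
    have h1 : algebraMap k K a = u - (u - algebraMap k K a) := by ring
    have h2 : P.1 (algebraMap k K a) < 1 := by
      rw [h1]
      exact (Valuation.map_sub _ _ _).trans_lt (max_lt hu h)
    rw [val_const P ha] at h2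
    exact lt_irrefl _ h2
  · rintro rfl
    rw [map_zero, sub_zero] at h
    exact h

theorem le_one_of_const (P : Place k K) (u : K) (a : k) (h : P.1 (u - algebraMap k K a) < 1) :
    P.1 u ≤ 1 := by
  have : u = (u - algebraMap k K a) + algebraMap k K a := by ring
  rw [this]
  exact (Valuation.map_add _ _ _).trans (max_le h.le (P.2.1 a))

theorem exists_max {n : ℕ} (φ : Fin (n + 1) → K) (P : Place k K) : ∃ j, ∀ i, P.1 (φ i) ≤ P.1 (φ j) := by
  obtain ⟨j, hj⟩ := Finite.exists_max (fun i => P.1 (φ i))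
  exact ⟨j, hj⟩

theorem lt_iff_le_exp (x : WithZero (Multiplicative ℤ)) (hx : x < 1) (hx1 : x ≠ WithZero.exp (-1)) :
    x ≤ WithZero.exp (-2) := by
  by_cases h0 : x = 0
  · rw [h0]; exact zero_le
  · rw [← WithZero.exp_log h0] at hx hx1 ⊢
    rw [← WithZero.exp_zero, WithZero.exp_lt_exp] at hx
    rw [WithZero.exp_le_exp]
    have : WithZero.log x ≠ -1 := fun h => hx1 (by rw [h])
    omega

theorem sameImage_iff [IsAlgClosed k]
    (hK : FunFld.IsFunctionField k K) {n : ℕ} (φ : Fin (n + 1) → K)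
    (hφ : ∀ i, φ i ≠ 0) (P Q : FunFld.Place k K) :
    FunFld.SameImage φ P Q ↔
      ∀ z : K, FunFld.InLocRing φ P z → (Q.1 z ≤ 1 ∧ (Q.1 z < 1 ↔ P.1 z < 1)) := by
  constructor
  · rintro ⟨j, hj0, hPj, hQj, hc⟩ z ⟨j', hj'0, hPj', u, hu, w, hw, hw1, hzw⟩
    have hPjj : P.1 (φ j' / φ j) = 1 := by
      rw [map_div₀, le_antisymm (hPj j') (hPj' j)]
      exact div_self ((Valuation.ne_zero_iff _).mpr hj0)
    obtain ⟨b, hb, hb'⟩ := hc j'
    have hb0 : b ≠ 0 := by
      intro h
      have := (lt_one_iff_const P _ b hb).mpr h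
      rw [hPjj] at this
      exact lt_irrefl _ this
    have hQjj : Q.1 (φ j' / φ j) = 1 := by
      apply le_antisymm (le_one_of_const Q _ b hb')
      by_contra hlt
      exact hb0 ((lt_one_iff_const Q _ b hb').mp (not_le.mp hlt))
    have hr : ∀ i, ∃ a : k, P.1 (φ i / φ j' - algebraMap k K a) < 1 ∧ Q.1 (φ i / φ j' - algebraMap k K a) < 1 := by
      intro i
      obtain ⟨c, hc1, hc2⟩ := hc i
      refine ⟨c / b, ?_⟩
      have hbK : algebraMap k K b ≠ 0 := by
        rw [Ne, map_eq_zero_iff _ (algebraMap k K).injective]; exact hb0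
      have key : ∀ (R : Place k K), R.1 (φ j' / φ j) = 1 → R.1 (φ i / φ j - algebraMap k K c) < 1 →
          R.1 (φ j' / φ j - algebraMap k K b) < 1 → R.1 (φ i / φ j' - algebraMap k K (c / b)) < 1 := by
        intro R hR1 hRc hRb
        have h1 : (φ i / φ j' - algebraMap k K (c / b)) * (φ j' / φ j) =
            (φ i / φ j - algebraMap k K c) - algebraMap k K (c / b) * (φ j' / φ j - algebraMap k K b) := by
          rw [map_div₀]
          field_simp
          ring
        have h2 : R.1 (φ i / φ j' - algebraMap k K (c / b)) = R.1 ((φ i / φ j' - algebraMap k K (c / b)) * (φ j' / φ j)) := by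
          rw [map_mul, hR1, mul_one]
        rw [h2, h1]
        refine (Valuation.map_sub _ _ _).trans_lt (max_lt hRc ?_)
        rw [map_mul]
        exact (mul_le_mul_left (R.2.1 _) _).trans_lt (by rw [one_mul]; exact hRb)
      exact ⟨key P hPjj hc1 hb, key Q hQjj hc2 hb'⟩
    have hexp : ∀ x ∈ Algebra.adjoin k (Set.range fun i => φ i / φ j'),
        ∃ a : k, P.1 (x - algebraMap k K a) < 1 ∧ Q.1 (x - algebraMap k K a) < 1 := by
      intro x hx
      have hlt : ∀ y : WithZero (Multiplicative ℤ), y < 1 ↔ y ≤ WithZero.exp (-1) := by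
        intro y
        constructor
        · intro hy
          by_cases h : y = WithZero.exp (-1)
          · exact h.le
          · exact (lt_iff_le_exp y hy h).trans (by rw [WithZero.exp_le_exp]; norm_num)
        · intro hy
          refine hy.trans_lt ?_
          rw [← WithZero.exp_zero, WithZero.exp_lt_exp]; norm_num
      have hle1 : WithZero.exp (-1 : ℤ) ≤ 1 := ((hlt _).mpr le_rfl).le
      obtain ⟨a, ha, ha'⟩ := adjoin_close (fun i => φ i / φ j') P Q (WithZero.exp (-1)) (WithZero.exp (-1))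
        hle1 hle1 (fun i => by
          obtain ⟨a, ha, ha'⟩ := hr i
          exact ⟨a, (hlt _).mp ha, (hlt _).mp ha'⟩) x hx
      exact ⟨a, (hlt _).mpr ha, (hlt _).mpr ha'⟩
    obtain ⟨cu, hcu, hcu'⟩ := hexp u hu
    obtain ⟨cw, hcw, hcw'⟩ := hexp w hw
    have hcw0 : cw ≠ 0 := by
      intro h
      have := (lt_one_iff_const P _ cw hcw).mpr h
      rw [hw1] at this
      exact lt_irrefl _ this
    have hQw : Q.1 w = 1 := by
      apply le_antisymm (le_one_of_const Q _ cw hcw')
      by_contra hlt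
      exact hcw0 ((lt_one_iff_const Q _ cw hcw').mp (not_le.mp hlt))
    have hPz : P.1 z = P.1 u := by rw [← hzw, map_mul, hw1, mul_one]
    have hQz : Q.1 z = Q.1 u := by rw [← hzw, map_mul, hQw, mul_one]
    rw [hPz, hQz]
    exact ⟨le_one_of_const Q _ cu hcu', (lt_one_iff_const Q _ cu hcu').trans (lt_one_iff_const P _ cu hcu).symm⟩
  · intro h
    obtain ⟨j, hj⟩ := exists_max φ P
    have hmem : ∀ i, φ i / φ j ∈ Algebra.adjoin k (Set.range fun i => φ i / φ j) :=
      fun i => Algebra.subset_adjoin ⟨i, rfl⟩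
    have hPle : ∀ i, P.1 (φ i / φ j) ≤ 1 := by
      intro i
      rw [map_div₀]
      exact div_le_one_of_le₀ (hj i) zero_le
    have hloc : ∀ u ∈ Algebra.adjoin k (Set.range fun i => φ i / φ j), InLocRing φ P u := by
      intro u hu
      exact ⟨j, hφ j, hj, u, hu, 1, one_mem _, map_one _, mul_one u⟩
    refine ⟨j, hφ j, hj, ?_, ?_⟩
    · intro i
      have h1 := (h _ (hloc _ (hmem i))).1
      rw [map_div₀] at h1
      have hj0 : Q.1 (φ j) ≠ 0 := (Valuation.ne_zero_iff _).mpr (hφ j)
      rwa [div_le_one₀ (zero_lt_iff.mpr hj0)] at h1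
    · intro i
      obtain ⟨c, hc⟩ := exists_const_ac hK P (hPle i)
      refine ⟨c, hc, ?_⟩
      exact ((h _ (hloc _ (Subalgebra.sub_mem _ (hmem i) (Subalgebra.algebraMap_mem _ c)))).2).mpr hc

theorem uniformizer_iff [IsAlgClosed k]
    (hK : FunFld.IsFunctionField k K) {n : ℕ} (φ : Fin (n + 1) → K)
    (P : FunFld.Place k K) (heff : (1 : K) ∈ Submodule.span k (Set.range φ))
    (hnorm : ∀ i, P.1 (φ i) ≤ 1) :
    (∃ t : K, FunFld.InLocRing φ P t ∧ P.1 t = WithZero.exp (-1)) ↔
      ∃ t ∈ Submodule.span k (Set.range φ), P.1 t = WithZero.exp (-1) := by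
  have hmax1 : ∀ j, (∀ i, P.1 (φ i) ≤ P.1 (φ j)) → P.1 (φ j) = 1 := by
    intro j hj
    apply le_antisymm (hnorm j)
    have : ∀ x ∈ Submodule.span k (Set.range φ), P.1 x ≤ P.1 (φ j) := by
      intro x hx
      induction hx using Submodule.span_induction with
      | mem x hx => obtain ⟨i, rfl⟩ := hx; exact hj i
      | zero => rw [map_zero]; exact zero_le
      | add x y _ _ hx hy => exact (Valuation.map_add _ _ _).trans (max_le hx hy)
      | smul a x _ hx =>
        rw [Algebra.smul_def, map_mul]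
        exact (mul_le_mul' (P.2.1 a) hx).trans (by rw [one_mul])
    have h1 := this 1 heff
    rwa [map_one] at h1
  constructor
  · rintro ⟨t, ⟨j, hj0, hj, u, hu, w, hw, hw1, htw⟩, ht⟩
    by_contra hcon
    push Not at hcon
    have hPj := hmax1 j hj
    have hr : ∀ i, ∃ a : k, P.1 (φ i / φ j - algebraMap k K a) ≤ WithZero.exp (-2) ∧
        P.1 (φ i / φ j - algebraMap k K a) ≤ WithZero.exp (-2) := by
      intro i
      have hPle : P.1 (φ i / φ j) ≤ 1 := by
        rw [map_div₀, hPj, div_one]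
        exact hnorm i
      obtain ⟨c, hc⟩ := exists_const_ac hK P hPle
      have h1 : P.1 (φ i / φ j - algebraMap k K c) = P.1 (φ i - c • φ j) := by
        have : φ i - c • φ j = (φ i / φ j - algebraMap k K c) * φ j := by
          rw [Algebra.smul_def]; field_simp
        rw [this, map_mul, hPj, mul_one]
      have h2 : P.1 (φ i - c • φ j) ≤ WithZero.exp (-2) := by
        apply lt_iff_le_exp
        · rw [← h1]; exact hc
        · apply hcon
          exact Submodule.sub_mem _ (Submodule.subset_span ⟨i, rfl⟩)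
            (Submodule.smul_mem _ _ (Submodule.subset_span ⟨j, rfl⟩))
      exact ⟨c, h1 ▸ h2, h1 ▸ h2⟩
    have hle2 : WithZero.exp (-2 : ℤ) < 1 := by
      rw [← WithZero.exp_zero, WithZero.exp_lt_exp]; norm_num
    obtain ⟨a, ha, -⟩ := adjoin_close (fun i => φ i / φ j) P P (WithZero.exp (-2)) (WithZero.exp (-2))
        hle2.le hle2.le hr u hu
    have hPu : P.1 u = WithZero.exp (-1) := by rw [← htw, map_mul, hw1, mul_one, ht]
    have hPult : P.1 u < 1 := by
      rw [hPu, ← WithZero.exp_zero, WithZero.exp_lt_exp]; norm_num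
    have ha0 := (lt_one_iff_const P u a (ha.trans_lt hle2)).mp hPult
    rw [ha0, map_zero, sub_zero, hPu, WithZero.exp_le_exp] at ha
    norm_num at ha
  · rintro ⟨t, ht, htP⟩
    obtain ⟨j, hj⟩ := exists_max φ P
    have hPj := hmax1 j hj
    have hj0 : φ j ≠ 0 := by
      intro h
      rw [h, map_zero] at hPj
      exact zero_ne_one hPj
    have hspan : ∀ x ∈ Submodule.span k (Set.range φ), x / φ j ∈ Algebra.adjoin k (Set.range fun i => φ i / φ j) := by
      intro x hx
      induction hx using Submodule.span_induction with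
      | mem x hx => obtain ⟨i, rfl⟩ := hx; exact Algebra.subset_adjoin ⟨i, rfl⟩
      | zero => rw [zero_div]; exact zero_mem _
      | add x y _ _ hx hy => rw [add_div]; exact add_mem hx hy
      | smul a x _ hx => rw [smul_div_assoc]; exact Subalgebra.smul_mem _ hx a
    refine ⟨t, ⟨j, hj0, hj, t / φ j, hspan t ht, 1 / φ j, hspan 1 heff, ?_, ?_⟩, htP⟩
    · rw [map_div₀, map_one, hPj, div_one]
    · rw [mul_one_div]

end Groth.Agent.H17FF
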