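import Groth.Agent.Lib.Helper17_FF
import Groth.Agent.Lib.H16_FunFldE
import Mathlib.RingTheory.MvPolynomial.Homogeneous

set_option autoImplicit false
open FunFld

namespace Groth.Agent.H17FF

open Groth.Agent.H16

variable {k K : Type*} [Field k] [Field K] [Algebra k K]

theorem adjoin_ratios_top {n : ℕ} (φ : Fin (n + 1) → K)
    (h0 : φ 0 ≠ 0) (P : FunFld.Place k K) (h : FunFld.IsNonsingularAt φ P) :
    IntermediateField.adjoin k (Set.range fun i => φ i / φ 0) = ⊤ := by
  set F := IntermediateField.adjoin k (Set.range fun i => φ i / φ 0) with hF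
  have hle : ∀ z : K, P.1 z ≤ 1 → z ∈ F := by
    intro z hz
    obtain ⟨j, hj0, hj, u, hu, w, hw, hw1, hzw⟩ := h z hz
    have hmem : ∀ x ∈ Algebra.adjoin k (Set.range fun i => φ i / φ j), x ∈ F := by
      intro x hx
      have hsub : Algebra.adjoin k (Set.range fun i => φ i / φ j) ≤ F.toSubalgebra := by
        apply Algebra.adjoin_le
        rintro _ ⟨i, rfl⟩
        have h1 : φ i / φ 0 ∈ F := IntermediateField.subset_adjoin _ _ ⟨i, rfl⟩
        have h2 : φ j / φ 0 ∈ F := IntermediateField.subset_adjoin _ _ ⟨j, rfl⟩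
        have h3 : φ i / φ j = (φ i / φ 0) / (φ j / φ 0) := by field_simp
        show φ i / φ j ∈ F
        rw [h3]
        exact F.div_mem h1 h2
      exact hsub hx
    have hw0 : w ≠ 0 := by
      rintro rfl
      rw [map_zero] at hw1
      exact zero_ne_one hw1
    have h1 : z = u / w := by rw [← hzw, mul_div_cancel_right₀ _ hw0]
    rw [h1]
    exact F.div_mem (hmem u hu) (hmem w hw)
  rw [eq_top_iff]
  intro z _
  by_cases hz : P.1 z ≤ 1
  · exact hle z hz
  · have hz' : P.1 z⁻¹ ≤ 1 := by
      rw [map_inv₀]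
      exact inv_le_one_of_one_le₀ (not_le.mp hz).le
    have h1 := F.inv_mem (hle _ hz')
    rwa [inv_inv] at h1

theorem finite_ne_one (hK : IsFunctionField k K) (x : K) (hx : x ≠ 0) :
    {P : Place k K | P.1 x ≠ 1}.Finite := by
  refine (finite_support hK x).subset ?_
  intro P hP hlog
  apply hP
  have h1 : WithZero.log (P.1 x) = 0 := by
    have : - WithZero.log (P.1 x) = 0 := hlog
    linarith
  have h2 : P.1 x ≠ 0 := (Valuation.ne_zero_iff _).mpr hx
  rw [← WithZero.exp_log h2, h1, WithZero.exp_zero]

theorem finite_zero [IsAlgClosed k] (hK : FunFld.IsFunctionField k K) {n : ℕ} (hn : 1 ≤ n)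
    (φ : Fin (n + 1) → K) (hφ : LinearIndependent k φ) :
    (∀ g : MvPolynomial (Fin (n + 1)) k, g.IsHomogeneous g.totalDegree →
      MvPolynomial.aeval φ g ≠ 0 →
        {P : FunFld.Place k K | ∃ j, φ j ≠ 0 ∧ (∀ i, P.1 (φ i) ≤ P.1 (φ j)) ∧
          P.1 (MvPolynomial.aeval (fun i => φ i / φ j) g) < 1}.Finite) ∧
    ∀ P : FunFld.Place k K, {Q : FunFld.Place k K | FunFld.SameImage φ P Q}.Finite := by
  have hφ0 : ∀ i, φ i ≠ 0 := fun i => hφ.ne_zero i
  constructor
  · intro g hg hg0
    refine ((Set.finite_iUnion fun i => finite_ne_one hK (φ i) (hφ0 i)).union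
      (finite_ne_one hK (MvPolynomial.aeval φ g) hg0)).subset ?_
    rintro P ⟨j, hj0, hj, hlt⟩
    by_contra hcon
    rw [Set.mem_union, not_or, Set.mem_iUnion, not_exists] at hcon
    obtain ⟨h1, h2⟩ := hcon
    have h1' : P.1 (φ j) = 1 := by
      by_contra h; exact h1 j h
    have h2' : P.1 (MvPolynomial.aeval φ g) = 1 := by
      by_contra h; exact h2 h
    have h3 : MvPolynomial.aeval φ g = φ j ^ g.totalDegree * MvPolynomial.aeval (fun i => φ i / φ j) g := by
      have h4 : φ = fun i => φ j * (φ i / φ j) := by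
        funext i
        rw [mul_div_cancel₀ _ hj0]
      conv_lhs => rw [h4]
      rw [MvPolynomial.aeval_def, MvPolynomial.aeval_def, MvPolynomial.eval₂_eq', MvPolynomial.eval₂_eq', Finset.mul_sum]
      apply Finset.sum_congr rfl
      intro s hs
      have hdeg : ∑ i, s i = g.totalDegree := by
        have := hg (MvPolynomial.mem_support_iff.mp hs)
        rw [← this, Finsupp.weight_apply, Finsupp.sum_fintype _ _ (by simp)]
        simp
      have h5 : ∏ i, (φ j * (φ i / φ j)) ^ s i = φ j ^ g.totalDegree * ∏ i, (φ i / φ j) ^ s i := by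
        simp_rw [mul_pow]
        rw [Finset.prod_mul_distrib, Finset.prod_pow_eq_pow_sum, hdeg]
      rw [h5]
      ring
    rw [h3, map_mul, map_pow, h1', one_pow, one_mul] at h2'
    rw [h2'] at hlt
    exact lt_irrefl _ hlt
  · intro P
    have hother : ∀ j : Fin (n + 1), ∃ i, i ≠ j := by
      intro j
      have : Nontrivial (Fin (n + 1)) := Fin.nontrivial_iff_two_le.mpr (by omega)
      exact exists_ne j
    choose o ho using hother
    -- for each j the constant of φ (o j) / φ j at P, if any
    have hne : ∀ (j : Fin (n + 1)) (c : k), φ (o j) / φ j - algebraMap k K c ≠ 0 := by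
      intro j c h
      have h1 : φ (o j) = c • φ j := by
        rw [sub_eq_zero, div_eq_iff (hφ0 j)] at h
        rw [Algebra.smul_def]; exact h
      have h2 := (linearIndependent_iff'.mp hφ) {o j, j} (fun i => if i = j then -c else 1) (by
        rw [Finset.sum_pair (ho j), if_pos rfl, if_neg (ho j), one_smul, h1, neg_smul]
        abel) (o j) (by simp)
      rw [if_neg (ho j)] at h2
      exact one_ne_zero h2
    classical
    let c : Fin (n + 1) → k := fun j =>
      if h : ∃ c : k, P.1 (φ (o j) / φ j - algebraMap k K c) < 1 then h.choose else 0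
    have hc : ∀ (j : Fin (n + 1)) (a : k), P.1 (φ (o j) / φ j - algebraMap k K a) < 1 → a = c j := by
      intro j a ha
      have hex : ∃ c : k, P.1 (φ (o j) / φ j - algebraMap k K c) < 1 := ⟨a, ha⟩
      have h1 : P.1 (φ (o j) / φ j - algebraMap k K (c j)) < 1 := by
        have : c j = hex.choose := dif_pos hex
        rw [this]
        exact hex.choose_spec
      have h2 : P.1 (algebraMap k K (a - c j) - algebraMap k K 0) < 1 := by
        have : algebraMap k K (a - c j) - algebraMap k K 0 =
          (φ (o j) / φ j - algebraMap k K (c j)) - (φ (o j) / φ j - algebraMap k K a) := by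
          rw [map_sub, map_zero]; ring
        rw [this]
        exact (Valuation.map_sub _ _ _).trans_lt (max_lt h1 ha)
      by_contra hne'
      have h3 := val_const P (sub_ne_zero.mpr hne')
      rw [map_zero, sub_zero, h3] at h2
      exact lt_irrefl _ h2
    refine (Set.finite_iUnion fun j => finite_ne_one hK _ (hne j (c j))).subset ?_
    rintro Q ⟨j, hj0, hPj, hQj, h⟩
    obtain ⟨a, ha, ha'⟩ := h (o j)
    rw [Set.mem_iUnion]
    refine ⟨j, ?_⟩
    rw [hc j a ha] at ha'
    exact ha'.ne

end Groth.Agent.H17FF
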