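import Groth.Prelude.Def_ArtFun
import Groth.Prelude.Def_ArtFun2
import Groth.Prelude.Def_ArtFun3
import Groth.Prelude.Def_ArtFun5
import Mathlib

set_option autoImplicit false
universe u v

open CategoryTheory

namespace Groth.Agent.H18ArtFun

open ArtFun ArtFun.Art

section General

variable {Λ : Type u} {k : Type u} [CommRing Λ] [Field k] [Algebra Λ k]

theorem toBase_surjective (A : Art Λ k) : Function.Surjective (toBase A) := A.res_surjective

theorem dual_ext {x y : DualNumber k} (h1 : x.fst = y.fst) (h2 : x.snd = y.snd) : x = y :=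
  TrivSqZeroExt.ext h1 h2

/-- smooth morphisms between functors with one-point value on the base field are surjective -/
theorem app_surjective_of_isSmooth {F G : Art Λ k ⥤ Type v} (η : F ⟶ G) (hη : IsSmooth η)
    (hF : H0 F) (hG : H0 G) (A : Art Λ k) : Function.Surjective (η.app A) := by
  intro y
  obtain ⟨x0⟩ := hF.1
  haveI := hG.2
  obtain ⟨z, hz⟩ := hη (toBase A) (toBase_surjective A) ⟨(x0, y), Subsingleton.elim _ _⟩
  exact ⟨z, congrArg (fun t => t.1.2) hz⟩

/-- Build a map into a fibre product. -/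
theorem exists_homSet_fibreProd {B A A' A'' : Art Λ k} {p' : B ⟶ A'} {p'' : B ⟶ A''} {f' : A' ⟶ A}
    {f'' : A'' ⟶ A} (h : IsFibreProd p' p'' f' f'') {R : Type u} [CommRing R] [Algebra Λ R]
    {resR : R →ₐ[Λ] k} (φ' : HomSet R resR A') (φ'' : HomSet R resR A'')
    (hφ : HomSet.map f' φ' = HomSet.map f'' φ'') :
    ∃ φ : HomSet R resR B, HomSet.map p' φ = φ' ∧ HomSet.map p'' φ = φ'' := by
  have hw : ∀ r : R, ∃ b : B, p' b = φ'.1 r ∧ p'' b = φ''.1 r := fun r =>
    h.surj _ _ (by
      have := congrArg (fun t : HomSet R resR A => t.1 r) hφ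
      exact this)
  choose g hg' hg'' using hw
  have key : ∀ (r : R) (b : B), p' b = φ'.1 r → p'' b = φ''.1 r → g r = b := fun r b h1 h2 =>
    h.inj _ _ (by rw [hg', h1]) (by rw [hg'', h2])
  let G : R →ₐ[Λ] B :=
    { toFun := g
      map_one' := key _ _ (by rw [map_one, map_one]) (by rw [map_one, map_one])
      map_mul' := fun x y => key _ _ (by rw [map_mul, map_mul, hg', hg']) (by rw [map_mul, map_mul, hg'', hg''])
      map_zero' := key _ _ (by rw [map_zero, map_zero]) (by rw [map_zero, map_zero])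
      map_add' := fun x y => key _ _ (by rw [map_add, map_add, hg', hg']) (by rw [map_add, map_add, hg'', hg''])
      commutes' := fun r => key _ _ (by rw [AlgHom.commutes, AlgHom.commutes]) (by rw [AlgHom.commutes, AlgHom.commutes]) }
  have hG' : p'.toAlgHom.comp G = φ'.1 := AlgHom.ext hg'
  have hG'' : p''.toAlgHom.comp G = φ''.1 := AlgHom.ext hg''
  refine ⟨⟨G, ?_⟩, Subtype.ext hG', Subtype.ext hG''⟩
  rw [← p'.res_comp, AlgHom.comp_assoc, hG', φ'.2]

/-- The tangent vectors of `h_R` detect the relative cotangent space. -/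
theorem mem_of_forall_dual (hk : Function.Surjective (algebraMap Λ k))
    {R : Type u} [CommRing R] [Algebra Λ R] (res : R →ₐ[Λ] k)
    (x : R) (hx0 : res x = 0)
    (hx : ∀ χ : HomSet R res (Art.dual Λ k), TrivSqZeroExt.snd (show DualNumber k from χ.1 x) = 0) :
    x ∈ (RingHom.ker res) ^ 2 ⊔ (RingHom.ker (algebraMap Λ k)).map (algebraMap Λ R) := by
  classical
  set J : Ideal R := (RingHom.ker res) ^ 2 ⊔ (RingHom.ker (algebraMap Λ k)).map (algebraMap Λ R) with hJ
  by_contra hxJ
  have hJle : J ≤ RingHom.ker res := by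
    refine sup_le (Ideal.pow_le_self (by norm_num)) ?_
    rw [Ideal.map_le_iff_le_comap]
    intro l hl
    rw [Ideal.mem_comap, RingHom.mem_ker, AlgHom.commutes]
    exact hl
  -- k-algebra structure on R/J
  let g : Λ →+* R ⧸ J := (Ideal.Quotient.mk J).comp (algebraMap Λ R)
  have hg : ∀ l ∈ RingHom.ker (algebraMap Λ k), g l = 0 := fun l hl =>
    Ideal.Quotient.eq_zero_iff_mem.2 (Ideal.mem_sup_right (Ideal.mem_map_of_mem _ hl))
  let c : k →+* R ⧸ J := (Ideal.Quotient.lift (RingHom.ker (algebraMap Λ k)) g hg).comp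
    (RingHom.quotientKerEquivOfSurjective hk).symm.toRingHom
  have hc : ∀ l : Λ, c (algebraMap Λ k l) = Ideal.Quotient.mk J (algebraMap Λ R l) := by
    intro l
    have h1 : (RingHom.quotientKerEquivOfSurjective hk).symm (algebraMap Λ k l) =
        Ideal.Quotient.mk _ l := by
      rw [RingEquiv.symm_apply_eq]
      rfl
    change (Ideal.Quotient.lift (RingHom.ker (algebraMap Λ k)) g hg)
      ((RingHom.quotientKerEquivOfSurjective hk).symm (algebraMap Λ k l)) = _
    rw [h1]
    rfl
  letI : Algebra k (R ⧸ J) := c.toAlgebra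
  have hcalg : ∀ a : k, algebraMap k (R ⧸ J) a = c a := fun _ => rfl
  let rQ : R ⧸ J →+* k := Ideal.Quotient.lift J res.toRingHom (fun a ha => hJle ha)
  have hrQ : ∀ a : R, rQ (Ideal.Quotient.mk J a) = res a := fun _ => rfl
  have hrQc : ∀ a : k, rQ (c a) = a := by
    intro a
    obtain ⟨l, rfl⟩ := hk a
    rw [hc, hrQ, AlgHom.commutes]
  have hnot : Ideal.Quotient.mk J x ∉ Submodule.span k ({1} : Set (R ⧸ J)) := by
    intro hmem
    obtain ⟨a, ha⟩ := Submodule.mem_span_singleton.1 hmem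
    rw [Algebra.smul_def, mul_one, hcalg] at ha
    have : a = 0 := by
      rw [← hrQc a, ha, hrQ, hx0]
    rw [this, map_zero] at ha
    exact hxJ (Ideal.Quotient.eq_zero_iff_mem.1 ha.symm)
  obtain ⟨ℓ, hℓx, hℓ1⟩ := Submodule.exists_dual_map_eq_bot_of_notMem hnot inferInstance
  have hℓ1' : ℓ 1 = 0 := by
    have h2 : ℓ 1 ∈ (Submodule.span k ({1} : Set (R ⧸ J))).map ℓ :=
      Submodule.mem_map_of_mem (Submodule.mem_span_singleton_self 1)
    exact (Submodule.mem_bot k).1 (hℓ1 ▸ h2)
  have hℓc : ∀ a : k, ℓ (c a) = 0 := by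
    intro a
    have : c a = a • (1 : R ⧸ J) := by rw [Algebra.smul_def, mul_one]; rfl
    rw [this, map_smul, hℓ1', smul_zero]
  have hsq : ∀ a b : R ⧸ J, rQ a = 0 → rQ b = 0 → a * b = 0 := by
    intro a b ha hb
    obtain ⟨a, rfl⟩ := Ideal.Quotient.mk_surjective a
    obtain ⟨b, rfl⟩ := Ideal.Quotient.mk_surjective b
    rw [← map_mul]
    refine Ideal.Quotient.eq_zero_iff_mem.2 (Ideal.mem_sup_left ?_)
    rw [pow_two]
    exact Ideal.mul_mem_mul ha hb
  have hmul : ∀ a b : R ⧸ J, ℓ (a * b) = rQ a * ℓ b + rQ b * ℓ a := by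
    intro a b
    have h0 := hsq (a - c (rQ a)) (b - c (rQ b)) (by rw [map_sub, hrQc, sub_self])
      (by rw [map_sub, hrQc, sub_self])
    have h1 : a * b = rQ a • b + rQ b • a - c (rQ a * rQ b) := by
      rw [Algebra.smul_def, Algebra.smul_def, hcalg, hcalg, map_mul]
      linear_combination h0
    rw [h1, map_sub, map_add, map_smul, map_smul, hℓc, sub_zero, smul_eq_mul, smul_eq_mul]
  let χ : R →ₐ[Λ] (DualNumber k) :=
    { toFun := fun a => (res a, ℓ (Ideal.Quotient.mk J a))
      map_one' := by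
        refine TrivSqZeroExt.ext ?_ ?_
        · change res 1 = 1; exact map_one _
        · change ℓ (Ideal.Quotient.mk J 1) = 0; rw [map_one]; exact hℓ1'
      map_mul' := fun a b => by
        refine TrivSqZeroExt.ext ?_ ?_
        · change res (a * b) = res a * res b; exact map_mul _ _ _
        · change ℓ (Ideal.Quotient.mk J (a * b)) = res a • ℓ (Ideal.Quotient.mk J b) +
            MulOpposite.op (res b) • ℓ (Ideal.Quotient.mk J a)
          rw [map_mul, hmul, hrQ, hrQ, op_smul_eq_smul, smul_eq_mul, smul_eq_mul]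
      map_zero' := by
        refine TrivSqZeroExt.ext ?_ ?_
        · change res 0 = 0; exact map_zero _
        · change ℓ (Ideal.Quotient.mk J 0) = 0; rw [map_zero, map_zero]
      map_add' := fun a b => by
        refine TrivSqZeroExt.ext ?_ ?_
        · change res (a + b) = res a + res b; exact map_add _ _ _
        · change ℓ (Ideal.Quotient.mk J (a + b)) = ℓ (Ideal.Quotient.mk J a) + ℓ (Ideal.Quotient.mk J b)
          rw [map_add, map_add]
      commutes' := fun l => by
        refine TrivSqZeroExt.ext ?_ ?_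
        · change res (algebraMap Λ R l) = (algebraMap Λ (TrivSqZeroExt k k) l).fst
          rw [TrivSqZeroExt.algebraMap_eq_inl', TrivSqZeroExt.fst_inl, AlgHom.commutes]
        · change ℓ (Ideal.Quotient.mk J (algebraMap Λ R l)) = (algebraMap Λ (TrivSqZeroExt k k) l).snd
          rw [TrivSqZeroExt.algebraMap_eq_inl', TrivSqZeroExt.snd_inl, ← hc, hℓc] }
  have hχ : (Art.dual Λ k).res.comp χ = res := AlgHom.ext fun a => rfl
  exact hℓx (hx ⟨χ, hχ⟩)

/-- An element of `h_R(A)` factors through a truncation of `R`. -/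
theorem exists_factor (R : CRing Λ k) {A : Art Λ k} (φ : HomSet R.carrier R.res A) :
    ∃ (n : ℕ) (g : R.trunc n ⟶ A), HomSet.map g (R.truncHom n) = φ := by
  obtain ⟨n, hn⟩ := (isArtinianRing_iff_isNilpotent_maximalIdeal A.carrier).1 inferInstance
  have hle : IsLocalRing.maximalIdeal R.carrier ≤ (IsLocalRing.maximalIdeal A.carrier).comap φ.1 := by
    intro a ha
    rw [Ideal.mem_comap, mem_maximalIdeal_iff]
    rw [CRing.mem_maximalIdeal_iff] at ha
    exact (AlgHom.congr_fun φ.2 a).trans ha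
  have hker : ∀ a ∈ CRing.mpow R n, φ.1 a = 0 := by
    intro a ha
    have h1 : a ∈ (IsLocalRing.maximalIdeal R.carrier) ^ n := Ideal.pow_le_pow_right (Nat.le_succ n) ha
    have h2 : (IsLocalRing.maximalIdeal R.carrier) ^ n ≤ ((IsLocalRing.maximalIdeal A.carrier) ^ n).comap φ.1 :=
      (Ideal.pow_right_mono hle n).trans (Ideal.le_comap_pow _ n)
    have h3 := h2 h1
    rw [hn] at h3
    exact h3
  refine ⟨n, homMk (Ideal.Quotient.liftₐ (CRing.mpow R n) φ.1 hker) ?_, Subtype.ext (AlgHom.ext fun _ => rfl)⟩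
  apply AlgHom.ext
  intro y
  obtain ⟨a, rfl⟩ := Ideal.Quotient.mk_surjective y
  exact AlgHom.congr_fun φ.2 a

theorem hom_ext_trunc (R : CRing Λ k) {A : Art Λ k} {n : ℕ} (g g' : R.trunc n ⟶ A)
    (h : HomSet.map g (R.truncHom n) = HomSet.map g' (R.truncHom n)) : g = g' := by
  apply hom_ext
  apply AlgHom.ext
  intro y
  obtain ⟨a, rfl⟩ := Ideal.Quotient.mk_surjective y
  exact AlgHom.congr_fun (congrArg Subtype.val h) a

theorem family_ext {R : CRing Λ k} {F : Art Λ k ⥤ Type v} (ξ ξ' : Family R.carrier R.res F)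
    (h : ∀ n, ξ.app _ (R.truncHom n) = ξ'.app _ (R.truncHom n)) : ξ = ξ' := by
  have h1 : ξ.app = ξ'.app := by
    funext A φ
    obtain ⟨n, g, rfl⟩ := exists_factor R φ
    rw [ξ.natural, ξ'.natural, h]
  cases ξ; cases ξ'; congr

theorem exists_limit {P : Type u} [CommRing P] [Algebra Λ P] {resP : P →ₐ[Λ] k} (Q : CRing Λ k)
    (ψ : ∀ n, HomSet P resP (Q.trunc n)) (hψ : ∀ n, HomSet.map (Q.truncMap n) (ψ (n + 1)) = ψ n) :
    ∃ (g : P →ₐ[Λ] Q.carrier) (_ : Q.res.comp g = resP), ∀ n, (Q.truncHom n).1.comp g = (ψ n).1 := by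
  have := Q.isAdicComplete
  have ha : StrictMono (fun n : ℕ => n + 1) := fun a b h => Nat.add_lt_add_right h 1
  let f : (n : ℕ) → P →+* Q.carrier ⧸ (IsLocalRing.maximalIdeal Q.carrier) ^ (n + 1) :=
    fun n => (ψ n).1.toRingHom
  have hf : ∀ {m}, (Ideal.Quotient.factorPow (IsLocalRing.maximalIdeal Q.carrier) (ha.monotone m.le_succ)).comp (f (m + 1)) = f m := by
    intro m
    ext x
    have h1 := congrArg (fun t : HomSet P resP (Q.trunc m) => t.1 x) (hψ m)
    exact h1
  have hmk : ∀ (n : ℕ) (x : P), Ideal.Quotient.mk (IsLocalRing.maximalIdeal Q.carrier ^ (n + 1))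
      (IsAdicComplete.StrictMono.liftRingHom (IsLocalRing.maximalIdeal Q.carrier) ha f hf x) = f n x :=
    fun n x => IsAdicComplete.StrictMono.mk_liftRingHom (IsLocalRing.maximalIdeal Q.carrier) ha f hf x
  let g : P →ₐ[Λ] Q.carrier :=
    { IsAdicComplete.StrictMono.liftRingHom (IsLocalRing.maximalIdeal Q.carrier) ha f hf with
      commutes' := fun l => by
        change IsAdicComplete.StrictMono.liftRingHom (IsLocalRing.maximalIdeal Q.carrier) ha f hf (algebraMap Λ P l) = _
        have hH : IsHausdorff (IsLocalRing.maximalIdeal Q.carrier) Q.carrier := this.toIsHausdorff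
        rw [← sub_eq_zero]
        apply hH.haus
        intro n
        rw [SModEq.zero]
        rcases n with _ | n
        · simp
        · rw [smul_eq_mul, Ideal.mul_top]
          apply Ideal.Quotient.eq.1
          rw [hmk]
          change (ψ n).1 (algebraMap Λ P l) = _
          rw [AlgHom.commutes]
          rfl }
  have hg : ∀ n x, Ideal.Quotient.mk (IsLocalRing.maximalIdeal Q.carrier ^ (n + 1)) (g x) = (ψ n).1 x := hmk
  refine ⟨g, ?_, fun n => AlgHom.ext fun x => hg n x⟩
  apply AlgHom.ext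
  intro x
  have h1 := hg 0 x
  have h2 := AlgHom.congr_fun (ψ 0).2 x
  rw [← h2]
  change _ = (Q.trunc 0).res ((ψ 0).1 x)
  rw [← h1]
  rfl

theorem eq_of_along {R : CRing Λ k} {S : CRing Λ k} {F : Art Λ k ⥤ Type v} (ξ : Family R.carrier R.res F)
    (hξ : IsUniversal ξ) (g₁ g₂ : R.carrier →ₐ[Λ] S.carrier)
    (hg₁ : S.res.comp g₁ = R.res) (hg₂ : S.res.comp g₂ = R.res)
    (h : ∀ n, (ξ.along g₁ hg₁).app _ (S.truncHom n) = (ξ.along g₂ hg₂).app _ (S.truncHom n)) : g₁ = g₂ := by
  apply AlgHom.ext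
  intro x
  have hx : ∀ n : ℕ, g₁ x - g₂ x ∈ ArtFun.CRing.mpow S n := by
    intro n
    have h2 := (hξ _).1 (h n)
    have h3 := congrArg (fun t : ArtFun.HomSet R.carrier R.res (S.trunc n) => t.1 x) h2
    exact Ideal.Quotient.eq.1 h3
  have hH : IsHausdorff (IsLocalRing.maximalIdeal S.carrier) S.carrier := S.isAdicComplete.toIsHausdorff
  have := hH.haus (g₁ x - g₂ x) (fun n => by
    rw [SModEq.zero]
    rcases n with _ | n
    · simp
    · have := hx n
      rw [smul_eq_mul, Ideal.mul_top]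
      exact this)
  exact sub_eq_zero.1 this

/-- A family over a complete ring comes by transport from a universal one. -/
theorem exists_along_eq {F : Art Λ k ⥤ Type v} {P : Type u} [CommRing P] [Algebra Λ P] {resP : P →ₐ[Λ] k}
    (ξ : Family P resP F) (hξ : IsUniversal ξ) (Q : CRing Λ k) (ζ : Family Q.carrier Q.res F) :
    ∃ (g : P →ₐ[Λ] Q.carrier) (hg : Q.res.comp g = resP), ξ.along g hg = ζ := by
  choose ψ hψ using fun n : ℕ => (hξ (Q.trunc n)).2 (ζ.app _ (Q.truncHom n))
  obtain ⟨g, hg, hgn⟩ := exists_limit Q ψ (fun n => by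
    apply (hξ _).1
    rw [ξ.natural, hψ, hψ, ← ζ.natural, CRing.truncMap_truncHom])
  refine ⟨g, hg, family_ext _ _ fun n => ?_⟩
  rw [← hψ]
  change ξ.app _ _ = ξ.app _ _
  congr 1
  exact Subtype.ext (hgn n)

end General

end Groth.Agent.H18ArtFun
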