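import Mathlib

set_option autoImplicit false

namespace Groth.Agent.H19PS
open MvPowerSeries

variable {R : Type*} [CommRing R]

lemma prod_eq (u : Fin 3 → MvPowerSeries (Fin 3) R) (d : Fin 3 →₀ ℕ) :
    (d.prod fun s e => (X s * u s) ^ e) = monomial d (1 : R) * d.prod (fun s e => u s ^ e) := by
  simp only [mul_pow]
  rw [Finsupp.prod_mul, MvPowerSeries.monomial_one_eq]

lemma hasSubst_of (u : Fin 3 → MvPowerSeries (Fin 3) R) : HasSubst (fun s => X s * u s : Fin 3 → MvPowerSeries (Fin 3) R) := by
  apply hasSubst_of_constantCoeff_zero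
  intro s; simp

lemma injective_of (u : Fin 3 → MvPowerSeries (Fin 3) R) (hu : ∀ s, IsUnit (constantCoeff (u s))) :
    Function.Injective (substAlgHom (R := R) (hasSubst_of u)) := by
  rw [injective_iff_map_eq_zero]
  intro f hf
  have key : ∀ n : ℕ, ∀ α : Fin 3 →₀ ℕ, α.degree = n → coeff α f = 0 := by
    intro n
    induction n using Nat.strong_induction_on with
    | _ n ih =>
    intro α hα
    have h1 : coeff α (subst (fun s => X s * u s : Fin 3 → MvPowerSeries (Fin 3) R) f) = 0 := by
      rw [← substAlgHom_apply (hasSubst_of u), hf, map_zero]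
    rw [coeff_subst (hasSubst_of u)] at h1
    rw [finsum_eq_single _ α] at h1
    · rw [prod_eq] at h1
      have h2 : coeff α (monomial α (1 : R) * α.prod (fun s e => u s ^ e)) = constantCoeff (α.prod (fun s e => u s ^ e)) := by
        have := coeff_add_monomial_mul α 0 (α.prod (fun s e => u s ^ e)) (1 : R)
        rw [add_zero] at this
        rw [this, one_mul, coeff_zero_eq_constantCoeff_apply]
      rw [h2] at h1
      have h3 : IsUnit (constantCoeff (α.prod (fun s e => u s ^ e))) := by
        rw [Finsupp.prod, map_prod]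
        exact Finset.prod_induction _ IsUnit (fun _ _ => IsUnit.mul) isUnit_one (fun s _ => by
          rw [map_pow]; exact (hu s).pow _)
      rw [smul_eq_mul] at h1
      exact (h3.mul_left_eq_zero).mp h1
    · intro d hd
      rw [prod_eq, coeff_monomial_mul]
      split_ifs with hle
      · have hlt : d.degree < n := by
          rw [← hα]
          have : α = d + (α - d) := by rw [add_tsub_cancel_of_le hle]
          rw [this, map_add]
          have hne : α - d ≠ 0 := by
            intro h0
            rw [h0, add_zero] at this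
            exact hd this.symm
          have := (Finsupp.degree_eq_zero_iff (α - d)).not.mpr hne
          omega
        rw [ih _ hlt d rfl, zero_smul]
      · rw [smul_zero]
  ext α
  rw [key _ α rfl, map_zero]

noncomputable def tr (s : Fin 3) (z : MvPowerSeries (Fin 3) R) : MvPowerSeries (Fin 3) R := fun m => if m s = 0 then coeff m z else 0

lemma coeff_tr (s : Fin 3) (z : MvPowerSeries (Fin 3) R) (m : Fin 3 →₀ ℕ) : coeff m (tr s z) = if m s = 0 then coeff m z else 0 := rfl

lemma mem_of_constantCoeff (I : Ideal (MvPowerSeries (Fin 3) R)) (hI : ∀ s, X s ∈ I) (z : MvPowerSeries (Fin 3) R)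
    (hz : constantCoeff z = 0) : z ∈ I := by
  have h1 : ∀ s (y : MvPowerSeries (Fin 3) R), y - tr s y ∈ I := by
    intro s y
    have : (X s : MvPowerSeries (Fin 3) R) ∣ y - tr s y := by
      rw [X_dvd_iff]
      intro m hm
      rw [map_sub, coeff_tr, if_pos hm, sub_self]
    exact Ideal.mem_of_dvd I this (hI s)
  have h2 : tr 2 (tr 1 (tr 0 z)) = 0 := by
    ext m
    rw [coeff_tr, coeff_tr, coeff_tr]
    have hc0 : coeff m (0 : MvPowerSeries (Fin 3) R) = 0 := map_zero _
    rw [hc0]
    split_ifs with a b c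
    · have hm : m = 0 := by
        ext s
        fin_cases s
        · exact c
        · exact b
        · exact a
      subst hm
      simpa using hz
    · rfl
    · rfl
    · rfl
  have h3 := add_mem (add_mem (h1 0 z) (h1 1 (tr 0 z))) (h1 2 (tr 1 (tr 0 z)))
  rw [h2] at h3
  simpa using h3

lemma surjective_of (φ : MvPowerSeries (Fin 3) R →ₐ[R] MvPowerSeries (Fin 3) R) (u : Fin 3 → MvPowerSeries (Fin 3) R) (hu : ∀ s, IsUnit (constantCoeff (u s)))
    (hφ : ∀ s, φ (X s) = X s * u s) : Function.Surjective φ := by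
  let I : Ideal (MvPowerSeries (Fin 3) R) := Ideal.span (Set.range X)
  have hmap : I.map (φ : MvPowerSeries (Fin 3) R →+* MvPowerSeries (Fin 3) R) = I := by
    rw [Ideal.map_span]
    apply le_antisymm
    · rw [Ideal.span_le]
      rintro _ ⟨_, ⟨s, rfl⟩, rfl⟩
      show φ (X s) ∈ I
      rw [hφ]
      exact Ideal.mul_mem_right _ _ (Ideal.subset_span ⟨s, rfl⟩)
    · rw [Ideal.span_le]
      rintro _ ⟨s, rfl⟩
      have hus : IsUnit (u s) := by
        rw [MvPowerSeries.isUnit_iff_constantCoeff]; exact hu s
      obtain ⟨v, hv⟩ := hus.exists_right_inv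
      have : (X s : MvPowerSeries (Fin 3) R) = φ (X s) * v := by rw [hφ, mul_assoc, hv, mul_one]
      rw [this]
      exact Ideal.mul_mem_right _ _ (Ideal.subset_span ⟨X s, ⟨s, rfl⟩, rfl⟩)
  haveI : IsAdicComplete I (MvPowerSeries (Fin 3) R) := inferInstance
  haveI : IsHausdorff (I.map (φ : MvPowerSeries (Fin 3) R →+* MvPowerSeries (Fin 3) R)) (MvPowerSeries (Fin 3) R) := by
    rw [hmap]; infer_instance
  have := surjective_of_mk_map_comp_surjective (I := I) (φ : MvPowerSeries (Fin 3) R →+* MvPowerSeries (Fin 3) R) ?_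
  · exact this
  · intro y
    obtain ⟨y, rfl⟩ := Ideal.Quotient.mk_surjective y
    refine ⟨C (constantCoeff y), ?_⟩
    rw [RingHom.comp_apply, Ideal.Quotient.mk_eq_mk_iff_sub_mem]
    rw [hmap]
    have hC : (φ : MvPowerSeries (Fin 3) R →+* MvPowerSeries (Fin 3) R) (C (constantCoeff y)) = C (constantCoeff y) := φ.commutes _
    rw [hC]
    apply mem_of_constantCoeff I (fun s => Ideal.subset_span ⟨s, rfl⟩)
    simp

theorem exists_equiv (u : Fin 3 → MvPowerSeries (Fin 3) R) (hu : ∀ s, IsUnit (constantCoeff (u s))) :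
    ∃ e : MvPowerSeries (Fin 3) R ≃ₐ[R] MvPowerSeries (Fin 3) R, ∀ s, e (X s) = X s * u s := by
  have hX : ∀ s, substAlgHom (R := R) (hasSubst_of u) (X s) = X s * u s := fun s => substAlgHom_X (hasSubst_of u) s
  refine ⟨AlgEquiv.ofBijective (substAlgHom (R := R) (hasSubst_of u)) ⟨injective_of u hu, surjective_of _ u hu hX⟩, fun s => ?_⟩
  exact hX s

/-- cube roots -/
lemma exists_cube_root [CharP R 2] (W : MvPowerSeries (Fin 3) R) (a : R) (ha : IsUnit a) (hW : constantCoeff W = a ^ 3) :
    ∃ u : MvPowerSeries (Fin 3) R, u ^ 3 = W ∧ IsUnit (constantCoeff u) := by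
  have hH := (inferInstance : HenselianRing (MvPowerSeries (Fin 3) R) (Ideal.span (Set.range X)))
  obtain ⟨u, hu, hu2⟩ := hH.is_henselian (Polynomial.X ^ 3 - Polynomial.C W) (Polynomial.monic_X_pow_sub_C _ (by norm_num)) (C a) (by
      simp only [Polynomial.eval_sub, Polynomial.eval_pow, Polynomial.eval_X, Polynomial.eval_C]
      apply mem_of_constantCoeff (Ideal.span (Set.range X)) (fun s => Ideal.subset_span ⟨s, rfl⟩)
      simp [hW]) (by
      have h3 : (3 : MvPowerSeries (Fin 3) R) = 1 := by
        have h2 : (2 : R) = 0 := CharTwo.two_eq_zero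
        have : (3 : MvPowerSeries (Fin 3) R) = C (2 : R) + 1 := by
          rw [map_ofNat]; norm_num
        rw [this, h2, map_zero, zero_add]
      simp only [Polynomial.derivative_sub, Polynomial.derivative_X_pow, Polynomial.derivative_C, sub_zero]
      simp only [Nat.cast_ofNat, map_ofNat, Polynomial.eval_mul, Polynomial.eval_ofNat, Polynomial.eval_pow, Polynomial.eval_X]
      apply IsUnit.map
      rw [h3, one_mul]
      exact (ha.map C).pow _)
  refine ⟨u, ?_, ?_⟩
  · rw [Polynomial.IsRoot.def] at hu
    simp only [Polynomial.eval_sub, Polynomial.eval_pow, Polynomial.eval_X, Polynomial.eval_C] at hu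
    exact sub_eq_zero.mp hu
  · have hle : Ideal.span (Set.range X) ≤ RingHom.ker (constantCoeff (σ := Fin 3) (R := R)) := by
      rw [Ideal.span_le]
      rintro _ ⟨s, rfl⟩
      show constantCoeff (X s) = 0
      simp
    have := hle hu2
    rw [RingHom.mem_ker, map_sub, constantCoeff_C, sub_eq_zero] at this
    rw [this]; exact ha

end Groth.Agent.H19PS
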