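import Mathlib
set_option autoImplicit false
namespace Groth.Agent.H26FinAlg
universe u v
variable (k : Type u) [Field k] [IsAlgClosed k] (A : Type v) [CommRing A] [Algebra k A] [Module.Finite k A]

omit [IsAlgClosed k] in
theorem finite_algHom : Finite (A →ₐ[k] k) := by
  have h := linearIndependent_toLinearMap k A k
  exact h.finite

omit [IsAlgClosed k] in
theorem surj : Function.Surjective (AlgHom.pi (R := k) (fun f : A →ₐ[k] k => f)) := by
  classical
  have := finite_algHom k A
  have := Fintype.ofFinite (A →ₐ[k] k)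
  have key : Function.Surjective (AlgHom.pi (R := k) (fun f : A →ₐ[k] k => f)).toLinearMap := by
    rw [← LinearMap.dualMap_injective_iff, injective_iff_map_eq_zero]
    intro ψ hψ
    have hlin := linearIndependent_toLinearMap k A k
    rw [Fintype.linearIndependent_iff] at hlin
    have h0 := hlin (fun f => ψ (Pi.single f 1)) (by
      ext a
      have h1 : ψ (fun f : A →ₐ[k] k => f a) = 0 := LinearMap.congr_fun hψ a
      have h2 : (fun f : A →ₐ[k] k => f a) = ∑ f : A →ₐ[k] k, (f a) • (Pi.single f (1 : k) : (A →ₐ[k] k) → k) := by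
        ext g
        rw [Finset.sum_apply]
        simp [Pi.single_apply]
      rw [h2, map_sum] at h1
      rw [LinearMap.sum_apply, LinearMap.zero_apply, ← h1]
      apply Finset.sum_congr rfl
      intro f _
      rw [map_smul, LinearMap.smul_apply, smul_eq_mul, smul_eq_mul, mul_comm]
      rfl)
    ext f
    simpa using h0 f
  exact key

theorem exists_algHom_ker (P : Ideal A) [hP : P.IsPrime] : ∃ χ : A →ₐ[k] k, RingHom.ker χ = P := by
  have : IsArtinianRing A := IsArtinianRing.of_finite k A
  have : P.IsMaximal := IsArtinianRing.isMaximal_of_isPrime P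
  let _ : Field (A ⧸ P) := Ideal.Quotient.field P
  have hb : Function.Bijective (algebraMap k (A ⧸ P)) := IsAlgClosed.algebraMap_bijective_of_isIntegral
  let e : k ≃ₐ[k] A ⧸ P := AlgEquiv.ofBijective (Algebra.ofId k (A ⧸ P)) hb
  refine ⟨e.symm.toAlgHom.comp (Ideal.Quotient.mkₐ k P), ?_⟩
  ext a
  rw [RingHom.mem_ker]
  change e.symm (Ideal.Quotient.mk P a) = 0 ↔ _
  rw [EmbeddingLike.map_eq_zero_iff, Ideal.Quotient.eq_zero_iff_mem]

theorem ker : RingHom.ker (AlgHom.pi (R := k) (fun f : A →ₐ[k] k => f)) = nilradical A := by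
  apply le_antisymm
  · intro a ha
    rw [nilradical_eq_sInf, Submodule.mem_sInf]
    intro P hP
    have : Ideal.IsPrime P := hP
    obtain ⟨χ, hχ⟩ := exists_algHom_ker k A P
    rw [← hχ, RingHom.mem_ker]
    exact congrFun ha χ
  · intro a ha
    rw [mem_nilradical] at ha
    rw [RingHom.mem_ker]
    ext f
    exact (ha.map f).eq_zero

theorem etale : Algebra.FormallyEtale k (A ⧸ nilradical A) := by
  have := finite_algHom k A
  have e : (A ⧸ nilradical A) ≃ₐ[k] ((A →ₐ[k] k) → k) :=
    (Ideal.quotientEquivAlgOfEq k (ker k A).symm).trans (Ideal.quotientKerAlgEquivOfSurjective (surj k A))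
  have : Algebra.FormallyEtale k ((A →ₐ[k] k) → k) := (Algebra.FormallyEtale.pi_iff _).mpr (fun _ => inferInstance)
  exact Algebra.FormallyEtale.of_equiv e.symm

theorem etale_of_reduced [IsReduced A] : Algebra.FormallyEtale k A := by
  have := etale k A
  have e : (A ⧸ nilradical A) ≃ₐ[k] A :=
    (Ideal.quotientEquivAlgOfEq k (nilradical_eq_zero A)).trans (AlgEquiv.quotientBot k A)
  exact Algebra.FormallyEtale.of_equiv e

theorem nil (k : Type u) [Field k] (A : Type v) [CommRing A] [Algebra k A] [Module.Finite k A] : IsNilpotent (nilradical A) := by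
  have : IsArtinianRing A := IsArtinianRing.of_finite k A
  exact IsArtinianRing.isNilpotent_nilradical

theorem exists_unique_section : ∃! s : (A ⧸ nilradical A) →ₐ[k] A,
      (Ideal.Quotient.mkₐ k (nilradical A)).comp s = AlgHom.id k (A ⧸ nilradical A) := by
  have := etale k A
  obtain ⟨s, hs⟩ := Algebra.FormallySmooth.exists_lift (nilradical A) (nil k A) (AlgHom.id k (A ⧸ nilradical A))
  refine ⟨s, hs, fun s' hs' => ?_⟩
  refine Algebra.FormallyUnramified.ext (nilradical A) (nil k A) fun x => ?_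
  have h1 := AlgHom.congr_fun hs x
  have h2 := AlgHom.congr_fun hs' x
  exact h2.trans h1.symm

theorem exists_greatest :
    ∃ B : Subalgebra k A, IsReduced ↥B ∧ (∀ C : Subalgebra k A, IsReduced ↥C → C ≤ B) ∧
      Function.Bijective ((Ideal.Quotient.mkₐ k (nilradical A)).comp B.val) := by
  obtain ⟨s, hs, -⟩ := exists_unique_section k A
  have hs' : ∀ x, Ideal.Quotient.mk (nilradical A) (s x) = x := fun x => AlgHom.congr_fun hs x
  have hred : IsReduced (A ⧸ nilradical A) := (Ideal.isRadical_iff_quotient_reduced _).mp (Ideal.radical_isRadical _)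
  refine ⟨s.range, ?_, ?_, ?_, ?_⟩
  · refine ⟨fun x hx => ?_⟩
    obtain ⟨_, ⟨y, rfl⟩⟩ := x
    have h1 : IsNilpotent (s y) := by
      obtain ⟨n, hn⟩ := hx
      exact ⟨n, congrArg Subtype.val hn⟩
    have h2 : IsNilpotent y := by
      rw [← hs' y]
      exact h1.map _
    have h3 : y = 0 := h2.eq_zero
    apply Subtype.ext
    change s y = 0
    rw [h3, map_zero]
  · intro C hC
    have := etale_of_reduced k C
    have h : C.val = (s.comp (Ideal.Quotient.mkₐ k (nilradical A))).comp C.val := by
      refine Algebra.FormallyUnramified.ext (nilradical A) (nil k A) fun x => ?_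
      exact (hs' _).symm
    intro x hx
    have h1 := AlgHom.congr_fun h ⟨x, hx⟩
    exact ⟨_, h1.symm⟩
  · rintro ⟨_, ⟨x, rfl⟩⟩ ⟨_, ⟨y, rfl⟩⟩ hxy
    have h1 : x = y := by
      rw [← hs' x, ← hs' y]; exact hxy
    rw [Subtype.mk.injEq]
    change s x = s y
    rw [h1]
  · intro x
    exact ⟨⟨s x, ⟨x, rfl⟩⟩, hs' x⟩

theorem frob_surj (p : ℕ) [Fact p.Prime] [CharP k p] [IsReduced A] (n : ℕ) :
    Function.Surjective (fun a : A => a ^ p ^ n) := by
  intro a
  have hpn : 0 < p ^ n := pow_pos (Fact.out : p.Prime).pos n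
  have hroot : ∀ f : A →ₐ[k] k, ∃ z : k, z ^ (p ^ n) = f a := fun f => IsAlgClosed.exists_pow_nat_eq (f a) hpn
  choose z hz using hroot
  obtain ⟨b, hb⟩ := surj k A z
  refine ⟨b, ?_⟩
  have hmem : b ^ p ^ n - a ∈ RingHom.ker (AlgHom.pi (R := k) (fun f : A →ₐ[k] k => f)) := by
    rw [RingHom.mem_ker, map_sub, map_pow, hb, sub_eq_zero]
    ext f
    exact hz f
  rw [ker, nilradical_eq_zero, Ideal.zero_eq_bot, Ideal.mem_bot, sub_eq_zero] at hmem
  exact hmem

end Groth.Agent.H26FinAlg
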