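import Mathlib
import Groth.Prelude.Def_W4c5qllcourbesmultMultCrv

set_option autoImplicit false
universe u v
open Polynomial

namespace Groth.Agent.H26MultCrv

open MultCrv

section basic
variable (R : Type u) [CommRing R] (n : ℕ)

lemma z_pow_n : z R n ^ n = 0 := by
  rw [← map_pow]
  exact Ideal.Quotient.eq_zero_iff_mem.mpr (Ideal.mem_span_singleton_self _)

lemma z_pow_of_le {k : ℕ} (hk : n ≤ k) : z R n ^ k = 0 := by
  obtain ⟨c, rfl⟩ := Nat.exists_eq_add_of_le hk
  rw [pow_add, z_pow_n, zero_mul]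

/-- the coefficient of `z^(n-1)` -/
noncomputable def lam (hn : 1 ≤ n) : Rn R n →ₗ[R] R :=
  (((Ideal.span {(X : R[X]) ^ n}).restrictScalars R).liftQ (Polynomial.lcoeff R (n - 1)) (by
    intro p hp
    have hp' : (X : R[X]) ^ n ∣ p := Ideal.mem_span_singleton.mp hp
    rw [LinearMap.mem_ker]
    exact Polynomial.X_pow_dvd_iff.mp hp' (n - 1) (by omega))) ∘ₗ
  ((Submodule.Quotient.restrictScalarsEquiv R (Ideal.span {(X : R[X]) ^ n})).symm.toLinearMap)

lemma lam_mk (hn : 1 ≤ n) (p : R[X]) :
    lam R n hn (Ideal.Quotient.mk _ p) = p.coeff (n - 1) := rfl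

lemma lam_z_pow_mul_mk (hn : 1 ≤ n) (i : ℕ) (hi : i < n) (p : R[X]) :
    lam R n hn (z R n ^ (n - 1 - i) * Ideal.Quotient.mk _ p) = p.coeff i := by
  rw [← map_pow, ← map_mul, lam_mk, Polynomial.coeff_X_pow_mul', if_pos (by omega)]
  congr 1
  omega

lemma smul_def' (r : R) (a : Rn R n) : r • a = Ideal.Quotient.mk (Ideal.span {(X : R[X]) ^ n}) (C r) * a := by
  obtain ⟨q, rfl⟩ := Ideal.Quotient.mk_surjective a
  change Ideal.Quotient.mk (Ideal.span {(X : R[X]) ^ n}) (r • q) = _
  rw [Polynomial.smul_eq_C_mul, map_mul]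

lemma mk_eq_sum (p : R[X]) :
    (Ideal.Quotient.mk (Ideal.span {(X : R[X]) ^ n}) p : Rn R n) =
      ∑ i ∈ Finset.range n, p.coeff i • z R n ^ i := by
  have h1 : (∑ i ∈ Finset.range n, p.coeff i • z R n ^ i : Rn R n) =
      Ideal.Quotient.mk (Ideal.span {(X : R[X]) ^ n}) (∑ i ∈ Finset.range n, C (p.coeff i) * X ^ i) := by
    rw [map_sum]
    refine Finset.sum_congr rfl (fun i _ => ?_)
    rw [map_mul, map_pow, smul_def']
  rw [h1, Ideal.Quotient.eq, Ideal.mem_span_singleton, Polynomial.X_pow_dvd_iff]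
  intro d hd
  rw [Polynomial.coeff_sub, Polynomial.finsetSum_coeff]
  simp only [Polynomial.coeff_C_mul, Polynomial.coeff_X_pow]
  rw [Finset.sum_eq_single d]
  · simp
  · intro b _ hb
    rw [if_neg (Ne.symm hb), mul_zero]
  · intro h
    exact absurd (Finset.mem_range.mpr hd) h

lemma eq_sum_lam (hn : 1 ≤ n) (a : Rn R n) :
    a = ∑ i ∈ Finset.range n, lam R n hn (z R n ^ (n - 1 - i) * a) • z R n ^ i := by
  obtain ⟨p, rfl⟩ := Ideal.Quotient.mk_surjective a
  conv_lhs => rw [mk_eq_sum]
  refine Finset.sum_congr rfl (fun i hi => ?_)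
  rw [lam_z_pow_mul_mk R n hn i (Finset.mem_range.mp hi)]

lemma lam_z_pow (hn : 1 ≤ n) (i : ℕ) : lam R n hn (z R n ^ i) = if i = n - 1 then 1 else 0 := by
  rw [← map_pow, lam_mk, Polynomial.coeff_X_pow]
  simp [eq_comm]

instance finite_Rn : Module.Finite R (Rn R n) := (Polynomial.monic_X_pow n).finite_quotient

end basic

section mod
variable {R : Type u} [CommRing R] {n : ℕ} {M : Type v} [AddCommGroup M] [Module (Rn R n) M]
  [Module R M] [IsScalarTower R (Rn R n) M]

lemma mk_smul (p : R[X]) (m : M) :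
    (Ideal.Quotient.mk (Ideal.span {(X : R[X]) ^ n}) p : Rn R n) • m =
      ∑ i ∈ Finset.range n, p.coeff i • (z R n ^ i • m) := by
  rw [mk_eq_sum, Finset.sum_smul]
  refine Finset.sum_congr rfl (fun i _ => ?_)
  rw [smul_assoc]

/-- linear if commutes with `R` and `z` -/
lemma map_smul_of {N : Type*} [AddCommGroup N] [Module (Rn R n) N]
    [Module R N] [IsScalarTower R (Rn R n) N] (f : M →ₗ[R] N)
    (hz : ∀ m, f (z R n • m) = z R n • f m) (a : Rn R n) (m : M) : f (a • m) = a • f m := by
  obtain ⟨p, rfl⟩ := Ideal.Quotient.mk_surjective a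
  have hz' : ∀ (i : ℕ) m, f (z R n ^ i • m) = z R n ^ i • f m := by
    intro i
    induction i with
    | zero => intro m; simp
    | succ i ih => intro m; rw [pow_succ', mul_smul, hz, ih, mul_smul]
  rw [mk_smul, mk_smul, map_sum]
  refine Finset.sum_congr rfl (fun i _ => ?_)
  rw [map_smul, hz']

/-- the `A`-linear form associated with an `R`-linear form -/
noncomputable def form (hn : 1 ≤ n) (g : M →ₗ[R] R) : M →ₗ[Rn R n] Rn R n :=
  let f : M →ₗ[R] Rn R n :=
    { toFun := fun m => ∑ i ∈ Finset.range n, g (z R n ^ (n - 1 - i) • m) • z R n ^ i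
      map_add' := fun x y => by
        simp only [smul_add, map_add, add_smul, Finset.sum_add_distrib]
      map_smul' := fun r x => by
        rw [RingHom.id_apply, Finset.smul_sum]
        refine Finset.sum_congr rfl (fun i _ => ?_)
        have : z R n ^ (n - 1 - i) • r • x = r • (z R n ^ (n - 1 - i) • x) := by
          rw [smul_comm]
        rw [this, map_smul, smul_assoc] }
  { toFun := f
    map_add' := f.map_add
    map_smul' := map_smul_of f (fun m => by
      obtain ⟨k, rfl⟩ : ∃ k, n = k + 1 := ⟨n - 1, by omega⟩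
      change (∑ i ∈ Finset.range (k + 1), g (z R (k + 1) ^ (k + 1 - 1 - i) • z R (k + 1) • m) • z R (k + 1) ^ i) =
        z R (k + 1) • (∑ i ∈ Finset.range (k + 1), g (z R (k + 1) ^ (k + 1 - 1 - i) • m) • z R (k + 1) ^ i)
      rw [Finset.sum_range_succ' , Finset.smul_sum, Finset.sum_range_succ]
      congr 1
      · refine Finset.sum_congr rfl (fun i hi => ?_)
        have hi' := Finset.mem_range.mp hi
        have e1 : z R (k + 1) ^ (k + 1 - 1 - (i + 1)) • z R (k + 1) • m = z R (k + 1) ^ (k + 1 - 1 - i) • m := by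
          rw [← mul_smul, ← pow_succ]
          congr 2
          omega
        rw [e1, smul_comm, pow_succ' (z R (k + 1)) i, smul_eq_mul]
      · have e1 : z R (k + 1) ^ (k + 1 - 1 - 0) • z R (k + 1) • m = 0 := by
          rw [← mul_smul, ← pow_succ]
          have : k + 1 - 1 - 0 + 1 = k + 1 := by omega
          rw [this, z_pow_n]
          exact zero_smul (Rn R (k + 1)) m
        have e2 : z R (k + 1) • (g (z R (k + 1) ^ (k + 1 - 1 - k) • m) • z R (k + 1) ^ k) = 0 := by
          rw [smul_comm, smul_eq_mul, ← pow_succ', z_pow_n, smul_zero]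
        rw [e1, e2, map_zero, zero_smul]) }

lemma form_apply (hn : 1 ≤ n) (g : M →ₗ[R] R) (m : M) :
    form hn g m = ∑ i ∈ Finset.range n, g (z R n ^ (n - 1 - i) • m) • z R n ^ i := rfl

lemma lam_form (hn : 1 ≤ n) (g : M →ₗ[R] R) (m : M) : lam R n hn (form hn g m) = g m := by
  rw [form_apply, map_sum]
  rw [Finset.sum_eq_single (n - 1)]
  · rw [map_smul, lam_z_pow, if_pos rfl]
    simp
  · intro i _ hi
    rw [map_smul, lam_z_pow, if_neg hi, smul_zero]
  · intro h
    exact absurd (Finset.mem_range.mpr (by omega)) h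

lemma eq_of_lam (hn : 1 ≤ n) (a b : Rn R n)
    (h : ∀ i, lam R n hn (z R n ^ i * a) = lam R n hn (z R n ^ i * b)) : a = b := by
  rw [eq_sum_lam R n hn a, eq_sum_lam R n hn b]
  exact Finset.sum_congr rfl (fun i _ => by rw [h])

lemma form_ext (hn : 1 ≤ n) (f g : M →ₗ[Rn R n] Rn R n)
    (h : ∀ m, lam R n hn (f m) = lam R n hn (g m)) : f = g := by
  ext m
  apply eq_of_lam hn
  intro i
  rw [← smul_eq_mul, ← smul_eq_mul, ← map_smul, ← map_smul, h]

lemma smul_mem_torsionBy {i : ℕ} {m : M} : m ∈ filt2 R n M i ↔ z R n ^ i • m = 0 := Iff.rfl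

end mod

section dvr
variable {R : Type u} [CommRing R] [IsDomain R] [IsPrincipalIdealRing R] {n : ℕ} {M : Type v} [AddCommGroup M]
  [Module (Rn R n) M] [Module R M] [IsScalarTower R (Rn R n) M] [Module.Finite (Rn R n) M]

include n in
lemma finite_R : Module.Finite R M := Module.Finite.trans (Rn R n) M

instance torsionFree_Rn : Module.IsTorsionFree R (Rn R n) := by
  have : Module.Free R (Rn R n) := (Polynomial.monic_X_pow n).free_quotient
  infer_instance

/-- extension of forms -/
lemma extend_form (hn : 1 ≤ n) {K F Q : Type*} [AddCommGroup K] [Module (Rn R n) K]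
    [Module R K] [IsScalarTower R (Rn R n) K]
    [AddCommGroup F] [Module (Rn R n) F] [Module R F] [IsScalarTower R (Rn R n) F]
    [AddCommGroup Q] [Module (Rn R n) Q] [Module R Q] [IsScalarTower R (Rn R n) Q] [Module.Finite (Rn R n) Q]
    [Module.IsTorsionFree R Q]
    (f : K →ₗ[Rn R n] F) (g : F →ₗ[Rn R n] Q) (hf : Function.Injective f) (hg : Function.Surjective g)
    (hfg : LinearMap.range f = LinearMap.ker g) (φ : K →ₗ[Rn R n] Rn R n) :
    ∃ ψ : F →ₗ[Rn R n] Rn R n, ψ ∘ₗ f = φ := by
  have : Module.Finite R Q := finite_R (n := n)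
  have : Module.Free R Q := inferInstance
  obtain ⟨s, hs⟩ := Module.projective_lifting_property (g.restrictScalars R) (LinearMap.id : Q →ₗ[R] Q) hg
  have hs' : ∀ q, g (s q) = q := fun q => LinearMap.congr_fun hs q
  -- retraction
  have hr : ∀ x : F, ∃ k : K, f k = x - s (g x) := by
    intro x
    have : x - s (g x) ∈ LinearMap.ker g := by
      rw [LinearMap.mem_ker, map_sub, hs', sub_self]
    rw [← hfg] at this
    exact this
  choose r hr using hr
  let ρ : F →ₗ[R] K :=
    { toFun := r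
      map_add' := fun x y => hf (by rw [map_add, hr, hr, hr, map_add, map_add]; abel)
      map_smul' := fun c x => hf (by
        have h1 : f (c • r x) = c • f (r x) := (f.restrictScalars R).map_smul c (r x)
        have h2 : g (c • x) = c • g x := (g.restrictScalars R).map_smul c x
        rw [RingHom.id_apply, h1, hr, hr, h2, map_smul, smul_sub]) }
  have hρ : ∀ k, ρ (f k) = k := by
    intro k
    apply hf
    change f (r (f k)) = f k
    rw [hr]
    have : g (f k) = 0 := by
      have : f k ∈ LinearMap.ker g := by rw [← hfg]; exact ⟨k, rfl⟩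
      exact this
    rw [this, map_zero, sub_zero]
  refine ⟨form hn ((lam R n hn) ∘ₗ (φ.restrictScalars R) ∘ₗ ρ), ?_⟩
  apply form_ext hn
  intro k
  rw [LinearMap.comp_apply, lam_form]
  simp [hρ]

end dvr

end Groth.Agent.H26MultCrv
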