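import Mathlib
import Groth.Prelude.Def_W4c5qllcourbesmultMultCrv
import Groth.Agent.Lib.Helper26_MultCrv

set_option autoImplicit false
universe u v
open Polynomial CategoryTheory

namespace Groth.Agent.H26MultCrv

open MultCrv

section
variable {R : Type u} [CommRing R] [IsDomain R] [IsPrincipalIdealRing R] {n : ℕ} {M : Type v} [AddCommGroup M]
  [Module (Rn R n) M] [Module R M] [IsScalarTower R (Rn R n) M]

lemma torsionFree_of_filt2 (h : ∀ (r : R) (u : M), r ≠ 0 → z R n • u = 0 → r • u = 0 → u = 0) :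
    Module.IsTorsionFree R M := by
  rw [Module.isTorsionFree_iff_smul_eq_zero]
  intro r m hrm
  by_contra hcon
  push Not at hcon
  obtain ⟨hr, hm⟩ := hcon
  classical
  have hex : ∃ j, z R n ^ j • m = 0 := ⟨n, by rw [z_pow_n]; exact zero_smul (Rn R n) m⟩
  have h0 : Nat.find hex ≠ 0 := by
    intro h0
    have := Nat.find_spec hex
    rw [h0] at this
    exact hm (by simpa using this)
  obtain ⟨j, hj⟩ := Nat.exists_eq_succ_of_ne_zero h0
  have h1 : z R n ^ j • m ≠ 0 := Nat.find_min hex (by omega)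
  apply h1
  apply h r _ hr
  · rw [← mul_smul, ← pow_succ']
    have := Nat.find_spec hex
    rw [hj] at this
    exact this
  · rw [smul_comm, hrm, smul_zero]

omit [IsPrincipalIdealRing R] in
lemma torsionFree_of_injective {Q P : Type*} [AddCommGroup Q] [Module R Q] [AddCommGroup P] [Module R P]
    [Module.IsTorsionFree R P] (f : Q →ₗ[R] P) (hf : Function.Injective f) : Module.IsTorsionFree R Q := by
  rw [Module.isTorsionFree_iff_smul_eq_zero]
  intro r q h
  by_cases hr : r = 0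
  · left; exact hr
  · right
    apply hf
    rw [map_zero]
    have h1 : r • f q = 0 := by rw [← map_smul, h, map_zero]
    rcases (Module.isTorsionFree_iff_smul_eq_zero.mp ‹_›) r (f q) h1 with h2 | h2
    · exact absurd h2 hr
    · exact h2

lemma free_of_injective {Q P : Type*} [AddCommGroup Q] [Module R Q] [AddCommGroup P] [Module R P]
    [Module.Finite R P] [Module.IsTorsionFree R P] (f : Q →ₗ[R] P) (hf : Function.Injective f) :
    Module.Free R Q := by
  have := torsionFree_of_injective f hf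
  have : Module.Finite R Q := Module.Finite.of_injective f hf
  infer_instance

end

section gen
universe w' v' u'
variable {𝒞 : Type u'} [Category.{v'} 𝒞] [Abelian 𝒞] [HasExt.{w'} 𝒞] {S : ShortComplex 𝒞}
  (hS : S.ShortExact)
include hS

lemma shift_surj [Projective S.X₂] (Y : 𝒞) (i : ℕ) (x : Abelian.Ext S.X₃ Y (i + 1)) :
    ∃ x₁ : Abelian.Ext S.X₁ Y i, hS.extClass.comp x₁ (add_comm 1 i) = x :=
  Abelian.Ext.contravariant_sequence_exact₃ hS Y x (Abelian.Ext.eq_zero_of_projective _) _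

lemma ext_one_zero_of_extend [Projective S.X₂] (Y : 𝒞)
    (h : ∀ φ : S.X₁ ⟶ Y, ∃ ψ : S.X₂ ⟶ Y, S.f ≫ ψ = φ) (x : Abelian.Ext S.X₃ Y 1) : x = 0 := by
  obtain ⟨x₁, hx₁⟩ := shift_surj hS Y 0 x
  obtain ⟨φ, rfl⟩ := (Abelian.Ext.mk₀_bijective _ _).2 x₁
  obtain ⟨ψ, rfl⟩ := h φ
  rw [← hx₁, ← Abelian.Ext.mk₀_comp_mk₀]
  rw [← Abelian.Ext.comp_assoc hS.extClass (Abelian.Ext.mk₀ S.f) (Abelian.Ext.mk₀ ψ) (add_zero 1) (zero_add 0) (by rfl)]
  rw [hS.extClass_comp]
  simp

lemma extend_of_ext_one_zero (Y : 𝒞) (h : ∀ x : Abelian.Ext S.X₃ Y 1, x = 0) (φ : S.X₁ ⟶ Y) :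
    ∃ ψ : S.X₂ ⟶ Y, S.f ≫ ψ = φ := by
  obtain ⟨x₂, hx₂⟩ := Abelian.Ext.contravariant_sequence_exact₁ hS Y (Abelian.Ext.mk₀ φ) (add_zero 1) (h _)
  obtain ⟨ψ, rfl⟩ := (Abelian.Ext.mk₀_bijective _ _).2 x₂
  refine ⟨ψ, ?_⟩
  rw [Abelian.Ext.mk₀_comp_mk₀] at hx₂
  exact (Abelian.Ext.mk₀_bijective _ _).1 hx₂

lemma shift_zero [Projective S.X₂] (Y : 𝒞) (i : ℕ) (h : ∀ x₁ : Abelian.Ext S.X₁ Y i, x₁ = 0)
    (x : Abelian.Ext S.X₃ Y (i + 1)) : x = 0 := by
  obtain ⟨x₁, rfl⟩ := shift_surj hS Y i x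
  rw [h x₁]
  simp

lemma shift_smul [Projective S.X₂] {A : Type*} [CommRing A] [Linear A 𝒞] (a : A) (Y : 𝒞) (i : ℕ)
    (h : ∀ x₁ : Abelian.Ext S.X₁ Y i, a • x₁ = 0)
    (x : Abelian.Ext S.X₃ Y (i + 1)) : a • x = 0 := by
  obtain ⟨x₁, rfl⟩ := shift_surj hS Y i x
  rw [← Abelian.Ext.comp_smul, h x₁]
  simp

omit hS in
lemma smul_ext_eq_zero {A : Type*} [CommRing A] [Linear A 𝒞] {X Y P : 𝒞} [Projective P] (a : A) (α : X ⟶ P) (β : P ⟶ X)
    (h : α ≫ β = a • 𝟙 X) (i : ℕ) (x : Abelian.Ext X Y (i + 1)) : a • x = 0 := by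
  have h1 : a • x = (Abelian.Ext.mk₀ (a • 𝟙 X)).comp x (zero_add _) := by
    rw [Abelian.Ext.mk₀_smul, Abelian.Ext.smul_comp, Abelian.Ext.mk₀_id_comp]
  rw [h1, ← h, ← Abelian.Ext.mk₀_comp_mk₀_assoc,
    Abelian.Ext.eq_zero_of_projective ((Abelian.Ext.mk₀ β).comp x (zero_add _))]
  simp

end gen

section ext
variable {R : Type u} [CommRing R] [IsDomain R] [IsPrincipalIdealRing R] {n : ℕ}

/-- a presentation: the kernel of a surjection from a finite free module. -/
noncomputable def presS {M : Type u} [AddCommGroup M] [Module (Rn R n) M] {r : ℕ}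
    (g : (Fin r → Rn R n) →ₗ[Rn R n] M) :
    ShortComplex (ModuleCat.{u} (Rn R n)) :=
  ShortComplex.mk (X₁ := ModuleCat.of (Rn R n) (LinearMap.ker g))
    (X₂ := ModuleCat.of (Rn R n) (Fin r → Rn R n)) (X₃ := ModuleCat.of (Rn R n) M)
    (ModuleCat.ofHom (LinearMap.ker g).subtype) (ModuleCat.ofHom g) (by
      ext x
      exact x.2)

omit [IsDomain R] [IsPrincipalIdealRing R] in
lemma presS_exact {M : Type u} [AddCommGroup M] [Module (Rn R n) M] {r : ℕ}
    (g : (Fin r → Rn R n) →ₗ[Rn R n] M) (hg : Function.Surjective g) : (presS g).ShortExact where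
  exact := by
    rw [ShortComplex.moduleCat_exact_iff]
    intro x hx
    exact ⟨⟨x, hx⟩, rfl⟩
  mono_f := by
    rw [ModuleCat.mono_iff_injective]
    exact Subtype.val_injective
  epi_g := by
    rw [ModuleCat.epi_iff_surjective]
    exact hg

instance projective_free (r : ℕ) : Projective (ModuleCat.of (Rn R n) (Fin r → Rn R n)) := by
  have : Module.Projective (Rn R n) (ModuleCat.of (Rn R n) (Fin r → Rn R n)) :=
    inferInstanceAs (Module.Projective (Rn R n) (Fin r → Rn R n))
  exact ModuleCat.projective_of_categoryTheory_projective _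

instance projective_X₂ {M : Type u} [AddCommGroup M] [Module (Rn R n) M] {r : ℕ}
    (g : (Fin r → Rn R n) →ₗ[Rn R n] M) : Projective (presS g).X₂ := projective_free r

instance finite_ker {M : Type u} [AddCommGroup M] [Module (Rn R n) M] {r : ℕ}
    (g : (Fin r → Rn R n) →ₗ[Rn R n] M) : Module.Finite (Rn R n) (LinearMap.ker g) := by
  have : IsNoetherianRing (Rn R n) := inferInstance
  infer_instance

instance torsionFree_ker {M : Type u} [AddCommGroup M] [Module (Rn R n) M] {r : ℕ}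
    (g : (Fin r → Rn R n) →ₗ[Rn R n] M) : Module.IsTorsionFree R (LinearMap.ker g) := by
  have : Module.IsTorsionFree R (Fin r → Rn R n) := inferInstance
  exact torsionFree_of_injective ((LinearMap.ker g).subtype.restrictScalars R) Subtype.val_injective

/-- torsion free modules have no Ext into A -/
lemma ext_one_eq_zero (hn : 1 ≤ n) (M : Type u) [AddCommGroup M] [Module (Rn R n) M] [Module R M]
    [IsScalarTower R (Rn R n) M] [Module.Finite (Rn R n) M] [Module.IsTorsionFree R M]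
    (x : Abelian.Ext (ModuleCat.of (Rn R n) M) (ModuleCat.of (Rn R n) (Rn R n)) 1) : x = 0 := by
  obtain ⟨r, g, hg⟩ := Module.Finite.exists_fin' (Rn R n) M
  refine ext_one_zero_of_extend (presS_exact g hg) _ (fun φ => ?_) x
  obtain ⟨ψ, hψ⟩ := extend_form hn (K := LinearMap.ker g) (F := Fin r → Rn R n) (Q := M)
    (LinearMap.ker g).subtype g Subtype.val_injective hg (by simp) φ.hom
  refine ⟨ModuleCat.ofHom ψ, ?_⟩
  ext k
  exact LinearMap.congr_fun hψ k

lemma ext_succ_eq_zero (hn : 1 ≤ n) (i : ℕ) : ∀ (M : Type u) [AddCommGroup M] [Module (Rn R n) M] [Module R M]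
    [IsScalarTower R (Rn R n) M] [Module.Finite (Rn R n) M] [Module.IsTorsionFree R M]
    (x : Abelian.Ext (ModuleCat.of (Rn R n) M) (ModuleCat.of (Rn R n) (Rn R n)) (i + 1)), x = 0 := by
  induction i with
  | zero =>
    intro M _ _ _ _ _ _ x
    exact ext_one_eq_zero hn M x
  | succ i ih =>
    intro M _ _ _ _ _ _ x
    obtain ⟨r, g, hg⟩ := Module.Finite.exists_fin' (Rn R n) M
    exact shift_zero (presS_exact g hg) _ (i + 1) (fun x₁ => ih (LinearMap.ker g) x₁) x

lemma ext_two_eq_zero (hn : 1 ≤ n) (i : ℕ) (M : Type u) [AddCommGroup M] [Module (Rn R n) M]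
    [Module.Finite (Rn R n) M]
    (x : Abelian.Ext (ModuleCat.of (Rn R n) M) (ModuleCat.of (Rn R n) (Rn R n)) (i + 1 + 1)) : x = 0 := by
  obtain ⟨r, g, hg⟩ := Module.Finite.exists_fin' (Rn R n) M
  exact shift_zero (presS_exact g hg) _ (i + 1) (fun x₁ => ext_succ_eq_zero hn i (LinearMap.ker g) x₁) x

/-- multiplication by `z^(n-1)` factors through a free module -/
lemma factor_z (hn : 1 ≤ n) (M : Type u) [AddCommGroup M] [Module (Rn R n) M] [Module R M]
    [IsScalarTower R (Rn R n) M] [Module.Finite (Rn R n) M] [Module.IsTorsionFree R M] :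
    ∃ (s : ℕ) (α : M →ₗ[Rn R n] (Fin s → Rn R n)) (β : (Fin s → Rn R n) →ₗ[Rn R n] M),
      ∀ m, β (α m) = z R n ^ (n - 1) • m := by
  have : Module.Finite R M := finite_R (n := n)
  -- the image of z^(n-1)
  let L : M →ₗ[R] M := ((z R n ^ (n - 1)) • (LinearMap.id : M →ₗ[Rn R n] M)).restrictScalars R
  have hL : ∀ m, L m = z R n ^ (n - 1) • m := fun m => rfl
  have hfree : Module.Free R (LinearMap.range L) := free_of_injective (LinearMap.range L).subtype Subtype.val_injective
  have hfin : Module.Finite R (LinearMap.range L) := inferInstance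
  let b := Module.finBasis R (LinearMap.range L)
  let s := Module.finrank R (LinearMap.range L)
  have hc : ∀ j : Fin s, ∃ c : M, L c = b j := fun j => (b j).2
  choose c hc using hc
  let gj : Fin s → (M →ₗ[R] R) := fun j => (b.coord j) ∘ₗ L.rangeRestrict
  let α : M →ₗ[Rn R n] (Fin s → Rn R n) := LinearMap.pi (fun j => form hn (gj j))
  let β : (Fin s → Rn R n) →ₗ[Rn R n] M := Fintype.linearCombination (Rn R n) c
  refine ⟨s, α, β, fun m => ?_⟩
  have h1 : β (α m) = ∑ j, form hn (gj j) m • c j := rfl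
  have h2 : ∀ j, form hn (gj j) m = gj j m • z R n ^ (n - 1) := by
    intro j
    rw [form_apply, Finset.sum_eq_single (n - 1)]
    · simp
    · intro i hi hne
      have hi' := Finset.mem_range.mp hi
      have : gj j (z R n ^ (n - 1 - i) • m) = 0 := by
        have h3 : L.rangeRestrict (z R n ^ (n - 1 - i) • m) = 0 := by
          apply Subtype.ext
          change L (z R n ^ (n - 1 - i) • m) = 0
          rw [hL, ← mul_smul, ← pow_add, z_pow_of_le R n (by omega)]
          exact zero_smul (Rn R n) m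
        change (b.coord j) (L.rangeRestrict (z R n ^ (n - 1 - i) • m)) = 0
        rw [h3, map_zero]
      rw [this, zero_smul]
    · intro h
      exact absurd (Finset.mem_range.mpr (by omega)) h
  rw [h1]
  have h4 : ∑ j, form hn (gj j) m • c j = ∑ j, gj j m • ((b j : LinearMap.range L) : M) := by
    refine Finset.sum_congr rfl (fun j _ => ?_)
    rw [h2, smul_assoc, ← hc j, hL]
  rw [h4]
  have h5 := b.sum_repr (L.rangeRestrict m)
  have h6 := congrArg Subtype.val h5
  rw [← hL m]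
  calc ∑ j, gj j m • ((b j : LinearMap.range L) : M)
      = ((∑ j, (b.repr (L.rangeRestrict m)) j • b j : LinearMap.range L) : M) := by
        rw [Submodule.coe_sum]
        rfl
    _ = L m := h6

lemma z_smul_ext_eq_zero (hn : 1 ≤ n) (i : ℕ) (M : Type u) [AddCommGroup M] [Module (Rn R n) M] [Module R M]
    [IsScalarTower R (Rn R n) M] [Module.Finite (Rn R n) M] [Module.IsTorsionFree R M]
    (N : Type u) [AddCommGroup N] [Module (Rn R n) N]
    (x : Abelian.Ext (ModuleCat.of (Rn R n) M) (ModuleCat.of (Rn R n) N) (i + 1)) :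
    (z R n ^ (n - 1)) • x = 0 := by
  obtain ⟨s, α, β, hαβ⟩ := factor_z (R := R) hn M
  refine smul_ext_eq_zero (P := ModuleCat.of (Rn R n) (Fin s → Rn R n)) (z R n ^ (n - 1))
    (ModuleCat.ofHom α) (ModuleCat.ofHom β) ?_ i x
  ext m
  exact hαβ m

lemma z_smul_ext_eq_zero' (hn : 1 ≤ n) (i : ℕ) (M : Type u) [AddCommGroup M] [Module (Rn R n) M]
    [Module.Finite (Rn R n) M]
    (N : Type u) [AddCommGroup N] [Module (Rn R n) N]
    (x : Abelian.Ext (ModuleCat.of (Rn R n) M) (ModuleCat.of (Rn R n) N) (i + 1 + 1)) :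
    (z R n ^ (n - 1)) • x = 0 := by
  obtain ⟨r, g, hg⟩ := Module.Finite.exists_fin' (Rn R n) M
  exact shift_smul (presS_exact g hg) _ _ (i + 1) (fun x₁ => z_smul_ext_eq_zero hn i (LinearMap.ker g) N x₁) x

lemma torsionFree_of_ext (hn : 1 ≤ n) (M : Type u) [AddCommGroup M] [Module (Rn R n) M] [Module R M]
    [IsScalarTower R (Rn R n) M] [Module.Finite (Rn R n) M]
    (h : ∀ x : Abelian.Ext (ModuleCat.of (Rn R n) M) (ModuleCat.of (Rn R n) (Rn R n)) 1, x = 0) :
    Module.IsTorsionFree R M := by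
  obtain ⟨r, g, hg⟩ := Module.Finite.exists_fin' (Rn R n) M
  have h1 := extend_of_ext_one_zero (presS_exact g hg) (ModuleCat.of (Rn R n) (Rn R n)) h
  have : Module.Finite R (LinearMap.ker g) := finite_R (n := n)
  have : Module.Free R (LinearMap.ker g) := inferInstance
  let b := Module.finBasis R (LinearMap.ker g)
  -- extend the coordinates
  have h2 : ∀ j, ∃ G : (Fin r → Rn R n) →ₗ[R] R, ∀ k : LinearMap.ker g, G k = b.coord j k := by
    intro j
    obtain ⟨ψ, hψ⟩ := h1 (ModuleCat.ofHom (form hn (b.coord j)))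
    let ψ' : (Fin r → Rn R n) →ₗ[Rn R n] Rn R n := ψ.hom
    refine ⟨lam R n hn ∘ₗ (ψ'.restrictScalars R), fun k => ?_⟩
    have h3 : ψ' (k : Fin r → Rn R n) = form hn (b.coord j) k := by
      have := congrArg (fun (q : (presS g).X₁ ⟶ ModuleCat.of (Rn R n) (Rn R n)) => q.hom k) hψ
      exact this
    change lam R n hn (ψ' (k : Fin r → Rn R n)) = _
    rw [h3, lam_form]
  choose G hG using h2
  let ρ : (Fin r → Rn R n) →ₗ[R] LinearMap.ker g := ∑ j, (G j).smulRight (b j)
  have hρ : ∀ k : LinearMap.ker g, ρ k = k := by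
    intro k
    have : ρ k = ∑ j, (G j k) • b j := by simp [ρ]
    rw [this]
    conv_rhs => rw [← b.sum_repr k]
    exact Finset.sum_congr rfl (fun j _ => by rw [hG]; rfl)
  rw [Module.isTorsionFree_iff_smul_eq_zero]
  intro a m ham
  by_cases ha : a = 0
  · left; exact ha
  right
  obtain ⟨x, rfl⟩ := hg m
  have h4 : a • x ∈ LinearMap.ker g := by
    rw [LinearMap.mem_ker]
    have : g (a • x) = a • g x := (g.restrictScalars R).map_smul a x
    rw [this, ham]
  have h5 : a • ((ρ x : LinearMap.ker g) : Fin r → Rn R n) = a • x := by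
    have h6 := hρ ⟨a • x, h4⟩
    have h7 : ρ (a • x) = a • ρ x := map_smul _ _ _
    have h8 : (ρ (a • x) : LinearMap.ker g) = ⟨a • x, h4⟩ := h6
    rw [h7] at h8
    exact congrArg Subtype.val h8
  have h9 : ((ρ x : LinearMap.ker g) : Fin r → Rn R n) = x := by
    have : Module.IsTorsionFree R (Fin r → Rn R n) := inferInstance
    exact smul_right_injective (Fin r → Rn R n) ha h5
  rw [← h9]
  exact (ρ x).2

end ext

end Groth.Agent.H26MultCrv
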