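import Mathlib

set_option autoImplicit false

namespace Groth.Agent.H27Cubic

open MvPolynomial

variable {n : ℕ}

theorem pderiv_comm' (f : MvPolynomial (Fin n) ℂ) (i j : Fin n) : pderiv i (pderiv j f) = pderiv j (pderiv i f) := by
  have : (⁅(pderiv i : Derivation ℂ (MvPolynomial (Fin n) ℂ) (MvPolynomial (Fin n) ℂ)), (pderiv j : Derivation ℂ (MvPolynomial (Fin n) ℂ) (MvPolynomial (Fin n) ℂ))⁆ : Derivation ℂ (MvPolynomial (Fin n) ℂ) (MvPolynomial (Fin n) ℂ)) = 0 := by
    apply MvPolynomial.derivation_ext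
    intro k
    rw [Derivation.commutator_apply]
    classical
    simp only [pderiv_X, Pi.single_apply]
    split_ifs <;> simp
  have h := congrArg (fun D : Derivation ℂ (MvPolynomial (Fin n) ℂ) (MvPolynomial (Fin n) ℂ) => D f) this
  simp only [Derivation.commutator_apply] at h
  exact sub_eq_zero.1 h

noncomputable def cf (f : MvPolynomial (Fin n) ℂ) (i j k : Fin n) : ℂ :=
  eval 0 (pderiv i (pderiv j (pderiv k f)))

theorem cf_swap12 (f : MvPolynomial (Fin n) ℂ) (i j k : Fin n) : cf f i j k = cf f j i k := by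
  unfold cf; rw [pderiv_comm']

theorem cf_swap23 (f : MvPolynomial (Fin n) ℂ) (i j k : Fin n) : cf f i j k = cf f i k j := by
  unfold cf; rw [pderiv_comm' f j k]

noncomputable def T (f : MvPolynomial (Fin n) ℂ) (x y z : Fin n → ℂ) : ℂ :=
  ∑ k, z k * ∑ j, y j * ∑ i, x i * cf f i j k

theorem T_add3 (f : MvPolynomial (Fin n) ℂ) (x y z w : Fin n → ℂ) : T f x y (z + w) = T f x y z + T f x y w := by
  simp only [T, Pi.add_apply, add_mul, Finset.sum_add_distrib]

theorem T_smul3 (f : MvPolynomial (Fin n) ℂ) (a : ℂ) (x y z : Fin n → ℂ) : T f x y (a • z) = a * T f x y z := by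
  simp only [T, Pi.smul_apply, smul_eq_mul, Finset.mul_sum, mul_assoc]

theorem T_swap23 (f : MvPolynomial (Fin n) ℂ) (x y z : Fin n → ℂ) : T f x y z = T f x z y := by
  simp only [T, Finset.mul_sum]
  rw [Finset.sum_comm]
  refine Finset.sum_congr rfl fun j _ => Finset.sum_congr rfl fun k _ => Finset.sum_congr rfl fun i _ => ?_
  rw [cf_swap23 f i j k]; ring

theorem T_swap12 (f : MvPolynomial (Fin n) ℂ) (x y z : Fin n → ℂ) : T f x y z = T f y x z := by
  simp only [T, Finset.mul_sum]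
  refine Finset.sum_congr rfl fun k _ => ?_
  rw [Finset.sum_comm]
  refine Finset.sum_congr rfl fun j _ => Finset.sum_congr rfl fun i _ => ?_
  rw [cf_swap12 f j i k]; ring

theorem T_add2 (f : MvPolynomial (Fin n) ℂ) (x y z w : Fin n → ℂ) : T f x (y + z) w = T f x y w + T f x z w := by
  rw [T_swap23, T_add3, T_swap23 f x w y, T_swap23 f x w z]

theorem T_smul2 (f : MvPolynomial (Fin n) ℂ) (a : ℂ) (x y z : Fin n → ℂ) : T f x (a • y) z = a * T f x y z := by
  rw [T_swap23, T_smul3, T_swap23]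

theorem T_add1 (f : MvPolynomial (Fin n) ℂ) (x y z w : Fin n → ℂ) : T f (x + y) z w = T f x z w + T f y z w := by
  rw [T_swap12, T_add2, T_swap12 f z x, T_swap12 f z y]

theorem T_smul1 (f : MvPolynomial (Fin n) ℂ) (a : ℂ) (x y z : Fin n → ℂ) : T f (a • x) y z = a * T f x y z := by
  rw [T_swap12, T_smul2, T_swap12]

theorem T_cube (f : MvPolynomial (Fin n) ℂ) (x y : Fin n → ℂ) :
    T f (x + y) (x + y) (x + y) = T f x x x + 3 * T f x x y + 3 * T f x y y + T f y y y := by
  simp only [T_add1, T_add2, T_add3]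
  linear_combination 2 * T_swap23 f x y x + T_swap12 f y x x + T_swap12 f y x y + T_swap23 f y y x + T_swap12 f y x y

theorem T_sq (f : MvPolynomial (Fin n) ℂ) (v x y : Fin n → ℂ) :
    T f v (x + y) (x + y) = T f v x x + 2 * T f v x y + T f v y y := by
  simp only [T_add2, T_add3]
  linear_combination T_swap23 f v y x

noncomputable def Tl (f : MvPolynomial (Fin n) ℂ) (x y : Fin n → ℂ) : (Fin n → ℂ) →ₗ[ℂ] ℂ where
  toFun z := T f x y z
  map_add' z w := T_add3 f x y z w
  map_smul' a z := T_smul3 f a x y z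

@[simp] theorem Tl_apply (f : MvPolynomial (Fin n) ℂ) (x y z : Fin n → ℂ) : Tl f x y z = T f x y z := rfl

theorem euler_eval {f : MvPolynomial (Fin n) ℂ} {d : ℕ} (hf : f.IsHomogeneous d) (x : Fin n → ℂ) :
    ∑ i, x i * eval x (pderiv i f) = d * eval x f := by
  have := congrArg (eval x) hf.sum_X_mul_pderiv
  simpa using this

theorem eval_cf {f : MvPolynomial (Fin n) ℂ} (hf : f.IsHomogeneous 3) (x : Fin n → ℂ) (i j k : Fin n) :
    eval x (pderiv i (pderiv j (pderiv k f))) = cf f i j k := by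
  have h0 : (pderiv i (pderiv j (pderiv k f))).IsHomogeneous 0 := by
    have h1 := hf.pderiv (i := k)
    have h2 := h1.pderiv (i := j)
    exact h2.pderiv (i := i)
  have h1 : (pderiv i (pderiv j (pderiv k f))).totalDegree = 0 := by
    have := h0.totalDegree_le
    omega
  rw [totalDegree_eq_zero_iff_eq_C] at h1
  unfold cf
  rw [h1]; simp

theorem T_grad {f : MvPolynomial (Fin n) ℂ} (hf : f.IsHomogeneous 3) (x z : Fin n → ℂ) :
    T f x x z = ∑ k, z k * (2 * eval x (pderiv k f)) := by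
  unfold T
  refine Finset.sum_congr rfl fun k _ => ?_
  congr 1
  have h2 := euler_eval (hf.pderiv (i := k)) x
  have h3 : ∀ j, ∑ i, x i * cf f i j k = eval x (pderiv j (pderiv k f)) := by
    intro j
    have h4 := euler_eval ((hf.pderiv (i := k)).pderiv (i := j)) x
    simp only [eval_cf hf] at h4
    rw [h4]; norm_num
  simp only [h3]
  rw [h2]; norm_num

theorem T_self {f : MvPolynomial (Fin n) ℂ} (hf : f.IsHomogeneous 3) (x : Fin n → ℂ) :
    T f x x x = 6 * eval x f := by
  rw [T_grad hf]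
  have h := euler_eval hf x
  have : ∑ k, x k * (2 * eval x (pderiv k f)) = 2 * ∑ i, x i * eval x (pderiv i f) := by
    rw [Finset.mul_sum]; exact Finset.sum_congr rfl fun k _ => by ring
  rw [this, h]; push_cast; ring

theorem exists_grad {f : MvPolynomial (Fin n) ℂ} (hf : f.IsHomogeneous 3) (v : Fin n → ℂ)
    (h : ∃ i : Fin n, eval v (pderiv i f) ≠ 0) : ∃ x0, T f v v x0 = 1 := by
  classical
  obtain ⟨i, hi⟩ := h
  refine ⟨Pi.single i (1 / (2 * eval v (pderiv i f))), ?_⟩
  rw [T_grad hf, Finset.sum_eq_single i]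
  · rw [Pi.single_eq_same]; field_simp
  · intro b _ hb; rw [Pi.single_eq_of_ne hb, zero_mul]
  · intro h; exact absurd (Finset.mem_univ _) h

theorem exists_M (f : MvPolynomial (Fin n) ℂ) (v x0 : Fin n → ℂ) (hx0 : T f v v x0 = 1) (hvv : T f v v v = 0)
    (hQ : ∀ x, T f v v x = 0 → T f v x x = 0) :
    ∃ M : (Fin n → ℂ) →ₗ[ℂ] ℂ, (∀ x, T f v x x = T f v v x * M x) ∧ M v = 2 := by
  refine ⟨(2 : ℂ) • Tl f v x0 - (T f v x0 x0) • Tl f v v, ?_, ?_⟩
  · intro x
    have h1 : T f v v (x + (-(T f v v x)) • x0) = 0 := by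
      rw [T_add3, T_smul3, hx0]; ring
    have h2 := hQ _ h1
    rw [T_sq, T_smul3, T_smul2, T_smul3] at h2
    simp only [LinearMap.sub_apply, LinearMap.smul_apply, Tl_apply, smul_eq_mul]
    linear_combination h2 - 2 * T f v v x * T_swap23 f v x0 x
  · simp only [LinearMap.sub_apply, LinearMap.smul_apply, Tl_apply, smul_eq_mul, hvv]
    rw [T_swap23, hx0]; ring

theorem eval_add_smul {f : MvPolynomial (Fin n) ℂ} (hf : f.IsHomogeneous 3) (v : Fin n → ℂ) (hvv : T f v v v = 0)
    (M : (Fin n → ℂ) →ₗ[ℂ] ℂ) (hM : ∀ x, T f v x x = T f v v x * M x) (x : Fin n → ℂ) (t : ℂ) :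
    eval (x + t • v) f = eval x f + (1/2) * T f v v x * (t * M x + t ^ 2) := by
  have h1 := T_cube f x (t • v)
  rw [T_self hf, T_self hf] at h1
  simp only [T_smul1, T_smul2, T_smul3, hvv] at h1
  have h2 : T f x x v = T f v v x * M x := by
    rw [← hM, T_swap23, T_swap12]
  have h3 : T f x v v = T f v v x := by rw [T_swap12, T_swap23]
  rw [h2, h3] at h1
  linear_combination (1/6) * h1

/-- the involution attached to `v` and `M` -/
noncomputable def invMat (v : Fin n → ℂ) (M : (Fin n → ℂ) →ₗ[ℂ] ℂ) : Matrix (Fin n) (Fin n) ℂ :=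
  LinearMap.toMatrix' (LinearMap.id - M.smulRight v)

theorem invMat_mulVec (v : Fin n → ℂ) (M : (Fin n → ℂ) →ₗ[ℂ] ℂ) (x : Fin n → ℂ) :
    (invMat v M).mulVec x = x + (-(M x)) • v := by
  unfold invMat
  rw [LinearMap.toMatrix'_mulVec]
  simp [sub_eq_add_neg]

theorem aeval_iff (f : MvPolynomial (Fin n) ℂ) (A : Matrix (Fin n) (Fin n) ℂ) (c : ℂ) :
    aeval (fun i : Fin n => ∑ j : Fin n, C (A i j) * X j) f = C c * f ↔
      ∀ x, eval (A.mulVec x) f = c * eval x f := by
  have key : ∀ x : Fin n → ℂ, eval x (aeval (fun i : Fin n => ∑ j : Fin n, C (A i j) * X j) f) = eval (A.mulVec x) f := by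
    intro x
    induction f using MvPolynomial.induction_on with
    | C a => simp
    | add p q hp hq => rw [map_add, map_add, map_add, hp, hq]
    | mul_X p i hp => rw [map_mul, map_mul, map_mul, hp, aeval_X, eval_X]; simp [Matrix.mulVec, dotProduct]
  constructor
  · intro h x
    rw [← key, h]; simp
  · intro h
    apply MvPolynomial.funext
    intro x
    rw [key, h]; simp

theorem invMat_spec {f : MvPolynomial (Fin n) ℂ} (hf : f.IsHomogeneous 3) (v : Fin n → ℂ) (hvv : T f v v v = 0)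
    (M : (Fin n → ℂ) →ₗ[ℂ] ℂ) (hM : ∀ x, T f v x x = T f v v x * M x) (x : Fin n → ℂ) :
    eval ((invMat v M).mulVec x) f = eval x f := by
  rw [invMat_mulVec, eval_add_smul hf v hvv M hM]; ring

theorem invMat_sq (v : Fin n → ℂ) (M : (Fin n → ℂ) →ₗ[ℂ] ℂ) (hMv : M v = 2) : invMat v M * invMat v M = 1 := by
  apply Matrix.toLin'.injective
  apply LinearMap.ext
  intro x
  rw [Matrix.toLin'_apply, ← Matrix.mulVec_mulVec, invMat_mulVec, invMat_mulVec]
  simp only [map_add, map_smul, hMv, smul_eq_mul, Matrix.toLin'_one, LinearMap.id_apply]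
  module


theorem span_pair {V : Type*} [AddCommGroup V] [Module ℂ V] [FiniteDimensional ℂ V] (U : Submodule ℂ V)
    (hU : Module.finrank ℂ U = 2) (a b : V) (ha : a ∈ U) (hb : b ∈ U) (ha0 : a ≠ 0) (hab : b ∉ Submodule.span ℂ {a}) :
    ∀ x ∈ U, ∃ s t : ℂ, x = s • a + t • b := by
  have hli : LinearIndependent ℂ ![a, b] := by
    rw [LinearIndependent.pair_iff' ha0]
    intro c hc
    exact hab (Submodule.mem_span_singleton.2 ⟨c, hc⟩)
  have hle : Submodule.span ℂ (Set.range ![a, b]) ≤ U := by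
    rw [Submodule.span_le]
    rintro _ ⟨i, rfl⟩
    fin_cases i
    · exact ha
    · exact hb
  have hfr : Module.finrank ℂ (Submodule.span ℂ (Set.range ![a, b])) = 2 := by
    rw [finrank_span_eq_card hli]; simp
  have heq := Submodule.eq_of_le_of_finrank_eq hle (by rw [hfr, hU])
  intro x hx
  rw [← heq] at hx
  have : Set.range ![a, b] = {a, b} := by simp [Matrix.range_cons, Matrix.range_empty]; exact Set.pair_comm b a
  rw [this, Submodule.mem_span_pair] at hx
  obtain ⟨s, t, h⟩ := hx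
  exact ⟨s, t, h.symm⟩

theorem finrank_ker_Tl (f : MvPolynomial (Fin n) ℂ) (v x0 : Fin n → ℂ) (hx0 : T f v v x0 = 1) :
    Module.finrank ℂ (LinearMap.ker (Tl f v v)) + 1 = n := by
  have h1 := LinearMap.finrank_range_add_finrank_ker (Tl f v v)
  have h2 : LinearMap.range (Tl f v v) = ⊤ := by
    rw [LinearMap.range_eq_top]
    intro c
    exact ⟨c • x0, by rw [Tl_apply, T_smul3, hx0, mul_one]⟩
  rw [h2, finrank_top] at h1
  simp at h1
  omega

theorem finrank_ker_M (M : (Fin n → ℂ) →ₗ[ℂ] ℂ) (v : Fin n → ℂ) (hMv : M v = 2) :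
    Module.finrank ℂ (LinearMap.ker M) + 1 = n := by
  have h1 := LinearMap.finrank_range_add_finrank_ker M
  have h2 : LinearMap.range M = ⊤ := by
    rw [LinearMap.range_eq_top]
    intro c
    exact ⟨(c/2) • v, by rw [map_smul, hMv]; simp⟩
  rw [h2, finrank_top] at h1
  simp at h1
  omega

theorem ker_invMat (v : Fin n → ℂ) (hv : v ≠ 0) (M : (Fin n → ℂ) →ₗ[ℂ] ℂ) :
    LinearMap.ker (Matrix.toLin' (invMat v M) - LinearMap.id) = LinearMap.ker M := by
  ext x
  rw [LinearMap.mem_ker, LinearMap.mem_ker, LinearMap.sub_apply, Matrix.toLin'_apply, invMat_mulVec, LinearMap.id_apply,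
    add_sub_cancel_left, smul_eq_zero, neg_eq_zero]
  exact ⟨fun h => h.resolve_right hv, Or.inl⟩

theorem invMat_v (v : Fin n → ℂ) (M : (Fin n → ℂ) →ₗ[ℂ] ℂ) (hMv : M v = 2) : (invMat v M).mulVec v = -v := by
  rw [invMat_mulVec, hMv]; module

/-- uniqueness of the reflection -/
theorem reflection_unique {f : MvPolynomial (Fin n) ℂ} (hf : f.IsHomogeneous 3) (v x0 : Fin n → ℂ) (hv : v ≠ 0)
    (hx0 : T f v v x0 = 1) (hvv : T f v v v = 0)
    (M : (Fin n → ℂ) →ₗ[ℂ] ℂ) (hM : ∀ x, T f v x x = T f v v x * M x)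
    (A : Matrix (Fin n) (Fin n) ℂ)
    (hdim : Module.finrank ℂ (LinearMap.ker (Matrix.toLin' A - LinearMap.id)) + 1 = n)
    (hAv : A.mulVec v = -v) (c : ℂ) (hc : ∀ x, eval (A.mulVec x) f = c * eval x f) : A = invMat v M := by
  have hrange : ∀ x, ∃ a : ℂ, A.mulVec x = x + (-a) • v := by
    have h1 := LinearMap.finrank_range_add_finrank_ker (Matrix.toLin' A - LinearMap.id)
    simp only [Module.finrank_fintype_fun_eq_card, Fintype.card_fin] at h1
    have h2 : Module.finrank ℂ (LinearMap.range (Matrix.toLin' A - LinearMap.id)) = 1 := by omega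
    have hmem : (-2 : ℂ) • v ∈ LinearMap.range (Matrix.toLin' A - LinearMap.id) := by
      refine ⟨v, ?_⟩
      rw [LinearMap.sub_apply, Matrix.toLin'_apply, hAv, LinearMap.id_apply]; module
    intro x
    have hx : A.mulVec x - x ∈ LinearMap.range (Matrix.toLin' A - LinearMap.id) := ⟨x, by
      rw [LinearMap.sub_apply, Matrix.toLin'_apply, LinearMap.id_apply]⟩
    have h3 := (finrank_eq_one_iff_of_nonzero' (⟨(-2 : ℂ) • v, hmem⟩ : LinearMap.range (Matrix.toLin' A - LinearMap.id)) (by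
      intro h
      have := congrArg Subtype.val h
      simp at this
      exact hv this)).1 h2 ⟨_, hx⟩
    obtain ⟨a, ha⟩ := h3
    have ha' : a • ((-2 : ℂ) • v) = A.mulVec x - x := congrArg Subtype.val ha
    refine ⟨2 * a, ?_⟩
    have : A.mulVec x = x + (A.mulVec x - x) := by abel
    rw [this, ← ha']
    module
  have hE : ∀ x a, A.mulVec x = x + (-a) • v → ∀ s : ℂ,
      eval x f + (1/2) * T f v v x * (-(a + s) * M x + (a + s) ^ 2) = c * (eval x f + (1/2) * T f v v x * (s * M x + s ^ 2)) := by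
    intro x a hxa s
    have h1 : A.mulVec (x + s • v) = x + (-(a + s)) • v := by
      rw [Matrix.mulVec_add, Matrix.mulVec_smul, hAv, hxa]; module
    have h2 := hc (x + s • v)
    rw [h1, eval_add_smul hf v hvv M hM, eval_add_smul hf v hvv M hM] at h2
    linear_combination h2
  have hA : ∀ x, T f v v x ≠ 0 → A.mulVec x = x + (-(M x)) • v := by
    intro x hx
    obtain ⟨a, ha⟩ := hrange x
    have e0 := hE x a ha 0
    have e1 := hE x a ha 1
    have e2 := hE x a ha (-1)
    have hc1 : c = 1 := by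
      have : T f v v x * (c - 1) = 0 := by linear_combination 2 * e0 - e1 - e2
      exact sub_eq_zero.1 ((mul_eq_zero.1 this).resolve_left hx)
    rw [hc1] at e1 e2
    have h3 : a = M x := by
      have : T f v v x * (a - M x) = 0 := by linear_combination (1/2) * e1 - (1/2) * e2
      exact sub_eq_zero.1 ((mul_eq_zero.1 this).resolve_left hx)
    rw [ha, h3]
  have hA2 : ∀ x, A.mulVec x = x + (-(M x)) • v := by
    intro x
    by_cases hx : T f v v x = 0
    · have h1 := hA (x + x0) (by rw [T_add3, hx, hx0]; norm_num)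
      have h2 := hA x0 (by rw [hx0]; norm_num)
      rw [Matrix.mulVec_add, h2, map_add] at h1
      have : A.mulVec x = (A.mulVec x + (x0 + (-(M x0)) • v)) - (x0 + (-(M x0)) • v) := by abel
      rw [this, h1]; module
    · exact hA x hx
  apply Matrix.toLin'.injective
  apply LinearMap.ext
  intro x
  rw [Matrix.toLin'_apply, Matrix.toLin'_apply, hA2, invMat_mulVec]

theorem expand_pair (f : MvPolynomial (Fin n) ℂ) (v a b : Fin n → ℂ) (s t : ℂ) :
    T f v (s • a + t • b) (s • a + t • b) = s ^ 2 * T f v a a + 2 * s * t * T f v a b + t ^ 2 * T f v b b := by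
  rw [T_sq]; simp only [T_smul2, T_smul3]; ring

/-- flex -/
theorem flex_M {f : MvPolynomial (Fin 3) ℂ} (hf : f.IsHomogeneous 3)
    (hsm : ∀ v : Fin 3 → ℂ, v ≠ 0 → eval v f = 0 → ∃ i : Fin 3, eval v (pderiv i f) ≠ 0)
    (v : Fin 3 → ℂ) (hv : v ≠ 0) (hfv : eval v f = 0)
    (w : Fin 3 → ℂ) (hli : LinearIndependent ℂ ![v, w]) (hw : ∀ t : ℂ, eval (v + t • w) f = t ^ 3 * eval w f) :
    T f v v v = 0 ∧ T f v v w = 0 ∧ T f v w w = 0 ∧ (∃ x0, T f v v x0 = 1) ∧
      (∀ x, T f v v x = 0 → ∃ s t : ℂ, x = s • v + t • w) ∧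
      ∃ M : (Fin 3 → ℂ) →ₗ[ℂ] ℂ, (∀ x, T f v x x = T f v v x * M x) ∧ M v = 2 := by
  have hvv : T f v v v = 0 := by rw [T_self hf, hfv, mul_zero]
  have e : ∀ t : ℂ, 3 * t * T f v v w + 3 * t ^ 2 * T f v w w = 0 := by
    intro t
    have h1 := T_cube f v (t • w)
    rw [T_self hf (v + t • w), hw t, hvv] at h1
    simp only [T_smul1, T_smul2, T_smul3, T_self hf w] at h1
    linear_combination -h1
  have e1 := e 1
  have e2 := e (-1)
  have h1 : T f v v w = 0 := by linear_combination (1/6) * e1 - (1/6) * e2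
  have h2 : T f v w w = 0 := by linear_combination (1/6) * e1 + (1/6) * e2
  obtain ⟨x0, hx0⟩ := exists_grad hf v (hsm v hv hfv)
  have hfr := finrank_ker_Tl f v x0 hx0
  have hspan : ∀ x, T f v v x = 0 → ∃ s t : ℂ, x = s • v + t • w := by
    intro x hx
    apply span_pair (LinearMap.ker (Tl f v v)) (by omega) v w hvv h1 hv
    · intro hmem
      obtain ⟨c, hc⟩ := Submodule.mem_span_singleton.1 hmem
      exact (LinearIndependent.pair_iff' hv).1 hli c hc
    · exact hx
  refine ⟨hvv, h1, h2, ⟨x0, hx0⟩, hspan, exists_M f v x0 hx0 hvv ?_⟩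
  intro x hx
  obtain ⟨s, t, rfl⟩ := hspan x hx
  rw [expand_pair, hvv, h1, h2]; ring

end Groth.Agent.H27Cubic
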