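import Mathlib

set_option autoImplicit false
open scoped TensorProduct

namespace Groth.Agent.H27OT2

universe u v
variable {R : Type u} [CommRing R] {A : Type v} [CommRing A] [HopfAlgebra R A]

/-- the structure: the augmentation ideal is free on x -/
structure Gen (R : Type u) [CommRing R] {A : Type v} [CommRing A] [HopfAlgebra R A] (x : A) : Prop where
  hx : Coalgebra.counit (R := R) x = 0
  hgen : ∀ f : A, Coalgebra.counit (R := R) f = 0 → ∃ r : R, f = r • x
  hfree : ∀ r : R, r • x = 0 → r = 0

variable {x : A}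

theorem Gen.inj (h : Gen R x) {r s : R} (hrs : r • x = s • x) : r = s := by
  have : (r - s) • x = 0 := by rw [sub_smul, hrs, sub_self]
  exact sub_eq_zero.1 (h.hfree _ this)

theorem Gen.exists_coord (h : Gen R x) (f : A) : ∃ r : R, f = (Coalgebra.counit (R := R) f) • (1 : A) + r • x := by
  obtain ⟨r, hr⟩ := h.hgen (f - (Coalgebra.counit (R := R) f) • (1 : A)) (by
    rw [map_sub, map_smul, Bialgebra.counit_one]
    simp)
  exact ⟨r, by rw [← hr]; abel⟩

noncomputable def Gen.pi (h : Gen R x) : A →ₗ[R] R where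
  toFun f := (h.exists_coord f).choose
  map_add' f g := by
    have h1 := eq_sub_of_add_eq' (h.exists_coord f).choose_spec.symm
    have h2 := eq_sub_of_add_eq' (h.exists_coord g).choose_spec.symm
    have h3 := eq_sub_of_add_eq' (h.exists_coord (f + g)).choose_spec.symm
    apply h.inj
    rw [add_smul, h1, h2, h3, map_add]
    module
  map_smul' r f := by
    have h1 := eq_sub_of_add_eq' (h.exists_coord f).choose_spec.symm
    have h3 := eq_sub_of_add_eq' (h.exists_coord (r • f)).choose_spec.symm
    apply h.inj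
    rw [RingHom.id_apply, smul_eq_mul, mul_smul, h1, h3, map_smul, smul_eq_mul]
    module

theorem Gen.spec (h : Gen R x) (f : A) : f = (Coalgebra.counit (R := R) f) • (1 : A) + h.pi f • x :=
  (h.exists_coord f).choose_spec

theorem Gen.pi_eq (h : Gen R x) {f : A} {c r : R} (hf : f = c • (1 : A) + r • x) : h.pi f = r := by
  have hc : Coalgebra.counit (R := R) f = c := by
    rw [hf, map_add, map_smul, map_smul, h.hx, Bialgebra.counit_one]; simp
  apply h.inj
  have := h.spec f
  rw [hc] at this
  rw [hf] at this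
  conv at this => rhs; rw [← hf]
  exact (add_left_cancel this).symm

theorem Gen.pi_one (h : Gen R x) : h.pi (1 : A) = 0 := h.pi_eq (c := 1) (r := 0) (by simp)
theorem Gen.pi_x (h : Gen R x) : h.pi x = 1 := h.pi_eq (c := 0) (r := 1) (by simp)

/-- the functional `u ⊗ v ↦ φ u * ψ v` -/
noncomputable def E (φ ψ : A →ₗ[R] R) : A ⊗[R] A →ₗ[R] R := (LinearMap.mul' R R) ∘ₗ (TensorProduct.map φ ψ)

@[simp] theorem E_tmul (φ ψ : A →ₗ[R] R) (a b : A) : E φ ψ (a ⊗ₜ b) = φ a * ψ b := rfl

theorem Gen.expand (h : Gen R x) (z : A ⊗[R] A) :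
    z = E Coalgebra.counit Coalgebra.counit z • ((1 : A) ⊗ₜ[R] (1 : A)) + E Coalgebra.counit h.pi z • ((1 : A) ⊗ₜ[R] x)
      + E h.pi Coalgebra.counit z • (x ⊗ₜ[R] (1 : A)) + E h.pi h.pi z • (x ⊗ₜ[R] x) := by
  induction z using TensorProduct.induction_on with
  | zero => simp
  | add z w hz hw =>
    conv_lhs => rw [hz, hw]
    simp only [map_add, add_smul]
    abel
  | tmul a b =>
    simp only [E_tmul]
    conv_lhs => rw [h.spec a, h.spec b]
    simp only [TensorProduct.add_tmul, TensorProduct.tmul_add, TensorProduct.smul_tmul', TensorProduct.tmul_smul, smul_smul, smul_add]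
    simp only [mul_comm]
    abel

theorem E_counit_left (ψ : A →ₗ[R] R) (z : A ⊗[R] A) :
    E Coalgebra.counit ψ z = ψ (TensorProduct.lid R A (Coalgebra.counit.rTensor A z)) := by
  induction z using TensorProduct.induction_on with
  | zero => simp
  | add z w hz hw => simp only [map_add, hz, hw]
  | tmul a b => simp

theorem E_counit_right (φ : A →ₗ[R] R) (z : A ⊗[R] A) :
    E φ Coalgebra.counit z = φ (TensorProduct.rid R A (Coalgebra.counit.lTensor A z)) := by
  induction z using TensorProduct.induction_on with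
  | zero => simp
  | add z w hz hw => simp only [map_add, hz, hw]
  | tmul a b => simp [mul_comm]

theorem E_counit_left_comul (ψ : A →ₗ[R] R) (f : A) : E Coalgebra.counit ψ (Coalgebra.comul (R := R) f) = ψ f := by
  rw [E_counit_left, Coalgebra.rTensor_counit_comul]; simp

theorem E_counit_right_comul (φ : A →ₗ[R] R) (f : A) : E φ Coalgebra.counit (Coalgebra.comul (R := R) f) = φ f := by
  rw [E_counit_right, Coalgebra.lTensor_counit_comul]; simp

theorem Gen.comul_x (h : Gen R x) : Coalgebra.comul (R := R) x =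
    x ⊗ₜ[R] (1 : A) + (1 : A) ⊗ₜ[R] x + E h.pi h.pi (Coalgebra.comul (R := R) x) • (x ⊗ₜ[R] x) := by
  conv_lhs => rw [h.expand (Coalgebra.comul (R := R) x)]
  rw [E_counit_left_comul, E_counit_left_comul, E_counit_right_comul, h.hx, h.pi_x]
  module

theorem Gen.exists_a (h : Gen R x) : ∃ a : R, x * x = a • x := by
  apply h.hgen
  rw [Bialgebra.counit_mul, h.hx, mul_zero]

theorem Gen.rel (h : Gen R x) {a b : R} (ha : x * x = a • x)
    (hb : Coalgebra.comul (R := R) x = x ⊗ₜ[R] (1 : A) + (1 : A) ⊗ₜ[R] x + b • (x ⊗ₜ[R] x)) : a * b = -2 := by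
  -- multiplicativity
  have h1 : (a * b + 1) * (a * b + 2) = 0 := by
    have hm : Coalgebra.comul (R := R) (x * x) = Coalgebra.comul (R := R) x * Coalgebra.comul (R := R) x := Bialgebra.comul_mul x x
    rw [ha, map_smul, hb] at hm
    have hE := congrArg (E h.pi h.pi) hm
    simp only [add_mul, mul_add, Algebra.TensorProduct.tmul_mul_tmul, smul_mul_assoc, mul_smul_comm, mul_one, one_mul, ha,
      map_add, map_smul, E_tmul, h.pi_x, h.pi_one, smul_eq_mul] at hE
    linear_combination -hE
  have h2 : ∃ c : R, c * (1 + a * b) = -1 := by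
    have hs : Coalgebra.counit (R := R) (HopfAlgebra.antipode R x) = 0 := by
      rw [HopfAlgebra.counit_antipode, h.hx]
    obtain ⟨c, hc⟩ := h.hgen _ hs
    refine ⟨c, ?_⟩
    have h3 := HopfAlgebra.mul_antipode_rTensor_comul_apply (R := R) x
    rw [hb, h.hx] at h3
    simp only [map_add, map_smul, LinearMap.rTensor_tmul, LinearMap.mul'_apply, HopfAlgebra.antipode_one, hc, mul_one, one_mul,
      smul_mul_assoc, ha, map_zero] at h3
    apply h.inj
    have : (c * (1 + a * b)) • x - (-1 : R) • x = c • x + x + b • c • a • x := by module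
    rw [h3] at this
    exact sub_eq_zero.1 this
  obtain ⟨c, hc⟩ := h2
  linear_combination (-c) * h1 + (a * b + 2) * hc

end Groth.Agent.H27OT2
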