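import Groth.Prelude.Def_Hoch
import Mathlib.LinearAlgebra.TensorProduct.Basis
import Mathlib.LinearAlgebra.TensorProduct.RightExactness
import Mathlib.RingTheory.SimpleModule.Basic
import Mathlib.RingTheory.SimpleModule.Isotypic
import Mathlib.Algebra.FreeAlgebra
import Mathlib.RingTheory.Flat.Basic

set_option autoImplicit false
universe u v w w'

open TensorProduct

namespace Groth.Agent.H28Comod

variable {k : Type u} [Field k] {C : Type v} [AddCommGroup C] [Module k C]

theorem eq_zero_of_forall {M : Type w} [AddCommGroup M] [Module k M] (s : M ⊗[k] C)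
    (h : ∀ φ : C →ₗ[k] k, TensorProduct.rid k M (φ.lTensor M s) = 0) : s = 0 := by
  classical
  let b := Module.Basis.ofVectorSpace k C
  apply (TensorProduct.equivFinsuppOfBasisRight (M := M) b).injective
  rw [map_zero]
  ext i
  have key : ∀ s : M ⊗[k] C, (TensorProduct.equivFinsuppOfBasisRight (M := M) b s) i =
      TensorProduct.rid k M ((b.coord i).lTensor M s) := by
    intro s
    induction s with
    | zero => simp
    | add x y hx hy => simp only [map_add, Finsupp.add_apply, hx, hy]
    | tmul m c => simp [TensorProduct.equivFinsuppOfBasisRight_apply_tmul_apply]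
  rw [key, h]
  rfl

theorem rid_lTensor_rTensor {M : Type w} [AddCommGroup M] [Module k M] {N : Type w'} [AddCommGroup N] [Module k N]
    (f : M →ₗ[k] N) (φ : C →ₗ[k] k) (s : M ⊗[k] C) :
    TensorProduct.rid k N (φ.lTensor N (f.rTensor C s)) = f (TensorProduct.rid k M (φ.lTensor M s)) := by
  induction s with
  | zero => simp
  | add x y hx hy => simp only [map_add, hx, hy]
  | tmul m c => simp

theorem mem_range_iff {V : Type w} [AddCommGroup V] [Module k V] (W : Submodule k V) (t : V ⊗[k] C) :
    t ∈ LinearMap.range (W.subtype.rTensor C) ↔ ∀ φ : C →ₗ[k] k, TensorProduct.rid k V (φ.lTensor V t) ∈ W := by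
  constructor
  · rintro ⟨s, rfl⟩ φ
    rw [rid_lTensor_rTensor]
    exact (TensorProduct.rid k W (φ.lTensor W s)).2
  · intro h
    have hex : Function.Exact W.subtype W.mkQ := by
      intro x
      simp
    have := rTensor_exact C hex W.mkQ_surjective
    refine (this t).1 ?_
    apply eq_zero_of_forall
    intro φ
    rw [rid_lTensor_rTensor]
    simpa using h φ

variable [Coalgebra k C] {V : Type w} [AddCommGroup V] [Module k V] [HopfRep.Comod k C V]
  {U : Type w'} [AddCommGroup U] [Module k U] [HopfRep.Comod k C U]

/-- the operator on a comodule attached to a functional -/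
noncomputable def T (V : Type w) [AddCommGroup V] [Module k V] [HopfRep.Comod k C V] (φ : C →ₗ[k] k) : V →ₗ[k] V :=
  (TensorProduct.rid k V).toLinearMap ∘ₗ φ.lTensor V ∘ₗ HopfRep.Comod.coact (k := k) (A := C)

theorem T_apply (φ : C →ₗ[k] k) (v : V) :
    T V φ v = TensorProduct.rid k V (φ.lTensor V (HopfRep.Comod.coact (k := k) (A := C) v)) := rfl

theorem subcomod_iff (W : Submodule k V) :
    HopfRep.IsSubcomod (k := k) (A := C) W ↔ ∀ (φ : C →ₗ[k] k), ∀ w ∈ W, T V φ w ∈ W := by
  constructor
  · intro h φ w hw
    exact (mem_range_iff W _).1 (h w hw) φ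
  · intro h w hw
    exact (mem_range_iff W _).2 fun φ => h φ w hw

theorem hom_iff (f : V →ₗ[k] U) :
    Hoch.IsComodHom C f ↔ ∀ (φ : C →ₗ[k] k) (v : V), f (T V φ v) = T U φ (f v) := by
  constructor
  · intro h φ v
    have h2 := LinearMap.congr_fun h v
    simp only [LinearMap.comp_apply] at h2
    rw [T_apply, T_apply, h2, rid_lTensor_rTensor]
  · intro h
    ext v
    rw [← sub_eq_zero]
    apply eq_zero_of_forall
    intro φ
    rw [map_sub, map_sub, LinearMap.comp_apply, LinearMap.comp_apply, rid_lTensor_rTensor, ← T_apply, ← T_apply,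
      h, sub_self]

/-- acting algebra -/
abbrev R (k : Type u) [Field k] (C : Type v) [AddCommGroup C] [Module k C] := FreeAlgebra k (C →ₗ[k] k)

/-- module structure over the acting algebra -/
@[reducible] noncomputable def modR (k : Type u) [Field k] (C : Type v) [AddCommGroup C] [Module k C] [Coalgebra k C]
    (V : Type w) [AddCommGroup V] [Module k V] [HopfRep.Comod k C V] :
    Module (R k C) V :=
  Module.compHom V (FreeAlgebra.lift k (fun φ : C →ₗ[k] k => T V φ)).toRingHom

attribute [local instance] modR

theorem ι_smul (φ : C →ₗ[k] k) (v : V) : (FreeAlgebra.ι k φ : R k C) • v = T V φ v := by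
  change (FreeAlgebra.lift k (fun φ : C →ₗ[k] k => T V φ)) (FreeAlgebra.ι k φ) v = _
  rw [FreeAlgebra.lift_ι_apply]

theorem algebraMap_smul' (r : k) (v : V) : (algebraMap k (R k C) r) • v = r • v := by
  change (FreeAlgebra.lift k (fun φ : C →ₗ[k] k => T V φ)) (algebraMap k _ r) v = _
  rw [AlgHom.commutes]
  rfl

/-- a subcomodule as a submodule over the acting algebra -/
noncomputable def toR (W : Submodule k V) (hW : HopfRep.IsSubcomod (k := k) (A := C) W) : Submodule (R k C) V where
  carrier := W
  add_mem' := W.add_mem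
  zero_mem' := W.zero_mem
  smul_mem' := by
    intro c x hx
    revert x
    induction c using FreeAlgebra.induction with
    | grade0 r => intro x hx; rw [algebraMap_smul']; exact W.smul_mem _ hx
    | grade1 φ => intro x hx; rw [ι_smul]; exact (subcomod_iff W).1 hW φ x hx
    | mul a b ha hb => intro x hx; rw [mul_smul]; exact ha (hb hx)
    | add a b ha hb => intro x hx; rw [add_smul]; exact W.add_mem (ha hx) (hb hx)

/-- a submodule over the acting algebra as a subspace -/
noncomputable def ofR (W : Submodule (R k C) V) : Submodule k V where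
  carrier := W
  add_mem' := W.add_mem
  zero_mem' := W.zero_mem
  smul_mem' := by
    intro c x hx
    have := W.smul_mem (algebraMap k (R k C) c) hx
    rwa [algebraMap_smul'] at this

theorem ofR_sub (W : Submodule (R k C) V) : HopfRep.IsSubcomod (k := k) (A := C) (ofR W) := by
  rw [subcomod_iff]
  intro φ w hw
  have := W.smul_mem (FreeAlgebra.ι k φ : R k C) hw
  rwa [ι_smul] at this

theorem semi_iff : HopfRep.IsSemisimpleComod k C V ↔ IsSemisimpleModule (R k C) V := by
  constructor
  · intro h
    refine (isSemisimpleModule_iff _ _).2 ⟨fun W => ?_⟩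
    obtain ⟨W', hW', hc⟩ := h (ofR W) (ofR_sub W)
    refine ⟨toR W' hW', ?_, ?_⟩
    · rw [Submodule.disjoint_def]
      intro x hx hx'
      exact (Submodule.disjoint_def.1 hc.1) x hx hx'
    · rw [codisjoint_iff, Submodule.eq_top_iff']
      intro x
      have := hc.2.eq_top ▸ Submodule.mem_top (x := x) (R := k)
      rw [Submodule.mem_sup] at this ⊢
      exact this
  · intro h W hW
    obtain ⟨W', hc⟩ := exists_isCompl (toR W hW)
    refine ⟨ofR W', ofR_sub W', ?_, ?_⟩
    · rw [Submodule.disjoint_def]
      intro x hx hx'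
      exact (Submodule.disjoint_def.1 hc.1) x hx hx'
    · rw [codisjoint_iff, Submodule.eq_top_iff']
      intro x
      have := hc.2.eq_top ▸ Submodule.mem_top (x := x) (R := R k C)
      rw [Submodule.mem_sup] at this ⊢
      exact this

theorem simple_iff : HopfRep.IsSimpleComod k C V ↔ IsSimpleModule (R k C) V := by
  rw [isSimpleModule_iff]
  constructor
  · rintro ⟨h1, h2⟩
    have := h1
    refine @IsSimpleOrder.mk _ _ _ ⟨⊥, ⊤, ?_⟩ fun W => ?_
    · exact bot_ne_top
    rcases h2 (ofR W) (ofR_sub W) with h | h
    · left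
      rw [eq_bot_iff]
      intro x hx
      have : x ∈ ofR W := hx
      rw [h] at this
      simpa using this
    · right
      rw [eq_top_iff]
      intro x _
      have : x ∈ ofR W := by rw [h]; trivial
      exact this
  · intro h
    refine ⟨(Submodule.nontrivial_iff (R k C)).1 h.toNontrivial, fun W hW => ?_⟩
    rcases h.eq_bot_or_eq_top (toR W hW) with h | h
    · left
      rw [eq_bot_iff]
      intro x hx
      have : x ∈ toR W hW := hx
      rw [h] at this
      simpa using this
    · right
      rw [eq_top_iff]
      intro x _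
      have : x ∈ toR W hW := by rw [h]; trivial
      exact this

/-- comodule hom as linear map over the acting algebra -/
noncomputable def homR (f : V →ₗ[k] U) (hf : Hoch.IsComodHom C f) : V →ₗ[R k C] U where
  toFun := f
  map_add' := f.map_add
  map_smul' := by
    intro c x
    simp only [RingHom.id_apply]
    revert x
    induction c using FreeAlgebra.induction with
    | grade0 r => intro x; rw [algebraMap_smul', algebraMap_smul', map_smul]
    | grade1 φ => intro x; rw [ι_smul, ι_smul]; exact (hom_iff f).1 hf φ x
    | mul a b ha hb => intro x; rw [mul_smul, mul_smul, ha, hb]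
    | add a b ha hb => intro x; rw [add_smul, add_smul, map_add, ha, hb]

/-- linear map over the acting algebra as linear map -/
noncomputable def ofHomR (f : V →ₗ[R k C] U) : V →ₗ[k] U where
  toFun := f
  map_add' := f.map_add
  map_smul' := by
    intro c x
    simp only [RingHom.id_apply]
    have := f.map_smul (algebraMap k (R k C) c) x
    rwa [algebraMap_smul', algebraMap_smul'] at this

theorem ofHomR_hom (f : V →ₗ[R k C] U) : Hoch.IsComodHom C (ofHomR f) := by
  rw [hom_iff]
  intro φ v
  have := f.map_smul (FreeAlgebra.ι k φ : R k C) v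
  rwa [ι_smul, ι_smul] at this

theorem semi_of_surj (f : V →ₗ[k] U) (hf : Hoch.IsComodHom C f) (hs : Function.Surjective f)
    (h : HopfRep.IsSemisimpleComod k C V) : HopfRep.IsSemisimpleComod k C U := by
  rw [semi_iff] at h ⊢
  exact IsSemisimpleModule.of_surjective (homR f hf) hs

theorem semi_of_inj (f : U →ₗ[k] V) (hf : Hoch.IsComodHom C f) (hs : Function.Injective f)
    (h : HopfRep.IsSemisimpleComod k C V) : HopfRep.IsSemisimpleComod k C U := by
  rw [semi_iff] at h ⊢
  exact IsSemisimpleModule.of_injective (homR f hf) hs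

theorem ker_sub (f : V →ₗ[k] U) (hf : Hoch.IsComodHom C f) :
    HopfRep.IsSubcomod (k := k) (A := C) (LinearMap.ker f) := by
  rw [subcomod_iff]
  intro φ w hw
  rw [LinearMap.mem_ker] at hw ⊢
  rw [(hom_iff f).1 hf, hw, map_zero]

theorem range_sub (f : V →ₗ[k] U) (hf : Hoch.IsComodHom C f) :
    HopfRep.IsSubcomod (k := k) (A := C) (LinearMap.range f) := by
  rw [subcomod_iff]
  rintro φ _ ⟨w, rfl⟩
  exact ⟨T V φ w, (hom_iff f).1 hf _ _⟩

end Groth.Agent.H28Comod
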