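import Mathlib.Tactic
import Mathlib.LinearAlgebra.FiniteDimensional.Lemmas
import Mathlib.LinearAlgebra.Dimension.OrzechProperty
import Mathlib.RingTheory.Artinian.Module

namespace Groth.Agent.H28Sigma

universe u v

theorem injW
    (k : Type u) [Field k] (σ : k →+* k)
    (V : Type v) [AddCommGroup V] [Module k V] [FiniteDimensional k V] (T : V →ₛₗ[σ] V) (W : Submodule k V)
    (hW : ∀ w ∈ W, T w ∈ W) (hspan : W ≤ Submodule.span k (T '' W)) (w : V) (hw : w ∈ W) (h0 : T w = 0) : w = 0 := by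
  let b := Module.finBasis k W
  let c : Fin (Module.finrank k W) → W := fun i => ⟨T (b i), hW _ (b i).2⟩
  have hc : ⊤ ≤ Submodule.span k (Set.range c) := by
    have h1 : W ≤ (Submodule.span k (Set.range c)).map W.subtype := by
      refine hspan.trans ?_
      rw [Submodule.span_le]
      rintro _ ⟨x, hx, rfl⟩
      have hx' := b.sum_repr ⟨x, hx⟩
      have hx'' : x = ∑ i, (b.repr ⟨x, hx⟩ i) • (b i : V) := by
        refine (congrArg Subtype.val hx').symm.trans ?_
        rw [Submodule.coe_sum]; rfl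
      refine ⟨∑ i, σ (b.repr ⟨x, hx⟩ i) • c i, ?_, ?_⟩
      · exact Submodule.sum_mem _ fun i _ => Submodule.smul_mem _ _ (Submodule.subset_span ⟨i, rfl⟩)
      · conv_rhs => rw [hx'', map_sum]
        rw [map_sum]
        apply Finset.sum_congr rfl
        intro i _
        rw [map_smul, LinearMap.map_smulₛₗ]
        rfl
    intro y _
    obtain ⟨z, hz, hzy⟩ := h1 y.2
    have : z = y := Subtype.ext hzy
    rwa [← this]
  have hli : LinearIndependent k c := linearIndependent_of_top_le_span_of_card_eq_finrank hc (by simp)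
  have hx' := b.sum_repr ⟨w, hw⟩
  have hx'' : w = ∑ i, (b.repr ⟨w, hw⟩ i) • (b i : V) := by
    refine (congrArg Subtype.val hx').symm.trans ?_
    rw [Submodule.coe_sum]; rfl
  have h2 : ∑ i, σ (b.repr ⟨w, hw⟩ i) • c i = 0 := by
    apply Subtype.ext
    refine Eq.trans ?_ (h0.trans rfl : T w = ((0 : W) : V))
    conv_rhs => rw [hx'', map_sum]
    rw [Submodule.coe_sum]
    apply Finset.sum_congr rfl
    intro i _
    rw [LinearMap.map_smulₛₗ]
    rfl
  have h3 := Fintype.linearIndependent_iff.1 hli _ h2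
  rw [hx'']
  apply Finset.sum_eq_zero
  intro i _
  have := h3 i
  rw [map_eq_zero] at this
  rw [this, zero_smul]

theorem T_mem
    (k : Type u) [Field k] (σ : k →+* k)
    (V : Type v) [AddCommGroup V] [Module k V] (T : V →ₛₗ[σ] V) (n : ℕ) (w : V)
    (hw : w ∈ Submodule.span k (Set.range ((⇑T)^[n]))) : T w ∈ Submodule.span k (Set.range ((⇑T)^[n+1])) := by
  induction hw using Submodule.span_induction with
  | mem x hx =>
    obtain ⟨y, rfl⟩ := hx
    apply Submodule.subset_span
    exact ⟨y, by rw [Function.iterate_succ_apply']⟩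
  | zero => simp
  | add x y _ _ hx hy => rw [map_add]; exact Submodule.add_mem _ hx hy
  | smul c x _ hx => rw [LinearMap.map_smulₛₗ]; exact Submodule.smul_mem _ _ hx

theorem exists_stab
    (k : Type u) [Field k] (σ : k →+* k)
    (V : Type v) [AddCommGroup V] [Module k V] [FiniteDimensional k V] (T : V →ₛₗ[σ] V) :
    ∃ N, ∀ n, N ≤ n → Submodule.span k (Set.range ((⇑T)^[n])) = Submodule.span k (Set.range ((⇑T)^[N])) := by
  let F : ℕ →o (Submodule k V)ᵒᵈ := ⟨fun n => OrderDual.toDual (Submodule.span k (Set.range ((⇑T)^[n]))), by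
    apply monotone_nat_of_le_succ
    intro n
    change Submodule.span k (Set.range ((⇑T)^[n+1])) ≤ Submodule.span k (Set.range ((⇑T)^[n]))
    rw [Submodule.span_le]
    rintro _ ⟨x, rfl⟩
    rw [Function.iterate_succ_apply]
    exact Submodule.subset_span ⟨_, rfl⟩⟩
  obtain ⟨N, hN⟩ := IsArtinian.monotone_stabilizes F
  exact ⟨N, fun n hn => (hN n hn).symm⟩

theorem antitone_span
    (k : Type u) [Field k] (σ : k →+* k)
    (V : Type v) [AddCommGroup V] [Module k V] (T : V →ₛₗ[σ] V) (m n : ℕ) (h : m ≤ n) :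
    Submodule.span k (Set.range ((⇑T)^[n])) ≤ Submodule.span k (Set.range ((⇑T)^[m])) := by
  rw [Submodule.span_le]
  rintro _ ⟨x, rfl⟩
  obtain ⟨d, rfl⟩ := Nat.exists_eq_add_of_le h
  rw [Function.iterate_add_apply]
  exact Submodule.subset_span ⟨_, rfl⟩

theorem iInf_eq
    (k : Type u) [Field k] (σ : k →+* k)
    (V : Type v) [AddCommGroup V] [Module k V] (T : V →ₛₗ[σ] V) (N : ℕ)
    (hN : ∀ n, N ≤ n → Submodule.span k (Set.range ((⇑T)^[n])) = Submodule.span k (Set.range ((⇑T)^[N]))) :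
    (⨅ n : ℕ, Submodule.span k (Set.range ((⇑T)^[n]))) = Submodule.span k (Set.range ((⇑T)^[N])) := by
  apply le_antisymm (iInf_le _ N)
  apply le_iInf
  intro n
  rcases le_total N n with h | h
  · rw [hN n h]
  · exact antitone_span k σ V T n N h

theorem iter_smul (k : Type u) [Field k] (σ : k →+* k)
    (V : Type v) [AddCommGroup V] [Module k V] (T : V →ₛₗ[σ] V) (n : ℕ) (c : k) (v : V) :
    (⇑T)^[n] (c • v) = ((⇑σ)^[n] c) • (⇑T)^[n] v := by
  induction n generalizing c v with
  | zero => rfl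
  | succ n ih => rw [Function.iterate_succ_apply, LinearMap.map_smulₛₗ, ih]; rfl

theorem iter_add (k : Type u) [Field k] (σ : k →+* k)
    (V : Type v) [AddCommGroup V] [Module k V] (T : V →ₛₗ[σ] V) (n : ℕ) (v w : V) :
    (⇑T)^[n] (v + w) = (⇑T)^[n] v + (⇑T)^[n] w := by
  induction n generalizing v w with
  | zero => rfl
  | succ n ih => rw [Function.iterate_succ_apply, map_add, ih]; rfl

theorem iter_zero (k : Type u) [Field k] (σ : k →+* k)
    (V : Type v) [AddCommGroup V] [Module k V] (T : V →ₛₗ[σ] V) (n : ℕ) :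
    (⇑T)^[n] (0 : V) = 0 := by
  induction n with
  | zero => rfl
  | succ n ih => rw [Function.iterate_succ_apply, map_zero, ih]

theorem mem_span_iff (k : Type u) [Field k] (σ : k →+* k) (hσ : Function.Surjective σ)
    (V : Type v) [AddCommGroup V] [Module k V] (T : V →ₛₗ[σ] V) (n : ℕ) (w : V) :
    w ∈ Submodule.span k (Set.range ((⇑T)^[n])) ↔ ∃ v, (⇑T)^[n] v = w := by
  constructor
  · intro hw
    induction hw using Submodule.span_induction with
    | mem x hx => exact hx
    | zero => exact ⟨0, iter_zero k σ V T n⟩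
    | add x y _ _ hx hy =>
      obtain ⟨a, rfl⟩ := hx
      obtain ⟨b, rfl⟩ := hy
      exact ⟨a + b, iter_add k σ V T n a b⟩
    | smul c x _ hx =>
      obtain ⟨a, rfl⟩ := hx
      obtain ⟨d, hd⟩ := hσ.iterate n c
      exact ⟨d • a, by rw [iter_smul, hd]⟩
  · rintro ⟨v, rfl⟩
    exact Submodule.subset_span ⟨v, rfl⟩

/-- key facts on the stable part -/
theorem stable
    (k : Type u) [Field k] (σ : k →+* k)
    (V : Type v) [AddCommGroup V] [Module k V] (T : V →ₛₗ[σ] V) (N : ℕ)
    (hN : ∀ n, N ≤ n → Submodule.span k (Set.range ((⇑T)^[n])) = Submodule.span k (Set.range ((⇑T)^[N]))) :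
    (∀ w ∈ Submodule.span k (Set.range ((⇑T)^[N])), T w ∈ Submodule.span k (Set.range ((⇑T)^[N]))) ∧
    Submodule.span k (Set.range ((⇑T)^[N])) ≤ Submodule.span k (T '' (Submodule.span k (Set.range ((⇑T)^[N])))) := by
  constructor
  · intro w hw
    have := T_mem k σ V T N w hw
    rwa [hN (N+1) (Nat.le_succ N)] at this
  · have : Submodule.span k (Set.range ((⇑T)^[N])) = Submodule.span k (Set.range ((⇑T)^[N+1])) := (hN (N+1) (Nat.le_succ N)).symm
    conv_lhs => rw [this]
    rw [Submodule.span_le]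
    rintro _ ⟨x, rfl⟩
    rw [Function.iterate_succ_apply']
    exact Submodule.subset_span ⟨_, Submodule.subset_span ⟨x, rfl⟩, rfl⟩

theorem exists_fixed
    (k : Type u) [Field k] (σ : k →+* k)
    (V : Type v) [AddCommGroup V] [Module k V] [FiniteDimensional k V] (T : V →ₛₗ[σ] V)
    (h2 : ∀ (n : ℕ) (b : Fin (n + 1) → k), b ≠ 0 →
      ∃ x : k, x ≠ 0 ∧ x = ∑ i : Fin (n + 1), (⇑σ)^[i.val + 1] x * (⇑σ)^[i.val] (b (Fin.rev i)))
    (e : V) (he : ∀ m : ℕ, (⇑T)^[m] e ≠ 0) :
    ∃ v ∈ Submodule.span k (Set.range (fun m : ℕ => (⇑T)^[m] e)), v ≠ 0 ∧ T v = v := by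
  classical
  have hex : ∃ m : ℕ, ¬ LinearIndependent k (fun i : Fin m => (⇑T)^[(i : ℕ)] e) := by
    refine ⟨Module.finrank k V + 1, fun h => ?_⟩
    have := h.fintype_card_le_finrank
    simp at this
  obtain ⟨n, hn⟩ : ∃ n, Nat.find hex = n + 2 := by
    have h0 : Nat.find hex ≠ 0 := by
      intro h
      have := Nat.find_spec hex
      rw [h] at this
      exact this linearIndependent_empty_type
    have h1 : Nat.find hex ≠ 1 := by
      intro h
      have := Nat.find_spec hex
      rw [h] at this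
      apply this
      rw [linearIndependent_unique_iff]
      exact he _
    exact ⟨Nat.find hex - 2, by omega⟩
  have hdep := Nat.find_spec hex
  rw [hn] at hdep
  have hind : LinearIndependent k (fun i : Fin (n+1) => (⇑T)^[(i : ℕ)] e) := by
    by_contra h
    have := Nat.find_min' hex h
    omega
  have hmem : (⇑T)^[n+1] e ∈ Submodule.span k (Set.range (fun i : Fin (n+1) => (⇑T)^[(i : ℕ)] e)) := by
    by_contra hcon
    apply hdep
    rw [linearIndependent_finSucc']
    exact ⟨hind, hcon⟩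
  obtain ⟨b, hb⟩ := (Submodule.mem_span_range_iff_exists_fun k).1 hmem
  have hb0 : b ≠ 0 := by
    rintro rfl
    apply he (n+1)
    rw [← hb]
    simp
  obtain ⟨x, hx0, hx⟩ := h2 n b hb0
  let B : ℕ → k := fun j => if h : j < n + 1 then b ⟨j, h⟩ else 0
  have hB : ∀ i : Fin (n+1), B i = b i := fun i => dif_pos i.2
  let X : ℕ → k := fun j => ∑ i ∈ Finset.range (j+1), (⇑σ)^[i+1] x * (⇑σ)^[i] (B (j - i))
  have hXs : ∀ j, X (j+1) = σ (X j) + σ x * B (j+1) := by
    intro j
    simp only [X]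
    rw [Finset.sum_range_succ', map_sum]
    congr 1
    apply Finset.sum_congr rfl
    intro i _
    rw [map_mul, ← Function.iterate_succ_apply' (⇑σ), ← Function.iterate_succ_apply' (⇑σ)]
    have : j + 1 - (i + 1) = j - i := by omega
    rw [this]
  have hX0 : X 0 = σ x * B 0 := by simp [X]
  have hXn : X n = x := by
    conv_rhs => rw [hx]
    simp only [X]
    rw [Finset.sum_range]
    apply Finset.sum_congr rfl
    intro i _
    congr 2
    rw [← hB]
    congr 1
    rw [Fin.val_rev]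
    omega
  have hb' : ∑ j ∈ Finset.range (n+1), B j • (⇑T)^[j] e = (⇑T)^[n+1] e := by
    rw [← hb, Finset.sum_range]
    apply Finset.sum_congr rfl
    intro i _
    rw [hB]
  refine ⟨∑ j ∈ Finset.range (n+1), X j • (⇑T)^[j] e, ?_, ?_, ?_⟩
  · exact Submodule.sum_mem _ fun j _ => Submodule.smul_mem _ _ (Submodule.subset_span ⟨j, rfl⟩)
  · intro h0
    rw [Finset.sum_range] at h0
    have := Fintype.linearIndependent_iff.1 hind _ h0 (Fin.last n)
    rw [Fin.val_last, hXn] at this
    exact hx0 this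
  · rw [map_sum]
    have h1 : ∀ j ∈ Finset.range (n+1), T (X j • (⇑T)^[j] e) = σ (X j) • (⇑T)^[j+1] e := by
      intro j _
      rw [LinearMap.map_smulₛₗ, Function.iterate_succ_apply']
    rw [Finset.sum_congr rfl h1, Finset.sum_range_succ, hXn, ← hb', Finset.smul_sum,
      Finset.sum_range_succ' (fun j => X j • (⇑T)^[j] e), Finset.sum_range_succ' (fun i => σ x • B i • (⇑T)^[i] e),
      hX0, ← add_assoc, ← Finset.sum_add_distrib, mul_smul]
    congr 1
    apply Finset.sum_congr rfl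
    intro j _
    rw [hXs, add_smul, mul_smul]

theorem sub_surj
    (k : Type u) [Field k] (σ : k →+* k)
    (V : Type v) [AddCommGroup V] [Module k V] (T : V →ₛₗ[σ] V)
    (h3 : ∀ c : k, ∃ y : k, σ y - y + c = 0) (z : V) (hz : z ∈ Submodule.span k {f : V | T f = f}) :
    ∃ u ∈ Submodule.span k {f : V | T f = f}, u - T u = z := by
  have key : ∀ c : k, ∃ u ∈ Submodule.span k {f : V | T f = f}, u - T u = c • z := by
    induction hz using Submodule.span_induction with
    | mem f hf =>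
      intro c
      obtain ⟨y, hy⟩ := h3 c
      refine ⟨y • f, Submodule.smul_mem _ _ (Submodule.subset_span hf), ?_⟩
      have hf' : T f = f := hf
      rw [LinearMap.map_smulₛₗ, hf', ← sub_smul]
      congr 1
      linear_combination -hy
    | zero => intro c; exact ⟨0, Submodule.zero_mem _, by simp⟩
    | add x y _ _ hx hy =>
      intro c
      obtain ⟨u, hu, hu'⟩ := hx c
      obtain ⟨w, hw, hw'⟩ := hy c
      refine ⟨u + w, Submodule.add_mem _ hu hw, ?_⟩
      rw [map_add, smul_add, ← hu', ← hw']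
      abel
    | smul a x _ hx =>
      intro c
      rw [smul_smul]
      exact hx (c * a)
  obtain ⟨u, hu, h⟩ := key 1
  exact ⟨u, hu, by rw [h, one_smul]⟩

theorem T_span_mem
    (k : Type u) [Field k] (σ : k →+* k)
    (V : Type v) [AddCommGroup V] [Module k V] (T : V →ₛₗ[σ] V) (w : V)
    (hw : w ∈ Submodule.span k {f : V | T f = f}) : T w ∈ Submodule.span k {f : V | T f = f} := by
  induction hw using Submodule.span_induction with
  | mem x hx => rw [show T x = x from hx]; exact Submodule.subset_span hx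
  | zero => simp
  | add x y _ _ hx hy => rw [map_add]; exact Submodule.add_mem _ hx hy
  | smul c x _ hx => rw [LinearMap.map_smulₛₗ]; exact Submodule.smul_mem _ _ hx

theorem span_fixed
    (k : Type u) [Field k] (σ : k →+* k)
    (V : Type v) [AddCommGroup V] [Module k V] [FiniteDimensional k V] (T : V →ₛₗ[σ] V)
    (h1 : Submodule.span k (Set.range ⇑T) = ⊤)
    (h2 : ∀ (n : ℕ) (b : Fin (n + 1) → k), b ≠ 0 →
      ∃ x : k, x ≠ 0 ∧ x = ∑ i : Fin (n + 1), (⇑σ)^[i.val + 1] x * (⇑σ)^[i.val] (b (Fin.rev i)))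
    (h3 : ∀ c : k, ∃ y : k, σ y - y + c = 0) :
    Submodule.span k {f : V | T f = f} = ⊤ := by
  by_contra hne
  let W := Submodule.span k {f : V | T f = f}
  let Tb : (V ⧸ W) →ₛₗ[σ] (V ⧸ W) := Submodule.mapQ W W T (fun w hw => T_span_mem k σ V T w hw)
  have hTb : ∀ v, Tb (Submodule.Quotient.mk v) = Submodule.Quotient.mk (T v) := fun v => rfl
  have hspan : (⊤ : Submodule k (V ⧸ W)) ≤ Submodule.span k (Tb '' (⊤ : Submodule k (V ⧸ W))) := by
    intro q _
    obtain ⟨v, rfl⟩ := Submodule.Quotient.mk_surjective _ q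
    have hv : v ∈ Submodule.span k (Set.range ⇑T) := by rw [h1]; trivial
    induction hv using Submodule.span_induction with
    | mem x hx =>
      obtain ⟨y, rfl⟩ := hx
      exact Submodule.subset_span ⟨Submodule.Quotient.mk y, trivial, rfl⟩
    | zero => exact Submodule.zero_mem _
    | add x y _ _ hx hy => exact Submodule.add_mem _ (hx trivial) (hy trivial)
    | smul c x _ hx => exact Submodule.smul_mem _ _ (hx trivial)
  have hinj : ∀ q, Tb q = 0 → q = 0 := fun q hq =>
    injW k σ (V ⧸ W) Tb ⊤ (fun _ _ => trivial) hspan q trivial hq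
  obtain ⟨v, hv⟩ : ∃ v : V, v ∉ W := by
    by_contra hcon
    push Not at hcon
    exact hne (eq_top_iff.2 fun v _ => hcon v)
  have hit : ∀ m : ℕ, (⇑Tb)^[m] (Submodule.Quotient.mk v) ≠ 0 := by
    intro m
    induction m with
    | zero =>
      intro h
      exact hv ((Submodule.Quotient.mk_eq_zero W).1 h)
    | succ m ih =>
      intro h
      rw [Function.iterate_succ_apply'] at h
      exact ih (hinj _ h)
  obtain ⟨q, _, hq0, hq⟩ := exists_fixed k σ (V ⧸ W) Tb h2 (Submodule.Quotient.mk v) hit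
  obtain ⟨w, rfl⟩ := Submodule.Quotient.mk_surjective _ q
  rw [hTb, Submodule.Quotient.eq] at hq
  obtain ⟨u, hu, huz⟩ := sub_surj k σ V T h3 _ hq
  apply hq0
  rw [Submodule.Quotient.mk_eq_zero]
  have hfix : T (w + u) = w + u := by
    rw [map_add]
    have : T u = u - (T w - w) := by rw [← huz]; abel
    rw [this]; abel
  have h5 : w + u ∈ W := Submodule.subset_span hfix
  have : w = (w + u) - u := by abel
  rw [this]
  exact Submodule.sub_mem _ h5 hu

theorem exists_basis_of_span (k : Type u) [Field k]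
    (V : Type v) [AddCommGroup V] [Module k V] [FiniteDimensional k V] (S : Set V) (hS : Submodule.span k S = ⊤) :
    ∃ b : Module.Basis (Fin (Module.finrank k V)) k V, ∀ i, b i ∈ S := by
  obtain ⟨B, hB, hspan, hli⟩ := exists_linearIndependent k S
  let b0 : Module.Basis B k V := Module.Basis.mk hli (by rw [Subtype.range_coe, hspan, hS])
  refine ⟨b0.reindex (b0.indexEquiv (Module.finBasis k V)), fun i => ?_⟩
  rw [Module.Basis.reindex_apply, Module.Basis.mk_apply]
  exact hB (Subtype.property _)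

theorem basis_and_surj
    (k : Type u) [Field k] (σ : k →+* k)
    (V : Type v) [AddCommGroup V] [Module k V] [FiniteDimensional k V] (T : V →ₛₗ[σ] V)
    (h1 : Submodule.span k (Set.range ⇑T) = ⊤)
    (h2 : ∀ (n : ℕ) (b : Fin (n + 1) → k), b ≠ 0 →
      ∃ x : k, x ≠ 0 ∧ x = ∑ i : Fin (n + 1), (⇑σ)^[i.val + 1] x * (⇑σ)^[i.val] (b (Fin.rev i)))
    (h3 : ∀ c : k, ∃ y : k, σ y - y + c = 0) :
    (∃ b : Module.Basis (Fin (Module.finrank k V)) k V, ∀ i, T (b i) = b i) ∧
    Function.Surjective (fun v : V => v - T v) := by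
  have hs := span_fixed k σ V T h1 h2 h3
  refine ⟨exists_basis_of_span k V _ hs, fun z => ?_⟩
  obtain ⟨u, _, hu⟩ := sub_surj k σ V T h3 z (by rw [hs]; trivial)
  exact ⟨u, hu⟩

theorem fitting
    (k : Type u) [Field k] (σ : k →+* k) (hσ : Function.Surjective σ)
    (V : Type v) [AddCommGroup V] [Module k V] [FiniteDimensional k V] (T : V →ₛₗ[σ] V) (N : ℕ)
    (hN : ∀ n, N ≤ n → Submodule.span k (Set.range ((⇑T)^[n])) = Submodule.span k (Set.range ((⇑T)^[N]))) (v : V) :
    ∃ v0 w, v = v0 + w ∧ (⇑T)^[N] v0 = 0 ∧ w ∈ Submodule.span k (Set.range ((⇑T)^[N])) := by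
  have h1 : (⇑T)^[N] v ∈ Submodule.span k (Set.range ((⇑T)^[N+N])) := by
    rw [hN (N+N) (Nat.le_add_left _ _)]
    exact Submodule.subset_span ⟨v, rfl⟩
  obtain ⟨u, hu⟩ := (mem_span_iff k σ hσ V T _ _).1 h1
  refine ⟨v - (⇑T)^[N] u, (⇑T)^[N] u, by abel, ?_, Submodule.subset_span ⟨u, rfl⟩⟩
  have h2 : (⇑T)^[N] ((v - (⇑T)^[N] u) + (⇑T)^[N] u) = (⇑T)^[N] (v - (⇑T)^[N] u) + (⇑T)^[N] ((⇑T)^[N] u) := iter_add k σ V T N _ _
  rw [sub_add_cancel, ← Function.iterate_add_apply, hu] at h2
  exact (left_eq_add.1 (h2.trans (add_comm _ _)))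

theorem iter_inj
    (k : Type u) [Field k] (σ : k →+* k)
    (V : Type v) [AddCommGroup V] [Module k V] [FiniteDimensional k V] (T : V →ₛₗ[σ] V) (W : Submodule k V)
    (hW : ∀ w ∈ W, T w ∈ W) (hspan : W ≤ Submodule.span k (T '' W)) :
    ∀ n : ℕ, ∀ v ∈ W, (⇑T)^[n] v = 0 → v = 0 := by
  intro n
  induction n with
  | zero => intro v _ h; simpa using h
  | succ n ih =>
    intro v hv h
    rw [Function.iterate_succ_apply] at h
    exact injW k σ V T W hW hspan v hv (ih _ (hW v hv) h)

theorem main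
    (k : Type u) [Field k] (σ : k →+* k) (hσ : Function.Surjective σ)
    (V : Type v) [AddCommGroup V] [Module k V] [FiniteDimensional k V] (T : V →ₛₗ[σ] V)
    (h2 : ∀ (n : ℕ) (b : Fin (n + 1) → k), b ≠ 0 →
      ∃ x : k, x ≠ 0 ∧ x = ∑ i : Fin (n + 1), (⇑σ)^[i.val + 1] x * (⇑σ)^[i.val] (b (Fin.rev i)))
    (h3 : ∀ c : k, ∃ y : k, σ y - y + c = 0) :
    Function.Surjective (fun v : V => v - T v) ∧
    ∃ b : Module.Basis (Fin (Module.finrank k ↥(⨅ n : ℕ, Submodule.span k (Set.range ((⇑T)^[n]))))) k ↥(⨅ n : ℕ, Submodule.span k (Set.range ((⇑T)^[n]))),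
      ∀ i, T (b i : V) = (b i : V) := by
  obtain ⟨N, hN⟩ := exists_stab k σ V T
  obtain ⟨hW, hspan⟩ := stable k σ V T N hN
  have hinf := iInf_eq k σ V T N hN
  rw [← hinf] at hW hspan
  have hfit := fitting k σ hσ V T N hN
  rw [← hinf] at hfit
  generalize (⨅ n : ℕ, Submodule.span k (Set.range ((⇑T)^[n]))) = W at hW hspan hfit ⊢
  let TW : W →ₛₗ[σ] W :=
    { toFun := fun w => ⟨T w, hW w w.2⟩
      map_add' := by intro x y; apply Subtype.ext; simp
      map_smul' := by intro c x; apply Subtype.ext; simp [LinearMap.map_smulₛₗ] }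
  have hTW : Submodule.span k (Set.range ⇑TW) = ⊤ := by
    rw [eq_top_iff]
    have h1 : W ≤ (Submodule.span k (Set.range ⇑TW)).map W.subtype := by
      refine hspan.trans ?_
      rw [Submodule.span_le]
      rintro _ ⟨x, hx, rfl⟩
      exact ⟨TW ⟨x, hx⟩, Submodule.subset_span ⟨_, rfl⟩, rfl⟩
    intro y _
    obtain ⟨z, hz, hzy⟩ := h1 y.2
    have : z = y := Subtype.ext hzy
    rwa [← this]
  obtain ⟨⟨b, hb⟩, hsurj⟩ := basis_and_surj k σ W TW hTW h2 h3
  refine ⟨fun z => ?_, b, fun i => congrArg Subtype.val (hb i)⟩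
  obtain ⟨z0, w, hz, hz0, hw⟩ := hfit z
  obtain ⟨u, hu⟩ := hsurj ⟨w, hw⟩
  have hu' : (u : V) - T u = w := congrArg Subtype.val hu
  have hn : ∀ n : ℕ, (∑ i ∈ Finset.range n, (⇑T)^[i] z0) - T (∑ i ∈ Finset.range n, (⇑T)^[i] z0) = z0 - (⇑T)^[n] z0 := by
    intro n
    induction n with
    | zero => simp
    | succ n ih =>
      rw [Finset.sum_range_succ, map_add, Function.iterate_succ_apply']
      have : ∀ a b c d : V, a + b - (c + d) = (a - c) + (b - d) := by intros; abel
      rw [this, ih]; abel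
  refine ⟨(∑ i ∈ Finset.range N, (⇑T)^[i] z0) + u, ?_⟩
  have h4 := hn N
  rw [hz0, sub_zero] at h4
  simp only [map_add]
  have : ∀ a b c d : V, a + b - (c + d) = (a - c) + (b - d) := by intros; abel
  rw [this, h4, hu', ← hz]

end Groth.Agent.H28Sigma
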