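import Groth.Agent.Lib.Helper28_SigmaLin
import Mathlib.RingTheory.Ideal.Quotient.Operations
import Mathlib.LinearAlgebra.Quotient.Basic
import Mathlib.Algebra.Module.Torsion.Basic

set_option linter.style.haveILetI false

namespace Groth.Agent.H28Sigma

universe u v w

section
variable (R : Type u) [CommRing R] (k : Type w) [Field k] (π : R →+* k) (hπ : Function.Surjective π)
  (M : Type v) [AddCommGroup M] [Module R M]

noncomputable abbrev modK : Module k (M ⧸ (RingHom.ker π • (⊤ : Submodule R M))) :=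
  Module.compHom _ (RingHom.quotientKerEquivOfSurjective hπ).symm.toRingHom

theorem modK_smul (r : R) (m : M) :
    letI := modK R k π hπ M
    (π r) • (Submodule.Quotient.mk m : M ⧸ (RingHom.ker π • (⊤ : Submodule R M))) = Submodule.Quotient.mk (r • m) := by
  letI := modK R k π hπ M
  change ((RingHom.quotientKerEquivOfSurjective hπ).symm (π r)) • (Submodule.Quotient.mk m : M ⧸ (RingHom.ker π • (⊤ : Submodule R M))) = _
  rw [RingHom.quotientKerEquivOfSurjective_symm_apply]
  rfl

theorem finK [Module.Finite R M] :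
    letI := modK R k π hπ M
    Module.Finite k (M ⧸ (RingHom.ker π • (⊤ : Submodule R M))) := by
  letI := modK R k π hπ M
  haveI : RingHomSurjective π := ⟨hπ⟩
  let f : M →ₛₗ[π] (M ⧸ (RingHom.ker π • (⊤ : Submodule R M))) :=
    { toFun := Submodule.Quotient.mk
      map_add' := fun _ _ => rfl
      map_smul' := fun r m => (modK_smul R k π hπ M r m).symm }
  exact Module.Finite.of_surjective f (Submodule.Quotient.mk_surjective _)

theorem mem_ker_smul (p : ℕ) (hker : ∀ r, π r = 0 → ∃ s, r = (p : R) * s) (m : M)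
    (hm : m ∈ RingHom.ker π • (⊤ : Submodule R M)) : ∃ m', m = (p : R) • m' := by
  induction hm using Submodule.smul_induction_on' with
  | smul r hr n hn =>
    obtain ⟨s, rfl⟩ := hker r hr
    exact ⟨s • n, by rw [mul_smul]⟩
  | add x hx y hy h1 h2 =>
    obtain ⟨a, rfl⟩ := h1
    obtain ⟨b, rfl⟩ := h2
    exact ⟨a + b, by rw [smul_add]⟩

theorem exists_Tb (σ : R →+* R) (σbar : k →+* k) (hσ : ∀ r, σbar (π r) = π (σ r)) (T : M →ₛₗ[σ] M) :
    letI := modK R k π hπ M
    ∃ Tb : (M ⧸ (RingHom.ker π • (⊤ : Submodule R M))) →ₛₗ[σbar] (M ⧸ (RingHom.ker π • (⊤ : Submodule R M))),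
      ∀ m : M, Tb (Submodule.Quotient.mk m) = Submodule.Quotient.mk (T m) := by
  letI := modK R k π hπ M
  have hT : RingHom.ker π • (⊤ : Submodule R M) ≤ Submodule.comap T (RingHom.ker π • (⊤ : Submodule R M)) := by
    intro m hm
    rw [Submodule.mem_comap]
    induction hm using Submodule.smul_induction_on' with
    | smul r hr n hn =>
      rw [LinearMap.map_smulₛₗ]
      refine Submodule.smul_mem_smul ?_ Submodule.mem_top
      rw [RingHom.mem_ker, ← hσ, RingHom.mem_ker.1 hr, map_zero]
    | add x hx y hy h1 h2 => rw [map_add]; exact Submodule.add_mem _ h1 h2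
  let Tq := Submodule.mapQ _ _ T hT
  refine ⟨
    { toFun := Tq
      map_add' := map_add Tq
      map_smul' := ?_ }, fun m => rfl⟩
  intro c q
  obtain ⟨r, rfl⟩ := hπ c
  obtain ⟨m, rfl⟩ := Submodule.Quotient.mk_surjective _ q
  rw [modK_smul]
  rw [hσ]
  change Submodule.Quotient.mk (T (r • m)) = π (σ r) • Submodule.Quotient.mk (T m)
  rw [modK_smul, LinearMap.map_smulₛₗ]

theorem subSurj (p : ℕ) (hker : ∀ r, π r = 0 → ∃ s, r = (p : R) * s)
    (σ : R →+* R) (σbar : k →+* k) (hσ : ∀ r, σbar (π r) = π (σ r)) (T : M →ₛₗ[σ] M) [Module.Finite R M]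
    (n : ℕ) (hn : ∀ m : M, (p : R) ^ n • m = 0)
    (hsurj : Function.Surjective σbar)
    (h2 : ∀ (n : ℕ) (b : Fin (n + 1) → k), b ≠ 0 →
      ∃ x : k, x ≠ 0 ∧ x = ∑ i : Fin (n + 1), (⇑σbar)^[i.val + 1] x * (⇑σbar)^[i.val] (b (Fin.rev i)))
    (h3 : ∀ c : k, ∃ y : k, σbar y - y + c = 0) (hπ : Function.Surjective π) :
    Function.Surjective (fun m : M => m - T m) := by
  letI := modK R k π hπ M
  haveI := finK R k π hπ M
  obtain ⟨Tb, hTb⟩ := exists_Tb R k π hπ M σ σbar hσ T
  obtain ⟨hs, _⟩ := main k σbar hsurj _ Tb h2 h3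
  have step : ∀ m : M, ∃ u m' : M, m = (u - T u) + (p : R) • m' := by
    intro m
    obtain ⟨q, hq⟩ := hs (Submodule.Quotient.mk m)
    obtain ⟨u, rfl⟩ := Submodule.Quotient.mk_surjective _ q
    simp only [hTb] at hq
    rw [← Submodule.Quotient.mk_sub, eq_comm, Submodule.Quotient.eq] at hq
    obtain ⟨m', hm'⟩ := mem_ker_smul R k π M p hker _ hq
    exact ⟨u, m', by rw [← hm']; abel⟩
  have key : ∀ j : ℕ, ∀ m : M, ∃ u m' : M, m = (u - T u) + (p : R) ^ j • m' := by
    intro j
    induction j with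
    | zero => intro m; exact ⟨0, m, by simp⟩
    | succ j ih =>
      intro m
      obtain ⟨u, m', rfl⟩ := ih m
      obtain ⟨u', m'', rfl⟩ := step m'
      refine ⟨u + (p : R) ^ j • u', m'', ?_⟩
      rw [map_add, LinearMap.map_smulₛₗ, map_pow, map_natCast, smul_add, smul_sub, smul_smul, pow_succ]
      abel
  intro m
  obtain ⟨u, m', h⟩ := key n m
  refine ⟨u, ?_⟩
  rw [h, hn, add_zero]

end

theorem fixed_fg
    (R : Type u) [CommRing R] (k : Type w) [Field k] (π : R →+* k) (hπ : Function.Surjective π)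
    (p : ℕ) (hker : ∀ r, π r = 0 → ∃ s, r = (p : R) * s)
    (σ : R →+* R) (σbar : k →+* k) (hσ : ∀ r, σbar (π r) = π (σ r))
    (hlift : ∀ x : k, σbar x = x → ∃ r : R, σ r = r ∧ π r = x) (n : ℕ) :
    ∀ (M : Type v) [AddCommGroup M] [Module R M] [Module.Finite R M] (T : M →ₛₗ[σ] M)
      (_ : ∀ m : M, (p : R) ^ n • m = 0),
    ∃ (d : ℕ) (s : Fin d → M), (∀ i, T (s i) = s i) ∧ ∀ m : M, T m = m →
      ∃ c : Fin d → R, (∀ i, σ (c i) = c i) ∧ m = ∑ i, c i • s i := by
  induction n with
  | zero =>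
    intro M _ _ _ T hn
    refine ⟨0, Fin.elim0, fun i => i.elim0, fun m _ => ⟨Fin.elim0, fun i => i.elim0, ?_⟩⟩
    have := hn m
    rw [pow_zero, one_smul] at this
    simp [this]
  | succ n ih =>
    intro M _ _ _ T hn
    let N : Submodule R M := LinearMap.range (LinearMap.lsmul R M (p : R))
    have hTN : ∀ x ∈ N, T x ∈ N := by
      rintro _ ⟨y, rfl⟩
      refine ⟨T y, ?_⟩
      rw [LinearMap.lsmul_apply, LinearMap.lsmul_apply, LinearMap.map_smulₛₗ, map_natCast]
    let TN : N →ₛₗ[σ] N :=
      { toFun := fun w => ⟨T w, hTN w w.2⟩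
        map_add' := by intro x y; apply Subtype.ext; simp
        map_smul' := by intro c x; apply Subtype.ext; simp [LinearMap.map_smulₛₗ] }
    obtain ⟨d, s, hs, hgen⟩ := ih N TN (by
      rintro ⟨_, y, rfl⟩
      apply Subtype.ext
      change (p : R) ^ n • ((p : R) • y) = 0
      rw [smul_smul, ← pow_succ]
      exact hn y)
    letI := modK R k π hπ M
    haveI := finK R k π hπ M
    obtain ⟨Tb, hTb⟩ := exists_Tb R k π hπ M σ σbar hσ T
    let U : Set (M ⧸ (RingHom.ker π • (⊤ : Submodule R M))) := {q | ∃ m, T m = m ∧ Submodule.Quotient.mk m = q}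
    obtain ⟨B, hBU, hspan, hli⟩ := exists_linearIndependent k U
    have hBfin : Finite B := hli.setFinite.to_subtype
    obtain ⟨d', ⟨e⟩⟩ := Finite.exists_equiv_fin B
    have hex : ∀ j : Fin d', ∃ m : M, T m = m ∧ (Submodule.Quotient.mk m : M ⧸ (RingHom.ker π • (⊤ : Submodule R M))) = e.symm j :=
      fun j => hBU (e.symm j).2
    choose t ht1 ht2 using hex
    have hlit : LinearIndependent k (fun j : Fin d' => (Submodule.Quotient.mk (t j) : M ⧸ (RingHom.ker π • (⊤ : Submodule R M)))) := by
      have h11 := hli.comp e.symm e.symm.injective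
      have h12 : (fun j : Fin d' => (Submodule.Quotient.mk (t j) : M ⧸ (RingHom.ker π • (⊤ : Submodule R M)))) = Subtype.val ∘ e.symm := funext ht2
      rw [h12]
      exact h11
    have hrange : Set.range (fun j : Fin d' => (Submodule.Quotient.mk (t j) : M ⧸ (RingHom.ker π • (⊤ : Submodule R M)))) = B := by
      ext q
      constructor
      · rintro ⟨j, rfl⟩
        simp only
        rw [ht2]; exact (e.symm j).2
      · intro hq
        exact ⟨e ⟨q, hq⟩, by simp only; rw [ht2]; simp⟩
    refine ⟨d' + d, Fin.append t (fun i => (s i : M)), ?_, ?_⟩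
    · intro l
      refine Fin.addCases (fun i => ?_) (fun i => ?_) l
      · rw [Fin.append_left]; exact ht1 i
      · rw [Fin.append_right]; exact congrArg Subtype.val (hs i)
    · intro m hm
      have h1 : (Submodule.Quotient.mk m : M ⧸ (RingHom.ker π • (⊤ : Submodule R M))) ∈ Submodule.span k B := by
        rw [hspan]; exact Submodule.subset_span ⟨m, hm, rfl⟩
      rw [← hrange] at h1
      obtain ⟨a, ha⟩ := (Submodule.mem_span_range_iff_exists_fun k).1 h1
      have ha2 : ∑ j, (σbar (a j) - a j) • (Submodule.Quotient.mk (t j) : M ⧸ (RingHom.ker π • (⊤ : Submodule R M))) = 0 := by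
        have h5 := congrArg Tb ha
        rw [hTb, hm, map_sum, ← ha, ← sub_eq_zero, ← Finset.sum_sub_distrib] at h5
        rw [← h5]
        apply Finset.sum_congr rfl
        intro j _
        rw [LinearMap.map_smulₛₗ, hTb, ht1, sub_smul]
      have ha3 := Fintype.linearIndependent_iff.1 hlit _ ha2
      have ha4 : ∀ j, ∃ r : R, σ r = r ∧ π r = a j := fun j => hlift _ (sub_eq_zero.1 (ha3 j))
      choose r hr1 hr2 using ha4
      have h6 : m - ∑ j, r j • t j ∈ RingHom.ker π • (⊤ : Submodule R M) := by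
        rw [← Submodule.Quotient.eq, ← ha]
        have : (Submodule.Quotient.mk (∑ j, r j • t j) : M ⧸ (RingHom.ker π • (⊤ : Submodule R M))) = ∑ j, Submodule.Quotient.mk (r j • t j) :=
          map_sum (Submodule.mkQ (RingHom.ker π • (⊤ : Submodule R M))) _ _
        rw [this]
        apply Finset.sum_congr rfl
        intro j _
        rw [← modK_smul R k π hπ M, hr2]
      obtain ⟨m', hm'⟩ := mem_ker_smul R k π M p hker _ h6
      obtain ⟨c, hc1, hc2⟩ := hgen ⟨m - ∑ j, r j • t j, ⟨m', hm'.symm⟩⟩ (by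
        apply Subtype.ext
        change T (m - ∑ j, r j • t j) = m - ∑ j, r j • t j
        rw [map_sub, hm, map_sum]
        congr 1
        apply Finset.sum_congr rfl
        intro j _
        rw [LinearMap.map_smulₛₗ, hr1, ht1])
      refine ⟨Fin.append r c, ?_, ?_⟩
      · intro l
        refine Fin.addCases (fun i => ?_) (fun i => ?_) l
        · rw [Fin.append_left]; exact hr1 i
        · rw [Fin.append_right]; exact hc1 i
      · rw [Fin.sum_univ_add]
        simp only [Fin.append_left, Fin.append_right]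
        have h7 := congrArg Subtype.val hc2
        rw [Submodule.coe_sum] at h7
        have h8 : m - ∑ j, r j • t j = ∑ i, c i • (s i : M) := h7
        rw [← h8]; abel

end Groth.Agent.H28Sigma
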