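import Groth.Agent.Lib.Helper28_SigmaLin2
import Groth.Prelude.Def_WittGrp
import Mathlib.FieldTheory.IsAlgClosed.Basic
import Mathlib.FieldTheory.Perfect
import Mathlib.RingTheory.WittVector.Identities
import Mathlib.RingTheory.WittVector.Truncated
import Mathlib.RingTheory.WittVector.Teichmuller

set_option linter.style.haveILetI false

namespace Groth.Agent.H28Sigma

universe u v w

theorem h2_of (p : ℕ) [Fact p.Prime] (k : Type u) [Field k] [IsAlgClosed k] (σ : k →+* k) (hσp : ∀ x : k, σ (x ^ p) = x) :
    ∀ (n : ℕ) (b : Fin (n + 1) → k), b ≠ 0 →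
      ∃ x : k, x ≠ 0 ∧ x = ∑ i : Fin (n + 1), (⇑σ)^[i.val + 1] x * (⇑σ)^[i.val] (b (Fin.rev i)) := by
  have hp := (Fact.out : p.Prime)
  have hit : ∀ (m n : ℕ) (y : k), (⇑σ)^[m] (y ^ p ^ (m + n)) = y ^ p ^ n := by
    intro m n y
    induction m with
    | zero => simp
    | succ m ih =>
      rw [Function.iterate_succ_apply]
      have : y ^ p ^ (m + 1 + n) = (y ^ p ^ (m + n)) ^ p := by
        rw [← pow_mul, ← pow_succ]; congr 2; ring
      rw [this, hσp, ih]
  intro n b hb
  -- polynomial q = X^{p^{n+1}} - ∑ c_j X^{p^j}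
  let c : Fin (n+1) → k := fun i => (⇑σ)^[i.val] (b (Fin.rev i))
  have hc : ∃ i, c i ≠ 0 := by
    by_contra hcon
    push Not at hcon
    apply hb
    ext j
    have h1 := hcon (Fin.rev j)
    have hinj : Function.Injective ((⇑σ)^[(Fin.rev j).val]) := (RingHom.injective σ).iterate _
    have h0 : (⇑σ)^[(Fin.rev j).val] (0 : k) = 0 := Function.iterate_fixed (map_zero σ) _
    have h2 := hinj (h1.trans h0.symm)
    rw [Fin.rev_rev] at h2
    exact h2
  let q : Polynomial k := Polynomial.X ^ p ^ (n+1) - ∑ i : Fin (n+1), Polynomial.C (c i) * Polynomial.X ^ p ^ (n - i.val)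
  have hlt : ∀ i : Fin (n+1), p ^ (n - i.val) < p ^ (n+1) := fun i => Nat.pow_lt_pow_right hp.one_lt (by omega)
  have hdeg : (∑ i : Fin (n+1), Polynomial.C (c i) * Polynomial.X ^ p ^ (n - i.val)).degree < ((p ^ (n+1) : ℕ) : WithBot ℕ) := by
    refine lt_of_le_of_lt (Polynomial.degree_sum_le _ _) ?_
    rw [Finset.sup_lt_iff (WithBot.bot_lt_coe _)]
    intro i _
    refine lt_of_le_of_lt (Polynomial.degree_C_mul_X_pow_le _ _) ?_
    exact_mod_cast hlt i
  have hmonic : q.Monic := Polynomial.monic_X_pow_sub (n := p ^ (n+1)) (by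
    exact hdeg)
  have hroot : ∃ y : k, y ≠ 0 ∧ q.IsRoot y := by
    by_contra hcon
    push Not at hcon
    have hr : ∀ a ∈ q.roots, a = 0 := by
      intro a ha
      by_contra hne
      exact hcon a hne ((Polynomial.mem_roots hmonic.ne_zero).1 ha)
    have hroots : q.roots = Multiset.replicate (Multiset.card q.roots) 0 := Multiset.eq_replicate.2 ⟨rfl, hr⟩
    have hsplit := (IsAlgClosed.splits q).eq_prod_roots_of_monic hmonic
    rw [hroots] at hsplit
    simp only [Multiset.map_replicate, Multiset.prod_replicate, map_zero, sub_zero] at hsplit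
    obtain ⟨i, hi⟩ := hc
    have h5 : q.coeff (p ^ (n - i.val)) = - c i := by
      simp only [q, Polynomial.coeff_sub, Polynomial.coeff_X_pow, Polynomial.finsetSum_coeff, Polynomial.coeff_C_mul]
      rw [if_neg (hlt i).ne, Finset.sum_eq_single i]
      · simp
      · intro j _ hj
        rw [if_neg, mul_zero]
        intro h
        apply hj
        have := Nat.pow_right_injective hp.two_le h
        apply Fin.ext
        have := i.2
        have := j.2
        omega
      · simp
    have h6 : q.coeff (p ^ (n+1)) = 1 := by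
      have h7 : (∑ i : Fin (n+1), Polynomial.C (c i) * Polynomial.X ^ p ^ (n - i.val)).coeff (p ^ (n+1)) = 0 :=
        Polynomial.coeff_eq_zero_of_degree_lt hdeg
      simp only [q, Polynomial.coeff_sub, Polynomial.coeff_X_pow]
      rw [if_pos trivial, h7, sub_zero]
    rw [hsplit, Polynomial.coeff_X_pow] at h5 h6
    split_ifs at h5 h6 with h8 h9
    · have := hlt i
      omega
    · exact zero_ne_one h6
    · exact hi (neg_eq_zero.1 h5.symm)
    · exact hi (neg_eq_zero.1 h5.symm)
  obtain ⟨y, hy0, hy⟩ := hroot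
  refine ⟨y ^ p ^ (n+1), pow_ne_zero _ hy0, ?_⟩
  have h9 : y ^ p ^ (n+1) - ∑ i : Fin (n+1), c i * y ^ p ^ (n - i.val) = 0 := by
    have : q.eval y = 0 := hy
    simpa [q, Polynomial.eval_finsetSum] using this
  rw [sub_eq_zero] at h9
  conv_lhs => rw [h9]
  apply Finset.sum_congr rfl
  intro i _
  rw [mul_comm]
  congr 1
  have h10 := hit (i.val + 1) (n - i.val) y
  rw [show i.val + 1 + (n - i.val) = n + 1 from by have := i.2; omega] at h10
  exact h10.symm

theorem h3_of (p : ℕ) [Fact p.Prime] (k : Type u) [Field k] [IsAlgClosed k] (σ : k →+* k) (hσp : ∀ x : k, σ (x ^ p) = x) :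
    ∀ c : k, ∃ y : k, σ y - y + c = 0 := by
  have hp := (Fact.out : p.Prime)
  intro c
  have hq : (Polynomial.X ^ p - Polynomial.X - Polynomial.C c : Polynomial k).degree ≠ 0 := by
    have : (Polynomial.X ^ p - Polynomial.X - Polynomial.C c : Polynomial k).degree = p := by
      rw [sub_sub]
      rw [Polynomial.degree_sub_eq_left_of_degree_lt]
      · simp
      · rw [Polynomial.degree_X_pow, Polynomial.degree_X_add_C]
        exact_mod_cast hp.one_lt
    rw [this]
    exact_mod_cast hp.ne_zero
  obtain ⟨z, hz⟩ := IsAlgClosed.exists_root _ hq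
  refine ⟨z ^ p, ?_⟩
  rw [hσp]
  have : z ^ p - z - c = 0 := by simpa using hz
  linear_combination -this

theorem h2_frob (p : ℕ) [Fact p.Prime] (k : Type u) [Field k] [IsAlgClosed k] (σ : k →+* k) (hσp : ∀ x : k, σ x = x ^ p) :
    ∀ (n : ℕ) (b : Fin (n + 1) → k), b ≠ 0 →
      ∃ x : k, x ≠ 0 ∧ x = ∑ i : Fin (n + 1), (⇑σ)^[i.val + 1] x * (⇑σ)^[i.val] (b (Fin.rev i)) := by
  have hp := (Fact.out : p.Prime)
  have hit : ∀ (m : ℕ) (y : k), (⇑σ)^[m] y = y ^ p ^ m := by
    intro m y
    induction m with
    | zero => simp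
    | succ m ih => rw [Function.iterate_succ_apply', ih, hσp, ← pow_mul, pow_succ]
  intro n b hb
  let c : Fin (n+1) → k := fun i => (b (Fin.rev i)) ^ p ^ i.val
  have hc : ∃ i, c i ≠ 0 := by
    by_contra hcon
    push Not at hcon
    apply hb
    ext j
    have h1 := hcon (Fin.rev j)
    simp only [c, Fin.rev_rev] at h1
    exact pow_eq_zero_iff (pow_ne_zero _ hp.ne_zero) |>.1 h1
  obtain ⟨i, hi⟩ := hc
  have h1 : ∀ j : ℕ, 1 ≤ p ^ (j+1) := fun j => Nat.one_le_pow _ _ hp.pos
  have h1' : ∀ j : ℕ, 2 ≤ p ^ (j+1) := fun j => by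
    calc 2 ≤ p := hp.two_le
      _ = p ^ 1 := (pow_one p).symm
      _ ≤ p ^ (j+1) := Nat.pow_le_pow_right hp.pos (by omega)
  let r : Polynomial k := 1 - ∑ j : Fin (n+1), Polynomial.C (c j) * Polynomial.X ^ (p ^ (j.val + 1) - 1)
  have hdeg : r.degree ≠ 0 := by
    intro h0
    have h2 := Polynomial.eq_C_of_degree_eq_zero h0
    have h3 : r.coeff (p ^ (i.val + 1) - 1) = - c i := by
      simp only [r, Polynomial.coeff_sub, Polynomial.coeff_one, Polynomial.finsetSum_coeff, Polynomial.coeff_C_mul, Polynomial.coeff_X_pow]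
      rw [if_neg (by have := h1' i.val; omega), Finset.sum_eq_single i]
      · simp
      · intro j _ hj
        rw [if_neg, mul_zero]
        intro h
        apply hj
        have h4 : p ^ (i.val + 1) = p ^ (j.val + 1) := by
          have := h1 i.val
          have := h1 j.val
          omega
        have := Nat.pow_right_injective hp.two_le h4
        apply Fin.ext
        omega
      · simp
    rw [h2, Polynomial.coeff_C, if_neg (by have := h1' i.val; omega)] at h3
    exact hi (neg_eq_zero.1 h3.symm)
  obtain ⟨y, hy⟩ := IsAlgClosed.exists_root r hdeg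
  have hy' : 1 - ∑ j : Fin (n+1), c j * y ^ (p ^ (j.val + 1) - 1) = 0 := by
    have : r.eval y = 0 := hy
    simpa [r, Polynomial.eval_finsetSum] using this
  refine ⟨y, ?_, ?_⟩
  · rintro rfl
    rw [Finset.sum_eq_zero] at hy'
    · simp at hy'
    · intro j _
      rw [zero_pow (by have := h1' j.val; omega), mul_zero]
  · have h5 : y = y * ∑ j : Fin (n+1), c j * y ^ (p ^ (j.val + 1) - 1) := by
      rw [← sub_eq_zero.1 hy', mul_one]
    conv_lhs => rw [h5]
    rw [Finset.mul_sum]
    apply Finset.sum_congr rfl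
    intro j _
    rw [hit, hit]
    have h6 : y ^ p ^ (j.val + 1) = y * y ^ (p ^ (j.val + 1) - 1) := by
      rw [← pow_succ']
      congr 1
      have := h1 j.val
      omega
    rw [h6]
    simp only [c]
    ring

theorem h3_frob (p : ℕ) [Fact p.Prime] (k : Type u) [Field k] [IsAlgClosed k] (σ : k →+* k) (hσp : ∀ x : k, σ x = x ^ p) :
    ∀ c : k, ∃ y : k, σ y - y + c = 0 := by
  have hp := (Fact.out : p.Prime)
  intro c
  have hq : (Polynomial.X ^ p - Polynomial.X + Polynomial.C c : Polynomial k).degree ≠ 0 := by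
    have : (Polynomial.X ^ p - Polynomial.X + Polynomial.C c : Polynomial k).degree = p := by
      rw [sub_add]
      rw [Polynomial.degree_sub_eq_left_of_degree_lt]
      · simp
      · rw [Polynomial.degree_X_pow, Polynomial.degree_X_sub_C]
        exact_mod_cast hp.one_lt
    rw [this]
    exact_mod_cast hp.ne_zero
  obtain ⟨z, hz⟩ := IsAlgClosed.exists_root _ hq
  refine ⟨z, ?_⟩
  rw [hσp]
  simpa using hz

theorem hkerW (p : ℕ) [Fact p.Prime] (k : Type u) [Field k] [CharP k p] [IsAlgClosed k] (x : WittVector p k)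
    (hx : x.coeff 0 = 0) : ∃ s, x = (p : WittVector p k) * s := by
  refine ⟨WittVector.mk p (fun i => (frobeniusEquiv k p).symm (x.coeff (i+1))), ?_⟩
  rw [mul_comm]
  ext i
  cases i with
  | zero => rw [WittVector.mul_charP_coeff_zero, hx]
  | succ i =>
    rw [WittVector.mul_charP_coeff_succ, WittVector.coeff_mk]
    exact ((frobeniusEquiv k p).apply_symm_apply (x.coeff (i+1))).symm

section

variable (p : ℕ) [Fact p.Prime] (k : Type u) [Field k] [CharP k p] [IsAlgClosed k] (n : ℕ)
    (f : k →+* k)
    (M : Type v) [AddCommGroup M] [Module (TruncatedWittVector p n k) M] [Module.Finite (TruncatedWittVector p n k) M]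

noncomputable abbrev modW : Module (WittVector p k) M := Module.compHom M (WittVector.truncate (p := p) (R := k) n)

theorem finW : letI := modW p k n M
    Module.Finite (WittVector p k) M := by
  letI := modW p k n M
  letI : Algebra (WittVector p k) (TruncatedWittVector p n k) := (WittVector.truncate (p := p) (R := k) n).toAlgebra
  haveI : Module.Finite (WittVector p k) (TruncatedWittVector p n k) :=
    Module.Finite.of_surjective (Algebra.linearMap (WittVector p k) (TruncatedWittVector p n k)) (WittVector.truncate_surjective p n k)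
  haveI : IsScalarTower (WittVector p k) (TruncatedWittVector p n k) M := IsScalarTower.of_algebraMap_smul (fun r m => rfl)
  exact Module.Finite.trans (TruncatedWittVector p n k) M

theorem killW (m : M) : letI := modW p k n M
    (p : WittVector p k) ^ n • m = 0 := by
  letI := modW p k n M
  change (WittVector.truncate (p := p) (R := k) n ((p : WittVector p k) ^ n)) • m = 0
  have : WittVector.truncate (p := p) (R := k) n ((p : WittVector p k) ^ n) = 0 := by
    apply TruncatedWittVector.ext
    intro i
    rw [WittVector.coeff_truncate, WittVector.coeff_p_pow_eq_zero p k i.2.ne, TruncatedWittVector.coeff_zero]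
  rw [this, zero_smul]

theorem exists_TW (σ : TruncatedWittVector p n k →+* TruncatedWittVector p n k) (hσ : σ = WittGrp.truncMap p n f)
    (T : M →ₛₗ[σ] M) : letI := modW p k n M
    ∃ TW : M →ₛₗ[(WittVector.map f : WittVector p k →+* WittVector p k)] M, ∀ m, TW m = T m := by
  letI := modW p k n M
  refine ⟨{ toFun := T, map_add' := map_add T, map_smul' := ?_ }, fun m => rfl⟩
  intro r m
  change T (WittVector.truncate (p := p) (R := k) n r • m) = WittVector.truncate (p := p) (R := k) n (WittVector.map f r) • T m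
  have h9 : σ (WittVector.truncate (p := p) (R := k) n r) = WittVector.truncate (p := p) (R := k) n (WittVector.map f r) := by
    rw [hσ, WittGrp.truncMap_truncate]
  rw [LinearMap.map_smulₛₗ, h9]

theorem surjW (σ : TruncatedWittVector p n k →+* TruncatedWittVector p n k) (hσ : σ = WittGrp.truncMap p n f)
    (T : M →ₛₗ[σ] M)
    (hsurj : Function.Surjective f)
    (h2 : ∀ (n : ℕ) (b : Fin (n + 1) → k), b ≠ 0 →
      ∃ x : k, x ≠ 0 ∧ x = ∑ i : Fin (n + 1), (⇑f)^[i.val + 1] x * (⇑f)^[i.val] (b (Fin.rev i)))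
    (h3 : ∀ c : k, ∃ y : k, f y - y + c = 0) :
    Function.Surjective (fun m : M => T m - m) := by
  letI := modW p k n M
  haveI := finW p k n M
  obtain ⟨TW, hTW⟩ := exists_TW p k n f M σ hσ T
  have h := subSurj (WittVector p k) k (WittVector.constantCoeff) M p (fun x hx => hkerW p k x hx)
    (WittVector.map f) f (fun r => (WittVector.map_coeff f r 0).symm) TW n (killW p k n M) hsurj h2 h3
    (fun a => ⟨WittVector.teichmuller p a, WittVector.teichmuller_coeff_zero p a⟩)
  intro z
  obtain ⟨u, hu⟩ := h (-z)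
  refine ⟨u, ?_⟩
  simp only [hTW] at hu
  simp only
  rw [← neg_sub, hu, neg_neg]

theorem finiteW (σ : TruncatedWittVector p n k →+* TruncatedWittVector p n k) (hσ : σ = WittGrp.truncMap p n f)
    (T : M →ₛₗ[σ] M) (hf : ∀ x : k, f x = x → x ^ p = x) :
    {m : M | T m = m}.Finite := by
  classical
  letI := modW p k n M
  haveI := finW p k n M
  obtain ⟨TW, hTW⟩ := exists_TW p k n f M σ hσ T
  obtain ⟨d, s, hs, hgen⟩ := fixed_fg (WittVector p k) k (WittVector.constantCoeff)
    (fun a => ⟨WittVector.teichmuller p a, WittVector.teichmuller_coeff_zero p a⟩) p (fun x hx => hkerW p k x hx)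
    (WittVector.map f) f (fun r => (WittVector.map_coeff f r 0).symm)
    (fun x hx => ⟨WittVector.teichmuller p x, by rw [WittVector.map_teichmuller, hx], WittVector.teichmuller_coeff_zero p x⟩)
    n M TW (killW p k n M)
  have hp := (Fact.out : p.Prime)
  have hF : {x : k | f x = x}.Finite := by
    have hq : (Polynomial.X ^ p - Polynomial.X : Polynomial k) ≠ 0 := FiniteField.X_pow_card_sub_X_ne_zero k hp.one_lt
    apply Set.Finite.subset (Polynomial.X ^ p - Polynomial.X : Polynomial k).roots.toFinset.finite_toSet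
    intro x hx
    have h1 := hf x hx
    simp [hq, sub_eq_zero, h1]
  have hS : {x : TruncatedWittVector p n k | ∀ i, x.coeff i ∈ {x : k | f x = x}}.Finite := by
    have h1 : {g : Fin n → k | ∀ i, g i ∈ {x : k | f x = x}}.Finite := Set.Finite.pi' (fun _ => hF)
    exact h1.preimage (f := fun x : TruncatedWittVector p n k => fun i => x.coeff i)
      (fun x _ y _ h => TruncatedWittVector.ext (fun i => congrFun h i))
  have hS2 : {c : Fin d → TruncatedWittVector p n k | ∀ i, c i ∈ {x : TruncatedWittVector p n k | ∀ i, x.coeff i ∈ {x : k | f x = x}}}.Finite :=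
    Set.Finite.pi' (fun _ => hS)
  apply (hS2.image (fun c => ∑ i, c i • s i)).subset
  intro m hm
  obtain ⟨c, hc1, hc2⟩ := hgen m (by rw [hTW]; exact hm)
  refine ⟨fun i => WittVector.truncate n (c i), ?_, ?_⟩
  · intro i j
    change f ((WittVector.truncate n (c i)).coeff j) = (WittVector.truncate n (c i)).coeff j
    rw [WittVector.coeff_truncate, ← WittVector.map_coeff, hc1]
  · rw [hc2]
    rfl

end

end Groth.Agent.H28Sigma
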