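import Groth.Prelude.Def_CohDer
import Mathlib.CategoryTheory.Triangulated.Generators
import Mathlib.CategoryTheory.Triangulated.Subcategory
import Mathlib.CategoryTheory.Limits.Preserves.Shapes.Products
import Mathlib.CategoryTheory.Adjunction.Additive
import Mathlib.CategoryTheory.Shift.Basic

set_option autoImplicit false
universe v u u'

namespace Groth.Agent.H2.Cpt

open CategoryTheory CategoryTheory.Limits CategoryTheory.Pretriangulated CohDer
open scoped ZeroObject

section Basic
variable {D : Type u} [Category.{v} D] [Preadditive D]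

/-- projection from the coproduct -/
noncomputable def pr {ι : Type v} (X : ι → D) [HasCoproduct X] (i : ι) : ∐ X ⟶ X i := by
  classical
  exact Sigma.desc (fun j => if h : j = i then eqToHom (by rw [h]) else 0)

lemma ι_pr_self {ι : Type v} (X : ι → D) [HasCoproduct X] (i : ι) :
    Sigma.ι X i ≫ pr X i = 𝟙 _ := by
  simp [pr]

lemma ι_pr_ne {ι : Type v} (X : ι → D) [HasCoproduct X] {i j : ι} (h : j ≠ i) :
    Sigma.ι X j ≫ pr X i = 0 := by
  simp [pr, h]

/-- `φ` is a finite sum of maps through the inclusions. -/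
def Fac {ι : Type v} {X : ι → D} [HasCoproduct X] {K : D} (φ : K ⟶ ∐ X) : Prop :=
  ∃ (s : Finset ι) (g : ∀ i, K ⟶ X i), φ = ∑ i ∈ s, g i ≫ Sigma.ι X i

lemma sum_eq_zero {ι : Type v} {X : ι → D} [HasCoproduct X] {K : D} (s : Finset ι)
    (g : ∀ i, K ⟶ X i) (h : ∑ i ∈ s, g i ≫ Sigma.ι X i = 0) (i : ι) (hi : i ∈ s) : g i = 0 := by
  classical
  have h1 := congrArg (fun t => t ≫ pr X i) h
  simp only [Preadditive.sum_comp, zero_comp, Category.assoc] at h1
  rw [Finset.sum_eq_single i] at h1
  · simpa [ι_pr_self] using h1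
  · intro j _ hj
    simp [ι_pr_ne X hj]
  · intro h; exact absurd hi h

lemma Fac.add {ι : Type v} {X : ι → D} [HasCoproduct X] {K : D} {φ ψ : K ⟶ ∐ X}
    (h1 : Fac φ) (h2 : Fac ψ) : Fac (φ + ψ) := by
  classical
  obtain ⟨s, g, rfl⟩ := h1
  obtain ⟨t, g', rfl⟩ := h2
  refine ⟨s ∪ t, fun i => (if i ∈ s then g i else 0) + (if i ∈ t then g' i else 0), ?_⟩
  simp only [Preadditive.add_comp, Finset.sum_add_distrib]
  congr 1
  · rw [← Finset.sum_subset (Finset.subset_union_left (s₁ := s) (s₂ := t))]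
    · exact Finset.sum_congr rfl (fun i hi => by simp [hi])
    · intro i _ hi; simp [hi]
  · rw [← Finset.sum_subset (Finset.subset_union_right (s₁ := s) (s₂ := t))]
    · exact Finset.sum_congr rfl (fun i hi => by simp [hi])
    · intro i _ hi; simp [hi]

lemma Fac.precomp {ι : Type v} {X : ι → D} [HasCoproduct X] {K L : D} {φ : K ⟶ ∐ X}
    (h1 : Fac φ) (a : L ⟶ K) : Fac (a ≫ φ) := by
  obtain ⟨s, g, rfl⟩ := h1
  exact ⟨s, fun i => a ≫ g i, by simp [Preadditive.comp_sum]⟩

lemma Fac.single {ι : Type v} {X : ι → D} [HasCoproduct X] {K : D} (i : ι) (g : K ⟶ X i) :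
    Fac (g ≫ Sigma.ι X i) := by
  classical
  refine ⟨{i}, fun j => if h : j = i then g ≫ eqToHom (by rw [h]) else 0, by simp⟩

lemma hom_apply {K : D} {ι : Type v} (X : ι → D) [HasCoproduct X] [DecidableEq ι] (i : ι) (g : K ⟶ X i) :
    homSumToHomCoprod K X (DirectSum.of (fun i => K ⟶ X i) i g) = g ≫ Sigma.ι X i := by
  classical
  have := DirectSum.toAddMonoid_of (fun i => Preadditive.rightComp K (Sigma.ι X i)) i g
  simp only [homSumToHomCoprod]
  convert this using 1
  · rfl
  · rfl

lemma hom_pr {K : D} {ι : Type v} (X : ι → D) [HasCoproduct X] (x : DirectSum ι (fun i => K ⟶ X i))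
    (i : ι) : (homSumToHomCoprod K X x) ≫ pr X i = x i := by
  classical
  induction x using DirectSum.induction_on with
  | zero => simp
  | of j g =>
    rw [hom_apply, Category.assoc]
    by_cases h : j = i
    · subst h; simp [ι_pr_self]
    · rw [ι_pr_ne X h, comp_zero, DirectSum.of_eq_of_ne _ _ _ (Ne.symm h)]
  | add x y hx' hy' =>
    rw [map_add, Preadditive.add_comp, hx', hy']; rfl

lemma injective {K : D} {ι : Type v} (X : ι → D) [HasCoproduct X] :
    Function.Injective (homSumToHomCoprod K X) := by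
  classical
  rw [injective_iff_map_eq_zero]
  intro x hx
  refine DFinsupp.ext fun i => ?_
  rw [← hom_pr X x i, hx, zero_comp]; rfl

lemma fac_iff_mem_range {K : D} {ι : Type v} (X : ι → D) [HasCoproduct X] (φ : K ⟶ ∐ X) :
    Fac φ ↔ ∃ x, homSumToHomCoprod K X x = φ := by
  classical
  constructor
  · rintro ⟨s, g, rfl⟩
    refine ⟨∑ i ∈ s, DirectSum.of (fun i => K ⟶ X i) i (g i), ?_⟩
    rw [map_sum]
    exact Finset.sum_congr rfl fun i _ => hom_apply X i (g i)
  · rintro ⟨x, rfl⟩
    induction x using DirectSum.induction_on with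
    | zero => exact ⟨∅, fun i => 0, by simp⟩
    | of i g => rw [hom_apply]; exact Fac.single i g
    | add x y hx hy => rw [map_add]; exact hx.add hy

lemma isCompact_iff [HasCoproducts.{v} D] (K : D) :
    IsCompactObject K ↔ ∀ (ι : Type v) (X : ι → D) (φ : K ⟶ ∐ X), Fac φ := by
  constructor
  · intro h ι X φ
    exact (fac_iff_mem_range X φ).mpr ((h ι X).2 φ)
  · intro h ι X
    exact ⟨injective X, fun φ => (fac_iff_mem_range X φ).mp (h ι X φ)⟩

lemma compact_zero [HasCoproducts.{v} D] (K : D) (hK : IsZero K) : IsCompactObject K := by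
  rw [isCompact_iff]
  intro ι X φ
  exact ⟨∅, fun i => 0, by simpa using hK.eq_of_src _ _⟩

lemma compact_retract [HasCoproducts.{v} D] {K L : D} (r : Retract K L) (hL : IsCompactObject L) :
    IsCompactObject K := by
  rw [isCompact_iff] at hL ⊢
  intro ι X φ
  have := (hL ι X (r.r ≫ φ)).precomp r.i
  simpa using this

end Basic

section Adj
variable {D : Type u} [Category.{v} D] [Preadditive D] {E : Type u'} [Category.{v} E] [Preadditive E]
  [HasCoproducts.{v} D] [HasCoproducts.{v} E]

/-- factorization through a functor preserving coproducts -/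
lemma fac_map {G : E ⥤ D} [∀ (κ : Type v), PreservesColimitsOfShape (Discrete κ) G] {K : D}
    (hK : IsCompactObject K) {ι : Type v} (X : ι → E) (φ : K ⟶ G.obj (∐ X)) :
    ∃ (s : Finset ι) (g : ∀ i, K ⟶ G.obj (X i)), φ = ∑ i ∈ s, g i ≫ G.map (Sigma.ι X i) := by
  rw [isCompact_iff] at hK
  obtain ⟨s, g, h⟩ := hK ι (fun i => G.obj (X i)) (φ ≫ inv (sigmaComparison G X))
  refine ⟨s, g, ?_⟩
  rw [← cancel_mono (inv (sigmaComparison G X)), h, Preadditive.sum_comp]
  refine Finset.sum_congr rfl fun i _ => ?_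
  rw [Category.assoc, ← ι_comp_sigmaComparison G X i]
  simp

/-- the left adjoint of a coproduct preserving functor preserves compact objects -/
lemma compact_map {F : D ⥤ E} {G : E ⥤ D} (adj : F ⊣ G) [F.Additive]
    [∀ (κ : Type v), PreservesColimitsOfShape (Discrete κ) G] {K : D} (hK : IsCompactObject K) :
    IsCompactObject (F.obj K) := by
  rw [isCompact_iff]
  intro ι X φ
  obtain ⟨s, g, h⟩ := fac_map hK X (adj.homEquiv _ _ φ)
  refine ⟨s, fun i => F.map (g i) ≫ adj.counit.app _, ?_⟩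
  have : φ = (adj.homEquiv _ _).symm (adj.homEquiv _ _ φ) := by simp
  rw [this, h, Adjunction.homEquiv_counit, Functor.map_sum, Preadditive.sum_comp]
  refine Finset.sum_congr rfl fun i _ => ?_
  simp

end Adj

section Tri
variable {D : Type u} [Category.{v} D] [Preadditive D] [Limits.HasZeroObject D] [HasShift D ℤ]
    [∀ n : ℤ, (shiftFunctor D n).Additive] [Pretriangulated D] [HasCoproducts.{v} D]

lemma compact_shift (n : ℤ) {K : D} (hK : IsCompactObject K) :
    IsCompactObject ((shiftFunctor D n).obj K) :=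
  compact_map (F := shiftFunctor D n) (G := shiftFunctor D (-n))
    (shiftEquiv D n).toAdjunction hK

lemma compact_ext₂ (T : Triangle D) (hT : T ∈ distinguishedTriangles) (h₁ : IsCompactObject T.obj₁)
    (h₃ : IsCompactObject T.obj₃) : IsCompactObject T.obj₂ := by
  rw [isCompact_iff]
  intro ι X φ
  have h1 := (isCompact_iff _).mp h₁
  have h3 := (isCompact_iff _).mp h₃
  obtain ⟨s, g, h⟩ := h1 ι X (T.mor₁ ≫ φ)
  obtain ⟨Z, w, hw0, hw⟩ : ∃ (Z : D) (w : Z ⟶ T.obj₁), w ≫ T.mor₁ = 0 ∧
      ∀ {Y : D} (g : T.obj₁ ⟶ Y), w ≫ g = 0 → ∃ k : T.obj₂ ⟶ Y, g = T.mor₁ ≫ k :=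
    ⟨T.invRotate.obj₁, T.invRotate.mor₁, comp_distTriang_mor_zero₁₂ _ (inv_rot_of_distTriang _ hT),
      fun g hg => Triangle.yoneda_exact₂ T.invRotate (inv_rot_of_distTriang _ hT) g hg⟩
  have hg : ∀ i ∈ s, w ≫ g i = 0 := by
    intro i hi
    refine sum_eq_zero s (fun i => w ≫ g i) ?_ i hi
    have h' := congrArg (fun t => w ≫ t) h
    simp only [Preadditive.comp_sum] at h'
    rw [← Category.assoc, hw0, zero_comp] at h'
    simpa using h'.symm
  have hex : ∀ i, ∃ k : T.obj₂ ⟶ X i, i ∈ s → T.mor₁ ≫ k = g i := by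
    intro i
    by_cases hi : i ∈ s
    · obtain ⟨k, hk⟩ := hw (g i) (hg i hi)
      exact ⟨k, fun _ => hk.symm⟩
    · exact ⟨0, fun h => absurd h hi⟩
  choose k hk using hex
  have hd : T.mor₁ ≫ (φ - ∑ i ∈ s, k i ≫ Sigma.ι X i) = 0 := by
    rw [Preadditive.comp_sub, h, Preadditive.comp_sum, sub_eq_zero]
    refine Finset.sum_congr rfl fun i hi => ?_
    rw [← Category.assoc, hk i hi]
  obtain ⟨c, hc⟩ := Triangle.yoneda_exact₂ T hT _ hd
  have : φ = (∑ i ∈ s, k i ≫ Sigma.ι X i) + T.mor₂ ≫ c := by rw [← hc]; abel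
  rw [this]
  exact Fac.add ⟨s, k, rfl⟩ ((h3 ι X c).precomp _)

instance isStableUnderRetracts_compact :
    ObjectProperty.IsStableUnderRetracts (fun K : D => IsCompactObject K) where
  of_retract := fun r h => compact_retract r h

instance isTriangulated_compact :
    ObjectProperty.IsTriangulated (fun K : D => IsCompactObject K) := by
  have : ObjectProperty.IsStableUnderShift (fun K : D => IsCompactObject K) ℤ :=
    ⟨fun a => ⟨fun K hK => compact_shift a hK⟩⟩
  have : ObjectProperty.ContainsZero (fun K : D => IsCompactObject K) :=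
    ⟨0, isZero_zero _, compact_zero _ (isZero_zero _)⟩
  have : ObjectProperty.IsTriangulatedClosed₂ (fun K : D => IsCompactObject K) :=
    .mk' fun T hT h1 h3 => compact_ext₂ T hT h1 h3
  exact { }


/-- Factorization of a map from a compact object into `G (∐ Y)` through `G E'`, with `E'` in a
triangulated subcategory containing the finitely many `Y k` needed. -/
lemma fac_finite {G : D ⥤ D} [G.Additive] [∀ (κ : Type v), PreservesColimitsOfShape (Discrete κ) G]
    {K : D} (hK : IsCompactObject K) {κ : Type v} (Y : κ → D) (φ : K ⟶ G.obj (∐ Y)) :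
    ∃ s : Finset κ, ∀ (P : ObjectProperty D) [P.IsTriangulated] [P.IsClosedUnderIsomorphisms],
      (∀ k ∈ s, P (Y k)) → ∃ (E' : D) (q : K ⟶ G.obj E') (t : E' ⟶ ∐ Y), P E' ∧
        q ≫ G.map t = φ := by
  classical
  obtain ⟨s, g, rfl⟩ := fac_map hK Y φ
  refine ⟨s, fun P _ _ => ?_⟩
  induction s using Finset.induction_on with
  | empty =>
    intro _
    exact ⟨0, 0, 0, P.prop_zero, by simp⟩
  | insert a s ha ih =>
    intro h
    obtain ⟨E', q, t, hE', hqt⟩ := ih (fun k hk => h k (Finset.mem_insert_of_mem hk))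
    refine ⟨E' ⊞ Y a, q ≫ G.map biprod.inl + g a ≫ G.map biprod.inr,
      biprod.desc t (Sigma.ι Y a), ?_, ?_⟩
    · exact P.ext_of_isTriangulatedClosed₂ _ (binaryBiproductTriangle_distinguished E' (Y a)) hE'
        (h a (Finset.mem_insert_self _ _))
    · rw [Finset.sum_insert ha, Preadditive.add_comp, Category.assoc, Category.assoc,
        ← G.map_comp, ← G.map_comp, biprod.inl_desc, biprod.inr_desc, hqt, add_comm]

end Tri

end Groth.Agent.H2.Cpt
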