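import Groth.Prelude.Def_CohDer
import Mathlib.CategoryTheory.Triangulated.Pretriangulated
import Mathlib.CategoryTheory.Triangulated.Subcategory
import Mathlib.CategoryTheory.Triangulated.Generators
import Mathlib.CategoryTheory.Triangulated.Orthogonal

set_option autoImplicit false
universe v u w

namespace Groth.Agent.H2.Tri

open CategoryTheory CategoryTheory.Limits CategoryTheory.Pretriangulated
open scoped ZeroObject

variable {D : Type u} [Category.{v} D] [Preadditive D] [HasZeroObject D] [HasShift D ℤ]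
    [∀ n : ℤ, (shiftFunctor D n).Additive] [Pretriangulated D]

/-- adjunction form of the vanishing of maps out of a shift -/
lemma eq_zero_of_shift {X K : D} {a : ℤ} (h : ∀ g : X ⟶ (shiftFunctor D (-a)).obj K, g = 0)
    (g : (shiftFunctor D a).obj X ⟶ K) : g = 0 := by
  let adj := (shiftEquiv D a).toAdjunction
  have h1 : (adj.homEquiv X K) g = 0 := h _
  have h2 : (adj.homEquiv X K).symm ((adj.homEquiv X K) g) = (adj.homEquiv _ _).symm 0 :=
    congrArg _ h1
  have h3 : (adj.homEquiv X K).symm ((adj.homEquiv _ _) g) = g := Equiv.symm_apply_apply _ _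
  rw [h3] at h2
  rw [h2, Adjunction.homEquiv_counit]
  erw [Functor.map_zero, zero_comp]
  rfl

lemma eq_zero_of_shift' {X K : D} {a : ℤ} (h : ∀ g : (shiftFunctor D (-a)).obj X ⟶ K, g = 0)
    (g : X ⟶ (shiftFunctor D a).obj K) : g = 0 := by
  let adj := (shiftEquiv D a).symm.toAdjunction
  have h1 : (adj.homEquiv X K).symm g = 0 := h _
  have h2 : (adj.homEquiv X K) ((adj.homEquiv X K).symm g) = (adj.homEquiv _ _) 0 :=
    congrArg _ h1
  have h3 : (adj.homEquiv X K) ((adj.homEquiv _ _).symm g) = g := Equiv.apply_symm_apply _ _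
  rw [h3] at h2
  rw [h2, Adjunction.homEquiv_unit]
  erw [Functor.map_zero, comp_zero]
  rfl

/-- If a map induces bijections on maps from all shifts of generators, it is an isomorphism. -/
lemma isIso_of_generates {ι : Type w} {E : ι → D} (hg : CohDer.Generates E) {L X : D} (p : L ⟶ X)
    (hs : ∀ (i : ι) (m : ℤ) (h : (shiftFunctor D m).obj (E i) ⟶ X), ∃ h', h' ≫ p = h)
    (hi : ∀ (i : ι) (m : ℤ) (h : (shiftFunctor D m).obj (E i) ⟶ L), h ≫ p = 0 → h = 0) :
    IsIso p := by
  obtain ⟨C, g, c, hT⟩ := distinguished_cocone_triangle p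
  have key : ∀ (i : ι) (m : ℤ) (h : (shiftFunctor D m).obj (E i) ⟶ C), h = 0 := by
    intro i m h
    have h1 : h ≫ c = 0 := by
      have hc : c ≫ (shiftFunctor D (1 : ℤ)).map p = 0 := comp_distTriang_mor_zero₃₁ _ hT
      let e : (shiftFunctor D m).obj (E i) ≅ (shiftFunctor D (1 : ℤ)).obj ((shiftFunctor D (m - 1)).obj (E i)) :=
        (shiftFunctorAdd' D (m - 1) 1 m (by ring)).app (E i)
      obtain ⟨q, hq⟩ := (shiftFunctor D (1 : ℤ)).map_surjective (e.inv ≫ h ≫ c)
      have hq0 : q ≫ p = 0 := by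
        apply (shiftFunctor D (1 : ℤ)).map_injective
        rw [Functor.map_comp, hq, Category.assoc, Category.assoc, hc, comp_zero, comp_zero,
          Functor.map_zero]
      have : q = 0 := hi i (m - 1) q hq0
      rw [this, Functor.map_zero] at hq
      have := congrArg (fun t => e.hom ≫ t) hq
      simpa using this.symm
    obtain ⟨k, hk⟩ : ∃ k : (shiftFunctor D m).obj (E i) ⟶ X, h = k ≫ g := Triangle.coyoneda_exact₃ _ hT h h1
    obtain ⟨k', hk'⟩ := hs i m k
    have : p ≫ g = 0 := comp_distTriang_mor_zero₁₂ _ hT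
    rw [hk, ← hk', Category.assoc, this, comp_zero]
  have hC : IsZero C := by
    apply hg
    intro i n f
    exact eq_zero_of_shift' (fun g => key i (-n) g) f
  exact (Triangle.isZero₃_iff_isIso₁ _ hT).mp hC

/-- objects with no maps to any shift of `K` -/
def PK (K : D) : ObjectProperty D :=
  fun X => ∀ (m : ℤ) (g : X ⟶ (shiftFunctor D m).obj K), g = 0

lemma le_PK [IsTriangulated D] (Q : ObjectProperty D)
    (K : D) (h : Q ≤ PK K) : Q.triangEnvelope ≤ PK K := by
  have hPr : (PK K).IsStableUnderRetracts := ⟨fun {X Y} r hY m g => by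
      have := hY m (r.r ≫ g)
      have h2 := congrArg (fun t => r.i ≫ t) this
      simpa using h2⟩
  have hPs : (PK K).IsStableUnderShift ℤ := ⟨fun a => ⟨fun X hX => by
      show PK K _
      intro m g
      apply eq_zero_of_shift
      intro g'
      have e : (shiftFunctor D (-a)).obj ((shiftFunctor D m).obj K) ≅ (shiftFunctor D (m + -a)).obj K :=
        ((shiftFunctorAdd D m (-a)).app K).symm
      rw [← cancel_mono e.hom, zero_comp]
      exact hX _ _⟩⟩
  have hPz : (PK K).ContainsZero := ⟨_, isZero_zero D, fun m g => (isZero_zero D).eq_of_src _ _⟩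
  have hPe : (PK K).IsTriangulatedClosed₂ := .mk' fun T hT h1 h3 m g => by
      obtain ⟨k, hk⟩ := Triangle.yoneda_exact₂ T hT g (h1 m _)
      rw [hk, h3 m k, comp_zero]
  have hPt : (PK K).IsTriangulated := { }
  exact (ObjectProperty.triangEnvelope_le_iff (P := Q) (Q := PK K)).mpr h

lemma rightOrthogonal_third_iff (P : ObjectProperty D) [P.IsStableUnderShift ℤ] (T : Triangle D)
    (hT : T ∈ distinguishedTriangles) :
    P.rightOrthogonal T.obj₃ ↔ ∀ A : D, P A → Function.Bijective (fun u : A ⟶ T.obj₁ => u ≫ T.mor₁) := by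
  constructor
  · intro h A hA
    refine ⟨fun u u' huu => ?_, fun v => ?_⟩
    · rw [← sub_eq_zero]
      have h0 : (u - u') ≫ T.mor₁ = 0 := by rw [Preadditive.sub_comp, sub_eq_zero]; exact huu
      obtain ⟨w, hw⟩ := Triangle.coyoneda_exact₂ _ (inv_rot_of_distTriang _ hT) (u - u') h0
      have hw0 : w = 0 := by
        apply eq_zero_of_shift'
        intro g
        exact h g (P.le_shift _ _ hA)
      rw [hw, hw0]
      exact zero_comp
    · obtain ⟨w, hw⟩ := Triangle.coyoneda_exact₂ _ hT v (h _ hA)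
      exact ⟨w, hw.symm⟩
  · intro h A f hA
    -- f : A ⟶ T.obj₃
    have h1 : f ≫ T.mor₃ = 0 := by
      let e := (shiftFunctorCompIsoId D (-1 : ℤ) 1 (by norm_num)).app A
      have e' : A ≅ (shiftFunctor D (1 : ℤ)).obj ((shiftFunctor D (-1 : ℤ)).obj A) := e.symm
      obtain ⟨q, hq⟩ := (shiftFunctor D (1 : ℤ)).map_surjective (e'.inv ≫ f ≫ T.mor₃)
      have hq0 : q ≫ T.mor₁ = 0 := by
        apply (shiftFunctor D (1 : ℤ)).map_injective
        rw [Functor.map_comp, hq, Category.assoc, Category.assoc, comp_distTriang_mor_zero₃₁ _ hT,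
          comp_zero, comp_zero, Functor.map_zero]
      have : q = 0 := (h _ (P.le_shift _ _ hA)).1 (by simpa using hq0)
      rw [this, Functor.map_zero] at hq
      have := congrArg (fun t => e'.hom ≫ t) hq
      simpa using this.symm
    obtain ⟨k, hk⟩ := Triangle.coyoneda_exact₃ _ hT f h1
    obtain ⟨k', hk'⟩ := (h A hA).2 k
    have hk'' : k' ≫ T.mor₁ = k := hk'
    rw [hk, ← hk'', Category.assoc, comp_distTriang_mor_zero₁₂ _ hT, comp_zero]

lemma leftOrthogonal_first_iff (P : ObjectProperty D) [P.IsStableUnderShift ℤ] (T : Triangle D)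
    (hT : T ∈ distinguishedTriangles) :
    P.leftOrthogonal T.obj₁ ↔ ∀ B : D, P B → Function.Bijective (fun u : T.obj₃ ⟶ B => T.mor₂ ≫ u) := by
  constructor
  · intro h B hB
    refine ⟨fun u u' huu => ?_, fun v => ?_⟩
    · rw [← sub_eq_zero]
      have h0 : T.mor₂ ≫ (u - u') = 0 := by rw [Preadditive.comp_sub, sub_eq_zero]; exact huu
      obtain ⟨w, hw⟩ := Triangle.yoneda_exact₃ _ hT (u - u') h0
      have hw0 : w = 0 := by
        apply eq_zero_of_shift
        intro g
        exact h g (P.le_shift _ _ hB)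
      rw [hw, hw0, comp_zero]
    · obtain ⟨w, hw⟩ := Triangle.yoneda_exact₂ _ hT v (h _ hB)
      exact ⟨w, hw.symm⟩
  · intro h B f hB
    -- f : T.obj₁ ⟶ B
    have h1 : T.mor₃ ≫ (shiftFunctor D (1 : ℤ)).map f = 0 := by
      apply (h _ (P.le_shift (1 : ℤ) _ hB)).1
      show T.mor₂ ≫ T.mor₃ ≫ (shiftFunctor D (1 : ℤ)).map f = T.mor₂ ≫ 0
      rw [← Category.assoc, comp_distTriang_mor_zero₂₃ _ hT, zero_comp, comp_zero]
    obtain ⟨g, hg⟩ := Triangle.yoneda_exact₃ _ (rot_of_distTriang _ hT)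
      ((shiftFunctor D (1 : ℤ)).map f) h1
    obtain ⟨g₀, rfl⟩ : ∃ g₀ : T.obj₂ ⟶ B, (shiftFunctor D (1 : ℤ)).map g₀ = g :=
      (shiftFunctor D (1 : ℤ)).map_surjective g
    obtain ⟨w, hw⟩ := (h B hB).2 g₀
    have hw' : T.mor₂ ≫ w = g₀ := hw
    have hg' : (shiftFunctor D (1 : ℤ)).map f = (-(shiftFunctor D (1 : ℤ)).map T.mor₁) ≫
      (shiftFunctor D (1 : ℤ)).map g₀ := hg
    rw [Preadditive.neg_comp, ← Functor.map_comp, ← hw', ← Category.assoc,
      comp_distTriang_mor_zero₁₂ _ hT, zero_comp, Functor.map_zero, neg_zero] at hg'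
    exact (shiftFunctor D (1 : ℤ)).map_injective (by rw [hg', Functor.map_zero])

end Groth.Agent.H2.Tri
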