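import Mathlib

set_option autoImplicit false

namespace Groth.Agent.LeadDivAlg

open Polynomial

universe u v w

/-- If `x a - a x = c x` with `c ≠ 0`, `x ≠ 0`, then `x` is not separable. -/
theorem not_isSeparable_of_comm {K : Type u} [Field K] {A : Type v} [DivisionRing A] [Algebra K A]
    (x a : A) (c : K) (hc : c ≠ 0) (hx : x ≠ 0) (h : x * a - a * x = c • x) :
    ¬ IsSeparable K x := by
  intro hsep
  have hpow : ∀ n : ℕ, x ^ n * a - a * x ^ n = c • ((n : A) * x ^ n) := by
    intro n
    induction n with
    | zero => simp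
    | succ n ih =>
      have h1 : x ^ (n+1) * a - a * x ^ (n+1) = x ^ n * (x * a - a * x) + (x ^ n * a - a * x ^ n) * x := by
        rw [pow_succ]; noncomm_ring
      rw [h1, h, ih, mul_smul_comm, smul_mul_assoc, ← pow_succ, mul_assoc, ← pow_succ, ← smul_add]
      congr 1
      push_cast
      rw [add_mul, one_mul, add_comm]
  have hpoly : ∀ q : K[X], aeval x q * a - a * aeval x q = c • (aeval x (derivative q) * x) := by
    intro q
    induction q using Polynomial.induction_on' with
    | add p q hp hq =>
      rw [map_add, derivative_add, map_add, add_mul (aeval x (derivative p)), smul_add, ← hp, ← hq]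
      noncomm_ring
    | monomial n r =>
      rw [aeval_monomial, derivative_monomial, aeval_monomial]
      have h2 : algebraMap K A r * x ^ n * a - a * (algebraMap K A r * x ^ n) =
          algebraMap K A r * (x ^ n * a - a * x ^ n) := by
        rw [mul_sub, ← mul_assoc a, ← Algebra.commutes r a]
        simp only [mul_assoc]
      rw [h2, hpow n, map_mul, map_natCast]
      cases n with
      | zero => simp
      | succ n =>
        rw [Nat.add_sub_cancel, mul_smul_comm]
        congr 1
        rw [pow_succ]
        simp only [mul_assoc]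
  have h0 := hpoly (minpoly K x)
  rw [minpoly.aeval, zero_mul, mul_zero, sub_zero] at h0
  have h1 : aeval x (derivative (minpoly K x)) = 0 := by
    have h2 := (smul_eq_zero.1 h0.symm).resolve_left hc
    exact (mul_eq_zero.1 h2).resolve_right hx
  obtain ⟨s, t, hst⟩ := (show (minpoly K x).Separable from hsep)
  have h3 := congrArg (aeval x) hst
  rw [map_add, map_mul, map_mul, minpoly.aeval, h1, mul_zero, mul_zero, add_zero, map_one] at h3
  exact zero_ne_one h3

theorem prod_X_sub_C_zmod (p : ℕ) [Fact p.Prime] (K : Type u) [Field K] [CharP K p] :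
    ∏ a : ZMod p, (X - C (ZMod.castHom (dvd_refl p) K a)) = (X ^ p - X : K[X]) := by
  have hp : p.Prime := Fact.out
  have h1 : (X ^ p - X : (ZMod p)[X]).roots = Finset.univ.val := by
    have := FiniteField.roots_X_pow_card_sub_X (ZMod p)
    rwa [ZMod.card] at this
  have h2 : (X ^ p - X : (ZMod p)[X]).natDegree = p :=
    FiniteField.X_pow_card_sub_X_natDegree_eq _ hp.one_lt
  have h3 : (X ^ p - X : (ZMod p)[X]).Monic := by
    apply Polynomial.monic_X_pow_sub
    rw [degree_X]
    exact_mod_cast hp.one_lt
  have h4 := prod_multiset_X_sub_C_of_monic_of_roots_card_eq h3 (by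
    rw [h1, h2]; simp [ZMod.card])
  rw [h1] at h4
  have h5 := congrArg (Polynomial.map (ZMod.castHom (dvd_refl p) K)) h4
  rw [show (Multiset.map (fun a => (X : (ZMod p)[X]) - C a) Finset.univ.val).prod =
    ∏ a : ZMod p, (X - C a) from rfl, Polynomial.map_prod] at h5
  simpa using h5

theorem exists_eigen (p : ℕ) [Fact p.Prime] {K : Type u} [Field K] [CharP K p] {V : Type v}
    [AddCommGroup V] [Module K V] (D : Module.End K V) (hD : D ^ p = D) (hD0 : D ≠ 0) :
    ∃ (c : K) (x : V), c ≠ 0 ∧ x ≠ 0 ∧ D x = c • x := by
  classical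
  by_contra hcon
  push Not at hcon
  let φ := ZMod.castHom (dvd_refl p) K
  have hinj : ∀ s : Finset (ZMod p), 0 ∉ s →
      Function.Injective (aeval D (∏ a ∈ s, (X - C (φ a)))) := by
    intro s
    induction s using Finset.induction_on with
    | empty => intro _; simp only [Finset.prod_empty, map_one]; exact fun x y h => h
    | insert a s has ih =>
      intro h0
      rw [Finset.prod_insert has, map_mul]
      have ha0 : φ a ≠ 0 := by
        intro h
        apply h0
        have : a = 0 := φ.injective (by rw [h, map_zero])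
        rw [← this]; exact Finset.mem_insert_self _ _
      have h1 : Function.Injective (aeval D (X - C (φ a))) := by
        rw [injective_iff_map_eq_zero]
        intro x hx
        by_contra hx0
        apply hcon (φ a) x ha0 hx0
        rw [map_sub, aeval_X, aeval_C, LinearMap.sub_apply, Module.algebraMap_end_apply,
          sub_eq_zero] at hx
        exact hx
      exact h1.comp (ih fun h => h0 (Finset.mem_insert_of_mem h))
  have h1 := prod_X_sub_C_zmod p K
  rw [← Finset.prod_erase_mul _ _ (Finset.mem_univ (0 : ZMod p))] at h1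
  have h2 := congrArg (aeval D) h1
  rw [map_mul, map_zero, map_zero, sub_zero, map_sub, map_pow, aeval_X, hD, sub_self] at h2
  apply hD0
  ext x
  apply hinj (Finset.univ.erase 0) (Finset.notMem_erase _ _)
  have h3 := LinearMap.congr_fun h2 x
  rw [Module.End.mul_apply] at h3
  rw [LinearMap.zero_apply, map_zero]
  exact h3

theorem exists_not_isSeparable (K : Type u) [Field K] (p : ℕ) [Fact p.Prime] [CharP K p]
    (A : Type v) [DivisionRing A] [Algebra K A] (hcen : ∀ z : A, (∀ y : A, z * y = y * z) → ∃ c : K, algebraMap K A c = z)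
    (L : Type w) [Field L] [Algebra K L] [IsGalois K L]
    (hL : Module.finrank K L = p) (ι : L →ₐ[K] A) :
    ∃ v : A, ¬ IsSeparable K v := by
  classical
  have hp : p.Prime := Fact.out
  have hfd : FiniteDimensional K L := FiniteDimensional.of_finrank_pos (by rw [hL]; exact hp.pos)
  have hcard : Nat.card (L ≃ₐ[K] L) = p := by rw [IsGalois.card_aut_eq_finrank, hL]
  have hnt : Nontrivial (L ≃ₐ[K] L) := by
    have hfin : Finite (L ≃ₐ[K] L) := inferInstance
    rw [← Finite.one_lt_card_iff_nontrivial, hcard]
    exact hp.one_lt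
  obtain ⟨σ, hσ1⟩ := exists_ne (1 : L ≃ₐ[K] L)
  have hgen : ∀ τ : L ≃ₐ[K] L, τ ∈ Subgroup.zpowers σ := fun τ =>
    mem_zpowers_of_prime_card hcard hσ1
  have hσp : σ ^ p = 1 := by
    rw [← hcard]; exact pow_card_eq_one'
  have hfix : ∀ z : L, σ z = z → ∃ c : K, algebraMap K L c = z := by
    intro z hz
    have h1 : z ∈ (⊥ : IntermediateField K L) := by
      rw [IsGalois.mem_bot_iff_fixed]
      intro τ
      have h2 : σ ∈ MulAction.stabilizer (L ≃ₐ[K] L) z := hz
      obtain ⟨n, rfl⟩ := Subgroup.mem_zpowers_iff.1 (hgen τ)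
      exact (Subgroup.zpow_mem _ h2 n)
    exact IntermediateField.mem_bot.1 h1
  let N : Module.End K L := (σ.toLinearMap : Module.End K L) - 1
  have hcp : CharP (Module.End K L) p :=
    charP_of_injective_algebraMap (algebraMap K (Module.End K L)).injective p
  have hNapp : ∀ z, N z = σ z - z := fun z => rfl
  have hNp : N ^ p = 0 := by
    have hc : Commute (σ.toLinearMap : Module.End K L) 1 := Commute.one_right _
    show ((σ.toLinearMap : Module.End K L) - 1)^p = 0
    rw [sub_pow_char_of_commute p hc, one_pow]
    have h1 : (σ.toLinearMap : Module.End K L)^p = 1 := by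
      ext z
      have h2 : ∀ n : ℕ, ((σ.toLinearMap : Module.End K L)^n) z = (σ^n) z := by
        intro n
        induction n with
        | zero => simp
        | succ n ih => rw [pow_succ', pow_succ', Module.End.mul_apply, ih]; rfl
      rw [h2, hσp]; rfl
    rw [h1, sub_self]
  have hN0 : N ≠ 0 := by
    intro h
    apply hσ1
    ext z
    have h1 := LinearMap.congr_fun h z
    rw [hNapp, LinearMap.zero_apply, sub_eq_zero] at h1
    exact h1
  obtain ⟨γ, hγ1, hγ2⟩ : ∃ γ, N γ ≠ 0 ∧ N (N γ) = 0 := by
    have hex : ∃ k, N^k = 0 := ⟨p, hNp⟩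
    have hk := Nat.find_spec hex
    have hmin := fun m => Nat.find_min (H := hex) (m := m)
    generalize Nat.find hex = k at hk hmin
    match k, hk, hmin with
    | 0, hk, _ => exact absurd hk (by rw [pow_zero]; exact one_ne_zero)
    | 1, hk, _ => exact absurd (by rwa [pow_one] at hk) hN0
    | (m+2), hk, hmin =>
      have h1 := hmin (m+1) (by omega)
      obtain ⟨β, hβ⟩ : ∃ β, (N^(m+1)) β ≠ 0 := by
        by_contra hcon
        push Not at hcon
        exact h1 (LinearMap.ext hcon)
      refine ⟨(N^m) β, ?_, ?_⟩
      · rwa [← Module.End.mul_apply, ← pow_succ']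
      · have h2 : (N^(m+2)) β = N (N ((N^m) β)) := by
          rw [pow_succ', pow_succ', Module.End.mul_apply, Module.End.mul_apply]
        rw [← h2, hk]
        rfl
  obtain ⟨c₀, hc₀⟩ := hfix (N γ) (by rw [hNapp, sub_eq_zero] at hγ2; exact hγ2)
  have hc0 : c₀ ≠ 0 := by
    rintro rfl
    rw [map_zero] at hc₀
    exact hγ1 hc₀.symm
  obtain ⟨α, hα⟩ : ∃ α : L, σ α = α + 1 := by
    refine ⟨c₀⁻¹ • γ, ?_⟩
    rw [map_smul]
    have h1 : σ γ = γ + N γ := by rw [hNapp]; ring
    rw [h1, smul_add, ← hc₀, Algebra.smul_def (c₀⁻¹) (algebraMap K L c₀), ← map_mul,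
      inv_mul_cancel₀ hc0, map_one]
  have hchL : CharP L p := charP_of_injective_algebraMap (algebraMap K L).injective p
  obtain ⟨k₀, hk₀⟩ := hfix (α^p - α) (by
    rw [map_sub, map_pow, hα, add_pow_char, one_pow]; ring)
  have hchA : CharP A p := charP_of_injective_algebraMap (algebraMap K A).injective p
  set a : A := ι α with ha
  have hap : a ^ p = a + algebraMap K A k₀ := by
    rw [ha, ← map_pow, ← AlgHom.commutes ι k₀, ← map_add, hk₀]
    congr 1; ring
  -- D = R_a - L_a
  let D : Module.End K A := LinearMap.mulRight K a - LinearMap.mulLeft K a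
  have hDapp : ∀ x, D x = x * a - a * x := fun x => rfl
  have hcpA : CharP (Module.End K A) p :=
    charP_of_injective_algebraMap (algebraMap K (Module.End K A)).injective p
  have hDp : D ^ p = D := by
    have hc : Commute (LinearMap.mulRight K a) (LinearMap.mulLeft K a) := by
      ext x
      show (a * x) * a = a * (x * a)
      rw [mul_assoc]
    show (LinearMap.mulRight K a - LinearMap.mulLeft K a)^p = _
    rw [sub_pow_char_of_commute p hc, LinearMap.pow_mulRight, LinearMap.pow_mulLeft]
    ext x
    show x * a ^ p - a ^ p * x = x * a - a * x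
    rw [hap, mul_add, add_mul, Algebra.commutes k₀ x]
    abel
  have hD0 : D ≠ 0 := by
    intro h
    obtain ⟨c, hc⟩ := hcen a (fun y => by
      have h1 := LinearMap.congr_fun h y
      rw [hDapp, LinearMap.zero_apply, sub_eq_zero] at h1
      exact h1.symm)
    have h2 : algebraMap K L c = α := by
      apply ι.toRingHom.injective
      show ι (algebraMap K L c) = ι α
      rw [AlgHom.commutes, hc]
    rw [← h2, AlgEquiv.commutes] at hα
    exact one_ne_zero (left_eq_add.1 hα)
  obtain ⟨c, x, hc, hx, hDx⟩ := exists_eigen p D hDp hD0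
  exact ⟨x, not_isSeparable_of_comm x a c hc hx hDx⟩

end Groth.Agent.LeadDivAlg
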