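import Mathlib
import Groth.Agent.Lib.Lead_DivAlg

set_option autoImplicit false

namespace Groth.Agent.LeadDivAlg

open Polynomial

universe u v w

section
variable {K : Type u} [Field K] {A : Type v} [DivisionRing A] [Algebra K A] [FiniteDimensional K A]

theorem finrank_subalgebra_dvd (S : Subalgebra K A) :
    Module.finrank K S ∣ Module.finrank K A := by
  let _ := divisionRingOfFiniteDimensional K S
  exact ⟨_, (Module.finrank_mul_finrank K S A).symm⟩

theorem eq_top_of_finrank (S : Subalgebra K A) (h : Module.finrank K S = Module.finrank K A) : S = ⊤ := by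
  exact Algebra.toSubmodule_eq_top.1 (Submodule.eq_top_of_finrank_eq <| S.finrank_toSubmodule.trans h)

theorem finrank_ne_one (S : Subalgebra K A) (x : A) (hx : x ∈ S) (hxK : ∀ c : K, algebraMap K A c ≠ x) :
    Module.finrank K S ≠ 1 := by
  intro h
  have h1 := Subalgebra.eq_bot_of_finrank_one h
  rw [h1] at hx
  obtain ⟨c, hc⟩ := Algebra.mem_bot.1 hx
  exact hxK c hc

theorem not_isSeparable_of_pow (p : ℕ) [Fact p.Prime] [CharP K p] (y : A) (k : K)
    (hyk : y ^ p = algebraMap K A k) (hyK : ∀ c : K, algebraMap K A c ≠ y) :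
    ¬ IsSeparable K y := by
  intro hsep
  have hp : p.Prime := Fact.out
  have hchA : CharP A p := charP_of_injective_algebraMap (algebraMap K A).injective p
  have h1 : ∀ b : K, b ^ p ≠ k := by
    intro b hb
    apply hyK b
    rw [← hb, map_pow] at hyk
    have hc : Commute y (algebraMap K A b) := (Algebra.commutes b y).symm
    have h2 : (y - algebraMap K A b) ^ p = 0 := by
      rw [sub_pow_char_of_commute p hc, hyk, sub_self]
    exact (sub_eq_zero.1 (pow_eq_zero_iff hp.ne_zero |>.1 h2)).symm
  have hirr : Irreducible (X ^ p - C k : K[X]) := X_pow_sub_C_irreducible_of_prime hp h1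
  have h3 : minpoly K y = X ^ p - C k := by
    symm
    apply minpoly.eq_of_irreducible_of_monic hirr
    · simp [hyk]
    · exact monic_X_pow_sub_C k hp.ne_zero
  have h4 : (minpoly K y).Separable := hsep
  rw [h3, separable_iff_derivative_ne_zero hirr] at h4
  apply h4
  rw [derivative_sub, derivative_C, derivative_X_pow, CharP.cast_eq_zero K p]
  simp

/-- embedding of `AdjoinRoot` -/
noncomputable def emb (x : A) : AdjoinRoot (minpoly K x) →ₐ[K] A :=
  Ideal.Quotient.liftₐ (Ideal.span {minpoly K x}) (aeval x) (fun a ha => by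
    obtain ⟨b, rfl⟩ := Ideal.mem_span_singleton'.1 ha
    rw [map_mul, minpoly.aeval, mul_zero])

omit [FiniteDimensional K A] in
theorem emb_root (x : A) : emb (K := K) x (AdjoinRoot.root (minpoly K x)) = x := by
  show Ideal.Quotient.liftₐ (Ideal.span {minpoly K x}) (aeval x) _ (Ideal.Quotient.mk _ X) = x
  simp [Ideal.Quotient.liftₐ_apply]

end

theorem galois_of_splits {K : Type u} [Field K] (f : K[X]) [Fact (Irreducible f)] (hf : f.Separable)
    (hs : (f.map (algebraMap K (AdjoinRoot f))).Splits) : IsGalois K (AdjoinRoot f) := by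
  have : f.IsSplittingField K (AdjoinRoot f) := by
    refine ⟨hs, ?_⟩
    rw [eq_top_iff, ← AdjoinRoot.adjoinRoot_eq_top]
    apply Algebra.adjoin_mono
    rw [Set.singleton_subset_iff, mem_rootSet_of_ne (Fact.out : Irreducible f).ne_zero]
    simp
  exact IsGalois.of_separable_splitting_field hf

end Groth.Agent.LeadDivAlg
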