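import Mathlib

set_option autoImplicit false

namespace Groth.Agent.LeadKae

open TensorProduct

universe u v

variable (k : Type u) [Field k] (A : Type v) [CommRing A] [Algebra k A]

/-- relation set -/
def rel : Set (A ⊗[k] A) := {t | ∃ b c : A, t = 1 ⊗ₜ[k] (b*c) - b ⊗ₜ[k] c - c ⊗ₜ[k] b}

/-- universal derivation to the presentation -/
noncomputable def der : Derivation k A ((A ⊗[k] A) ⧸ Submodule.span A (rel k A)) :=
  Derivation.mk' ((Submodule.mkQ (Submodule.span A (rel k A))).restrictScalars k ∘ₗ (TensorProduct.mk k A A 1)) (by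
    intro b c
    show Submodule.Quotient.mk ((1 : A) ⊗ₜ[k] (b * c)) = b • Submodule.Quotient.mk ((1 : A) ⊗ₜ[k] c) +
      c • Submodule.Quotient.mk ((1 : A) ⊗ₜ[k] b)
    rw [← Submodule.Quotient.mk_smul, ← Submodule.Quotient.mk_smul, ← Submodule.Quotient.mk_add,
      Submodule.Quotient.eq]
    apply Submodule.subset_span
    refine ⟨b, c, ?_⟩
    rw [TensorProduct.smul_tmul', TensorProduct.smul_tmul', smul_eq_mul, smul_eq_mul, mul_one, mul_one]
    abel)

theorem mem_span_of_L (L : A ⊗[k] A →ₗ[k] Ω[A⁄k])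
    (hL : ∀ a b : A, L (a ⊗ₜ[k] b) = a • KaehlerDifferential.D k A b) (z : A ⊗[k] A) (hz : L z = 0) :
    z ∈ Submodule.span A (rel k A) := by
  have h1 : ∀ z, (der k A).liftKaehlerDifferential (L z) = Submodule.Quotient.mk z := by
    intro z
    induction z with
    | zero => rw [map_zero, map_zero]; rfl
    | tmul a b =>
      rw [hL, map_smul, Derivation.liftKaehlerDifferential_comp_D]
      show a • Submodule.Quotient.mk ((1 : A) ⊗ₜ[k] b) = _
      rw [← Submodule.Quotient.mk_smul, TensorProduct.smul_tmul', smul_eq_mul, mul_one]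
    | add x y hx hy => rw [map_add, map_add, hx, hy]; rfl
  have h := h1 z
  rw [hz, map_zero] at h
  exact (Submodule.Quotient.mk_eq_zero _).1 h.symm

theorem rel_induction {p : A ⊗[k] A → Prop} (h0 : p 0) (hadd : ∀ x y, p x → p y → p (x+y))
    (hg : ∀ a b c : A, p (a ⊗ₜ[k] (b*c) - (a*b) ⊗ₜ[k] c - (a*c) ⊗ₜ[k] b)) :
    ∀ z ∈ Submodule.span A (rel k A), p z := by
  intro z hz
  induction hz using Submodule.closure_induction with
  | zero => exact h0
  | add x y hx hy h1 h2 => exact hadd x y h1 h2
  | smul_mem a x hx =>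
    obtain ⟨b, c, rfl⟩ := hx
    have := hg a b c
    rwa [smul_sub, smul_sub, TensorProduct.smul_tmul', TensorProduct.smul_tmul', TensorProduct.smul_tmul',
      smul_eq_mul, smul_eq_mul, smul_eq_mul, mul_one]

/-- `a ⊗ b ↦ a db` -/
noncomputable def Lmap : A ⊗[k] A →ₗ[k] Ω[A⁄k] :=
  TensorProduct.lift (LinearMap.mk₂ k (fun a b => a • KaehlerDifferential.D k A b)
    (fun a a' b => add_smul _ _ _) (fun c a b => smul_assoc _ _ _) (fun a b b' => by rw [map_add, smul_add])
    (fun c a b => by rw [Derivation.map_smul, smul_comm]))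

theorem Lmap_tmul (a b : A) : Lmap k A (a ⊗ₜ[k] b) = a • KaehlerDifferential.D k A b := by
  simp [Lmap]

theorem omega_induction {p : Ω[A⁄k] → Prop} (h0 : p 0) (hadd : ∀ x y, p x → p y → p (x+y))
    (hg : ∀ a b : A, p (a • KaehlerDifferential.D k A b)) : ∀ w, p w := by
  intro w
  have hw : w ∈ Submodule.span A (Set.range (KaehlerDifferential.D k A)) := by
    rw [KaehlerDifferential.span_range_derivation]; trivial
  induction hw using Submodule.closure_induction with
  | zero => exact h0
  | add x y hx hy h1 h2 => exact hadd x y h1 h2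
  | smul_mem a x hx =>
    obtain ⟨b, rfl⟩ := hx
    exact hg a b

end Groth.Agent.LeadKae
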