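import Groth.Agent.Lib.helper13_Lam

open MvPolynomial Finset LambdaRing

universe u

noncomputable section

namespace Groth.Agent.H13Lam

theorem wh_aeval_monomial {σ τ : Type*} {M : Type*} [AddCommMonoid M] (w : σ → M) (v : τ → M)
    (g : σ → MvPolynomial τ ℤ) (hg : ∀ s, IsWeightedHomogeneous v (g s) (w s)) (d : σ →₀ ℕ) (c : ℤ) :
    IsWeightedHomogeneous v (aeval g (monomial d c)) (Finsupp.weight w d) := by
  rw [aeval_monomial]
  have h1 : IsWeightedHomogeneous v (algebraMap ℤ (MvPolynomial τ ℤ) c) 0 := isWeightedHomogeneous_C v c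
  have h2 : IsWeightedHomogeneous v (d.prod fun i k => g i ^ k) (Finsupp.weight w d) := by
    rw [Finsupp.prod]
    have h3 : Finsupp.weight w d = ∑ i ∈ d.support, d i • w i := by
      rw [Finsupp.weight_apply, Finsupp.sum]
    rw [h3]
    exact IsWeightedHomogeneous.prod _ _ _ fun i _ => (hg i).pow (d i)
  simpa using h1.mul h2

theorem wh_component {σ τ : Type*} {M : Type*} [AddCommMonoid M] (w : σ → M) (v : τ → M)
    (g : σ → MvPolynomial τ ℤ) (hg : ∀ s, IsWeightedHomogeneous v (g s) (w s)) (m : M)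
    (P₀ : MvPolynomial σ ℤ) (F : MvPolynomial τ ℤ) (hF : IsWeightedHomogeneous v F m)
    (h : aeval g P₀ = F) : aeval g (weightedHomogeneousComponent w m P₀) = F := by
  classical
  have h1 := congrArg (weightedHomogeneousComponent v m) h
  rw [hF.weightedHomogeneousComponent_same] at h1
  rw [← h1]
  conv_rhs => rw [P₀.as_sum]
  rw [map_sum, map_sum, weightedHomogeneousComponent_apply, map_sum, Finset.sum_filter]
  refine Finset.sum_congr rfl fun d _ => ?_
  split_ifs with hd
  · have := wh_aeval_monomial w v g hg d (coeff d P₀)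
    rw [hd] at this
    rw [this.weightedHomogeneousComponent_same]
  · have := wh_aeval_monomial w v g hg d (coeff d P₀)
    rw [this.weightedHomogeneousComponent_ne]
    exact fun h => hd h.symm

theorem wh_esymm {τ : Type*} [Fintype τ] {M : Type*} [AddCommMonoid M] (v : τ → M) (a : M) (hv : ∀ t, v t = a) (k : ℕ) :
    IsWeightedHomogeneous v (esymm τ ℤ k) (k • a) := by
  rw [esymm]
  refine IsWeightedHomogeneous.sum _ _ _ fun s hs => ?_
  have h : k • a = ∑ i ∈ s, v i := by
    rw [Finset.sum_congr rfl fun i _ => hv i, Finset.sum_const, (Finset.mem_powersetCard.1 hs).2]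
  rw [h]
  exact IsWeightedHomogeneous.prod _ _ _ fun i _ => isWeightedHomogeneous_X _ _ _

theorem compGen_wh (N i j : ℕ) : IsWeightedHomogeneous (fun _ : Fin N => 1) (compGen N i j) (i * j) := by
  rw [compGen, Finset.esymm_map_val]
  refine IsWeightedHomogeneous.sum _ _ _ fun t ht => ?_
  have h1 : i * j = ∑ s ∈ t, i := by
    rw [Finset.sum_const, (Finset.mem_powersetCard.1 ht).2, smul_eq_mul, mul_comm]
  rw [h1]
  refine IsWeightedHomogeneous.prod _ _ _ fun s hs => ?_
  have hs' := (Finset.mem_powersetCard.1 ((Finset.mem_powersetCard.1 ht).1 hs)).2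
  have h2 : i = ∑ a ∈ s, 1 := by rw [Finset.sum_const, hs']; simp
  rw [h2]
  exact IsWeightedHomogeneous.prod _ _ _ fun i _ => isWeightedHomogeneous_X _ _ _

theorem compGen_symm (N i j : ℕ) : (compGen N i j).IsSymmetric := by
  intro e
  have := map_esymm (rename (R := ℤ) e).toRingHom
    (((Finset.univ : Finset (Fin N)).powersetCard i).val.map
    fun s => (∏ a ∈ s, MvPolynomial.X a : MvPolynomial (Fin N) ℤ)) j
  refine this.trans ?_
  rw [compGen, Multiset.map_map]
  congr 1
  have h1 : ((Finset.univ : Finset (Fin N)).powersetCard i) =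
      ((Finset.univ : Finset (Fin N)).powersetCard i).map (Finset.mapEmbedding e.toEmbedding).toEmbedding := by
    ext s
    simp only [Finset.mem_map, Finset.mem_powersetCard]
    constructor
    · rintro ⟨_, hs⟩
      refine ⟨s.map e.symm.toEmbedding, ⟨Finset.subset_univ _, by simpa using hs⟩, ?_⟩
      change (s.map e.symm.toEmbedding).map e.toEmbedding = s
      rw [Finset.map_map]
      ext; simp
    · rintro ⟨t, ⟨_, ht⟩, rfl⟩
      exact ⟨Finset.subset_univ _, by simpa using ht⟩
  conv_rhs => rw [h1]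
  rw [Finset.map_val, Multiset.map_map]
  refine Multiset.map_congr rfl fun s _ => ?_
  simp [Finset.mapEmbedding]

theorem exists_compPoly (i j : ℕ) : ∃ Q : MvPolynomial (Fin (i * j)) ℤ, IsCompPoly i j Q := by
  obtain ⟨Q₀, hQ₀⟩ := MvPolynomial.esymmAlgHom_surjective (σ := Fin (i * j)) (n := i * j) (R := ℤ) (by simp)
    ⟨compGen (i * j) i j, compGen_symm _ i j⟩
  have h1 : aeval (fun k : Fin (i * j) => esymm (Fin (i * j)) ℤ ((k : ℕ) + 1)) Q₀ = compGen (i * j) i j := by
    have := congrArg Subtype.val hQ₀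
    rw [esymmAlgHom_apply] at this
    exact this
  refine ⟨weightedHomogeneousComponent (fun k : Fin (i * j) => (k : ℕ) + 1) (i * j) Q₀, ?_, ?_⟩
  · refine wh_component (fun k : Fin (i * j) => (k : ℕ) + 1) (fun _ => 1) _ ?_ (i * j) Q₀ _ (compGen_wh _ i j) h1
    intro k
    have := wh_esymm (fun _ : Fin (i * j) => 1) 1 (fun _ => rfl) ((k : ℕ) + 1)
    simpa using this
  · exact weightedHomogeneousComponent_isWeightedHomogeneous _ _

theorem mulGen_wh (n k : ℕ) : IsWeightedHomogeneous
    (Sum.elim (fun _ : Fin n => ((1, 0) : ℕ × ℕ)) (fun _ : Fin n => ((0, 1) : ℕ × ℕ))) (mulGen n k) (k, k) := by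
  rw [mulGen, Finset.esymm_map_val]
  refine IsWeightedHomogeneous.sum _ _ _ fun t ht => ?_
  have h1 : ((k, k) : ℕ × ℕ) = ∑ s ∈ t, ((1, 0) + (0, 1)) := by
    rw [Finset.sum_const, (Finset.mem_powersetCard.1 ht).2]; simp
  rw [h1]
  refine IsWeightedHomogeneous.prod _ _ _ fun s hs => ?_
  refine IsWeightedHomogeneous.mul ?_ ?_
  · exact isWeightedHomogeneous_X _ _ _
  · exact isWeightedHomogeneous_X _ _ _

/-- polynomial identity -/
theorem coeff_prod_one_add {S : Type*} [CommRing S] {ι : Type*} [DecidableEq ι] (s : Finset ι) (y : ι → S) (k : ℕ) :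
    (∏ i ∈ s, (1 + Polynomial.C (y i) * Polynomial.X)).coeff k = (s.val.map y).esymm k := by
  rw [Finset.prod_one_add, Finset.esymm_map_val, Polynomial.finsetSum_coeff]
  rw [← Finset.sum_filter_add_sum_filter_not s.powerset (fun t => #t = k)]
  have h1 : ∑ t ∈ s.powerset with ¬ #t = k, (∏ i ∈ t, Polynomial.C (y i) * Polynomial.X).coeff k = 0 := by
    refine Finset.sum_eq_zero fun t ht => ?_
    rw [Finset.prod_mul_distrib, Finset.prod_const, ← map_prod, Polynomial.coeff_C_mul_X_pow, if_neg]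
    exact fun h => (Finset.mem_filter.1 ht).2 h.symm
  rw [h1, add_zero, ← Finset.powersetCard_eq_filter]
  refine Finset.sum_congr rfl fun t ht => ?_
  rw [Finset.prod_mul_distrib, Finset.prod_const, ← map_prod, Polynomial.coeff_C_mul_X_pow, if_pos]
  exact (Finset.mem_powersetCard.1 ht).2.symm

theorem prod_one_add_eq_sum {S : Type*} [CommRing S] {n : ℕ} (y : Fin n → S) :
    ∏ i : Fin n, (1 + Polynomial.C (y i) * Polynomial.X) =
      ∑ k ∈ Finset.range (n + 1), Polynomial.C (((Finset.univ : Finset (Fin n)).val.map y).esymm k) * Polynomial.X ^ k := by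
  ext m
  rw [coeff_prod_one_add, Polynomial.finsetSum_coeff]
  by_cases hm : m ≤ n
  · rw [Finset.sum_eq_single m]
    · rw [Polynomial.coeff_C_mul_X_pow, if_pos rfl]
    · intro b _ hb
      rw [Polynomial.coeff_C_mul_X_pow, if_neg hb.symm]
    · intro h; exact absurd (Finset.mem_range.2 (by omega)) h
  · rw [Finset.sum_eq_zero]
    · rw [Multiset.esymm, Multiset.powersetCard_eq_empty]
      · simp
      · simp; omega
    · intro b hb
      rw [Polynomial.coeff_C_mul_X_pow, if_neg]
      have := Finset.mem_range.1 hb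
      omega

theorem exists_mulPoly (n : ℕ) : ∃ P : MvPolynomial (Fin n ⊕ Fin n) ℤ, IsMulPoly n P := by
  classical
  let B := MvPolynomial (Fin n) ℤ
  let c : ℕ → B := fun k => if k = 0 then 1 else if h : k - 1 < n then X ⟨k - 1, h⟩ else 0
  let G : Polynomial (MvPolynomial (Fin n) B) :=
    ∏ a : Fin n, ∑ k ∈ Finset.range (n + 1), Polynomial.C (MvPolynomial.C (c k) * X a ^ k) * Polynomial.X ^ k
  have hGsymm : (G.coeff n).IsSymmetric := by
    intro e
    have h1 : G.map (rename (R := B) e).toRingHom = G := by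
      simp only [G]
      rw [Polynomial.map_prod]
      rw [← Equiv.prod_comp e (fun a : Fin n => ∑ k ∈ Finset.range (n + 1), Polynomial.C (MvPolynomial.C (c k) * X a ^ k) * Polynomial.X ^ k)]
      refine Finset.prod_congr rfl fun a _ => ?_
      rw [Polynomial.map_sum]
      refine Finset.sum_congr rfl fun k _ => ?_
      simp
    conv_rhs => rw [← h1, Polynomial.coeff_map]
    rfl
  obtain ⟨P', hP'⟩ := MvPolynomial.esymmAlgHom_surjective (σ := Fin n) (n := n) (R := B) (by simp)
    ⟨G.coeff n, hGsymm⟩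
  have hP'' : aeval (fun k : Fin n => esymm (Fin n) B ((k : ℕ) + 1)) P' = G.coeff n := by
    have := congrArg Subtype.val hP'
    rw [esymmAlgHom_apply] at this
    exact this
  let θ : B →+* MvPolynomial (Fin n ⊕ Fin n) ℤ :=
    (aeval (fun k : Fin n => rename Sum.inr (esymm (Fin n) ℤ ((k : ℕ) + 1)))).toRingHom
  let Ψ : MvPolynomial (Fin n) B →+* MvPolynomial (Fin n ⊕ Fin n) ℤ :=
    eval₂Hom θ (fun a => X (Sum.inl a))
  let P₀ : MvPolynomial (Fin n ⊕ Fin n) ℤ := (sumAlgEquiv ℤ (Fin n) (Fin n)).symm P'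
  have hΨe : ∀ k, Ψ (esymm (Fin n) B k) = rename Sum.inl (esymm (Fin n) ℤ k) := by
    intro k
    simp only [Ψ, esymm, map_sum, map_prod, rename_X, coe_eval₂Hom, eval₂_sum, eval₂_prod, eval₂_X]
  have hθc : ∀ k ≤ n, θ (c k) = rename Sum.inr (esymm (Fin n) ℤ k) := by
    intro k hk
    rcases k with _ | k
    · simp [c, θ, esymm_zero]
    · simp only [c, θ]
      rw [if_neg (by omega), dif_pos (by omega : k + 1 - 1 < n)]
      exact aeval_X _ _
  have hcomp : (aeval (R := ℤ) (Sum.elim (fun k : Fin n => rename Sum.inl (esymm (Fin n) ℤ ((k : ℕ) + 1)))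
      (fun k : Fin n => rename Sum.inr (esymm (Fin n) ℤ ((k : ℕ) + 1)) ) :
        Fin n ⊕ Fin n → MvPolynomial (Fin n ⊕ Fin n) ℤ)).toRingHom =
      (Ψ.comp (aeval (R := B) (fun k : Fin n => esymm (Fin n) B ((k : ℕ) + 1))).toRingHom).comp
        (sumAlgEquiv ℤ (Fin n) (Fin n)).toAlgHom.toRingHom := by
    apply MvPolynomial.ringHom_ext
    · intro r; simp
    · rintro (k | k)
      · simp [hΨe]
      · simp [Ψ, θ]
        exact (aeval_X (R := ℤ) (fun k : Fin n => rename Sum.inr (esymm (Fin n) ℤ ((k : ℕ) + 1))) k).symm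
  have h2 : aeval (R := ℤ) (Sum.elim (fun k : Fin n => rename Sum.inl (esymm (Fin n) ℤ ((k : ℕ) + 1)))
      (fun k : Fin n => rename Sum.inr (esymm (Fin n) ℤ ((k : ℕ) + 1)) ) :
        Fin n ⊕ Fin n → MvPolynomial (Fin n ⊕ Fin n) ℤ) P₀ = mulGen n n := by
    have h3 := congrArg (fun F : MvPolynomial (Fin n ⊕ Fin n) ℤ →+* _ => F P₀) hcomp
    refine h3.trans ?_
    simp only [RingHom.comp_apply]
    have h4 : (sumAlgEquiv ℤ (Fin n) (Fin n)).toAlgHom.toRingHom P₀ = P' := by
      exact (sumAlgEquiv ℤ (Fin n) (Fin n)).apply_symm_apply P'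
    rw [h4]
    change Ψ (aeval (R := B) (fun k : Fin n => esymm (Fin n) B ((k : ℕ) + 1)) P') = _
    rw [hP'', ← Polynomial.coeff_map]
    have h5 : G.map Ψ = ∏ a : Fin n, ∏ b : Fin n, (1 + Polynomial.C ((X (Sum.inl a) * X (Sum.inr b) :
        MvPolynomial (Fin n ⊕ Fin n) ℤ)) * Polynomial.X) := by
      simp only [G]
      rw [Polynomial.map_prod]
      refine Finset.prod_congr rfl fun a _ => ?_
      rw [prod_one_add_eq_sum, Polynomial.map_sum]
      refine Finset.sum_congr rfl fun k hk => ?_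
      rw [Polynomial.map_mul, Polynomial.map_pow, Polynomial.map_C, Polynomial.map_X]
      congr 2
      rw [map_mul, map_pow]
      have h6 : Ψ (MvPolynomial.C (c k)) = θ (c k) := by simp [Ψ]
      have h7 : Ψ (X a) = X (Sum.inl a) := by simp [Ψ]
      rw [h6, h7, hθc k (by have := Finset.mem_range.1 hk; omega), Finset.esymm_map_val, esymm, map_sum, Finset.sum_mul]
      refine Finset.sum_congr rfl fun t ht => ?_
      rw [map_prod, Finset.prod_mul_distrib, Finset.prod_const, (Finset.mem_powersetCard.1 ht).2, mul_comm]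
      simp
    rw [h5, ← Fintype.prod_prod_type', coeff_prod_one_add]
    rfl
  refine ⟨weightedHomogeneousComponent
    (Sum.elim (fun k : Fin n => (((k : ℕ) + 1, 0) : ℕ × ℕ)) (fun k : Fin n => ((0, (k : ℕ) + 1) : ℕ × ℕ))) (n, n) P₀, ?_, ?_⟩
  · refine wh_component _ (Sum.elim (fun _ : Fin n => ((1, 0) : ℕ × ℕ)) (fun _ : Fin n => ((0, 1) : ℕ × ℕ)))
      _ ?_ (n, n) P₀ _ (mulGen_wh n n) h2
    rintro (k | k)
    · have h8 := wh_esymm (fun _ : Fin n => ((1, 0) : ℕ × ℕ)) (1, 0) (fun _ => rfl) ((k : ℕ) + 1)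
      simp only [Sum.elim_inl]
      rw [esymm, map_sum]
      refine IsWeightedHomogeneous.sum _ _ _ fun s hs => ?_
      have h : (((k : ℕ) + 1, 0) : ℕ × ℕ) = ∑ i ∈ s, (1, 0) := by
        rw [Finset.sum_const, (Finset.mem_powersetCard.1 hs).2]; simp
      rw [h, map_prod]
      refine IsWeightedHomogeneous.prod _ _ _ fun i _ => ?_
      rw [rename_X]
      exact isWeightedHomogeneous_X _ _ _
    · simp only [Sum.elim_inr]
      rw [esymm, map_sum]
      refine IsWeightedHomogeneous.sum _ _ _ fun s hs => ?_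
      have h : ((0, (k : ℕ) + 1) : ℕ × ℕ) = ∑ i ∈ s, (0, 1) := by
        rw [Finset.sum_const, (Finset.mem_powersetCard.1 hs).2]; simp
      rw [h, map_prod]
      refine IsWeightedHomogeneous.prod _ _ _ fun i _ => ?_
      rw [rename_X]
      exact isWeightedHomogeneous_X _ _ _
  · exact weightedHomogeneousComponent_isWeightedHomogeneous _ _


theorem TF_of_domain (R : Type*) [CommRing R] [IsDomain R] [CharZero R] : TF R := by
  intro k x y h
  exact mul_left_cancel₀ (Nat.cast_add_one_ne_zero k) h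

theorem mul_stable_poly (n N : ℕ) (P : MvPolynomial (Fin n ⊕ Fin n) ℤ) (hP : IsMulPoly n P) :
    mulGen N n = aeval (Sum.elim (fun k : Fin n => rename Sum.inl (esymm (Fin N) ℤ ((k : ℕ) + 1)))
        (fun k : Fin n => rename Sum.inr (esymm (Fin N) ℤ ((k : ℕ) + 1)) ) :
          Fin n ⊕ Fin n → MvPolynomial (Fin N ⊕ Fin N) ℤ) P := by
  have ha : ∀ k, rename (R := ℤ) (Sum.inl : Fin N → Fin N ⊕ Fin N) (esymm (Fin N) ℤ k) =
      ((Finset.univ : Finset (Fin N)).val.map fun a => (X (Sum.inl a) : MvPolynomial (Fin N ⊕ Fin N) ℤ)).esymm k := by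
    intro k
    rw [Finset.esymm_map_val, esymm, map_sum]
    simp
  have hb : ∀ k, rename (R := ℤ) (Sum.inr : Fin N → Fin N ⊕ Fin N) (esymm (Fin N) ℤ k) =
      ((Finset.univ : Finset (Fin N)).val.map fun a => (X (Sum.inr a) : MvPolynomial (Fin N ⊕ Fin N) ℤ)).esymm k := by
    intro k
    rw [Finset.esymm_map_val, esymm, map_sum]
    simp
  refine mul_core (TF_of_domain _) n P hP
    (fun k => rename Sum.inl (esymm (Fin N) ℤ k)) (fun k => rename Sum.inr (esymm (Fin N) ℤ k))
    (fun k => mulGen N k) (by simp [esymm_zero]) (by simp [esymm_zero]) (by simp [mulGen, Multiset.esymm]) ?_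
  intro k _
  simp only [ha, hb]
  rw [adm_esymm, adm_esymm]
  have h1 : adm (fun k => mulGen N k) (k + 1) = _ := adm_esymm _ k
  rw [h1, Multiset.map_map, Multiset.map_map, Multiset.map_map]
  change (∑ ab : Fin N × Fin N, (X (Sum.inl ab.1) * X (Sum.inr ab.2) : MvPolynomial (Fin N ⊕ Fin N) ℤ) ^ (k + 1)) =
    (∑ i : Fin N, X (Sum.inl i) ^ (k + 1)) * (∑ i : Fin N, X (Sum.inr i) ^ (k + 1))
  rw [Finset.sum_mul_sum, Fintype.sum_prod_type]
  simp only [mul_pow]

theorem mul_stable {S : Type*} [CommRing S] (n N : ℕ) (P : MvPolynomial (Fin n ⊕ Fin n) ℤ) (hP : IsMulPoly n P)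
    (y z : Fin N → S) :
    ((Finset.univ : Finset (Fin N × Fin N)).val.map fun ab => y ab.1 * z ab.2).esymm n =
      aeval (Sum.elim (fun k : Fin n => ((Finset.univ : Finset (Fin N)).val.map y).esymm ((k : ℕ) + 1))
        (fun k : Fin n => ((Finset.univ : Finset (Fin N)).val.map z).esymm ((k : ℕ) + 1))) P := by
  rw [← aeval_mulGen, mul_stable_poly n N P hP]
  have e4 : (MvPolynomial.aeval (R := ℤ) (Sum.elim y z)).toRingHom.comp
      (MvPolynomial.aeval (R := ℤ) (Sum.elim
        (fun k : Fin n => MvPolynomial.rename Sum.inl (MvPolynomial.esymm (Fin N) ℤ ((k : ℕ) + 1)))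
        (fun k : Fin n => MvPolynomial.rename Sum.inr (MvPolynomial.esymm (Fin N) ℤ ((k : ℕ) + 1))) :
          Fin n ⊕ Fin n → MvPolynomial (Fin N ⊕ Fin N) ℤ)).toRingHom =
      (MvPolynomial.aeval (R := ℤ) (Sum.elim
        (fun k : Fin n => ((Finset.univ : Finset (Fin N)).val.map y).esymm ((k : ℕ) + 1))
        (fun k : Fin n => ((Finset.univ : Finset (Fin N)).val.map z).esymm ((k : ℕ) + 1)))).toRingHom := by
    apply MvPolynomial.ringHom_ext
    · intro r; simp
    · rintro (k | k)
      · simp only [AlgHom.toRingHom_eq_coe, RingHom.coe_comp, RingHom.coe_coe, Function.comp_apply,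
          MvPolynomial.aeval_X, Sum.elim_inl, MvPolynomial.aeval_rename]
        rw [← aeval_esymm_fin]
        rfl
      · simp only [AlgHom.toRingHom_eq_coe, RingHom.coe_comp, RingHom.coe_coe, Function.comp_apply,
          MvPolynomial.aeval_X, Sum.elim_inr, MvPolynomial.aeval_rename]
        rw [← aeval_esymm_fin]
        rfl
  exact congrArg (fun F : MvPolynomial (Fin n ⊕ Fin n) ℤ →+* S => F P) e4

theorem comp_stable_poly (i j N : ℕ) (Q : MvPolynomial (Fin (i * j)) ℤ) (hQ : IsCompPoly i j Q) :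
    compGen N i j = aeval (fun k : Fin (i * j) => esymm (Fin N) ℤ ((k : ℕ) + 1)) Q := by
  have ha : ∀ k, esymm (Fin N) ℤ k =
      ((Finset.univ : Finset (Fin N)).val.map fun a => (X a : MvPolynomial (Fin N) ℤ)).esymm k := by
    intro k
    rw [Finset.esymm_map_val, esymm]
  refine comp_core (TF_of_domain _) i j Q hQ (fun k => esymm (Fin N) ℤ k) (fun k => compGen N i k)
    (fun k m => ((Finset.univ : Finset (Fin N)).val.map fun a => (X a : MvPolynomial (Fin N) ℤ) ^ k).esymm m)
    (by simp [esymm_zero]) (by simp [compGen, Multiset.esymm]) (by simp [Multiset.esymm]) ?_ ?_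
  · intro k _
    have h1 : adm (fun k => compGen N i k) (k + 1) = _ := adm_esymm _ k
    rw [h1, Multiset.map_map, Finset.esymm_map_val]
    change (∑ t ∈ _, (∏ x ∈ t, (X x : MvPolynomial (Fin N) ℤ)) ^ (k + 1)) = ∑ t ∈ _, ∏ x ∈ t, X x ^ (k + 1)
    refine Finset.sum_congr rfl fun t _ => ?_
    rw [Finset.prod_pow]
  · intro k _ m _
    simp only [ha]
    obtain ⟨t, ht⟩ : ∃ t, (m + 1) * (k + 1) = t + 1 := ⟨(m + 1) * (k + 1) - 1, by
      have : 0 < (m + 1) * (k + 1) := by positivity
      omega⟩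
    rw [ht, adm_esymm, adm_esymm, Multiset.map_map, Multiset.map_map, ← ht]
    change ∑ x : Fin N, ((X x : MvPolynomial (Fin N) ℤ) ^ (k + 1)) ^ (m + 1) = ∑ x : Fin N, X x ^ ((m + 1) * (k + 1))
    refine Finset.sum_congr rfl fun x _ => ?_
    rw [← pow_mul, mul_comm]

theorem comp_stable {S : Type*} [CommRing S] (i j N : ℕ) (Q : MvPolynomial (Fin (i * j)) ℤ) (hQ : IsCompPoly i j Q)
    (y : Fin N → S) :
    (((Finset.univ : Finset (Fin N)).powersetCard i).val.map fun s => ∏ a ∈ s, y a).esymm j =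
      aeval (fun k : Fin (i * j) => ((Finset.univ : Finset (Fin N)).val.map y).esymm ((k : ℕ) + 1)) Q := by
  rw [← aeval_compGen, comp_stable_poly i j N Q hQ]
  have e4 : (MvPolynomial.aeval (R := ℤ) y).toRingHom.comp
      (MvPolynomial.aeval (R := ℤ) (fun k : Fin (i * j) => MvPolynomial.esymm (Fin N) ℤ ((k : ℕ) + 1))).toRingHom =
      (MvPolynomial.aeval (R := ℤ) (fun k : Fin (i * j) =>
        ((Finset.univ : Finset (Fin N)).val.map y).esymm ((k : ℕ) + 1))).toRingHom := by
    apply MvPolynomial.ringHom_ext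
    · intro r; simp
    · intro k
      simp only [AlgHom.toRingHom_eq_coe, RingHom.coe_comp, RingHom.coe_coe, Function.comp_apply,
          MvPolynomial.aeval_X]
      rw [← aeval_esymm_fin]
  exact congrArg (fun F : MvPolynomial (Fin (i * j)) ℤ →+* S => F Q) e4

section Special

variable {K : Type u} [CommRing K] [LambdaRing.LambdaOps K]

/-- a common splitting of the λ-sequences of two elements -/
theorem special_mul_split [Nontrivial K] (hK : LambdaRing.IsSpecial K) (N : ℕ) (x y : K) :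
    ∃ (T : Type u) (_ : CommRing T) (f : K →+* T) (_ : Function.Injective f) (α β : Fin N → T),
      (∀ k ≤ N, f (LambdaOps.lam k x) = ((Finset.univ : Finset (Fin N)).val.map α).esymm k) ∧
      (∀ k ≤ N, f (LambdaOps.lam k y) = ((Finset.univ : Finset (Fin N)).val.map β).esymm k) ∧
      (∀ k ≤ N, f (LambdaOps.lam k (x * y)) =
        ((Finset.univ : Finset (Fin N × Fin N)).val.map fun ab => α ab.1 * β ab.2).esymm k) := by
  obtain ⟨S, _, _, _, _, y0, hy⟩ := exists_split (fun k => LambdaOps.lam k x) (LambdaOps.lam_zero x) N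
  obtain ⟨T, _, _, _, _, z, hz⟩ := exists_split (fun k => algebraMap K S (LambdaOps.lam k y))
    (by simp [LambdaOps.lam_zero]) N
  set f : K →+* T := (algebraMap S T).comp (algebraMap K S) with hf
  have hA : ∀ k ≤ N, f (LambdaOps.lam k x) = ((Finset.univ : Finset (Fin N)).val.map
      (fun i => algebraMap S T (y0 i))).esymm k := by
    intro k hk
    rw [hf, RingHom.comp_apply, hy k hk, map_esymm, Multiset.map_map]; rfl
  have hB : ∀ k ≤ N, f (LambdaOps.lam k y) = ((Finset.univ : Finset (Fin N)).val.map z).esymm k := by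
    intro k hk
    rw [hf, RingHom.comp_apply, hz k hk]
  refine ⟨T, inferInstance, f, ?_, fun i => algebraMap S T (y0 i), z, hA, hB, ?_⟩
  · rw [hf]
    exact (FaithfulSMul.algebraMap_injective S T).comp (FaithfulSMul.algebraMap_injective K S)
  · intro n hn
    obtain ⟨P, hP⟩ := exists_mulPoly n
    rw [hK.lam_mul n P hP]
    refine Eq.trans ?_ (mul_stable n N P hP (fun i => algebraMap S T (y0 i)) z).symm
    have e4 : f.comp (MvPolynomial.aeval (R := ℤ) (Sum.elim (fun k : Fin n => LambdaOps.lam ((k : ℕ) + 1) x)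
        (fun k : Fin n => LambdaOps.lam ((k : ℕ) + 1) y))).toRingHom =
        (MvPolynomial.aeval (R := ℤ) (Sum.elim
        (fun k : Fin n => ((Finset.univ : Finset (Fin N)).val.map (fun i => algebraMap S T (y0 i))).esymm ((k : ℕ) + 1))
        (fun k : Fin n => ((Finset.univ : Finset (Fin N)).val.map z).esymm ((k : ℕ) + 1)))).toRingHom := by
      apply MvPolynomial.ringHom_ext
      · intro r; simp
      · rintro (k | k)
        · simp only [AlgHom.toRingHom_eq_coe, RingHom.coe_comp, RingHom.coe_coe, Function.comp_apply,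
            MvPolynomial.aeval_X, Sum.elim_inl]
          rw [hA _ (by have := k.2; omega)]
        · simp only [AlgHom.toRingHom_eq_coe, RingHom.coe_comp, RingHom.coe_coe, Function.comp_apply,
            MvPolynomial.aeval_X, Sum.elim_inr]
          rw [hB _ (by have := k.2; omega)]
    exact congrArg (fun F : MvPolynomial (Fin n ⊕ Fin n) ℤ →+* T => F P) e4

theorem adamsOp_mul (hK : LambdaRing.IsSpecial K) (k : ℕ) (hk : 1 ≤ k) (x y : K) :
    LambdaRing.adamsOp k (x * y) = LambdaRing.adamsOp k x * LambdaRing.adamsOp k y := by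
  rcases subsingleton_or_nontrivial K with h | h
  · exact Subsingleton.elim _ _
  obtain ⟨k, rfl⟩ : ∃ m, k = m + 1 := ⟨k - 1, by omega⟩
  obtain ⟨T, _, f, hf, α, β, hα, hβ, hαβ⟩ := special_mul_split hK (k + 1) x y
  apply hf
  rw [map_mul, adamsOp_eq_adm, adamsOp_eq_adm, adamsOp_eq_adm, ← adm_map f _ (LambdaOps.lam_zero _),
    ← adm_map f _ (LambdaOps.lam_zero _), ← adm_map f _ (LambdaOps.lam_zero _),
    adm_local _ _ (by simp [LambdaOps.lam_zero]) (k + 1) hα k (by omega),
    adm_local _ _ (by simp [LambdaOps.lam_zero]) (k + 1) hβ k (by omega),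
    adm_local _ _ (by simp [LambdaOps.lam_zero]) (k + 1) hαβ k (by omega),
    adm_esymm, adm_esymm, adm_esymm, Multiset.map_map, Multiset.map_map, Multiset.map_map]
  change ∑ ab : Fin (k + 1) × Fin (k + 1), (α ab.1 * β ab.2) ^ (k + 1) =
    (∑ i, α i ^ (k + 1)) * (∑ i, β i ^ (k + 1))
  rw [Finset.sum_mul_sum, Fintype.sum_prod_type]
  simp only [mul_pow]

/-- the Adams operation of a special λ-ring as a ring homomorphism -/
def adamsHom (hK : LambdaRing.IsSpecial K) (k : ℕ) : K →+* K where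
  toFun := LambdaRing.adamsOp (k + 1)
  map_one' := adamsOp_one_of_lam_one hK.lam_one_eq_zero _ (by omega)
  map_mul' := adamsOp_mul hK _ (by omega)
  map_zero' := by
    have := adamsOp_add (K := K) (k + 1) (by omega) 0 0
    rw [add_zero] at this
    simpa using this
  map_add' := adamsOp_add _ (by omega)

theorem adamsOp_adamsOp (hK : LambdaRing.IsSpecial K) (k k' : ℕ) (hk : 1 ≤ k) (hk' : 1 ≤ k') (x : K) :
    LambdaRing.adamsOp k (LambdaRing.adamsOp k' x) = LambdaRing.adamsOp (k * k') x := by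
  rcases subsingleton_or_nontrivial K with h | h
  · exact Subsingleton.elim _ _
  obtain ⟨k, rfl⟩ : ∃ m, k = m + 1 := ⟨k - 1, by omega⟩
  obtain ⟨k', rfl⟩ : ∃ m, k' = m + 1 := ⟨k' - 1, by omega⟩
  set N := (k + 1) * (k' + 1) with hN
  obtain ⟨S, _, _, _, _, α, hα⟩ := exists_split (fun k => LambdaOps.lam k x) (LambdaOps.lam_zero x) N
  set f : K →+* S := algebraMap K S with hf
  have hinj : Function.Injective f := FaithfulSMul.algebraMap_injective K S
  have hpow : ∀ t < N, f (LambdaRing.adamsOp (t + 1) x) = ∑ a, α a ^ (t + 1) := by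
    intro t ht
    rw [adamsOp_eq_adm, ← adm_map f _ (LambdaOps.lam_zero _),
      adm_local _ _ (by simp [LambdaOps.lam_zero]) N hα t ht, adm_esymm, Multiset.map_map]
    rfl
  -- λ^j(λ^i x)
  have hcomp : ∀ i ≤ k' + 1, ∀ j ≤ k + 1, f (LambdaOps.lam j (LambdaOps.lam i x)) =
      (((Finset.univ : Finset (Fin N)).powersetCard i).val.map fun s => ∏ a ∈ s, α a).esymm j := by
    intro i hi j hj
    obtain ⟨Q, hQ⟩ := exists_compPoly i j
    have hij : i * j ≤ N := by rw [hN, mul_comm]; exact Nat.mul_le_mul hj hi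
    rw [hK.lam_lam i j Q hQ, comp_stable i j N Q hQ]
    have e4 : f.comp (MvPolynomial.aeval (R := ℤ) (fun k : Fin (i * j) => LambdaOps.lam ((k : ℕ) + 1) x)).toRingHom =
        (MvPolynomial.aeval (R := ℤ)
        (fun k : Fin (i * j) => ((Finset.univ : Finset (Fin N)).val.map α).esymm ((k : ℕ) + 1))).toRingHom := by
      apply MvPolynomial.ringHom_ext
      · intro r; simp
      · intro k
        simp only [AlgHom.toRingHom_eq_coe, RingHom.coe_comp, RingHom.coe_coe, Function.comp_apply,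
            MvPolynomial.aeval_X]
        exact hα _ (by have := k.2; omega)
    exact congrArg (fun F : MvPolynomial (Fin (i * j)) ℤ →+* S => F Q) e4
  have hψ : ∀ i ≤ k' + 1, f (adamsHom hK k (LambdaOps.lam i x)) =
      ((Finset.univ : Finset (Fin N)).val.map fun a => α a ^ (k + 1)).esymm i := by
    intro i hi
    change f (LambdaRing.adamsOp (k + 1) (LambdaOps.lam i x)) = _
    rw [adamsOp_eq_adm, ← adm_map f _ (LambdaOps.lam_zero _),
      adm_local _ _ (by simp [LambdaOps.lam_zero]) (k + 1) (hcomp i hi) k (by omega), adm_esymm,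
      Multiset.map_map, Finset.esymm_map_val]
    change (∑ t ∈ _, (∏ x ∈ t, α x) ^ (k + 1)) = ∑ t ∈ _, ∏ x ∈ t, α x ^ (k + 1)
    refine Finset.sum_congr rfl fun t _ => ?_
    rw [Finset.prod_pow]
  apply hinj
  have hN' : N = (N - 1) + 1 := by
    have : 0 < N := by rw [hN]; positivity
    omega
  conv_rhs => rw [hN', hpow (N - 1) (by omega), ← hN']
  change f (adamsHom hK k (LambdaRing.adamsOp (k' + 1) x)) = _
  rw [adamsOp_eq_adm, ← adm_map (adamsHom hK k) _ (LambdaOps.lam_zero _),
    ← adm_map f _ (by simp [LambdaOps.lam_zero]),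
    adm_local _ _ (by simp [LambdaOps.lam_zero]) (k' + 1) hψ k' (by omega), adm_esymm, Multiset.map_map]
  change ∑ a, (α a ^ (k + 1)) ^ (k' + 1) = _
  simp only [← pow_mul, hN]

end Special

end Groth.Agent.H13Lam
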