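import Mathlib

set_option autoImplicit false
universe u v

namespace Groth.Agent.H13PLin

open Polynomial

variable {k : Type u} [Field k] (p : ℕ) [Fact p.Prime] [CharP k p] (r : ℕ) (hr : 0 < r)

/-- auxiliary polynomials -/
noncomputable def f (q : ℕ) (a : ℕ → k) : ℕ → k[X]
  | 0 => C (a 0) * X ^ q
  | i + 1 => (f q a i) ^ q + C (a (i + 1)) * X ^ q

include hr in
theorem q_ge : 2 ≤ p ^ r := by
  have hp := (Fact.out : p.Prime).two_le
  calc 2 ≤ p := hp
    _ = p ^ 1 := (pow_one p).symm
    _ ≤ p ^ r := Nat.pow_le_pow_right (by omega) hr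

include hr in
theorem q_zero : ((p ^ r : ℕ) : k) = 0 := by
  rw [Nat.cast_pow, CharP.cast_eq_zero, zero_pow hr.ne']

include hr in
theorem f_deriv (a : ℕ → k) (i : ℕ) : derivative (f (p ^ r) a i) = 0 := by
  cases i with
  | zero =>
    rw [f, derivative_C_mul, derivative_X_pow, q_zero p r hr]; simp
  | succ i =>
    rw [f, derivative_add, derivative_C_mul, derivative_X_pow, derivative_pow, q_zero p r hr]; simp

include hr in
theorem f_eval_zero (a : ℕ → k) (i : ℕ) : (f (p ^ r) a i).eval 0 = 0 := by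
  have h := q_ge p r hr
  induction i with
  | zero => rw [f, eval_mul, eval_pow, eval_X, zero_pow (by omega), mul_zero]
  | succ i ih => rw [f, eval_add, eval_pow, ih, eval_mul, eval_pow, eval_X, zero_pow (by omega), mul_zero, add_zero]

include hr in
theorem f_degree (a : ℕ → k) (i : ℕ) :
    ((∀ l ≤ i, a l = 0) ∧ f (p ^ r) a i = 0) ∨ p ^ r ≤ (f (p ^ r) a i).natDegree := by
  have h := q_ge p r hr
  induction i with
  | zero =>
    by_cases h0 : a 0 = 0
    · left
      refine ⟨fun l hl => by rw [Nat.le_zero.1 hl]; exact h0, by rw [f, h0]; simp⟩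
    · right
      rw [f, natDegree_C_mul_X_pow _ _ h0]
  | succ i ih =>
    rcases ih with ⟨h1, h2⟩ | h1
    · by_cases h0 : a (i + 1) = 0
      · left
        refine ⟨fun l hl => ?_, by rw [f, h2, h0, zero_pow (by omega)]; simp⟩
        rcases Nat.lt_or_ge l (i + 1) with h3 | h3
        · exact h1 l (by omega)
        · rw [show l = i + 1 by omega]; exact h0
      · right
        rw [f, h2, zero_pow (by omega), zero_add, natDegree_C_mul_X_pow _ _ h0]
    · right
      have h3 : (C (a (i + 1)) * X ^ (p ^ r)).natDegree ≤ p ^ r := natDegree_C_mul_X_pow_le _ _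
      have h4 : ((f (p ^ r) a i) ^ (p ^ r)).natDegree = p ^ r * (f (p ^ r) a i).natDegree := natDegree_pow _ _
      have h5 : p ^ r * p ^ r ≤ p ^ r * (f (p ^ r) a i).natDegree := Nat.mul_le_mul_left _ h1
      have h6 : p ^ r * 2 ≤ p ^ r * p ^ r := Nat.mul_le_mul_left _ h
      rw [f, natDegree_add_eq_left_of_natDegree_lt (by omega), h4]
      omega

include hr in
theorem exists_root [IsSepClosed k] (a : ℕ → k) (m : ℕ) (ha : ∃ j ≤ m, a j ≠ 0) :
    ∃ x : k, x ≠ 0 ∧ (f (p ^ r) a m).eval x = x := by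
  have h := q_ge p r hr
  have hd : p ^ r ≤ (f (p ^ r) a m).natDegree := by
    rcases f_degree p r hr a m with ⟨h1, _⟩ | h1
    · obtain ⟨j, hj, hj'⟩ := ha
      exact absurd (h1 j hj) hj'
    · exact h1
  set G := f (p ^ r) a m - X with hG
  have hGd : G.natDegree = (f (p ^ r) a m).natDegree := by
    rw [hG]
    apply natDegree_sub_eq_left_of_natDegree_lt
    rw [natDegree_X]; omega
  have hG' : derivative G = -1 := by
    rw [hG, derivative_sub, f_deriv p r hr, derivative_X, zero_sub]
  have hsep : G.Separable := by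
    rw [Polynomial.Separable, hG']
    exact ⟨0, -1, by ring⟩
  obtain ⟨H, hH⟩ : X ∣ G := by
    rw [X_dvd_iff, coeff_zero_eq_eval_zero, hG, eval_sub, f_eval_zero p r hr]; simp
  have hH0 : H ≠ 0 := by
    rintro rfl
    rw [hH, mul_zero, natDegree_zero] at hGd
    omega
  have hHd : H.natDegree + 1 = G.natDegree := by
    rw [hH, natDegree_X_mul hH0]
  have hHsep : H.Separable := by
    rw [hH] at hsep
    exact hsep.of_mul_right
  obtain ⟨x, hx⟩ := IsSepClosed.exists_root H (by
    rw [degree_eq_natDegree hH0]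
    have : H.natDegree ≠ 0 := by omega
    exact_mod_cast this) hHsep
  refine ⟨x, ?_, ?_⟩
  · rintro rfl
    have h1 := congrArg (fun P => P.eval 0) hG'
    rw [hH] at h1
    simp only [derivative_mul, derivative_X, one_mul, eval_add, eval_mul, eval_X, zero_mul, add_zero, eval_neg, eval_one] at h1
    rw [hx] at h1
    simp at h1
  · have h1 : G.eval x = 0 := by rw [hH, eval_mul, hx, mul_zero]
    rw [hG, eval_sub, eval_X, sub_eq_zero] at h1
    exact h1

variable {V : Type v} [AddCommGroup V] [Module k V] (φ : V →+ V) (hφ : ∀ (c : k) (v : V), φ (c • v) = c ^ (p ^ r) • φ v)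

include hr hφ in
theorem exists_fixed [IsSepClosed k] [FiniteDimensional k V] (v : V) (hv : ∀ m, φ^[m] v ≠ 0) :
    ∃ w : V, w ≠ 0 ∧ φ w = w := by
  classical
  have h := q_ge p r hr
  have hex : ∃ m, ∃ a : ℕ → k, φ^[m] v = ∑ i ∈ Finset.range m, a i • φ^[i] v := by
    let N : ℕ →o Submodule k V := ⟨fun m => Submodule.span k ((fun i => φ^[i] v) '' (Finset.range m : Set ℕ)), fun a b hab =>
      Submodule.span_mono (Set.image_mono (by exact_mod_cast Finset.range_mono hab))⟩
    obtain ⟨n, hn⟩ := monotone_stabilizes_iff_noetherian.2 (inferInstance : IsNoetherian k V) N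
    have h1 : φ^[n] v ∈ N (n + 1) := Submodule.subset_span ⟨n, by simp, rfl⟩
    rw [← hn (n + 1) (by omega)] at h1
    obtain ⟨c, hc⟩ := (Submodule.mem_span_image_finset_iff_exists_fun' k).1 h1
    exact ⟨n, c, hc.symm⟩
  obtain ⟨a, ha⟩ := Nat.find_spec hex
  have hmin := fun m => Nat.find_min hex (m := m)
  rcases hm : Nat.find hex with _ | m
  · rw [hm] at ha
    simp at ha
    exact absurd ha (hv 0)
  rw [hm] at ha hmin
  have haj : ∃ j ≤ m, a j ≠ 0 := by
    by_contra hcon
    push Not at hcon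
    apply hv (m + 1)
    rw [ha]
    refine Finset.sum_eq_zero fun i hi => ?_
    rw [hcon i (by have := Finset.mem_range.1 hi; omega), zero_smul]
  obtain ⟨x, hx0, hx⟩ := exists_root p r hr a m haj
  set e : ℕ → k := fun i => (f (p ^ r) a i).eval x with he
  have he0 : e 0 = a 0 * x ^ (p ^ r) := by simp [he, f]
  have hes : ∀ i, e (i + 1) = e i ^ (p ^ r) + a (i + 1) * x ^ (p ^ r) := by intro i; simp [he, f]
  have hem : e m = x := hx
  refine ⟨∑ i ∈ Finset.range (m + 1), e i • φ^[i] v, ?_, ?_⟩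
  · intro hw
    rw [Finset.sum_range_succ, hem] at hw
    refine hmin m (by omega) ⟨fun i => -(x⁻¹ * e i), ?_⟩
    have h1 := congrArg (fun t => x⁻¹ • t) hw
    simp only [smul_add, smul_zero, smul_smul, inv_mul_cancel₀ hx0, one_smul, Finset.smul_sum] at h1
    rw [eq_neg_of_add_eq_zero_right h1, ← Finset.sum_neg_distrib]
    refine Finset.sum_congr rfl fun i _ => ?_
    rw [neg_smul]
  · rw [map_sum]
    simp only [hφ]
    have hsucc : ∀ i, φ (φ^[i] v) = φ^[i + 1] v := fun i => (Function.iterate_succ_apply' φ i v).symm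
    simp only [hsucc]
    rw [Finset.sum_range_succ, hem, ha, Finset.smul_sum]
    rw [Finset.sum_range_succ' (fun i => x ^ (p ^ r) • (a i • φ^[i] v)), Finset.sum_range_succ' (fun i => e i • φ^[i] v),
      ← add_assoc, ← Finset.sum_add_distrib, he0]
    congr 1
    · refine Finset.sum_congr rfl fun i _ => ?_
      rw [hes, add_smul, smul_smul, mul_comm (a (i + 1))]
    · rw [smul_smul, mul_comm]

omit [Fact p.Prime] [CharP k p] in
include hφ in
theorem iter_smul (m : ℕ) (c : k) (v : V) : φ^[m] (c • v) = c ^ ((p ^ r) ^ m) • φ^[m] v := by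
  induction m generalizing c v with
  | zero => simp
  | succ m ih =>
    rw [Function.iterate_succ_apply, hφ, ih, Function.iterate_succ_apply, ← pow_mul, pow_succ' (p ^ r) m]

theorem iter_sum {ι : Type*} (m : ℕ) (t : Finset ι) (g : ι → V) : φ^[m] (∑ i ∈ t, g i) = ∑ i ∈ t, φ^[m] (g i) := by
  induction m generalizing g with
  | zero => rfl
  | succ m ih =>
    rw [Function.iterate_succ_apply, map_sum, ih]
    rfl

include hr in
theorem as_root [IsSepClosed k] (b : k) : ∃ c : k, c ^ (p ^ r) - c = b := by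
  have h := q_ge p r hr
  set G : k[X] := X ^ (p ^ r) - (X + C b) with hG
  have hGd : G.natDegree = p ^ r := by
    rw [hG, natDegree_sub_eq_left_of_natDegree_lt]
    · exact natDegree_X_pow _
    · rw [natDegree_X_pow, natDegree_X_add_C]; omega
  have hsep : G.Separable := by
    have hG' : derivative G = -1 := by
      rw [hG, derivative_sub, derivative_X_pow, q_zero p r hr]; simp
    rw [Polynomial.Separable, hG']
    exact ⟨0, -1, by ring⟩
  have hG0 : G ≠ 0 := by rintro h0; rw [h0, natDegree_zero] at hGd; omega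
  obtain ⟨x, hx⟩ := IsSepClosed.exists_root G (by
    rw [degree_eq_natDegree hG0, hGd]
    have : p ^ r ≠ 0 := by omega
    exact_mod_cast this) hsep
  refine ⟨x, ?_⟩
  have hx' : G.eval x = 0 := hx
  rw [hG] at hx'
  simp only [eval_sub, eval_pow, eval_X, eval_add, eval_C] at hx'
  linear_combination hx'

include hr hφ in
theorem exists_sub_eq [IsSepClosed k] (y : V) (hy : y ∈ Submodule.span k {v : V | φ v = v}) :
    ∃ z ∈ Submodule.span k {v : V | φ v = v}, φ z - z = y := by
  obtain ⟨g, t, ht, _, rfl⟩ := Submodule.mem_span_iff_exists_finset_subset.1 hy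
  choose c hc using fun w => as_root p r hr (g w)
  refine ⟨∑ w ∈ t, c w • w, Submodule.sum_mem _ fun w hw => Submodule.smul_mem _ _ (Submodule.subset_span (ht hw)), ?_⟩
  rw [map_sum, ← Finset.sum_sub_distrib]
  refine Finset.sum_congr rfl fun w hw => ?_
  have h1 : φ w = w := ht hw
  rw [hφ, h1, ← sub_smul, hc]

include hr hφ in
theorem exists_iter_mem [IsSepClosed k] [FiniteDimensional k V] (v : V) :
    ∃ m, φ^[m] v ∈ Submodule.span k {v : V | φ v = v} := by
  set W := Submodule.span k {v : V | φ v = v} with hW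
  let Φ : V →ₛₗ[iterateFrobenius k p r] V :=
    { toFun := φ
      map_add' := map_add φ
      map_smul' := fun c v => by rw [hφ, iterateFrobenius_def] }
  have hΦ : W ≤ W.comap Φ := by
    rw [hW, Submodule.span_le]
    intro w hw
    have h1 : φ w = w := hw
    change φ w ∈ Submodule.span k {v : V | φ v = v}
    rw [h1]
    exact Submodule.subset_span hw
  let ψ : (V ⧸ W) →+ (V ⧸ W) := (W.mapQ W Φ hΦ).toAddMonoidHom
  have hψmk : ∀ u, ψ (W.mkQ u) = W.mkQ (φ u) := fun u => rfl
  have hψit : ∀ m u, ψ^[m] (W.mkQ u) = W.mkQ (φ^[m] u) := by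
    intro m
    induction m with
    | zero => intro u; rfl
    | succ m ih => intro u; rw [Function.iterate_succ_apply, hψmk, ih, Function.iterate_succ_apply]
  have hψ : ∀ (c : k) (x : V ⧸ W), ψ (c • x) = c ^ (p ^ r) • ψ x := by
    intro c x
    obtain ⟨u, rfl⟩ := W.mkQ_surjective x
    rw [← map_smul, hψmk, hφ, map_smul, hψmk]
  by_contra hcon
  push Not at hcon
  obtain ⟨w, hw0, hw⟩ := exists_fixed p r hr ψ hψ (W.mkQ v) (fun m hm => by
    rw [hψit, Submodule.mkQ_apply, Submodule.Quotient.mk_eq_zero] at hm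
    exact hcon m hm)
  obtain ⟨u, rfl⟩ := W.mkQ_surjective w
  rw [hψmk, ← sub_eq_zero, ← map_sub, Submodule.mkQ_apply, Submodule.Quotient.mk_eq_zero] at hw
  obtain ⟨z, hz, hz'⟩ := exists_sub_eq p r hr φ hφ _ hw
  apply hw0
  rw [Submodule.mkQ_apply, Submodule.Quotient.mk_eq_zero]
  have h2 : φ (u - z) = u - z := by
    rw [map_sub]
    have h3 : φ u = u + (φ z - z) := by rw [hz']; abel
    rw [h3]; abel
  have h4 : u - z ∈ W := Submodule.subset_span h2
  have := W.add_mem h4 hz
  rwa [sub_add_cancel] at this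

include hφ in
theorem mem_nil_iff (x : V) : x ∈ Submodule.span k {v : V | ∃ m : ℕ, φ^[m] v = 0} ↔ ∃ m : ℕ, φ^[m] x = 0 := by
  constructor
  · intro hx
    refine Submodule.span_induction (p := fun x _ => ∃ m : ℕ, φ^[m] x = 0) (fun x hx => hx) ⟨0, rfl⟩ ?_ ?_ hx
    · rintro x y _ _ ⟨m, hm⟩ ⟨n, hn⟩
      refine ⟨m + n, ?_⟩
      have h0 : ∀ n, φ^[n] (0 : V) = 0 := fun n => Function.iterate_fixed (map_zero φ) n
      rw [iterate_map_add φ, add_comm m n, Function.iterate_add_apply, hm, h0, zero_add, add_comm n m,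
        Function.iterate_add_apply, hn, h0]
    · rintro c x _ ⟨m, hm⟩
      exact ⟨m, by rw [iter_smul p r φ hφ, hm, smul_zero]⟩
  · intro hx
    exact Submodule.subset_span hx

end Groth.Agent.H13PLin
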