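import Mathlib
set_option autoImplicit false
universe u v

namespace Groth.Agent.H7

variable {R A : Type u} [CommRing R] [CommRing A] [Algebra R A] (𝒜 : ℕ → Submodule R A) [GradedAlgebra 𝒜]

/-- components of elements of the ideal generated by homogeneous elements -/
theorem component_mem_of_mem_span (E : Set A) (hE : ∀ e ∈ E, ∃ d : ℕ, 0 < d ∧ e ∈ 𝒜 d) (n : ℕ)
    (N : AddSubmonoid A)
    (hN : ∀ e ∈ E, ∀ d, 0 < d → e ∈ 𝒜 d → d ≤ n → ∀ r ∈ 𝒜 (n - d), r * e ∈ N)
    (x : A) (hx : x ∈ Ideal.span E) : (DirectSum.decompose 𝒜 x n : A) ∈ N := by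
  have key : ∀ r : A, (DirectSum.decompose 𝒜 (r * x) n : A) ∈ N := by
    refine Submodule.span_induction (p := fun x _ => ∀ r : A, (DirectSum.decompose 𝒜 (r * x) n : A) ∈ N) ?_ ?_ ?_ ?_ hx
    · intro e he r
      obtain ⟨d, hd, hed⟩ := hE e he
      by_cases hdn : d ≤ n
      · rw [DirectSum.coe_decompose_mul_of_right_mem_of_le 𝒜 hed hdn]
        exact hN e he d hd hed hdn _ (SetLike.coe_mem _)
      · rw [DirectSum.coe_decompose_mul_of_right_mem_of_not_le 𝒜 hed hdn]
        exact N.zero_mem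
    · intro r; simp
    · intro a b _ _ ha hb r
      rw [mul_add, DirectSum.decompose_add, DirectSum.add_apply, Submodule.coe_add]
      exact N.add_mem (ha r) (hb r)
    · intro s a _ ha r
      rw [smul_eq_mul, ← mul_assoc]
      exact ha _
  simpa using key 1

theorem adjoin_eq_top_of_irrelevant_eq (E : Set A) (hE : ∀ e ∈ E, ∃ d : ℕ, 0 < d ∧ e ∈ 𝒜 d)
    (h : (HomogeneousIdeal.irrelevant 𝒜).toIdeal = Ideal.span E) : Algebra.adjoin (𝒜 0) E = ⊤ := by
  have key : ∀ n : ℕ, ∀ a ∈ 𝒜 n, a ∈ Algebra.adjoin (𝒜 0) E := by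
    intro n
    induction n using Nat.strong_induction_on with
    | _ n ih =>
      intro a ha
      rcases Nat.eq_zero_or_pos n with rfl | hn
      · exact Subalgebra.algebraMap_mem (Algebra.adjoin (𝒜 0) E) ⟨a, ha⟩
      · have ha' : a ∈ Ideal.span E := by
          rw [← h]
          exact HomogeneousIdeal.mem_irrelevant_of_mem 𝒜 hn ha
        have := component_mem_of_mem_span 𝒜 E hE n (Algebra.adjoin (𝒜 0) E).toSubsemiring.toAddSubmonoid ?_ a ha'
        · rwa [DirectSum.decompose_of_mem_same _ ha] at this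
        · intro e he d hd hed hdn r hr
          exact (Algebra.adjoin (𝒜 0) E).mul_mem (ih _ (by omega) r hr) (Algebra.subset_adjoin he)
  rw [eq_top_iff]
  intro a _
  classical
  rw [← DirectSum.sum_support_decompose 𝒜 a]
  exact Subalgebra.sum_mem _ fun i _ => key i _ (SetLike.coe_mem _)

theorem irrelevant_eq_of_adjoin_eq_top (E : Set A) (hE : ∀ e ∈ E, ∃ d : ℕ, 0 < d ∧ e ∈ 𝒜 d)
    (h : Algebra.adjoin (𝒜 0) E = ⊤) : (HomogeneousIdeal.irrelevant 𝒜).toIdeal = Ideal.span E := by
  apply le_antisymm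
  · have key : ∀ a : A, a - GradedRing.projZeroRingHom 𝒜 a ∈ Ideal.span E := by
      intro a
      have ha : a ∈ Algebra.adjoin (𝒜 0) E := by rw [h]; trivial
      induction ha using Algebra.adjoin_induction with
      | mem e he =>
        obtain ⟨d, hd, hed⟩ := hE e he
        have : GradedRing.projZeroRingHom 𝒜 e = 0 := HomogeneousIdeal.mem_irrelevant_of_mem 𝒜 hd hed
        rw [this, sub_zero]
        exact Ideal.subset_span he
      | algebraMap r =>
        have : GradedRing.projZeroRingHom 𝒜 (algebraMap (𝒜 0) A r) = algebraMap (𝒜 0) A r := 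
          DirectSum.decompose_of_mem_same 𝒜 r.2
        rw [this, sub_self]; exact Ideal.zero_mem _
      | add a b _ _ ha hb =>
        rw [map_add, add_sub_add_comm]
        exact Ideal.add_mem _ ha hb
      | mul a b _ _ ha hb =>
        rw [map_mul]
        have : a * b - GradedRing.projZeroRingHom 𝒜 a * GradedRing.projZeroRingHom 𝒜 b = 
          b * (a - GradedRing.projZeroRingHom 𝒜 a) + GradedRing.projZeroRingHom 𝒜 a * (b - GradedRing.projZeroRingHom 𝒜 b) := by ring
        rw [this]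
        exact Ideal.add_mem _ (Ideal.mul_mem_left _ _ ha) (Ideal.mul_mem_left _ _ hb)
    intro a ha
    have h0 : GradedRing.projZeroRingHom 𝒜 a = 0 := ha
    have := key a
    rwa [h0, sub_zero] at this
  · rw [Ideal.span_le]
    intro e he
    obtain ⟨d, hd, hed⟩ := hE e he
    exact HomogeneousIdeal.mem_irrelevant_of_mem 𝒜 hd hed

theorem irrelevant_fg_iff :
    (HomogeneousIdeal.irrelevant 𝒜).toIdeal.FG ↔ Algebra.FiniteType (𝒜 0) A := by
  classical
  constructor
  · rintro ⟨s, hs⟩
    let E : Finset A := s.biUnion (fun x => ((DirectSum.decompose 𝒜 x).support.filter (fun i => 0 < i)).image (fun i => (DirectSum.decompose 𝒜 x i : A)))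
    have hE : ∀ e ∈ (E : Set A), ∃ d : ℕ, 0 < d ∧ e ∈ 𝒜 d := by
      intro e he
      simp only [E, Finset.coe_biUnion, Set.mem_iUnion, Finset.coe_image, Set.mem_image, Finset.mem_coe, Finset.mem_filter] at he
      obtain ⟨x, hx, i, ⟨hi, hi0⟩, rfl⟩ := he
      exact ⟨i, hi0, SetLike.coe_mem _⟩
    have h : (HomogeneousIdeal.irrelevant 𝒜).toIdeal = Ideal.span E := by
      apply le_antisymm
      · rw [← hs, Ideal.span_le]
        intro x hx
        have hx' : x ∈ (HomogeneousIdeal.irrelevant 𝒜).toIdeal := by rw [← hs]; exact Ideal.subset_span hx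
        have h0 : (DirectSum.decompose 𝒜 x 0 : A) = 0 := hx'
        rw [SetLike.mem_coe, ← DirectSum.sum_support_decompose 𝒜 x]
        refine Ideal.sum_mem _ fun i hi => ?_
        rcases Nat.eq_zero_or_pos i with rfl | hi0
        · rw [h0]; exact Ideal.zero_mem _
        · apply Ideal.subset_span
          simp only [E, Finset.coe_biUnion, Set.mem_iUnion, Finset.coe_image, Set.mem_image, Finset.mem_coe, Finset.mem_filter]
          exact ⟨x, hx, i, ⟨hi, hi0⟩, rfl⟩
      · rw [Ideal.span_le]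
        intro e he
        obtain ⟨d, hd, hed⟩ := hE e he
        exact HomogeneousIdeal.mem_irrelevant_of_mem 𝒜 hd hed
    exact ⟨⟨E, adjoin_eq_top_of_irrelevant_eq 𝒜 _ hE h⟩⟩
  · intro hft
    obtain ⟨s, hs, hs'⟩ := GradedAlgebra.exists_finset_adjoin_eq_top_and_homogeneous_ne_zero 𝒜
    exact ⟨s, (irrelevant_eq_of_adjoin_eq_top 𝒜 s (fun e he => by
      obtain ⟨n, hn, h⟩ := hs' e he
      exact ⟨n, Nat.pos_of_ne_zero hn, h⟩) hs).symm⟩

theorem noetherian_iff :
    IsNoetherianRing A ↔ IsNoetherianRing (𝒜 0) ∧ Algebra.FiniteType (𝒜 0) A := by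
  constructor
  · intro h
    refine ⟨inferInstance, ?_⟩
    rw [← irrelevant_fg_iff]
    exact (isNoetherianRing_iff_ideal_fg A).mp h _
  · rintro ⟨h1, h2⟩
    exact Algebra.FiniteType.isNoetherianRing (𝒜 0) A

theorem homogeneousCore_isPrime (p : Ideal A) [hp : p.IsPrime] : (p.homogeneousCore 𝒜).toIdeal.IsPrime :=
  Ideal.IsPrime.homogeneousCore hp

end Groth.Agent.H7
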